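import Cfsg.Agent.R08.FiTwentyFourRel
import Cfsg.Agent.Fischer.Fi24Index

/-!
The local structure of the presented group `Fi24` (unconditional form of `Cfsg.Agent.R08.FiTwentyFourRel`).
-/

set_option autoImplicit false

namespace Cfsg.Agent.R08.FiTwentyFour

open Cfsg Cfsg.Spor Cfsg.Agent.Fischer Cfsg.Agent.R01
open Cfsg.Agent.Fischer.Fi24Class (gen)

/-- The facts about `H` hold. -/
theorem facts : Facts := by
  obtain ⟨hne, hub⟩ := Cfsg.Agent.Fischer.Fi24Index.index_le
  obtain ⟨hfin, hH⟩ := Cfsg.Agent.Fischer.Fi24Spider.main hub hne Cfsg.Agent.S1697.result.2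
  exact ⟨hub, hne, hfin, hH⟩

theorem finite_Fi24 : Finite Fi24 := facts.finite

theorem isFi24' : Cfsg.IsFi24' Spor.Fi24' := facts.isFi24'

theorem isThreeTranspositionClass : IsThreeTranspositionClass L := facts.isThreeTranspositionClass

theorem ncard_L : L.ncard = 306936 := facts.ncard_L

theorem sq {a : Fi24} (ha : a ∈ L) : a * a = 1 := sq_L ha

theorem conj {a : Fi24} (ha : a ∈ L) (g : Fi24) : g * a * g⁻¹ ∈ L := conj_mem_L ha g

theorem three {a b : Fi24} (ha : a ∈ L) (hb : b ∈ L) : Commute a b ∨ a * b * a = b * a * b := by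
  obtain ⟨R, _, _, h⟩ := facts.exists_rank3
  rw [← h] at ha hb
  obtain ⟨x, rfl⟩ := ha
  obtain ⟨y, rfl⟩ := hb
  exact R.com_or_braid x y

theorem even {a b : Fi24} (ha : a ∈ L) (hb : b ∈ L) : a * b ∈ commutator Fi24 := mul_mem_commutator ha hb

theorem odd {a : Fi24} (ha : a ∈ L) : a ∉ commutator Fi24 := by
  rw [mem_commutator_iff, sgn_L ha]
  decide

theorem index_commutator : (commutator Fi24).index = 2 := Fi24Final.index_commutator

theorem card_commutator : Nat.card (commutator Fi24) = 1255205709190661721292800 := isFi24'.2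

/-- **Transitivity on commuting pairs.** -/
theorem trans2 {a b a' b' : Fi24} (ha : a ∈ L) (hb : b ∈ L) (ha' : a' ∈ L) (hb' : b' ∈ L) (hne : a ≠ b)
    (hab : Commute a b) (hne' : a' ≠ b') (hab' : Commute a' b') :
    ∃ g ∈ commutator Fi24, g * a * g⁻¹ = a' ∧ g * b * g⁻¹ = b' :=
  facts.trans2 ha hb hne hab ha' hb' hne' hab'

theorem ncard_commuting {a : Fi24} (ha : a ∈ L) : {c | c ∈ L ∧ c ≠ a ∧ Commute c a}.ncard = 31671 :=
  facts.ncard_commuting ha

theorem odd_commuting {a : Fi24} (ha : a ∈ L) : Odd {c | c ∈ L ∧ c ≠ a ∧ Commute c a}.ncard := by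
  rw [ncard_commuting ha]
  decide

/-- **The centraliser of two commuting transpositions** in the commutator subgroup is a double cover of `Fi22`, the
products `ac` are the lifts of the transpositions. -/
theorem lifted {a b : Fi24} (ha : a ∈ L) (hb : b ∈ L) (hne : a ≠ b) (hab : Commute a b) :
    ∃ (π : Cab a b →* Fi22) (z : Cab a b), (z : Fi24) = a * b ∧
      FiHexad.Lifted π z Fi22Facts.T (Eab a b) :=
  facts.lifted ha hb hne hab

theorem perfect {a b : Fi24} (ha : a ∈ L) (hb : b ∈ L) (hne : a ≠ b) (hab : Commute a b) :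
    commutator (Cab a b) = ⊤ :=
  facts.perfect ha hb hne hab

/-- The elements `ac` of the centraliser. -/
theorem mul_mem_Cab {a b c : Fi24} (ha : a ∈ L) (hc : c ∈ L) (hab : Commute a b) (hca : Commute c a)
    (hcb : Commute c b) : a * c ∈ Cab a b := by
  rw [mem_Cab]
  refine ⟨mem_commutator_iff.1 (even ha hc), ?_, ?_⟩
  · rw [mul_assoc, hca.eq]
  · rw [mul_assoc, hcb.eq, ← mul_assoc, hab.eq, mul_assoc]

/-- The elementary form of `lifted`. -/
theorem loc {a b : Fi24} (ha : a ∈ L) (hb : b ∈ L) (hne : a ≠ b) (hab : Commute a b) :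
    ∃ π : ↥(commutator Fi24 ⊓ Subgroup.centralizer {a, b}) →* Spor.Fi22, Function.Surjective π ∧
      (∀ x : ↥(commutator Fi24 ⊓ Subgroup.centralizer {a, b}),
        π x = 1 ↔ (x : Fi24) = 1 ∨ (x : Fi24) = a * b) ∧
      (∀ c ∈ L, c ≠ a → c ≠ b → Commute c a → Commute c b →
        ∀ x : ↥(commutator Fi24 ⊓ Subgroup.centralizer {a, b}), (x : Fi24) = a * c → π x ∈ Fi22Facts.T) ∧
      (∀ t ∈ Fi22Facts.T, ∃ c ∈ L, c ≠ a ∧ c ≠ b ∧ Commute c a ∧ Commute c b ∧
        ∃ x : ↥(commutator Fi24 ⊓ Subgroup.centralizer {a, b}), (x : Fi24) = a * c ∧ π x = t) ∧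
      (∀ c ∈ L, c ≠ a → c ≠ b → Commute c a → Commute c b →
        ∀ c' ∈ L, c' ≠ a → c' ≠ b → Commute c' a → Commute c' b →
        ∀ x y : ↥(commutator Fi24 ⊓ Subgroup.centralizer {a, b}),
          (x : Fi24) = a * c → (y : Fi24) = a * c' → π x = π y → c = c') := by
  obtain ⟨π, z, hz, hL⟩ := lifted ha hb hne hab
  refine ⟨π, hL.ext.surj, ?_, ?_, ?_, ?_⟩
  · intro x
    rw [hL.ext.ker, ← hz]
    constructor
    · rintro (h | h)
      · left; rw [h]; rfl
      · right; rw [h]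
    · rintro (h | h)
      · left; exact Subtype.ext h
      · right; exact Subtype.ext h
  · intro c hc h1 h2 h3 h4 x hx
    exact hL.map x ⟨c, hc, h1, h2, h3, h4, hx⟩
  · intro t ht
    obtain ⟨x, ⟨c, hc, h1, h2, h3, h4, hx⟩, hxt⟩ := hL.surj t ht
    exact ⟨c, hc, h1, h2, h3, h4, x, hx, hxt⟩
  · intro c hc h1 h2 h3 h4 c' hc' h1' h2' h3' h4' x y hx hy h
    have h5 := hL.inj x ⟨c, hc, h1, h2, h3, h4, hx⟩ y ⟨c', hc', h1', h2', h3', h4', hy⟩ h
    rw [h5, hy] at hx
    exact (mul_left_cancel hx).symm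

end Cfsg.Agent.R08.FiTwentyFour
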