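import Cfsg.Agent.R01.Loc
import Cfsg.Agent.R01.Frames
import Cfsg.Agent.R01.AllOfLab

/-!
# The double centraliser of two commuting transpositions of `Fi22`

An element of `P` commuting with `a`, `b` and with all members of `T` which commute with `a` and `b` lies
in `⟨a, b⟩`.
-/

set_option autoImplicit false
set_option linter.unusedSectionVars false

namespace Cfsg.Agent.R08.TetCent

open Cfsg Cfsg.Agent.LieClassical.HermBasic Cfsg.Agent.ClassicalGeometry.UnitTransv
open Cfsg.Agent.SporadicStructure.UnitTwo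
open Cfsg.Agent.R01.Lifts Cfsg.Agent.R01.PSUSix Cfsg.Agent.R01.Label Cfsg.Agent.R01.Frames
open Cfsg.Agent.ClassicalGeometry.UnitAutBasic (tau pr pr_surjective pr_eq_of_scalar)

section Std

variable {F : Type*} [Field F] [Fintype F] (hF : Fintype.card F = 2 ^ 2)
  {ω : F} (hω : ω ^ 2 + ω + 1 = 0)
include hF hω

/-- An isometry fixing all isotropic points orthogonal to `e1` fixes all isotropic vectors orthogonal to
`e1` up to one scalar. -/
theorem std_scalar {g : SU 6 F 2}
    (hg : ∀ w : Fin 6 → F, w ≠ 0 → hermForm 6 F 2 w w = 0 → hermForm 6 F 2 w e1 = 0 →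
      ∃ c : F, c ≠ 0 ∧ act g w = c • w) :
    ∃ c : F, c ≠ 0 ∧ act g e1 = c • e1 ∧ act g e2 = c • e2 ∧ act g e3 = c • e3 ∧
      act g (f2 ω) = c • f2 ω ∧ act g (f3 ω) = c • f3 ω := by
  have h2 := two_eq_zero hF
  have h3 : ω ^ 3 = 1 := omega_cubed hω
  have hE := hyp_std hF hω
  have e1e1 : hermForm 6 F 2 (e1 : Fin 6 → F) e1 = 0 := hE.gg 0 0
  have ne1 : (e1 : Fin 6 → F) ≠ 0 := fun h => one_ne_zero (congrFun h 0)
  obtain ⟨c, hc0, hc⟩ := hg e1 ne1 e1e1 e1e1
  -- key
  have key : ∀ w p : Fin 6 → F, hermForm 6 F 2 w w = 0 → hermForm 6 F 2 w e1 = 0 →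
      hermForm 6 F 2 e1 w = 0 → hermForm 6 F 2 w (f1 ω) = 0 → hermForm 6 F 2 e1 p = 0 →
      hermForm 6 F 2 w p = 1 → act g w = c • w := by
    intro w p ww we ew wf ep wp
    have hw0 : w ≠ 0 := by
      rintro rfl
      rw [herm_zero_left] at wp
      exact zero_ne_one wp
    obtain ⟨d, hd0, hd⟩ := hg w hw0 ww we
    have hs : hermForm 6 F 2 (e1 + w) (e1 + w) = 0 := by
      rw [herm_add_left, herm_add_right hF, herm_add_right hF, e1e1, ew, we, ww]; ring
    have hs1 : hermForm 6 F 2 (e1 + w) e1 = 0 := by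
      rw [herm_add_left, e1e1, we, add_zero]
    have hf : hermForm 6 F 2 (e1 : Fin 6 → F) (f1 ω) = 1 := by
      exact (hE.gk 0 0).trans (by simp)
    have hs0 : (e1 : Fin 6 → F) + w ≠ 0 := by
      intro h0
      have h4 : hermForm 6 F 2 (e1 + w) (f1 ω) = 0 := by rw [h0, herm_zero_left]
      rw [herm_add_left, wf, add_zero, hf] at h4
      exact one_ne_zero h4
    obtain ⟨b, hb0, hb⟩ := hg _ hs0 hs hs1
    rw [act_add, hc, hd] at hb
    -- c • e1 + d • w = b • (e1 + w)
    have h5 := congrArg (fun x => hermForm 6 F 2 x (f1 ω)) hb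
    simp only [herm_add_left, herm_smul_left, wf, hf, mul_zero, add_zero, mul_one] at h5
    have h6 := congrArg (fun x => hermForm 6 F 2 x p) hb
    simp only [herm_add_left, herm_smul_left, ep, wp, mul_zero, zero_add, mul_one] at h6
    rw [hd, h6, ← h5]
  refine ⟨c, hc0, hc, ?_, ?_, ?_, ?_⟩
  · refine key e2 (f2 ω) (hE.gg 1 1) (hE.gg 1 0) (hE.gg 0 1) ?_ ?_ ?_
    · exact (hE.gk 1 0).trans (by simp)
    · exact (hE.gk 0 1).trans (by simp)
    · exact (hE.gk 1 1).trans (by simp)
  · refine key e3 (f3 ω) (hE.gg 2 2) (hE.gg 2 0) (hE.gg 0 2) ?_ ?_ ?_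
    · exact (hE.gk 2 0).trans (by simp)
    · exact (hE.gk 0 2).trans (by simp)
    · exact (hE.gk 2 2).trans (by simp)
  · refine key (f2 ω) e2 (hE.kk 1 1) ?_ ?_ (hE.kk 1 0) (hE.gg 0 1) ?_
    · exact (hE.kg hF 1 0).trans (by simp)
    · exact (hE.gk 0 1).trans (by simp)
    · exact (hE.kg hF 1 1).trans (by simp)
  · refine key (f3 ω) e3 (hE.kk 2 2) ?_ ?_ (hE.kk 2 0) (hE.gg 0 2) ?_
    · exact (hE.kg hF 2 0).trans (by simp)
    · exact (hE.gk 0 2).trans (by simp)
    · exact (hE.kg hF 2 2).trans (by simp)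

/-- Such an isometry is a scalar or a scalar times the transvection with centre `e1`. -/
theorem std {g : SU 6 F 2}
    (hg : ∀ w : Fin 6 → F, w ≠ 0 → hermForm 6 F 2 w w = 0 → hermForm 6 F 2 w e1 = 0 →
      ∃ c : F, c ≠ 0 ∧ act g w = c • w) :
    ∃ c : F, c ≠ 0 ∧ ((∀ x, act g x = c • x) ∨ ∀ x, act g x = c • (x + hermForm 6 F 2 x e1 • e1)) := by
  have h2 := two_eq_zero hF
  have hE := hyp_std hF hω
  obtain ⟨c, hc0, g1, g2, g3, k2, k3⟩ := std_scalar hF hω hg
  have hc3 : c ^ 3 = 1 := pow_three hF hc0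
  set y := act g (f1 ω) with hy
  have hperp : ∀ w : Fin 6 → F, act g w = c • w →
      hermForm 6 F 2 y w = c * hermForm 6 F 2 (f1 ω) w := by
    intro w hw
    have h5 := herm_act g (f1 ω) w
    rw [hw, herm_smul_right, ← hy] at h5
    have h6 : c * (c ^ 2 * hermForm 6 F 2 y w) = c * hermForm 6 F 2 (f1 ω) w := by rw [h5]
    rw [← h6]
    linear_combination (-hermForm 6 F 2 y w) * hc3
  have fe1 : hermForm 6 F 2 (f1 ω) e1 = 1 := by exact (hE.kg hF 0 0).trans (by simp)
  have fe2 : hermForm 6 F 2 (f1 ω) e2 = 0 := by exact (hE.kg hF 0 1).trans (by simp)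
  have fe3 : hermForm 6 F 2 (f1 ω) e3 = 0 := by exact (hE.kg hF 0 2).trans (by simp)
  have ff2 : hermForm 6 F 2 (f1 ω) (f2 ω) = 0 := hE.kk 0 1
  have ff3 : hermForm 6 F 2 (f1 ω) (f3 ω) = 0 := hE.kk 0 2
  have y1 := hperp _ g1
  have y2 := hperp _ g2
  have y3 := hperp _ g3
  have y4 := hperp _ k2
  have y5 := hperp _ k3
  rw [fe1, mul_one] at y1
  rw [fe2, mul_zero] at y2
  rw [fe3, mul_zero] at y3
  rw [ff2, mul_zero] at y4
  rw [ff3, mul_zero] at y5
  set α := hermForm 6 F 2 y (f1 ω) with hα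
  have hyx : y = α • e1 + c • f1 ω := by
    rw [expand hF hω y, y1, y2, y3, y4, y5, ← hα]
    simp
  have ef1 : hermForm 6 F 2 (e1 : Fin 6 → F) (f1 ω) = 1 := by exact (hE.gk 0 0).trans (by simp)
  have hyy : hermForm 6 F 2 y y = 0 := by
    rw [hy, herm_act]
    exact hE.kk 0 0
  rw [hyx] at hyy
  rw [herm_add_left, herm_add_right hF, herm_add_right hF, herm_smul_left, herm_smul_left,
    herm_smul_left, herm_smul_left, herm_smul_right, herm_smul_right, herm_smul_right,
    herm_smul_right, ef1, fe1, show hermForm 6 F 2 (e1 : Fin 6 → F) e1 = 0 from hE.gg 0 0,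
    show hermForm 6 F 2 (f1 ω) (f1 ω) = 0 from hE.kk 0 0] at hyy
  have h7 : α * c * (c + α) = 0 := by linear_combination hyy
  have hcase : α = 0 ∨ α = c := by
    rcases mul_eq_zero.1 h7 with h8 | h8
    · left
      rcases mul_eq_zero.1 h8 with h9 | h9
      · exact h9
      · exact absurd h9 hc0
    · right
      linear_combination h8 - c * h2
  have hact : ∀ x, act g x = c • x + (hermForm 6 F 2 x e1 * α) • e1 := by
    intro x
    have hx := expand hF hω x
    generalize hermForm 6 F 2 x (f1 ω) = b1 at hx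
    generalize hermForm 6 F 2 x (f2 ω) = b2 at hx
    generalize hermForm 6 F 2 x (f3 ω) = b3 at hx
    generalize hermForm 6 F 2 x e1 = b4 at hx ⊢
    generalize hermForm 6 F 2 x e2 = b5 at hx
    generalize hermForm 6 F 2 x e3 = b6 at hx
    rw [hx, act_add, act_add, act_add, act_add, act_add, act_smul, act_smul, act_smul, act_smul,
      act_smul, act_smul, g1, g2, g3, k2, k3, ← hy, hyx]
    module
  refine ⟨c, hc0, ?_⟩
  rcases hcase with h | h
  · left
    intro x
    rw [hact x, h, mul_zero, zero_smul, add_zero]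
  · right
    intro x
    rw [hact x, h, smul_add, smul_smul, mul_comm c]

end Std

section General

variable {F : Type*} [Field F] [Fintype F] (hF : Fintype.card F = 2 ^ 2)
include hF

/-- An isometry fixing all isotropic points orthogonal to the isotropic vector `v` is a scalar or a scalar
times the transvection with centre `v`. -/
theorem fixes_perp {v : Fin 6 → F} (v0 : v ≠ 0) (hv : hermForm 6 F 2 v v = 0) {g : SU 6 F 2}
    (hg : ∀ w : Fin 6 → F, w ≠ 0 → hermForm 6 F 2 w w = 0 → hermForm 6 F 2 w v = 0 →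
      ∃ c : F, c ≠ 0 ∧ act g w = c • w) :
    ∃ c : F, c ≠ 0 ∧ ((∀ x, act g x = c • x) ∨ ∀ x, act g x = c • (x + hermForm 6 F 2 x v • v)) := by
  obtain ⟨ω, hω⟩ := exists_omega hF
  have hE := hyp_std hF hω
  have ne1 : (e1 : Fin 6 → F) ≠ 0 := fun h => one_ne_zero (congrFun h 0)
  obtain ⟨s, a, ha0, hs⟩ := exists_map hF (e1 : Fin 6 → F) v ne1 v0 (hE.gg 0 0) hv
  have ha3 : a ^ 3 = 1 := pow_three hF ha0
  have hinj : ∀ w : Fin 6 → F, w ≠ 0 → act s w ≠ 0 := by
    intro w hw h
    apply hw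
    apply act_injective s
    rw [h, act_zero]
  obtain ⟨c, hc0, h1⟩ := std hF hω (g := s⁻¹ * g * s) (by
    intro w hw ww we
    have h1 : hermForm 6 F 2 (act s w) v = 0 := by
      have h2 := herm_act s w e1
      rw [hs, herm_smul_right, we] at h2
      rcases mul_eq_zero.1 h2 with h3 | h3
      · exact absurd h3 (pow_ne_zero 2 ha0)
      · exact h3
    obtain ⟨c, hc0, hc⟩ := hg (act s w) (hinj w hw) (by rw [herm_act, ww]) h1
    refine ⟨c, hc0, ?_⟩
    rw [act_mul, act_mul, hc, act_smul, act_inv_act])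
  refine ⟨c, hc0, ?_⟩
  have h3 : ∀ x, act g x = act s (act (s⁻¹ * g * s) (act s⁻¹ x)) := by
    intro x
    rw [← act_mul, ← act_mul]
    congr 1
    group
  rcases h1 with h1 | h1
  · left
    intro x
    rw [h3 x, h1, act_smul, act_act_inv]
  · right
    intro x
    have h4 : hermForm 6 F 2 (act s⁻¹ x) e1 = a ^ 2 * hermForm 6 F 2 x v := by
      rw [← herm_act s, act_act_inv, hs, herm_smul_right]
    rw [h3 x, h1, act_smul, act_add, act_act_inv, act_smul, hs, h4, smul_smul]
    congr 3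
    linear_combination hermForm 6 F 2 x v * ha3

end General

section Labelled

variable {C : Type*} [Group C] {F : Type*} [Field F] [Fintype F] {hF : Fintype.card F = 2 ^ 2}
  {π : C →* PSU 6 F 2} {z ε : C} {lift : (Fin 6 → F) → C}

/-- The double centraliser of a labelled element. -/
theorem double_cent (L : Lab hF π z ε lift) {v : Fin 6 → F} (v0 : v ≠ 0)
    (hv : hermForm 6 F 2 v v = 0) {x : C}
    (hx : ∀ w : Fin 6 → F, w ≠ 0 → hermForm 6 F 2 w w = 0 → hermForm 6 F 2 w v = 0 →
      Commute x (lift w)) :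
    x = 1 ∨ x = z ∨ x = lift v ∨ x = lift v * z := by
  obtain ⟨g, hg⟩ := pr_surjective (π x)
  obtain ⟨c, hc0, h1⟩ := fixes_perp hF v0 hv (g := g) (by
    intro w w0 ww wv
    have h2 := L.conj x g w hg.symm w0 ww
    have h3 : x * lift w * x⁻¹ = lift w := by
      rw [(hx w w0 ww wv).eq, mul_inv_cancel_right]
    rw [h3] at h2
    obtain ⟨c, hc0, hc⟩ := (L.lift_eq_iff ww (by rw [herm_act, ww]) w0 (Lab.act_ne_zero w0)).1 h2
    exact ⟨c, hc0, hc⟩)
  rcases h1 with h1 | h1
  · have h2 : pr 6 F 2 1 = pr 6 F 2 g := pr_eq_of_scalar (c := c) (fun y => by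
      have e1 : Cfsg.Agent.LieClassical.HermSiegel.act (1 : SU 6 F 2) y = y := act_one y
      have e2 : Cfsg.Agent.LieClassical.HermSiegel.act g y = c • y := h1 y
      rw [e1, e2])
    rw [map_one, hg] at h2
    have h3 : π 1 = π x := by rw [map_one, h2]
    rcases L.ext.map_eq.1 h3 with h4 | h4
    · left; exact h4.symm
    · right; left
      rw [← L.ext.mul_z_mul_z x, ← h4, one_mul]
  · have h2 : pr 6 F 2 (T hF v hv) = pr 6 F 2 g :=
      pr_eq_of_scalar (c := c) (fun y => by
        have e1 : Cfsg.Agent.LieClassical.HermSiegel.act (T hF v hv) y =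
            y + hermForm 6 F 2 y v • v := act_T hF v hv y
        have e2 : Cfsg.Agent.LieClassical.HermSiegel.act g y =
            c • (y + hermForm 6 F 2 y v • v) := h1 y
        rw [e1, e2])
    rw [hg, ← tau_eq_pr hF hv, ← L.map v v0 hv] at h2
    rcases L.ext.map_eq.1 h2 with h4 | h4
    · right; right; left; exact h4.symm
    · right; right; right
      rw [h4, L.ext.mul_z_mul_z]

end Labelled

section Loc

variable {P : Type*} [Group P] {F : Type*} [Field F] [Fintype F] {hF : Fintype.card F = 2 ^ 2}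
  {T : Set P}

/-- **The double centraliser of two commuting members of `T`.** -/
theorem cent (hL : R01.Loc.Loc hF T) {a b : P} (ha : a ∈ T) (hb : b ∈ T) (nab : a ≠ b)
    (cab : a * b = b * a) {x : P} (xa : x * a = a * x)
    (hx : ∀ t ∈ T, t * a = a * t → t * b = b * t → x * t = t * x) :
    x = 1 ∨ x = a ∨ x = b ∨ x = a * b := by
  obtain ⟨π, lift, L, hiff⟩ := hL a ha
  obtain ⟨v, v0, hv, h1⟩ := R01.AllOfLab.mem_Dset_of hiff hb cab.symm nab.symm
  have hbv : b = (lift v : P) := congrArg Subtype.val h1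
  subst hbv
  have key := double_cent L v0 hv (x := ⟨x, Subgroup.mem_centralizer_singleton_iff.2 xa⟩) (by
    intro w w0 ww wv
    rw [R01.AllOfLab.comm_coe]
    apply hx
    · exact (hiff (lift w)).mpr (Or.inr (Lab.mem_D w0 ww))
    · exact (R01.AllOfLab.zel_comm (lift w)).symm
    · exact R01.AllOfLab.comm_coe.1 ((L.commute_iff ww hv w0 v0).2 wv))
  have hz : ((R01.Start.zel a : Subgroup.centralizer ({a} : Set P)) : P) = a := rfl
  rcases key with h | h | h | h
  · left; exact congrArg Subtype.val h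
  · right; left; exact congrArg Subtype.val h
  · right; right; left; exact congrArg Subtype.val h
  · right; right; right
    have h2 : x = (lift v : P) * a := congrArg Subtype.val h
    rw [h2, cab]

end Loc

end Cfsg.Agent.R08.TetCent
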