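import Cfsg.Agent.R08.TetPair
import Cfsg.Agent.R08.TetCent
import Cfsg.Agent.R08.FiTwentyFour
import Cfsg.Agent.R01.Strong

/-!
# The fields `cent` and `invol` for the presented group `Fi24`
-/

set_option autoImplicit false

namespace Cfsg.Agent.R08.TetFi24B

open Cfsg Cfsg.Agent.R01
open Cfsg.Agent.R08.TetBasic Cfsg.Agent.R08.TetTwo Cfsg.Agent.R08.TetThree
open Cfsg.Agent.R08.FiTwentyFour (L)

theorem pre : TetPair.Pre L (commutator Spor.Fi24) Fi22Facts.T where
  ne := by
    rw [Set.nonempty_iff_ne_empty]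
    intro h
    have h1 := FiTwentyFour.ncard_L
    rw [h, Set.ncard_empty] at h1
    exact absurd h1 (by decide)
  sq _ ha := FiTwentyFour.sq ha
  conj g _ ha := FiTwentyFour.conj ha g
  three _ ha _ hb := FiTwentyFour.three ha hb
  even _ ha _ hb := FiTwentyFour.even ha hb
  oddc _ ha := FiTwentyFour.odd_commuting ha
  loc _ ha _ hb hne hab := FiTwentyFour.loc ha hb hne hab

/-- **The field `cent`.** -/
theorem cent : ∀ s a b c d, IsTet L s a b c d → ∀ v ∈ commutator Spor.Fi24,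
    Commute v a → Commute v b → Commute v c → Commute v d →
    (∀ e ∈ L, Commute e a → Commute e b → Commute e c → Commute e d → Commute v e) →
    v = 1 ∨ v = s ∨ v ∈ Pairs L s :=
  pre.cent fun _ hp _ hq hne hpq _ hxp hall => TetCent.cent Fi22Facts.loc hp hq hne hpq hxp hall

/-- **The field `invol`**, with the fixed-point-free automorphisms excluded. -/
theorem invol_of
    (hFf : ∀ θ : Spor.Fi22 ≃* Spor.Fi22, (∀ x, θ (θ x) = x) →
      ¬ ∀ d ∈ Fi22Facts.T, θ d ∈ Fi22Facts.T ∧ θ d ≠ d ∧ θ d * d = d * θ d) :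
    ∀ t ∈ commutator Spor.Fi24, t * t = 1 → t ≠ 1 →
      (∃ a ∈ L, ∃ b ∈ L, a ≠ b ∧ Commute a b ∧ t = a * b) ∨ ∃ a b c d, IsTet L t a b c d := by
  have : Finite Spor.Fi22 := Fi22Facts.finite
  exact pre.invol (fun _ hτ hτ1 => KeyFi22.exists_three Strong.base.toLoc Strong.base.perf Strong.base.card
    hτ hτ1) hFf

end Cfsg.Agent.R08.TetFi24B
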