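import Mathlib
import Cfsg.Agent.R08.TetBasic

/-!
# The tetrads with a given product
-/

set_option autoImplicit false

namespace Cfsg.Agent.R08.TetTwo

open Cfsg.Agent.R08.TetBasic

variable {F : Type*} [Group F]

/-- `{a, b, c, d}` is a set of four commuting members of `L` with product `s`. -/
structure IsTet (L : Set F) (s a b c d : F) : Prop where
  ha : a ∈ L
  hb : b ∈ L
  hc : c ∈ L
  hd : d ∈ L
  ab : Commute a b
  ac : Commute a c
  ad : Commute a d
  bc : Commute b c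
  bd : Commute b d
  cd : Commute c d
  nab : a ≠ b
  nac : a ≠ c
  nad : a ≠ d
  nbc : b ≠ c
  nbd : b ≠ d
  ncd : c ≠ d
  prod : a * b * c * d = s

variable {L : Set F} {s a b c d : F}

namespace IsTet

theorem sw12 (h : IsTet L s a b c d) : IsTet L s b a c d where
  ha := h.hb
  hb := h.ha
  hc := h.hc
  hd := h.hd
  ab := h.ab.symm
  ac := h.bc
  ad := h.bd
  bc := h.ac
  bd := h.ad
  cd := h.cd
  nab := h.nab.symm
  nac := h.nbc
  nad := h.nbd
  nbc := h.nac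
  nbd := h.nad
  ncd := h.ncd
  prod := by rw [← h.ab.eq]; exact h.prod

theorem sw23 (h : IsTet L s a b c d) : IsTet L s a c b d where
  ha := h.ha
  hb := h.hc
  hc := h.hb
  hd := h.hd
  ab := h.ac
  ac := h.ab
  ad := h.ad
  bc := h.bc.symm
  bd := h.cd
  cd := h.bd
  nab := h.nac
  nac := h.nab
  nad := h.nad
  nbc := h.nbc.symm
  nbd := h.ncd
  ncd := h.nbd
  prod := by rw [mul_assoc a c b, ← h.bc.eq, ← mul_assoc a b c]; exact h.prod

theorem sw34 (h : IsTet L s a b c d) : IsTet L s a b d c where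
  ha := h.ha
  hb := h.hb
  hc := h.hd
  hd := h.hc
  ab := h.ab
  ac := h.ad
  ad := h.ac
  bc := h.bd
  bd := h.bc
  cd := h.cd.symm
  nab := h.nab
  nac := h.nad
  nad := h.nac
  nbc := h.nbd
  nbd := h.nbc
  ncd := h.ncd.symm
  prod := by rw [mul_assoc (a * b) d c, ← h.cd.eq, ← mul_assoc (a * b) c d]; exact h.prod

theorem sw13 (h : IsTet L s a b c d) : IsTet L s c b a d := h.sw12.sw23.sw12
theorem sw14 (h : IsTet L s a b c d) : IsTet L s d b c a := h.sw34.sw13.sw34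
theorem sw24 (h : IsTet L s a b c d) : IsTet L s a d c b := h.sw34.sw23.sw34

theorem comm_a (h : IsTet L s a b c d) : Commute a s := by
  rw [← h.prod]
  exact (((Commute.refl a).mul_right h.ab).mul_right h.ac).mul_right h.ad

theorem comm_b (h : IsTet L s a b c d) : Commute b s := h.sw12.comm_a
theorem comm_c (h : IsTet L s a b c d) : Commute c s := h.sw13.comm_a
theorem comm_d (h : IsTet L s a b c d) : Commute d s := h.sw14.comm_a

theorem conj (hT : Tr L) (h : IsTet L s a b c d) {g : F} (hg : Commute g s) :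
    IsTet L s (g * a * g⁻¹) (g * b * g⁻¹) (g * c * g⁻¹) (g * d * g⁻¹) := by
  have hc : ∀ x y : F, Commute x y → Commute (g * x * g⁻¹) (g * y * g⁻¹) := by
    intro x y hxy
    exact hxy.map (MulAut.conj g).toMonoidHom
  have hn : ∀ x y : F, x ≠ y → g * x * g⁻¹ ≠ g * y * g⁻¹ := by
    intro x y hxy e
    exact hxy (mul_left_cancel (mul_right_cancel e))
  refine ⟨hT.conj g a h.ha, hT.conj g b h.hb, hT.conj g c h.hc, hT.conj g d h.hd, hc _ _ h.ab, hc _ _ h.ac,
    hc _ _ h.ad, hc _ _ h.bc, hc _ _ h.bd, hc _ _ h.cd, hn _ _ h.nab, hn _ _ h.nac, hn _ _ h.nad,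
    hn _ _ h.nbc, hn _ _ h.nbd, hn _ _ h.ncd, ?_⟩
  rw [show g * a * g⁻¹ * (g * b * g⁻¹) * (g * c * g⁻¹) * (g * d * g⁻¹) = g * (a * b * c * d) * g⁻¹ by group,
    h.prod, hg.eq]
  group

theorem sq_s (hT : Tr L) (h : IsTet L s a b c d) : s * s = 1 := by
  have e1 : s = a * (b * c * d) := by rw [← h.prod]; group
  have e2 : s * s = s * (a * (b * c * d)) := by rw [← e1]
  have hcd : (b * c * d) * (b * c * d) = 1 := by
    have c1 : Commute b (c * d) := h.bc.mul_right h.bd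
    calc (b * c * d) * (b * c * d) = b * ((c * d) * b) * (c * d) := by group
      _ = b * (b * (c * d)) * (c * d) := by rw [← c1.eq]
      _ = (b * b) * (c * (d * c) * d) := by group
      _ = (b * b) * (c * (c * d) * d) := by rw [h.cd.eq]
      _ = (b * b) * ((c * c) * (d * d)) := by group
      _ = 1 := by rw [hT.sq b h.hb, hT.sq c h.hc, hT.sq d h.hd]; simp
  have c2 : Commute a (b * c * d) := (h.ab.mul_right h.ac).mul_right h.ad
  calc s * s = (a * (b * c * d)) * (a * (b * c * d)) := by rw [← e1]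
    _ = a * ((b * c * d) * a) * (b * c * d) := by group
    _ = a * (a * (b * c * d)) * (b * c * d) := by rw [← c2.eq]
    _ = (a * a) * ((b * c * d) * (b * c * d)) := by group
    _ = 1 := by rw [hT.sq a h.ha, hcd, one_mul]

/-- The product of the other two. -/
theorem cd_eq (hT : Tr L) (h : IsTet L s a b c d) : c * d = s * (a * b) := by
  have e1 : s = (a * b) * (c * d) := by rw [← h.prod]; group
  have c1 : Commute (a * b) (c * d) :=
    (h.ac.mul_left h.bc).mul_right (h.ad.mul_left h.bd)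
  have e2 : (a * b) * (a * b) = 1 := by
    calc (a * b) * (a * b) = a * (b * a) * b := by group
      _ = a * (a * b) * b := by rw [h.ab.eq]
      _ = (a * a) * (b * b) := by group
      _ = 1 := by rw [hT.sq a h.ha, hT.sq b h.hb, one_mul]
  rw [e1, c1.eq, mul_assoc, e2, mul_one]

/-- A transposition commuting with `s` and with one member commutes with all. -/
theorem comm_of (hT : Tr L) (h : IsTet L s a b c d) {f : F} (hf : f ∈ L) (hfs : Commute f s)
    (hfa : Commute f a) : Commute f b ∧ Commute f c ∧ Commute f d := by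
  have e1 : a * s = b * c * d := by
    rw [← h.prod, show a * (a * b * c * d) = (a * a) * (b * c * d) by group, hT.sq a h.ha, one_mul]
  have c1 : Commute f (b * c * d) := by rw [← e1]; exact hfa.mul_right hfs
  exact comm_of_comm_mul3 hT h.hb h.hc h.hd hf h.bc h.bd h.cd h.nbc h.nbd h.ncd c1

/-- The tetrad of `s` containing `a` is unique. -/
theorem unique (hT : Tr L) (h : IsTet L s a b c d) {b' c' d' : F} (h' : IsTet L s a b' c' d') :
    b' = b ∨ b' = c ∨ b' = d := by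
  have e1 : b * c * d = b' * c' * d' := by
    have : a * (b * c * d) = a * (b' * c' * d') := by
      rw [show a * (b * c * d) = a * b * c * d by group, h.prod, ← h'.prod]; group
    exact mul_left_cancel this
  exact tri_mem hT h.hb h.hc h.hd h'.hb h'.hc h'.hd h.bc h.bd h.cd h.nbc h.nbd h.ncd h'.bc h'.bd h'.cd
    h'.nbc h'.nbd h'.ncd e1

end IsTet

/-- `x` and `y` lie in a tetrad of `s`. -/
def Mate (L : Set F) (s x y : F) : Prop := ∃ c d, IsTet L s x y c d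

theorem Mate.symm {x y : F} (h : Mate L s x y) : Mate L s y x := by
  obtain ⟨c, d, h⟩ := h
  exact ⟨c, d, h.sw12⟩

theorem Mate.mem {x y : F} (h : Mate L s x y) : x ∈ L ∧ y ∈ L ∧ Commute x y ∧ x ≠ y := by
  obtain ⟨c, d, h⟩ := h
  exact ⟨h.ha, h.hb, h.ab, h.nab⟩

theorem Mate.conj (hT : Tr L) {x y g : F} (h : Mate L s x y) (hg : Commute g s) :
    Mate L s (g * x * g⁻¹) (g * y * g⁻¹) := by
  obtain ⟨c, d, h⟩ := h
  exact ⟨_, _, h.conj hT hg⟩

theorem IsTet.mate_cases (hT : Tr L) (h : IsTet L s a b c d) {x : F} (hx : Mate L s a x) :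
    x = b ∨ x = c ∨ x = d := by
  obtain ⟨_, _, h'⟩ := hx
  exact h.unique hT h'

/-- The product of two members of a tetrad moves every element of a tetrad which does not commute. -/
theorem IsTet.moves (hT : Tr L) {e f e3 e4 : F} (he : IsTet L s e f e3 e4) (h : IsTet L s a b c d)
    (hn : ¬ Commute e a) : e * (f * a * f) * e = b ∨ e * (f * a * f) * e = c ∨ e * (f * a * f) * e = d := by
  have hn2 : ¬ Commute f a := fun h2 =>
    hn ((he.sw12.comm_of hT h.ha h.comm_a h2.symm).1.symm)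
  have b1 := hT.braid he.ha h.ha hn
  have b2 := hT.braid he.hb h.ha hn2
  have t1 := he.conj hT h.comm_a
  have t2 := h.conj hT he.comm_a
  rw [hT.inv h.ha] at t1
  rw [hT.inv he.ha] at t2
  rw [b1] at t2
  rw [← b2] at t1
  have hee := hT.sq e he.ha
  rcases t2.unique hT t1 with h1 | h1 | h1
  · left; rw [h1, show e * (e * b * e) * e = (e * e) * b * (e * e) by group, hee]; simp
  · right; left; rw [h1, show e * (e * c * e) * e = (e * e) * c * (e * e) by group, hee]; simp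
  · right; right; rw [h1, show e * (e * d * e) * e = (e * e) * d * (e * e) by group, hee]; simp

/-- `v` acts on the tetrad `a, b, c, d` as an element of the four-group of double transpositions. -/
def Act (v a b c d : F) : Prop :=
  (v * a * v⁻¹ = a ∧ v * b * v⁻¹ = b ∧ v * c * v⁻¹ = c ∧ v * d * v⁻¹ = d) ∨
  (v * a * v⁻¹ = b ∧ v * b * v⁻¹ = a ∧ v * c * v⁻¹ = d ∧ v * d * v⁻¹ = c) ∨
  (v * a * v⁻¹ = c ∧ v * c * v⁻¹ = a ∧ v * b * v⁻¹ = d ∧ v * d * v⁻¹ = b) ∨
  (v * a * v⁻¹ = d ∧ v * d * v⁻¹ = a ∧ v * b * v⁻¹ = c ∧ v * c * v⁻¹ = b)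

theorem Act.one (a b c d : F) : Act 1 a b c d := Or.inl (by simp)

theorem Act.mul {u v a b c d : F} (hu : Act u a b c d) (hv : Act v a b c d) : Act (u * v) a b c d := by
  have key : ∀ x y z : F, v * x * v⁻¹ = y → u * y * u⁻¹ = z → (u * v) * x * (u * v)⁻¹ = z := by
    intro x y z h1 h2
    rw [← h2, ← h1]; group
  rcases hv with ⟨v1, v2, v3, v4⟩ | ⟨v1, v2, v3, v4⟩ | ⟨v1, v2, v3, v4⟩ | ⟨v1, v2, v3, v4⟩ <;>
  rcases hu with ⟨u1, u2, u3, u4⟩ | ⟨u1, u2, u3, u4⟩ | ⟨u1, u2, u3, u4⟩ | ⟨u1, u2, u3, u4⟩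
  · exact Or.inl ⟨key _ _ _ v1 u1, key _ _ _ v2 u2, key _ _ _ v3 u3, key _ _ _ v4 u4⟩
  · exact Or.inr (Or.inl ⟨key _ _ _ v1 u1, key _ _ _ v2 u2, key _ _ _ v3 u3, key _ _ _ v4 u4⟩)
  · exact Or.inr (Or.inr (Or.inl ⟨key _ _ _ v1 u1, key _ _ _ v3 u2, key _ _ _ v2 u3, key _ _ _ v4 u4⟩))
  · exact Or.inr (Or.inr (Or.inr ⟨key _ _ _ v1 u1, key _ _ _ v4 u2, key _ _ _ v2 u3, key _ _ _ v3 u4⟩))
  · exact Or.inr (Or.inl ⟨key _ _ _ v1 u2, key _ _ _ v2 u1, key _ _ _ v3 u4, key _ _ _ v4 u3⟩)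
  · exact Or.inl ⟨key _ _ _ v1 u2, key _ _ _ v2 u1, key _ _ _ v3 u4, key _ _ _ v4 u3⟩
  · exact Or.inr (Or.inr (Or.inr ⟨key _ _ _ v1 u3, key _ _ _ v4 u2, key _ _ _ v2 u1, key _ _ _ v3 u4⟩))
  · exact Or.inr (Or.inr (Or.inl ⟨key _ _ _ v1 u3, key _ _ _ v3 u2, key _ _ _ v2 u1, key _ _ _ v4 u4⟩))
  · exact Or.inr (Or.inr (Or.inl ⟨key _ _ _ v1 u3, key _ _ _ v2 u1, key _ _ _ v3 u4, key _ _ _ v4 u2⟩))
  · exact Or.inr (Or.inr (Or.inr ⟨key _ _ _ v1 u3, key _ _ _ v4 u2, key _ _ _ v3 u4, key _ _ _ v2 u1⟩))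
  · exact Or.inl ⟨key _ _ _ v1 u2, key _ _ _ v3 u4, key _ _ _ v2 u1, key _ _ _ v4 u3⟩
  · exact Or.inr (Or.inl ⟨key _ _ _ v1 u4, key _ _ _ v3 u2, key _ _ _ v2 u1, key _ _ _ v4 u3⟩)
  · exact Or.inr (Or.inr (Or.inr ⟨key _ _ _ v1 u4, key _ _ _ v2 u1, key _ _ _ v3 u3, key _ _ _ v4 u2⟩))
  · exact Or.inr (Or.inr (Or.inl ⟨key _ _ _ v1 u4, key _ _ _ v4 u2, key _ _ _ v3 u3, key _ _ _ v2 u1⟩))
  · exact Or.inr (Or.inl ⟨key _ _ _ v1 u4, key _ _ _ v3 u2, key _ _ _ v4 u3, key _ _ _ v2 u1⟩)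
  · exact Or.inl ⟨key _ _ _ v1 u2, key _ _ _ v3 u4, key _ _ _ v4 u3, key _ _ _ v2 u1⟩

end Cfsg.Agent.R08.TetTwo
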