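import Cfsg.Agent.R08.FiTwentyFour
import Cfsg.Agent.R08.TetTwo
import Cfsg.Agent.R01.Strong

/-!
The elementary facts about the class of transpositions of `Fi24` used by the closing argument `TetClose`: no relations
of length four or six between commuting transpositions, tetrads and octads.
-/

set_option autoImplicit false
set_option linter.unusedVariables false

namespace Cfsg.Agent.R08.TetFi24A

open Cfsg Cfsg.Spor Cfsg.Agent.R01 Cfsg.Agent.R08.FiTwentyFour
open Cfsg.Agent.R01.FiFusion (Tri)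
open Cfsg.Agent.R01.FiFacts (Hex)

/-- The data at a pair of commuting transpositions. -/
structure At (a b : Fi24) where
  ha : a ∈ L
  hb : b ∈ L
  ne : a ≠ b
  ab : Commute a b
  π : Cab a b →* Fi22
  z : Cab a b
  hz : (z : Fi24) = a * b
  lift : FiHexad.Lifted π z Fi22Facts.T (Eab a b)

theorem exists_at {a b : Fi24} (ha : a ∈ L) (hb : b ∈ L) (hne : a ≠ b) (hab : Commute a b) :
    Nonempty (At a b) := by
  obtain ⟨π, z, hz, hL⟩ := lifted ha hb hne hab
  exact ⟨⟨ha, hb, hne, hab, π, z, hz, hL⟩⟩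

/-- A transposition commuting with `a`, `b`, different from `a`, `b`. -/
structure Nb (a b c : Fi24) : Prop where
  hc : c ∈ L
  ca : Commute c a
  cb : Commute c b
  na : c ≠ a
  nb : c ≠ b

namespace At

variable {a b : Fi24} (P : At a b)
include P

/-- The element `ac`. -/
def x {c : Fi24} (h : Nb a b c) : Cab a b := ⟨a * c, mul_mem_Cab P.ha h.hc P.ab h.ca h.cb⟩

theorem coe_x {c : Fi24} (h : Nb a b c) : (P.x h : Fi24) = a * c := rfl

theorem x_mem {c : Fi24} (h : Nb a b c) : P.x h ∈ Eab a b := ⟨c, h.hc, h.na, h.nb, h.ca, h.cb, rfl⟩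

theorem π_mem {c : Fi24} (h : Nb a b c) : P.π (P.x h) ∈ Fi22Facts.T := P.lift.map _ (P.x_mem h)

theorem aa : a * a = 1 := sq P.ha

theorem x_eq {c d : Fi24} (h : Nb a b c) (h' : Nb a b d) (e : P.π (P.x h) = P.π (P.x h')) : c = d := by
  have h1 := P.lift.inj _ (P.x_mem h) _ (P.x_mem h') e
  have h2 : a * c = a * d := congrArg Subtype.val h1
  exact mul_left_cancel h2

theorem x_mul {c d : Fi24} (h : Nb a b c) (h' : Nb a b d) : ((P.x h * P.x h' : Cab a b) : Fi24) = c * d := by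
  rw [Subgroup.coe_mul, P.coe_x, P.coe_x]
  have h1 : c * a = a * c := h.ca
  calc a * c * (a * d) = a * (c * a) * d := by group
    _ = (a * a) * (c * d) := by rw [h1]; group
    _ = c * d := by rw [P.aa, one_mul]

theorem comm_iff {c d : Fi24} (h : Nb a b c) (h' : Nb a b d) :
    P.π (P.x h) * P.π (P.x h') = P.π (P.x h') * P.π (P.x h) ↔ Commute c d := by
  constructor
  · intro h1
    have h2 := congrArg Subtype.val (P.lift.comm _ (P.x_mem h) _ (P.x_mem h') h1)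
    rw [P.x_mul, P.x_mul] at h2
    exact h2
  · intro h1
    rw [← map_mul, ← map_mul]
    congr 1
    apply Subtype.ext
    rw [P.x_mul, P.x_mul]
    exact h1

theorem exists_x {t : Fi22} (ht : t ∈ Fi22Facts.T) : ∃ c, ∃ h : Nb a b c, P.π (P.x h) = t := by
  obtain ⟨y, ⟨c, hc, h1, h2, h3, h4, h5⟩, hy⟩ := P.lift.surj t ht
  refine ⟨c, ⟨hc, h3, h4, h1, h2⟩, ?_⟩
  rw [← hy]
  congr 1
  exact Subtype.ext h5.symm

theorem ne_of {c d : Fi24} {h : Nb a b c} {h' : Nb a b d} (e : P.π (P.x h) ≠ P.π (P.x h')) : c ≠ d := by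
  rintro rfl
  exact e rfl

theorem tri {c d e : Fi24} (hc : Nb a b c) (hd : Nb a b d) (he : Nb a b e) (cd : Commute c d) (ce : Commute c e)
    (de : Commute d e) (ncd : c ≠ d) (nce : c ≠ e) (nde : d ≠ e) :
    Tri Fi22Facts.T (P.π (P.x hc)) (P.π (P.x hd)) (P.π (P.x he)) :=
  ⟨P.π_mem hc, P.π_mem hd, P.π_mem he, fun h => ncd (P.x_eq _ _ h), fun h => nce (P.x_eq _ _ h),
    fun h => nde (P.x_eq _ _ h), (P.comm_iff _ _).2 cd, (P.comm_iff _ _).2 ce, (P.comm_iff _ _).2 de⟩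

end At

/-- No relation of length four. -/
theorem four {a b c d : Fi24} (ha : a ∈ L) (hb : b ∈ L) (hc : c ∈ L) (hd : d ∈ L) (nab : a ≠ b) (nac : a ≠ c)
    (nad : a ≠ d) (nbc : b ≠ c) (nbd : b ≠ d) (ncd : c ≠ d) (ab : Commute a b) (ac : Commute a c)
    (ad : Commute a d) (bc : Commute b c) (bd : Commute b d) : a * b ≠ c * d := by
  intro h
  obtain ⟨P⟩ := exists_at ha hb nab ab
  have Hc : Nb a b c := ⟨hc, ac.symm, bc.symm, nac.symm, nbc.symm⟩
  have Hd : Nb a b d := ⟨hd, ad.symm, bd.symm, nad.symm, nbd.symm⟩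
  have h1 : P.x Hc * P.x Hd = P.z := by
    apply Subtype.ext
    rw [P.x_mul, P.hz, h]
  have h2 : P.π (P.x Hc) * P.π (P.x Hd) = 1 := by
    rw [← map_mul, h1]
    exact P.lift.ext.mapz
  have h3 : P.π (P.x Hd) * P.π (P.x Hd) = 1 := by
    rw [← map_mul, P.lift.sq _ (P.x_mem Hd), map_one]
  exact ncd (P.x_eq Hc Hd (mul_right_cancel (h2.trans h3.symm)))

/-- No relation of length six. -/
theorem six {a b c d e f : Fi24} (ha : a ∈ L) (hb : b ∈ L) (hc : c ∈ L) (hd : d ∈ L) (he : e ∈ L) (hf : f ∈ L)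
    (nab : a ≠ b) (nac : a ≠ c) (nbc : b ≠ c) (nde : d ≠ e) (ndf : d ≠ f) (nef : e ≠ f)
    (nad : a ≠ d) (nae : a ≠ e) (naf : a ≠ f) (nbd : b ≠ d) (nbe : b ≠ e) (nbf : b ≠ f) (ncd : c ≠ d)
    (nce : c ≠ e) (ncf : c ≠ f) (ab : Commute a b) (ac : Commute a c) (bc : Commute b c) (de : Commute d e)
    (df : Commute d f) (ef : Commute e f) (ad : Commute a d) (ae : Commute a e) (af : Commute a f)
    (bd : Commute b d) (be : Commute b e) (bf : Commute b f) (cd : Commute c d) (ce : Commute c e)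
    (cf : Commute c f) : a * b * c ≠ d * e * f := by
  intro h
  obtain ⟨P⟩ := exists_at ha hb nab ab
  have Hc : Nb a b c := ⟨hc, ac.symm, bc.symm, nac.symm, nbc.symm⟩
  have Hd : Nb a b d := ⟨hd, ad.symm, bd.symm, nad.symm, nbd.symm⟩
  have He : Nb a b e := ⟨he, ae.symm, be.symm, nae.symm, nbe.symm⟩
  have Hf : Nb a b f := ⟨hf, af.symm, bf.symm, naf.symm, nbf.symm⟩
  have ht := P.tri Hd He Hf de df ef nde ndf nef
  have h1 : P.x Hd * P.x He * (P.x Hf * P.x Hc) = P.z := by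
    apply Subtype.ext
    rw [Subgroup.coe_mul, P.x_mul, P.x_mul, P.hz]
    calc d * e * (f * c) = d * e * f * c := by group
      _ = a * b * c * c := by rw [h]
      _ = a * b := by rw [mul_assoc, sq hc, mul_one]
  have h2 : P.π (P.x Hd) * P.π (P.x He) * P.π (P.x Hf) * P.π (P.x Hc) = 1 := by
    rw [mul_assoc, ← map_mul, ← map_mul, ← map_mul, h1]
    exact P.lift.ext.mapz
  have h3 : P.π (P.x Hc) * P.π (P.x Hc) = 1 := by
    rw [← map_mul, P.lift.sq _ (P.x_mem Hc), map_one]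
  have h4 : P.π (P.x Hd) * P.π (P.x He) * P.π (P.x Hf) = P.π (P.x Hc) := mul_right_cancel (h2.trans h3.symm)
  apply Strong.tFacts.prod _ _ _ ht
  rw [h4]
  exact P.π_mem Hc

theorem tr : TetBasic.Tr L where
  sq a ha := FiTwentyFour.sq ha
  conj g a ha := FiTwentyFour.conj ha g
  three a ha b hb := FiTwentyFour.three ha hb
  four a ha b hb c hc d hd h1 h2 h3 h4 h5 h6 h7 h8 h9 h10 h11 _ :=
    four ha hb hc hd h1 h2 h3 h4 h5 h6 h7 h8 h9 h10 h11
  six a ha b hb c hc d hd e he f hf h1 h2 h3 h4 h5 h6 h7 h8 h9 h10 h11 h12 h13 h14 h15 h16 h17 h18 h19 h20 h21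
    h22 h23 h24 h25 h26 h27 h28 h29 h30 :=
    six ha hb hc hd he hf h1 h2 h3 h4 h5 h6 h7 h8 h9 h10 h11 h12 h13 h14 h15 h16 h17 h18 h19 h20 h21
      h22 h23 h24 h25 h26 h27 h28 h29 h30

theorem even : ∀ a ∈ L, ∀ b ∈ L, a * b ∈ commutator Fi24 := fun _ ha _ hb => FiTwentyFour.even ha hb

/-- A tetrad and a further commuting transposition define an octad. -/
theorem octad : ∀ s a b c d, TetTwo.IsTet L s a b c d → ∀ e ∈ L, Commute e a → Commute e b → Commute e c →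
    Commute e d → e ≠ a → e ≠ b → e ≠ c → e ≠ d → ∃ f g h, TetTwo.IsTet L s e f g h := by
  intro s a b c d H e he ea eb ec ed nea neb nec ned
  obtain ⟨P⟩ := exists_at H.ha H.hb H.nab H.ab
  have Hc : Nb a b c := ⟨H.hc, H.ac.symm, H.bc.symm, H.nac.symm, H.nbc.symm⟩
  have Hd : Nb a b d := ⟨H.hd, H.ad.symm, H.bd.symm, H.nad.symm, H.nbd.symm⟩
  have He : Nb a b e := ⟨he, ea, eb, nea, neb⟩
  obtain ⟨u, v, w, hx⟩ := Strong.tFacts.hex _ _ _ (P.tri Hc Hd He H.cd ec.symm ed.symm H.ncd nec.symm ned.symm)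
  obtain ⟨f, Hf, rfl⟩ := P.exists_x hx.t'.mx
  obtain ⟨g, Hg, rfl⟩ := P.exists_x hx.t'.my
  obtain ⟨h, Hh, rfl⟩ := P.exists_x hx.t'.mw
  have fg := (P.comm_iff _ _).1 hx.t'.cxy
  have fh := (P.comm_iff _ _).1 hx.t'.cxw
  have gh := (P.comm_iff _ _).1 hx.t'.cyw
  have cf := (P.comm_iff _ _).1 hx.caa
  have cg := (P.comm_iff _ _).1 hx.cab
  have ch := (P.comm_iff _ _).1 hx.cac
  have df := (P.comm_iff _ _).1 hx.cba
  have dg := (P.comm_iff _ _).1 hx.cbb
  have dh := (P.comm_iff _ _).1 hx.cbc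
  have ef := (P.comm_iff _ _).1 hx.cca
  have eg := (P.comm_iff _ _).1 hx.ccb
  have eh := (P.comm_iff _ _).1 hx.ccc
  have nfg := P.ne_of hx.t'.xy
  have nfh := P.ne_of hx.t'.xw
  have ngh := P.ne_of hx.t'.yw
  have ncf := P.ne_of hx.aa
  have ncg := P.ne_of hx.ab
  have nch := P.ne_of hx.ac
  have ndf := P.ne_of hx.ba
  have ndg := P.ne_of hx.bb
  have ndh := P.ne_of hx.bc
  have nef := P.ne_of hx.ca
  have neg := P.ne_of hx.cb
  have neh := P.ne_of hx.cc
  refine ⟨f, g, h, ⟨he, Hf.hc, Hg.hc, Hh.hc, ef, eg, eh, fg, fh, gh, nef, neg, neh, nfg, nfh, ngh, ?_⟩⟩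
  have hprod : ((P.x Hc * P.x Hd * (P.x He * P.x Hf) * (P.x Hg * P.x Hh) : Cab a b) : Fi24) =
      c * d * (e * f) * (g * h) := by
    rw [Subgroup.coe_mul, Subgroup.coe_mul, P.x_mul, P.x_mul, P.x_mul]
  have h1 : P.π (P.x Hc * P.x Hd * (P.x He * P.x Hf) * (P.x Hg * P.x Hh)) = 1 := by
    rw [← hx.prod]
    simp only [map_mul, mul_assoc]
  rcases (P.lift.ext.ker _).1 h1 with h2 | h2
  · exfalso
    have h3 : c * d * (e * f) * (g * h) = 1 := by rw [← hprod, h2]; rfl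
    apply six H.hc H.hd he Hf.hc Hg.hc Hh.hc H.ncd nec.symm ned.symm nfg nfh ngh ncf ncg nch ndf ndg ndh nef
      neg neh H.cd ec.symm ed.symm fg fh gh cf cg ch df dg dh ef eg eh
    have h4 : f * g * h * (f * g * h) = 1 := by
      have e1 : f * g * h = h * (f * g) := (fh.mul_left gh).eq
      calc f * g * h * (f * g * h) = f * g * (h * h) * (f * g) := by
            conv_lhs => rw [show f * g * h * (f * g * h) = f * g * h * (h * (f * g)) by rw [← e1]]
            group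
        _ = f * g * (f * g) := by rw [sq Hh.hc, mul_one]
        _ = f * g * (g * f) := by rw [fg.eq]
        _ = f * (g * g) * f := by group
        _ = 1 := by rw [sq Hg.hc, mul_one, sq Hf.hc]
    apply mul_right_cancel (b := f * g * h)
    rw [h4, ← h3]
    group
  · have h3 : c * d * (e * f) * (g * h) = a * b := by rw [← hprod, h2, P.hz]
    have h4 : c * d * (c * d) = 1 := by
      calc c * d * (c * d) = c * d * (d * c) := by rw [H.cd.eq]
        _ = c * (d * d) * c := by group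
        _ = 1 := by rw [sq H.hd, mul_one, sq H.hc]
    have h5 : Commute (c * d) (a * b) :=
      ((H.ac.symm.mul_left H.ad.symm).mul_right (H.bc.symm.mul_left H.bd.symm))
    calc e * f * g * h = (c * d * (c * d)) * (e * f * g * h) := by rw [h4, one_mul]
      _ = c * d * (c * d * (e * f) * (g * h)) := by group
      _ = c * d * (a * b) := by rw [h3]
      _ = a * b * (c * d) := h5.eq
      _ = s := by rw [← H.prod]; group

/-- There is a fifth transposition commuting with a tetrad. -/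
theorem ex : ∀ s a b c d, TetTwo.IsTet L s a b c d → ∃ e ∈ L, Commute e a ∧ Commute e b ∧ Commute e c ∧
    Commute e d ∧ e ≠ a ∧ e ≠ b ∧ e ≠ c ∧ e ≠ d := by
  intro s a b c d H
  obtain ⟨P⟩ := exists_at H.ha H.hb H.nab H.ab
  have Hc : Nb a b c := ⟨H.hc, H.ac.symm, H.bc.symm, H.nac.symm, H.nbc.symm⟩
  have Hd : Nb a b d := ⟨H.hd, H.ad.symm, H.bd.symm, H.nad.symm, H.nbd.symm⟩
  obtain ⟨x₁, x₂, x₃, x₄, y₁, y₂, hx, _⟩ := Strong.tFacts.elat _ (P.π_mem Hc) _ (P.π_mem Hd)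
    (fun h => H.ncd (P.x_eq _ _ h)) ((P.comm_iff _ _).2 H.cd)
  obtain ⟨e, He, rfl⟩ := P.exists_x hx.t.mw
  exact ⟨e, He.hc, He.ca, He.cb, ((P.comm_iff _ _).1 hx.t.cxw).symm, ((P.comm_iff _ _).1 hx.t.cyw).symm, He.na,
    He.nb, (P.ne_of hx.t.xw).symm, (P.ne_of hx.t.yw).symm⟩

end Cfsg.Agent.R08.TetFi24A
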