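import Cfsg.Agent.R08.TetTwo

/-!
# The order of the centralizer of a tetrad involution  (S1735, piece (B))

`TetBig.dvd`: if the even subgroup `F0` is transitive on the ordered quadruples of different commuting members of
`L`, and the numbers of the members of `L` commuting with `0, 1, 2, 3` different commuting ones are
`306936, 31671, 3510, 693`, and `2 ^ 21` divides the order of `F0`, then `2 ^ 20` divides the order of `C_{F0}(s)` for
the product `s` of four different commuting members.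
-/

set_option autoImplicit false
set_option maxHeartbeats 400000

namespace Cfsg.Agent.R08.TetBig

open Cfsg.Agent.R08.TetTwo

variable {F : Type*} [Group F]

/-- Orbit-stabilizer for the conjugation action. -/
theorem orb (H : Subgroup F) (x : F) (O : Set F) (h : ∀ y, y ∈ O ↔ ∃ g ∈ H, g * x * g⁻¹ = y) :
    Nat.card H = O.ncard * Nat.card ↥(H ⊓ Subgroup.centralizer ({x} : Set F)) := by
  let _ : MulAction H F := MulAction.compHom F ((MulAut.conj : F →* MulAut F).comp H.subtype)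
  have hs : ∀ (g : H) (y : F), g • y = (g : F) * y * (g : F)⁻¹ := fun _ _ => rfl
  have h1 : MulAction.orbit H x = O := by
    ext y
    rw [h, MulAction.mem_orbit_iff]
    constructor
    · rintro ⟨g, rfl⟩
      exact ⟨g, g.2, (hs g x).symm⟩
    · rintro ⟨g, hg, rfl⟩
      exact ⟨⟨g, hg⟩, hs ⟨g, hg⟩ x⟩
  have h2 : Nat.card ↥(MulAction.stabilizer H x) =
      Nat.card ↥(H ⊓ Subgroup.centralizer ({x} : Set F)) := by
    refine Nat.card_congr
      { toFun := fun g => ⟨(g : H), (g : H).2, ?_⟩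
        invFun := fun g => ⟨⟨g, g.2.1⟩, ?_⟩
        left_inv := fun g => rfl
        right_inv := fun g => rfl }
    · have h3 := g.2
      rw [MulAction.mem_stabilizer_iff, hs] at h3
      exact Subgroup.mem_centralizer_singleton_iff.2 (mul_inv_eq_iff_eq_mul.1 h3)
    · rw [MulAction.mem_stabilizer_iff, hs]
      exact mul_inv_eq_iff_eq_mul.2 (Subgroup.mem_centralizer_singleton_iff.1 g.2.2)
  rw [← h2, ← h1, ← MulAction.index_stabilizer, Subgroup.index_mul_card]

/-- The hypotheses. -/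
structure Hyp (L : Set F) (F0 : Subgroup F) : Prop where
  conj : ∀ a ∈ L, ∀ g : F, g * a * g⁻¹ ∈ L
  n0 : L.ncard = 306936
  n1 : ∀ a ∈ L, {c | c ∈ L ∧ c ≠ a ∧ Commute c a}.ncard = 31671
  n2 : ∀ a ∈ L, ∀ b ∈ L, a ≠ b → Commute a b →
    {c | c ∈ L ∧ c ≠ a ∧ c ≠ b ∧ Commute c a ∧ Commute c b}.ncard = 3510
  n3 : ∀ a ∈ L, ∀ b ∈ L, ∀ c ∈ L, a ≠ b → a ≠ c → b ≠ c → Commute a b → Commute a c → Commute b c →
    {d | d ∈ L ∧ d ≠ a ∧ d ≠ b ∧ d ≠ c ∧ Commute d a ∧ Commute d b ∧ Commute d c}.ncard = 693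
  trans2 : ∀ a ∈ L, ∀ b ∈ L, ∀ a' ∈ L, ∀ b' ∈ L, a ≠ b → Commute a b → a' ≠ b' → Commute a' b' →
    ∃ g ∈ F0, g * a * g⁻¹ = a' ∧ g * b * g⁻¹ = b'
  trans4 : ∀ a ∈ L, ∀ b ∈ L, a ≠ b → Commute a b →
    ∀ c ∈ L, ∀ d ∈ L, ∀ c' ∈ L, ∀ d' ∈ L, c ≠ a → c ≠ b → d ≠ a → d ≠ b → c' ≠ a → c' ≠ b → d' ≠ a → d' ≠ b →
    c ≠ d → c' ≠ d' → Commute c a → Commute c b → Commute d a → Commute d b → Commute c' a → Commute c' b →
    Commute d' a → Commute d' b → Commute c d → Commute c' d' →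
    ∃ g ∈ F0, g * a * g⁻¹ = a ∧ g * b * g⁻¹ = b ∧ g * c * g⁻¹ = c' ∧ g * d * g⁻¹ = d'
  card : 2 ^ 21 ∣ Nat.card F0

variable {L : Set F} {F0 : Subgroup F} {s a b c d : F}

/-- The centralizer of the four members. -/
def C4 (F0 : Subgroup F) (a b c d : F) : Subgroup F :=
  F0 ⊓ Subgroup.centralizer ({a} : Set F) ⊓ Subgroup.centralizer ({b} : Set F) ⊓
    Subgroup.centralizer ({c} : Set F) ⊓ Subgroup.centralizer ({d} : Set F)

theorem mem_C4 {g : F} : g ∈ C4 F0 a b c d ↔ g ∈ F0 ∧ g * a = a * g ∧ g * b = b * g ∧ g * c = c * g ∧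
    g * d = d * g := by
  simp only [C4, Subgroup.mem_inf, Subgroup.mem_centralizer_singleton_iff, and_assoc]

theorem conj_mul (g x y : F) : g * (x * y) * g⁻¹ = g * x * g⁻¹ * (g * y * g⁻¹) := by group

theorem conj_ne {g x y : F} (h : x ≠ y) : g * x * g⁻¹ ≠ g * y * g⁻¹ := fun h1 =>
  h (mul_left_cancel (mul_right_cancel h1))

theorem conj_comm {g x y : F} (h : Commute x y) : Commute (g * x * g⁻¹) (g * y * g⁻¹) := by
  show g * x * g⁻¹ * (g * y * g⁻¹) = g * y * g⁻¹ * (g * x * g⁻¹)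
  rw [← conj_mul, ← conj_mul, h.eq]

theorem fix_iff {g x : F} : g * x * g⁻¹ = x ↔ g * x = x * g := mul_inv_eq_iff_eq_mul

variable (H : Hyp L F0)

include H

/-- Transitivity on ordered quadruples. -/
theorem quad {a' b' c' d' s' : F} (h : IsTet L s a b c d) (h' : IsTet L s' a' b' c' d') :
    ∃ g ∈ F0, g * a * g⁻¹ = a' ∧ g * b * g⁻¹ = b' ∧ g * c * g⁻¹ = c' ∧ g * d * g⁻¹ = d' := by
  obtain ⟨g, hg, rfl, rfl⟩ := H.trans2 a h.ha b h.hb a' h'.ha b' h'.hb h.nab h.ab h'.nab h'.ab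
  obtain ⟨k, hk, h1, h2, h3, h4⟩ := H.trans4 _ h'.ha _ h'.hb h'.nab h'.ab
    (g * c * g⁻¹) (H.conj c h.hc g) (g * d * g⁻¹) (H.conj d h.hd g) c' h'.hc d' h'.hd
    (conj_ne h.nac.symm) (conj_ne h.nbc.symm) (conj_ne h.nad.symm) (conj_ne h.nbd.symm)
    h'.nac.symm h'.nbc.symm h'.nad.symm h'.nbd.symm (conj_ne h.ncd) h'.ncd
    (conj_comm h.ac.symm) (conj_comm h.bc.symm) (conj_comm h.ad.symm) (conj_comm h.bd.symm)
    h'.ac.symm h'.bc.symm h'.ad.symm h'.bd.symm (conj_comm h.cd) h'.cd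
  have e : ∀ x : F, k * g * x * (k * g)⁻¹ = k * (g * x * g⁻¹) * k⁻¹ := fun x => by group
  exact ⟨k * g, mul_mem hk hg, by rw [e, h1], by rw [e, h2], by rw [e, h3], by rw [e, h4]⟩

/-- The order of `F0`. -/
theorem card_eq (h : IsTet L s a b c d) :
    Nat.card F0 = 306936 * (31671 * (3510 * (693 * Nat.card ↥(C4 F0 a b c d)))) := by
  rw [orb F0 a L ?_, H.n0, orb (F0 ⊓ Subgroup.centralizer ({a} : Set F)) b
    {c | c ∈ L ∧ c ≠ a ∧ Commute c a} ?_, H.n1 a h.ha,
    orb (F0 ⊓ Subgroup.centralizer ({a} : Set F) ⊓ Subgroup.centralizer ({b} : Set F)) c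
    {c | c ∈ L ∧ c ≠ a ∧ c ≠ b ∧ Commute c a ∧ Commute c b} ?_, H.n2 a h.ha b h.hb h.nab h.ab,
    orb (F0 ⊓ Subgroup.centralizer ({a} : Set F) ⊓ Subgroup.centralizer ({b} : Set F) ⊓
      Subgroup.centralizer ({c} : Set F)) d
    {d | d ∈ L ∧ d ≠ a ∧ d ≠ b ∧ d ≠ c ∧ Commute d a ∧ Commute d b ∧ Commute d c} ?_,
    H.n3 a h.ha b h.hb c h.hc h.nab h.nac h.nbc h.ab h.ac h.bc]
  · rfl
  · -- d
    intro y
    constructor
    · rintro ⟨h1, h2, h3, h4, h5, h6, h7⟩
      obtain ⟨g, hg, e1, e2, e3, e4⟩ := H.trans4 a h.ha b h.hb h.nab h.ab c h.hc d h.hd c h.hc y h1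
        h.nac.symm h.nbc.symm h.nad.symm h.nbd.symm h.nac.symm h.nbc.symm h2 h3 h.ncd (Ne.symm h4)
        h.ac.symm h.bc.symm h.ad.symm h.bd.symm h.ac.symm h.bc.symm h5 h6 h.cd h7.symm
      refine ⟨g, ⟨⟨⟨hg, ?_⟩, ?_⟩, ?_⟩, e4⟩
      · exact Subgroup.mem_centralizer_singleton_iff.2 (fix_iff.1 e1)
      · exact Subgroup.mem_centralizer_singleton_iff.2 (fix_iff.1 e2)
      · exact Subgroup.mem_centralizer_singleton_iff.2 (fix_iff.1 e3)
    · rintro ⟨g, ⟨⟨⟨-, e1⟩, e2⟩, e3⟩, rfl⟩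
      have e1 := fix_iff.2 (Subgroup.mem_centralizer_singleton_iff.1 e1)
      have e2 := fix_iff.2 (Subgroup.mem_centralizer_singleton_iff.1 e2)
      have e3 := fix_iff.2 (Subgroup.mem_centralizer_singleton_iff.1 e3)
      refine ⟨H.conj d h.hd g, ?_, ?_, ?_, ?_, ?_, ?_⟩
      · have := conj_ne (g := g) h.nad.symm; rwa [e1] at this
      · have := conj_ne (g := g) h.nbd.symm; rwa [e2] at this
      · have := conj_ne (g := g) h.ncd.symm; rwa [e3] at this
      · have := conj_comm (g := g) h.ad.symm; rwa [e1] at this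
      · have := conj_comm (g := g) h.bd.symm; rwa [e2] at this
      · have := conj_comm (g := g) h.cd.symm; rwa [e3] at this
  · -- c
    intro y
    constructor
    · rintro ⟨h1, h2, h3, h4, h5⟩
      obtain ⟨d', k1, k2, k3, k4, k5, k6, k7⟩ := Set.nonempty_of_ncard_ne_zero
        (show {d | d ∈ L ∧ d ≠ a ∧ d ≠ b ∧ d ≠ y ∧ Commute d a ∧ Commute d b ∧ Commute d y}.ncard ≠ 0 by
          rw [H.n3 a h.ha b h.hb y h1 h.nab (Ne.symm h2) (Ne.symm h3) h.ab h4.symm h5.symm]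
          norm_num)
      obtain ⟨g, hg, e1, e2, e3, -⟩ := H.trans4 a h.ha b h.hb h.nab h.ab c h.hc d h.hd y h1 d' k1
        h.nac.symm h.nbc.symm h.nad.symm h.nbd.symm h2 h3 k2 k3 h.ncd (Ne.symm k4)
        h.ac.symm h.bc.symm h.ad.symm h.bd.symm h4 h5 k5 k6 h.cd k7.symm
      refine ⟨g, ⟨⟨hg, ?_⟩, ?_⟩, e3⟩
      · exact Subgroup.mem_centralizer_singleton_iff.2 (fix_iff.1 e1)
      · exact Subgroup.mem_centralizer_singleton_iff.2 (fix_iff.1 e2)
    · rintro ⟨g, ⟨⟨-, e1⟩, e2⟩, rfl⟩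
      have e1 := fix_iff.2 (Subgroup.mem_centralizer_singleton_iff.1 e1)
      have e2 := fix_iff.2 (Subgroup.mem_centralizer_singleton_iff.1 e2)
      refine ⟨H.conj c h.hc g, ?_, ?_, ?_, ?_⟩
      · have := conj_ne (g := g) h.nac.symm; rwa [e1] at this
      · have := conj_ne (g := g) h.nbc.symm; rwa [e2] at this
      · have := conj_comm (g := g) h.ac.symm; rwa [e1] at this
      · have := conj_comm (g := g) h.bc.symm; rwa [e2] at this
  · -- b
    intro y
    constructor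
    · rintro ⟨h1, h2, h3⟩
      obtain ⟨g, hg, e1, e2⟩ := H.trans2 a h.ha b h.hb a h.ha y h1 h.nab h.ab (Ne.symm h2) h3.symm
      exact ⟨g, ⟨hg, Subgroup.mem_centralizer_singleton_iff.2 (fix_iff.1 e1)⟩, e2⟩
    · rintro ⟨g, ⟨-, e1⟩, rfl⟩
      have e1 := fix_iff.2 (Subgroup.mem_centralizer_singleton_iff.1 e1)
      refine ⟨H.conj b h.hb g, ?_, ?_⟩
      · have := conj_ne (g := g) h.nab.symm; rwa [e1] at this
      · have := conj_comm (g := g) h.ab.symm; rwa [e1] at this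
  · -- a
    intro y
    constructor
    · intro hy
      obtain ⟨b', k1, k2, k3⟩ := Set.nonempty_of_ncard_ne_zero
        (show {c | c ∈ L ∧ c ≠ y ∧ Commute c y}.ncard ≠ 0 by
          rw [H.n1 y hy]
          norm_num)
      obtain ⟨g, hg, e1, -⟩ := H.trans2 a h.ha b h.hb y hy b' k1 h.nab h.ab (Ne.symm k2) k3.symm
      exact ⟨g, hg, e1⟩
    · rintro ⟨g, -, rfl⟩
      exact H.conj a h.ha g

/-- The 2-part of the order of the centralizer of the four members. -/
theorem dvd_C4 (h : IsTet L s a b c d) : 2 ^ 17 ∣ Nat.card ↥(C4 F0 a b c d) := by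
  have h1 := H.card
  rw [card_eq H h] at h1
  have h2 : 306936 * (31671 * (3510 * (693 * Nat.card ↥(C4 F0 a b c d)))) =
      2 ^ 4 * (38367 * 31671 * 1755 * 693 * Nat.card ↥(C4 F0 a b c d)) := by ring
  rw [h2, show (2 : ℕ) ^ 21 = 2 ^ 4 * 2 ^ 17 by norm_num] at h1
  have h3 := Nat.dvd_of_mul_dvd_mul_left (by norm_num) h1
  exact (Nat.Coprime.pow_left 17 (by norm_num)).dvd_of_dvd_mul_left h3

/-- The four members. -/
def fam (a b c d : F) : Fin 4 → F := ![a, b, c, d]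

omit H in
theorem fam_injective (h : IsTet L s a b c d) : Function.Injective (fam a b c d) := by
  intro i j hij
  have h1 := h.nab
  have h2 := h.nac
  have h3 := h.nad
  have h4 := h.nbc
  have h5 := h.nbd
  have h6 := h.ncd
  fin_cases i <;> fin_cases j <;> first | rfl | (exfalso; simp [fam] at hij; tauto)

omit H in
theorem fam_commute (h : IsTet L s a b c d) (i j : Fin 4) : Commute (fam a b c d i) (fam a b c d j) := by
  have h1 := h.ab
  have h2 := h.ac
  have h3 := h.ad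
  have h4 := h.bc
  have h5 := h.bd
  have h6 := h.cd
  fin_cases i <;> fin_cases j <;> first | exact Commute.refl _ | assumption | (apply Commute.symm; assumption)

omit H in
theorem fam_mem (h : IsTet L s a b c d) (i : Fin 4) : fam a b c d i ∈ L := by
  have h1 := h.ha
  have h2 := h.hb
  have h3 := h.hc
  have h4 := h.hd
  fin_cases i <;> assumption

omit H in
theorem prod_perm (h : IsTet L s a b c d) (σ : Equiv.Perm (Fin 4)) :
    (List.ofFn (fam a b c d ∘ σ)).prod = s := by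
  have h1 : (List.ofFn (fam a b c d ∘ σ)).Perm (List.ofFn (fam a b c d)) :=
    Equiv.Perm.ofFn_comp_perm σ _
  rw [h1.prod_eq' ?_]
  · rw [← h.prod]
    simp [List.ofFn_succ, fam, mul_assoc]
  · rw [List.pairwise_ofFn]
    intro i j _
    exact fam_commute h _ _

omit H in
theorem tet_perm (h : IsTet L s a b c d) (σ : Equiv.Perm (Fin 4)) :
    IsTet L s (fam a b c d (σ 0)) (fam a b c d (σ 1)) (fam a b c d (σ 2)) (fam a b c d (σ 3)) := by
  have hi := fam_injective h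
  have hne : ∀ i j : Fin 4, i ≠ j → fam a b c d (σ i) ≠ fam a b c d (σ j) := fun i j hij h1 =>
    hij (σ.injective (hi h1))
  exact
    { ha := fam_mem h _
      hb := fam_mem h _
      hc := fam_mem h _
      hd := fam_mem h _
      ab := fam_commute h _ _
      ac := fam_commute h _ _
      ad := fam_commute h _ _
      bc := fam_commute h _ _
      bd := fam_commute h _ _
      cd := fam_commute h _ _
      nab := hne 0 1 (by decide)
      nac := hne 0 2 (by decide)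
      nad := hne 0 3 (by decide)
      nbc := hne 1 2 (by decide)
      nbd := hne 1 3 (by decide)
      ncd := hne 2 3 (by decide)
      prod := by
        rw [← prod_perm h σ]
        simp [List.ofFn_succ, mul_assoc] }

theorem exists_perm (h : IsTet L s a b c d) (σ : Equiv.Perm (Fin 4)) :
    ∃ g ∈ F0, ∀ i, g * fam a b c d i * g⁻¹ = fam a b c d (σ i) := by
  obtain ⟨g, hg, e1, e2, e3, e4⟩ := quad H h (tet_perm h σ)
  refine ⟨g, hg, fun i => ?_⟩
  fin_cases i
  · exact e1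
  · exact e2
  · exact e3
  · exact e4

/-- The normalizer of the set of the four members. -/
def Nn (F0 : Subgroup F) (f : Fin 4 → F) : Subgroup F where
  carrier := {g | g ∈ F0 ∧ ∃ σ : Equiv.Perm (Fin 4), ∀ i, g * f i * g⁻¹ = f (σ i)}
  mul_mem' := by
    rintro g k ⟨hg, σ, h1⟩ ⟨hk, τ, h2⟩
    refine ⟨mul_mem hg hk, σ * τ, fun i => ?_⟩
    rw [Equiv.Perm.mul_apply, ← h1, ← h2]
    group
  one_mem' := ⟨one_mem _, 1, fun i => by simp⟩
  inv_mem' := by
    rintro g ⟨hg, σ, h1⟩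
    refine ⟨inv_mem hg, σ⁻¹, fun i => ?_⟩
    have h2 := h1 (σ⁻¹ i)
    have h3 : σ (σ⁻¹ i) = i := σ.apply_symm_apply i
    rw [h3] at h2
    rw [← h2]
    group

omit H in
theorem Nn_le (h : IsTet L s a b c d) :
    Nn F0 (fam a b c d) ≤ F0 ⊓ Subgroup.centralizer ({s} : Set F) := by
  rintro g ⟨hg, σ, h1⟩
  refine ⟨hg, Subgroup.mem_centralizer_singleton_iff.2 (fix_iff.1 ?_)⟩
  have h2 := prod_perm h σ
  have h3 := prod_perm h 1
  have h4 : (List.ofFn (fam a b c d ∘ σ)).prod = g * (List.ofFn (fam a b c d ∘ (1 : Equiv.Perm (Fin 4)))).prod * g⁻¹ := by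
    simp only [List.ofFn_succ, List.ofFn_zero, Function.comp, List.prod_cons, List.prod_nil, ← h1,
      Equiv.Perm.one_apply]
    group
  rw [h2, h3] at h4
  exact h4.symm

theorem dvd (h : IsTet L s a b c d) [Finite F] :
    2 ^ 20 ∣ Nat.card ↥(F0 ⊓ Subgroup.centralizer ({s} : Set F)) := by
  have hi := fam_injective h
  refine dvd_trans ?_ (Subgroup.card_dvd_of_le (Nn_le (F0 := F0) h))
  have hch : ∀ g : Nn F0 (fam a b c d), ∃ σ : Equiv.Perm (Fin 4),
      ∀ i, (g : F) * fam a b c d i * (g : F)⁻¹ = fam a b c d (σ i) := fun g => g.2.2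
  choose ρ hρ using hch
  have huniq : ∀ (g : Nn F0 (fam a b c d)) (σ : Equiv.Perm (Fin 4)),
      (∀ i, (g : F) * fam a b c d i * (g : F)⁻¹ = fam a b c d (σ i)) → ρ g = σ := by
    intro g σ hσ
    ext i
    have h1 := hρ g i
    rw [hσ i] at h1
    exact congrArg Fin.val (hi h1).symm
  let f : Nn F0 (fam a b c d) →* Equiv.Perm (Fin 4) := MonoidHom.mk' ρ (by
    intro g k
    refine huniq _ _ (fun i => ?_)
    rw [Equiv.Perm.mul_apply, ← hρ g, ← hρ k]
    push_cast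
    group)
  have hf : Function.Surjective f := by
    intro σ
    obtain ⟨g, hg, h1⟩ := exists_perm H h σ
    exact ⟨⟨g, hg, σ, h1⟩, huniq _ σ h1⟩
  have hk : Nat.card f.ker = Nat.card ↥(C4 F0 a b c d) := by
    refine Nat.card_congr
      { toFun := fun g => ⟨((g : Nn F0 (fam a b c d)) : F), ?_⟩
        invFun := fun g => ⟨⟨g, ?_⟩, ?_⟩
        left_inv := fun g => rfl
        right_inv := fun g => rfl }
    · have h1 : ρ g = 1 := g.2
      have h2 := hρ g
      rw [h1] at h2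
      exact mem_C4.2 ⟨(g : Nn F0 (fam a b c d)).2.1, fix_iff.1 (h2 0), fix_iff.1 (h2 1), fix_iff.1 (h2 2),
        fix_iff.1 (h2 3)⟩
    · obtain ⟨h1, h2, h3, h4, h5⟩ := mem_C4.1 g.2
      refine ⟨h1, 1, fun i => ?_⟩
      fin_cases i
      · exact fix_iff.2 h2
      · exact fix_iff.2 h3
      · exact fix_iff.2 h4
      · exact fix_iff.2 h5
    · obtain ⟨h1, h2, h3, h4, h5⟩ := mem_C4.1 g.2
      refine MonoidHom.mem_ker.2 (huniq _ 1 (fun i => ?_))
      fin_cases i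
      · exact fix_iff.2 h2
      · exact fix_iff.2 h3
      · exact fix_iff.2 h4
      · exact fix_iff.2 h5
  have h1 : Nat.card (Nn F0 (fam a b c d)) = 24 * Nat.card ↥(C4 F0 a b c d) := by
    rw [Subgroup.card_eq_card_quotient_mul_card_subgroup f.ker, hk,
      Nat.card_congr (QuotientGroup.quotientKerEquivOfSurjective f hf).toEquiv, Nat.card_perm,
      Nat.card_eq_fintype_card, Fintype.card_fin]
    rfl
  rw [h1]
  obtain ⟨m, hm⟩ := dvd_C4 H h
  rw [hm]
  exact ⟨3 * m, by ring⟩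

end Cfsg.Agent.R08.TetBig
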