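import Cfsg.Agent.R08.TetFi24A
import Cfsg.Agent.R08.TetBig
import Cfsg.Agent.R01.Component

/-!
# The order of the centralizer of a tetrad involution of `Fi24'`  (S1735, piece (B))
-/

set_option autoImplicit false
set_option maxHeartbeats 400000

namespace Cfsg.Agent.R08.TetBigInst

open Cfsg Cfsg.Spor Cfsg.Agent.R01 Cfsg.Agent.R08.FiTwentyFour Cfsg.Agent.R08.TetFi24A

variable {a b : Fi24}

theorem ncard_two (P : At a b) :
    {c | c ∈ L ∧ c ≠ a ∧ c ≠ b ∧ Commute c a ∧ Commute c b}.ncard = 3510 := by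
  rw [← Fi22Facts.ncard_T]
  refine Set.ncard_congr (fun c hc => P.π (P.x (c := c) ⟨hc.1, hc.2.2.2.1, hc.2.2.2.2, hc.2.1, hc.2.2.1⟩))
    ?_ ?_ ?_
  · intro c hc
    exact P.π_mem _
  · intro c d hc hd h
    exact P.x_eq _ _ h
  · intro t ht
    obtain ⟨c, h, hc⟩ := P.exists_x ht
    exact ⟨c, ⟨h.hc, h.na, h.nb, h.ca, h.cb⟩, hc⟩

theorem ncard_three (P : At a b) {c : Fi24} (hc : Nb a b c) :
    {d | d ∈ L ∧ d ≠ a ∧ d ≠ b ∧ d ≠ c ∧ Commute d a ∧ Commute d b ∧ Commute d c}.ncard = 693 := by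
  rw [← Component.ncard_Nb Fischer.Unit22.hF (Component.labels_of_loc Fi22Facts.loc) (P.π_mem hc)]
  refine Set.ncard_congr (fun d hd => P.π (P.x (c := d)
    ⟨hd.1, hd.2.2.2.2.1, hd.2.2.2.2.2.1, hd.2.1, hd.2.2.1⟩)) ?_ ?_ ?_
  · intro d hd
    refine ⟨P.π_mem _, fun h => hd.2.2.2.1 (P.x_eq _ _ h), ?_⟩
    exact (P.comm_iff _ hc).2 hd.2.2.2.2.2.2
  · intro d e hd he h
    exact P.x_eq _ _ h
  · rintro t ⟨ht, hne, hcm⟩
    obtain ⟨d, h, rfl⟩ := P.exists_x ht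
    refine ⟨d, ⟨h.hc, h.na, h.nb, ?_, h.ca, h.cb, (P.comm_iff h hc).1 hcm⟩, rfl⟩
    rintro rfl
    exact hne rfl

theorem conj_x (P : At a b) {c c' : Fi24} (hc : Nb a b c) (hc' : Nb a b c') (y : Cab a b)
    (h : P.π y * P.π (P.x hc) * (P.π y)⁻¹ = P.π (P.x hc')) : (y : Fi24) * c * (y : Fi24)⁻¹ = c' := by
  obtain ⟨-, h1, h2⟩ := mem_Cab.1 y.2
  have hN : Nb a b ((y : Fi24) * c * (y : Fi24)⁻¹) := by
    have e1 : (y : Fi24) * a * (y : Fi24)⁻¹ = a := mul_inv_eq_iff_eq_mul.2 h1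
    have e2 : (y : Fi24) * b * (y : Fi24)⁻¹ = b := mul_inv_eq_iff_eq_mul.2 h2
    refine ⟨FiTwentyFour.conj hc.hc _, ?_, ?_, ?_, ?_⟩
    · have := TetBig.conj_comm (g := (y : Fi24)) hc.ca; rwa [e1] at this
    · have := TetBig.conj_comm (g := (y : Fi24)) hc.cb; rwa [e2] at this
    · have := TetBig.conj_ne (g := (y : Fi24)) hc.na; rwa [e1] at this
    · have := TetBig.conj_ne (g := (y : Fi24)) hc.nb; rwa [e2] at this
  refine P.x_eq hN hc' ?_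
  rw [← h, ← map_mul, ← map_inv, ← map_mul]
  congr 1
  apply Subtype.ext
  rw [P.coe_x]
  push_cast
  rw [P.coe_x, ← mul_assoc, ← mul_assoc, ← mul_assoc, h1]

theorem trans_four (P : At a b) {c d c' d' : Fi24} (hc : Nb a b c) (hd : Nb a b d) (hc' : Nb a b c')
    (hd' : Nb a b d') (hne : c ≠ d) (hne' : c' ≠ d') (hcd : Commute c d) (hcd' : Commute c' d') :
    ∃ g ∈ commutator Fi24, g * a * g⁻¹ = a ∧ g * b * g⁻¹ = b ∧ g * c * g⁻¹ = c' ∧ g * d * g⁻¹ = d' := by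
  obtain ⟨k, hk1, hk2⟩ := Fi22Facts.trans_commuting _ (P.π_mem hc) _ (P.π_mem hd) _ (P.π_mem hc') _
    (P.π_mem hd') (fun h => hne (P.x_eq _ _ h)) (fun h => hne' (P.x_eq _ _ h))
    ((P.comm_iff _ _).2 hcd) ((P.comm_iff _ _).2 hcd')
  obtain ⟨y, rfl⟩ := P.lift.ext.surj k
  obtain ⟨-, h1, h2⟩ := mem_Cab.1 y.2
  exact ⟨y, y.2.1, mul_inv_eq_iff_eq_mul.2 h1, mul_inv_eq_iff_eq_mul.2 h2, conj_x P hc hc' y hk1,
    conj_x P hd hd' y hk2⟩

theorem hyp : TetBig.Hyp L (commutator Fi24) where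
  conj _ ha g := FiTwentyFour.conj ha g
  n0 := ncard_L
  n1 _ ha := ncard_commuting ha
  n2 a ha b hb hne hab := by
    obtain ⟨P⟩ := exists_at ha hb hne hab
    exact ncard_two P
  n3 a ha b hb c hc hab hac hbc cab cac cbc := by
    obtain ⟨P⟩ := exists_at ha hb hab cab
    exact ncard_three P ⟨hc, cac.symm, cbc.symm, hac.symm, hbc.symm⟩
  trans2 a ha b hb a' ha' b' hb' hne hab hne' hab' := FiTwentyFour.trans2 ha hb ha' hb' hne hab hne' hab'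
  trans4 a ha b hb hne hab c hc d hd c' hc' d' hd' ca cb da db ca' cb' da' db' ncd ncd' h1 h2 h3 h4 h5 h6
    h7 h8 h9 h10 := by
    obtain ⟨P⟩ := exists_at ha hb hne hab
    exact trans_four P ⟨hc, h1, h2, ca, cb⟩ ⟨hd, h3, h4, da, db⟩ ⟨hc', h5, h6, ca', cb'⟩
      ⟨hd', h7, h8, da', db'⟩ ncd ncd' h9 h10
  card := by
    rw [card_commutator]
    norm_num

/-- `2 ^ 20` divides the order of the centralizer in `Fi24'` of the product of four different commuting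
transpositions. -/
theorem dvd {s a b c d : Fi24} (h : TetTwo.IsTet L s a b c d) :
    2 ^ 20 ∣ Nat.card ↥(commutator Spor.Fi24 ⊓ Subgroup.centralizer ({s} : Set Spor.Fi24)) := by
  have := finite_Fi24
  exact TetBig.dvd hyp h

end Cfsg.Agent.R08.TetBigInst
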