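import Mathlib
import Cfsg.Agent.R08.TetTwo

/-!
# The group generated by the products of mates
-/

set_option autoImplicit false

namespace Cfsg.Agent.R08.TetThree

open Cfsg.Agent.R08.TetBasic Cfsg.Agent.R08.TetTwo

variable {F : Type*} [Group F] {L : Set F} {s a b c d : F}

/-- The set of products of two different members of a tetrad of `s`. -/
def Pairs (L : Set F) (s : F) : Set F := {x | ∃ e f, Mate L s e f ∧ x = e * f}

theorem sq_pair (hT : Tr L) {e f : F} (he : e ∈ L) (hf : f ∈ L) (hc : Commute e f) :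
    (e * f) * (e * f) = 1 := by
  calc (e * f) * (e * f) = e * (f * e) * f := by group
    _ = e * (e * f) * f := by rw [hc.eq]
    _ = (e * e) * (f * f) := by group
    _ = 1 := by rw [hT.sq e he, hT.sq f hf, one_mul]

theorem inv_pair (hT : Tr L) {e f : F} (he : e ∈ L) (hf : f ∈ L) (hc : Commute e f) :
    (e * f)⁻¹ = e * f := inv_eq_of_mul_eq_one_left (sq_pair hT he hf hc)

theorem cj_pair (hT : Tr L) {e f : F} (he : e ∈ L) (hf : f ∈ L) (_ : Commute e f) (x : F) :
    (e * f) * x * (e * f)⁻¹ = e * (f * x * f) * e := by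
  rw [mul_inv_rev, hT.inv he, hT.inv hf]; group

theorem act_pair (hT : Tr L) {e f e3 e4 : F} (he : IsTet L s e f e3 e4) (h : IsTet L s a b c d) :
    Act (e * f) a b c d := by
  have hcj := cj_pair hT he.ha he.hb he.ab
  by_cases hc : Commute e a
  · -- everything commutes
    left
    have key : ∀ x, x ∈ L → Commute x s → Commute e x → (e * f) * x * (e * f)⁻¹ = x := by
      intro x hx hxs hex
      have h2 := (he.comm_of hT hx hxs hex.symm).1
      have : Commute (e * f) x := hex.mul_left h2.symm
      rw [this.eq]; group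
    obtain ⟨c1, c2, c3⟩ := h.comm_of hT he.ha he.comm_a hc
    exact ⟨key a h.ha h.comm_a hc, key b h.hb h.comm_b c1, key c h.hc h.comm_c c2, key d h.hd h.comm_d c3⟩
  · right
    have hb : ¬ Commute e b := fun x => hc (h.sw12.comm_of hT he.ha he.comm_a x).1
    have hcc : ¬ Commute e c := fun x => hc (h.sw13.comm_of hT he.ha he.comm_a x).2.1
    have hd : ¬ Commute e d := fun x => hc (h.sw14.comm_of hT he.ha he.comm_a x).2.2
    have ma := he.moves hT h hc
    have mb := he.moves hT h.sw12 hb
    have mc := he.moves hT h.sw13 hcc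
    have md := he.moves hT h.sw14 hd
    rw [← hcj] at ma mb mc md
    have inv : ∀ x y : F, (e * f) * x * (e * f)⁻¹ = y → (e * f) * y * (e * f)⁻¹ = x := by
      intro x y hxy
      have h1 : (e * f) * (e * f) = 1 := sq_pair hT he.ha he.hb he.ab
      rw [← hxy, show e * f * (e * f * x * (e * f)⁻¹) * (e * f)⁻¹ =
        ((e * f) * (e * f)) * x * ((e * f) * (e * f))⁻¹ by group, h1]; simp
    have inj : ∀ x y z : F, (e * f) * x * (e * f)⁻¹ = z → (e * f) * y * (e * f)⁻¹ = z → x = y := by
      intro x y z h1 h2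
      rw [← h2] at h1
      exact mul_left_cancel (mul_right_cancel h1)
    rcases ma with h1 | h1 | h1
    · -- a ↔ b
      left
      have h2 := inv _ _ h1
      rcases mc with h3 | h3 | h3
      · exact absurd (inj _ _ _ h1 h3) h.nac
      · exact absurd (inj _ _ _ h2 h3) h.nbc
      · exact ⟨h1, h2, h3, inv _ _ h3⟩
    · right; left
      have h2 := inv _ _ h1
      rcases mb with h3 | h3 | h3
      · exact absurd (inj _ _ _ h2 h3) h.nbc.symm
      · exact absurd (inj _ _ _ h1 h3) h.nab
      · exact ⟨h1, h2, h3, inv _ _ h3⟩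
    · right; right
      have h2 := inv _ _ h1
      rcases mb with h3 | h3 | h3
      · exact absurd (inj _ _ _ h2 h3) h.nbd.symm
      · exact ⟨h1, h2, h3, inv _ _ h3⟩
      · exact absurd (inj _ _ _ h1 h3) h.nab

/-- The group generated by the products of mates. -/
def Q (L : Set F) (s : F) : Subgroup F := Subgroup.closure (Pairs L s)

theorem Act.inv {v a b c d : F} (h : Act v a b c d) : Act v⁻¹ a b c d := by
  have key : ∀ x y : F, v * x * v⁻¹ = y → v⁻¹ * y * v⁻¹⁻¹ = x := by
    intro x y hxy
    rw [← hxy]; group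
  rcases h with ⟨v1, v2, v3, v4⟩ | ⟨v1, v2, v3, v4⟩ | ⟨v1, v2, v3, v4⟩ | ⟨v1, v2, v3, v4⟩
  · exact Or.inl ⟨key _ _ v1, key _ _ v2, key _ _ v3, key _ _ v4⟩
  · exact Or.inr (Or.inl ⟨key _ _ v2, key _ _ v1, key _ _ v4, key _ _ v3⟩)
  · exact Or.inr (Or.inr (Or.inl ⟨key _ _ v2, key _ _ v1, key _ _ v4, key _ _ v3⟩))
  · exact Or.inr (Or.inr (Or.inr ⟨key _ _ v2, key _ _ v1, key _ _ v4, key _ _ v3⟩))

theorem act_of_mem (hT : Tr L) {v : F} (hv : v ∈ Q L s) (h : IsTet L s a b c d) : Act v a b c d := by
  induction hv using Subgroup.closure_induction with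
  | mem x hx =>
    obtain ⟨e, f, ⟨e3, e4, he⟩, rfl⟩ := hx
    exact act_pair hT he h
  | one => exact Act.one _ _ _ _
  | mul x y _ _ hx hy => exact Act.mul hx hy
  | inv x _ hx => exact Act.inv hx

theorem comm_s_of_mem {v : F} (hv : v ∈ Q L s) : Commute v s := by
  induction hv using Subgroup.closure_induction with
  | mem x hx =>
    obtain ⟨e, f, ⟨e3, e4, he⟩, rfl⟩ := hx
    exact he.comm_a.mul_left he.comm_b
  | one => exact Commute.one_left _
  | mul x y _ _ hx hy => exact hx.mul_left hy
  | inv x _ hx => exact hx.inv_left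

theorem pair_mem {e f : F} (h : Mate L s e f) : e * f ∈ Q L s := Subgroup.subset_closure ⟨e, f, h, rfl⟩

/-- The complementary pair. -/
theorem compl_mem (hT : Tr L) {x : F} (hx : x ∈ Pairs L s) : s * x ∈ Pairs L s := by
  obtain ⟨e, f, ⟨e3, e4, he⟩, rfl⟩ := hx
  exact ⟨e3, e4, ⟨e, f, he.sw13.sw24⟩, (he.cd_eq hT).symm⟩

theorem s_mem (hT : Tr L) {e f : F} (h : Mate L s e f) : s ∈ Q L s := by
  have h1 : s * (e * f) ∈ Q L s := Subgroup.subset_closure (compl_mem hT ⟨e, f, h, rfl⟩)
  have h2 := (Q L s).mul_mem h1 (pair_mem h)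
  have h3 := h.mem
  rwa [mul_assoc, sq_pair hT h3.1 h3.2.1 h3.2.2.1, mul_one] at h2

/-- A pair is conjugate under `Q` only to itself and its complement. -/
theorem conj_pair (hT : Tr L) {v x : F} (hv : v ∈ Q L s) (hx : x ∈ Pairs L s) :
    v * x * v⁻¹ = x ∨ v * x * v⁻¹ = s * x := by
  obtain ⟨e, f, ⟨c, d, he⟩, rfl⟩ := hx
  have h1 : v * (e * f) * v⁻¹ = (v * e * v⁻¹) * (v * f * v⁻¹) := by group
  rw [h1, ← he.cd_eq hT]
  rcases act_of_mem hT hv he with ⟨h1, h2, _, _⟩ | ⟨h1, h2, _, _⟩ | ⟨h1, _, h2, _⟩ | ⟨h1, _, h2, _⟩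
  · left; rw [h1, h2]
  · left; rw [h1, h2, he.ab.eq]
  · right; rw [h1, h2]
  · right; rw [h1, h2, he.cd.eq]

/-- Commutators of elements of `Q` lie in `⟨s⟩`. -/
theorem conj_mem (hT : Tr L) {v u : F} (hv : v ∈ Q L s) (hu : u ∈ Q L s) :
    v * u * v⁻¹ = u ∨ v * u * v⁻¹ = s * u := by
  by_cases hne : (Pairs L s).Nonempty
  swap
  · rw [Set.not_nonempty_iff_eq_empty] at hne
    have : Q L s = ⊥ := by unfold Q; rw [hne]; simp
    rw [this] at hu
    rw [Subgroup.mem_bot.mp hu]; simp
  have hss : s * s = 1 := by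
    obtain ⟨_, _, _, ⟨_, _, h⟩, _⟩ := hne
    exact h.sq_s hT
  have hvs := comm_s_of_mem hv
  induction hu using Subgroup.closure_induction with
  | mem x hx => exact conj_pair hT hv hx
  | one => left; simp
  | mul x y hx hy ihx ihy =>
    have h1 : v * (x * y) * v⁻¹ = (v * x * v⁻¹) * (v * y * v⁻¹) := by group
    have hxs : Commute x s := comm_s_of_mem hx
    rcases ihx with e1 | e1 <;> rcases ihy with e2 | e2
    · left; rw [h1, e1, e2]
    · right; rw [h1, e1, e2, ← mul_assoc, hxs.eq, mul_assoc]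
    · right; rw [h1, e1, e2, mul_assoc]
    · left; rw [h1, e1, e2, show s * x * (s * y) = s * (x * s) * y by group, hxs.eq,
        show s * (s * x) * y = (s * s) * (x * y) by group, hss, one_mul]
  | inv x hx ih =>
    have h1 : v * x⁻¹ * v⁻¹ = (v * x * v⁻¹)⁻¹ := by group
    have hxs : Commute x s := comm_s_of_mem hx
    have hsi : s⁻¹ = s := inv_eq_of_mul_eq_one_left hss
    rcases ih with e1 | e1
    · left; rw [h1, e1]
    · right; rw [h1, e1, mul_inv_rev, hsi, hxs.inv_left.eq]

/-- Every subgroup of `Q` containing `s` is normalised by `Q`. -/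
theorem normal_of (hT : Tr L) {U : Subgroup F} (hU : U ≤ Q L s) (hs : s ∈ U) {v u : F} (hv : v ∈ Q L s)
    (hu : u ∈ U) : v * u * v⁻¹ ∈ U := by
  rcases conj_mem hT hv (hU hu) with h | h
  · rw [h]; exact hu
  · rw [h]; exact U.mul_mem hs hu

/-- Elements of the centraliser of `s` normalise `Q`. -/
theorem conj_pairs (hT : Tr L) {g x : F} (hg : Commute g s) (hx : x ∈ Pairs L s) :
    g * x * g⁻¹ ∈ Pairs L s := by
  obtain ⟨e, f, h, rfl⟩ := hx
  exact ⟨_, _, h.conj hT hg, by group⟩

theorem conj_Q (hT : Tr L) {g x : F} (hg : Commute g s) (hx : x ∈ Q L s) : g * x * g⁻¹ ∈ Q L s := by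
  induction hx using Subgroup.closure_induction with
  | mem x hx => exact Subgroup.subset_closure (conj_pairs hT hg hx)
  | one => simp
  | mul x y _ _ hx hy =>
    rw [show g * (x * y) * g⁻¹ = (g * x * g⁻¹) * (g * y * g⁻¹) by group]
    exact mul_mem hx hy
  | inv x _ hx =>
    rw [show g * x⁻¹ * g⁻¹ = (g * x * g⁻¹)⁻¹ by group]
    exact inv_mem hx

/-- Two commuting pairs whose product `s` is not a pair: the four factors form a tetrad. -/
theorem isTet_of (hT : Tr L) {e f g k : F} (he : e ∈ L) (hf : f ∈ L) (hg : g ∈ L) (hk : k ∈ L)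
    (hef : Commute e f) (hgk : Commute g k) (nef : e ≠ f) (ngk : g ≠ k)
    (hcc : Commute (e * f) (g * k)) (hs : e * f * (g * k) = s) (hs1 : s ≠ 1)
    (hsD : ∀ x ∈ L, ∀ y ∈ L, x ≠ y → Commute x y → s ≠ x * y) : IsTet L s e f g k := by
  have hm1 := hT.conj (e * f) g hg
  have hm2 := hT.conj (e * f) k hk
  have hcm : Commute ((e * f) * g * (e * f)⁻¹) ((e * f) * k * (e * f)⁻¹) :=
    hgk.map (MulAut.conj (e * f)).toMonoidHom
  have heq : g * k = ((e * f) * g * (e * f)⁻¹) * ((e * f) * k * (e * f)⁻¹) := by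
    rw [show e * f * g * (e * f)⁻¹ * (e * f * k * (e * f)⁻¹) = (e * f) * (g * k) * (e * f)⁻¹ by group,
      hcc.eq]; group
  rcases pair_unique hT hg hk hm1 hm2 hgk ngk hcm heq with ⟨h1, h2⟩ | ⟨h1, h2⟩
  · -- everything commutes
    have c1 : Commute g (e * f) := (mul_inv_eq_iff_eq_mul.mp h1).symm
    have c2 : Commute k (e * f) := (mul_inv_eq_iff_eq_mul.mp h2).symm
    obtain ⟨g1, g2⟩ := comm_of_comm_mul hT he hf hg hef nef c1
    obtain ⟨k1, k2⟩ := comm_of_comm_mul hT he hf hk hef nef c2
    have n1 : e ≠ g := by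
      rintro rfl
      have : s = f * k := by
        rw [← hs, hef.eq, show f * e * (e * k) = f * (e * e) * k by group, hT.sq e he, mul_one]
      by_cases hfk : f = k
      · rw [hfk, hT.sq k hk] at this; exact hs1 this
      · exact hsD f hf k hk hfk k2.symm this
    have n2 : e ≠ k := by
      rintro rfl
      have : s = f * g := by
        rw [← hs, hef.eq, hgk.eq, show f * e * (e * g) = f * (e * e) * g by group, hT.sq e he, mul_one]
      by_cases hfg : f = g
      · rw [hfg, hT.sq g hg] at this; exact hs1 this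
      · exact hsD f hf g hg hfg g2.symm this
    have n3 : f ≠ g := by
      rintro rfl
      have : s = e * k := by
        rw [← hs, show e * f * (f * k) = e * (f * f) * k by group, hT.sq f hf, mul_one]
      exact hsD e he k hk n2 k1.symm this
    have n4 : f ≠ k := by
      rintro rfl
      have : s = e * g := by
        rw [← hs, hgk.eq, show e * f * (f * g) = e * (f * f) * g by group, hT.sq f hf, mul_one]
      exact hsD e he g hg n1 g1.symm this
    exact ⟨he, hf, hg, hk, hef, g1.symm, k1.symm, g2.symm, k2.symm, hgk, nef, n1, n2, n3, n4, ngk,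
      by rw [← hs]; group⟩
  · -- `g^(ef) = k`
    exfalso
    have hcj := cj_pair hT he hf hef
    have h3 : e * (f * g * f) * e = k := by rw [← hcj]; exact h1
    have hng : ¬ Commute e g := by
      intro hc
      have h4 : k = f * g * f := by
        rw [← h3, show e * (f * g * f) * e = (e * f) * g * (f * e) by group, hef.eq,
          show f * e * g * (f * e) = f * (e * g) * (f * e) by group, hc.eq,
          show f * (g * e) * (f * e) = f * g * (e * (f * e)) by group, ← hef.eq, hT.cancel he]
      by_cases hfg : Commute f g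
      · rw [h4, hfg.eq, mul_assoc, hT.sq f hf, mul_one] at ngk
        exact ngk rfl
      · have hb := hT.braid hf hg hfg
        rw [h4, hb] at hgk
        apply hfg
        have h5 : g * (g * f * g) = g * f * g * g := hgk.eq
        rw [show g * (g * f * g) = (g * g) * (f * g) by group, hT.sq g hg, one_mul, mul_assoc, hT.sq g hg,
          mul_one] at h5
        exact h5
    have hnf : ¬ Commute f g := by
      intro hc
      have h4 : k = e * g * e := by
        rw [← h3, hc.eq, mul_assoc g f f, hT.sq f hf, mul_one]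
      have hb := hT.braid he hg hng
      rw [h4, hb] at hgk
      apply hng
      have h5 : g * (g * e * g) = g * e * g * g := hgk.eq
      rw [show g * (g * e * g) = (g * g) * (e * g) by group, hT.sq g hg, one_mul, mul_assoc, hT.sq g hg,
        mul_one] at h5
      exact h5
    have b1 := hT.braid he hg hng
    have b2 := hT.braid hf hg hnf
    have h6 : s = (g * f * g) * (g * e * g) := by
      rw [← hs, ← h3]
      calc e * f * (g * (e * (f * g * f) * e)) = e * f * (g * (e * (g * f * g) * e)) := by rw [b2]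
        _ = e * f * (g * e * g) * f * g * e := by group
        _ = e * f * (e * g * e) * f * g * e := by rw [b1]
        _ = e * (f * e) * g * (e * f) * g * e := by group
        _ = e * (e * f) * g * (f * e) * g * e := by rw [hef.eq]
        _ = (e * e) * (f * g * f) * (e * g * e) := by group
        _ = (f * g * f) * (e * g * e) := by rw [hT.sq e he, one_mul]
        _ = (g * f * g) * (g * e * g) := by rw [b1, b2]
    refine hsD _ (hT.cj hg hf) _ (hT.cj hg he) ?_ ?_ h6
    · intro h
      exact nef (mul_left_cancel (mul_right_cancel h)).symm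
    · have := hef.symm.map (MulAut.conj g).toMonoidHom
      simpa [hT.inv hg] using this

end Cfsg.Agent.R08.TetThree
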