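import Cfsg.Agent.R08.FrameAData

/-!
# R08, piece (0), Part A: the preimage of `3^4` in the triple cover is elementary abelian

`π : H → S` is surjective with kernel of order 3, `S` is perfect, `U : UData S`.  Then the kernel is central, and the
preimage `P` of the `3^4` is elementary abelian of order `3^5`.
-/

set_option autoImplicit false

namespace Cfsg.Agent.R08.FrameAGroup

open Cfsg.Agent.R08.FrameAData

variable {H S : Type*} [Group H] [Group S]

/-- the hypotheses -/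
structure Ext (π : H →* S) : Prop where
  surj : Function.Surjective π
  card : Nat.card π.ker = 3
  perf : commutator S = ⊤

variable {π : H →* S}

theorem Ext.exists_gen (E : Ext π) : ∃ n0 : H, π n0 = 1 ∧ n0 ≠ 1 ∧ n0 ^ 3 = 1 ∧
    ∀ n, π n = 1 → n = 1 ∨ n = n0 ∨ n = n0 ^ 2 := by
  have hp3 : Fact (Nat.Prime 3) := ⟨Nat.prime_three⟩
  have hfin : Finite π.ker := Nat.finite_of_card_ne_zero (by rw [E.card]; norm_num)
  obtain ⟨x, hx⟩ : ∃ x : π.ker, x ≠ 1 := by
    by_contra h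
    push Not at h
    have : Nat.card π.ker = 1 := Nat.card_eq_one_iff_unique.2 ⟨⟨fun a b => by rw [h a, h b]⟩, ⟨1⟩⟩
    rw [E.card] at this
    norm_num at this
  have ho : orderOf x = 3 := by
    have h1 : orderOf x ∣ 3 := by rw [← E.card]; exact orderOf_dvd_natCard x
    rcases (Nat.dvd_prime Nat.prime_three).1 h1 with h | h
    · exact absurd (orderOf_eq_one_iff.1 h) hx
    · exact h
  refine ⟨x, x.2, fun h => hx (Subtype.ext h), ?_, ?_⟩
  · have := pow_orderOf_eq_one x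
    rw [ho] at this
    exact congrArg Subtype.val this
  · intro n hn
    have htop : Subgroup.zpowers x = ⊤ := by
      apply Subgroup.eq_top_of_card_eq
      rw [Nat.card_zpowers, ho, E.card]
    have h1 : (⟨n, hn⟩ : π.ker) ∈ Subgroup.zpowers x := by rw [htop]; trivial
    classical
    rw [mem_zpowers_iff_mem_range_orderOf, ho, Finset.mem_image] at h1
    obtain ⟨k, hk, hk2⟩ := h1
    rw [Finset.mem_range] at hk
    have h2 := congrArg Subtype.val hk2
    interval_cases k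
    · left; exact h2.symm.trans (by simp)
    · right; left; exact h2.symm.trans (by simp)
    · right; right; exact h2.symm.trans (by simp)

/-- The kernel is central. -/
theorem Ext.central (E : Ext π) {n : H} (hn : π n = 1) (g : H) : g * n = n * g := by
  obtain ⟨n0, hn0, h1, h3, hall⟩ := E.exists_gen
  -- it suffices to treat `n0`
  suffices key : ∀ g : H, g * n0 = n0 * g by
    rcases hall n hn with rfl | rfl | rfl
    · rw [mul_one, one_mul]
    · exact key g
    · exact (show Commute g n0 from key g).pow_right 2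
  have hpm : ∀ g : H, g * n0 * g⁻¹ = n0 ∨ g * n0 * g⁻¹ = n0 ^ 2 := by
    intro g
    rcases hall (g * n0 * g⁻¹) (by rw [map_mul, map_mul, hn0, mul_one, map_inv, mul_inv_cancel])
      with h | h | h
    · exfalso; apply h1
      have : n0 = g⁻¹ * (g * n0 * g⁻¹) * g := by group
      rw [this, h]; group
    · exact Or.inl h
    · exact Or.inr h
  have h4 : (n0 ^ 2) ^ 2 = n0 := by
    rw [← pow_mul, show 2 * 2 = 3 + 1 from rfl, pow_succ, h3, one_mul]
  have hsq : ∀ g : H, g * n0 ^ 2 * g⁻¹ = (g * n0 * g⁻¹) ^ 2 := fun g => by rw [conj_pow]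
  let C : Subgroup H := Subgroup.centralizer {n0}
  have hC : ∀ g, g ∈ C ↔ g * n0 * g⁻¹ = n0 := by
    intro g
    rw [Subgroup.mem_centralizer_singleton_iff, mul_inv_eq_iff_eq_mul]
  have hcomm : commutator H ≤ C := by
    rw [commutator_def, Subgroup.commutator_le]
    intro a _ b _
    rw [hC, commutatorElement_def]
    have e : a * b * a⁻¹ * b⁻¹ * n0 * (a * b * a⁻¹ * b⁻¹)⁻¹ =
        a * (b * (a⁻¹ * (b⁻¹ * n0 * (b⁻¹)⁻¹) * (a⁻¹)⁻¹) * b⁻¹) * a⁻¹ := by group
    rw [e]
    have hinv : ∀ g : H, (g * n0 * g⁻¹ = n0 → g⁻¹ * n0 * (g⁻¹)⁻¹ = n0) ∧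
        (g * n0 * g⁻¹ = n0 ^ 2 → g⁻¹ * n0 * (g⁻¹)⁻¹ = n0 ^ 2) := by
      intro g
      constructor
      · intro h
        have : g⁻¹ * n0 * (g⁻¹)⁻¹ = g⁻¹ * (g * n0 * g⁻¹) * (g⁻¹)⁻¹ := by rw [h]
        rw [this]; group
      · intro h
        have h5 : g * n0 ^ 2 * g⁻¹ = n0 := by rw [hsq, h, h4]
        have : g⁻¹ * n0 * (g⁻¹)⁻¹ = g⁻¹ * (g * n0 ^ 2 * g⁻¹) * (g⁻¹)⁻¹ := by rw [h5]
        rw [this]; group
    rcases hpm a with ha | ha <;> rcases hpm b with hb | hb
    · rw [(hinv b).1 hb, (hinv a).1 ha, hb, ha]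
    · rw [(hinv b).2 hb, hsq a⁻¹, (hinv a).1 ha, hsq b, hb, h4, ha]
    · rw [(hinv b).1 hb, (hinv a).2 ha, hsq b, hb, hsq a, ha, h4]
    · rw [(hinv b).2 hb, hsq a⁻¹, (hinv a).2 ha, h4, hb, hsq a, ha, h4]
  have hker : π.ker ≤ C := by
    intro x hx
    rw [hC]
    rcases hall x hx with rfl | rfl | rfl
    · group
    · group
    · group
  have htop : C = ⊤ := by
    rw [eq_top_iff]
    intro g _
    have h5 : π g ∈ (commutator H).map π := by
      have h6 : (commutator H).map π = commutator S := by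
        rw [commutator_def, Subgroup.map_commutator, commutator_def]
        rw [← MonoidHom.range_eq_map, MonoidHom.range_eq_top.2 E.surj]
      rw [h6, E.perf]; trivial
    obtain ⟨c, hc, hcg⟩ := h5
    have h7 : c⁻¹ * g ∈ π.ker := by
      rw [MonoidHom.mem_ker, map_mul, map_inv, hcg, inv_mul_cancel]
    have : g = c * (c⁻¹ * g) := by group
    rw [this]
    exact C.mul_mem (hcomm hc) (hker h7)
  intro g
  have : g ∈ C := by rw [htop]; trivial
  exact Subgroup.mem_centralizer_singleton_iff.1 this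

/-! ### commutators -/

/-- logarithm of an element of the kernel -/
theorem Ext.exists_log (E : Ext π) : ∃ (n0 : H) (L : π.ker →* Multiplicative (ZMod 3)),
    π n0 = 1 ∧ n0 ≠ 1 ∧ n0 ^ 3 = 1 ∧ Function.Injective L := by
  obtain ⟨n0, hn0, h1, h3, hall⟩ := E.exists_gen
  have hp3 : Fact (Nat.Prime 3) := ⟨Nat.prime_three⟩
  have e : π.ker ≃* Multiplicative (ZMod 3) := by
    refine mulEquivOfPrimeCardEq (p := 3) E.card ?_
    rw [Nat.card_eq_fintype_card]; rfl
  exact ⟨n0, e.toMonoidHom, hn0, h1, h3, e.injective⟩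

variable (U : UData S)

/-- a lift -/
noncomputable def Ext.lift (E : Ext π) (U : UData S) (a : Fin 4 → ZMod 3) : H :=
  (E.surj (U.t a)).choose

theorem Ext.lift_spec (E : Ext π) (a : Fin 4 → ZMod 3) : π (E.lift U a) = U.t a :=
  (E.surj (U.t a)).choose_spec

theorem t_comm (a b : Fin 4 → ZMod 3) : U.t a * U.t b = U.t b * U.t a := by
  rw [← U.t_add, ← U.t_add, add_comm]

/-- commutator of two elements over `t a`, `t b`, as an element of the kernel -/
def cm (E : Ext π) (U : UData S) {x y : H} {a b : Fin 4 → ZMod 3} (hx : π x = U.t a)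
    (hy : π y = U.t b) : π.ker :=
  ⟨x * y * x⁻¹ * y⁻¹, by
    have _ := E
    rw [MonoidHom.mem_ker]
    simp only [map_mul, map_inv, hx, hy]
    rw [t_comm U a b]; group⟩

/-- the commutator depends only on the images -/
theorem Ext.cm_congr (E : Ext π) {x y x' y' : H} (hx : π x = π x') (hy : π y = π y') :
    x * y * x⁻¹ * y⁻¹ = x' * y' * x'⁻¹ * y'⁻¹ := by
  obtain ⟨n, hn, rfl⟩ : ∃ n, π n = 1 ∧ x = n * x' := ⟨x * x'⁻¹, by
    rw [map_mul, map_inv, hx, mul_inv_cancel], by group⟩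
  obtain ⟨m, hm, rfl⟩ : ∃ m, π m = 1 ∧ y = m * y' := ⟨y * y'⁻¹, by
    rw [map_mul, map_inv, hy, mul_inv_cancel], by group⟩
  have cn : ∀ g, g * n = n * g := E.central hn
  have cm : ∀ g, g * m = m * g := E.central hm
  have cn' : ∀ g, g * n⁻¹ = n⁻¹ * g := fun g => ((show Commute g n from cn g).inv_right).eq
  have cm' : ∀ g, g * m⁻¹ = m⁻¹ * g := fun g => ((show Commute g m from cm g).inv_right).eq
  calc n * x' * (m * y') * (n * x')⁻¹ * (m * y')⁻¹
      = n * (x' * m) * y' * (x'⁻¹ * n⁻¹) * (y'⁻¹ * m⁻¹) := by simp only [mul_inv_rev, mul_assoc]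
    _ = n * (m * x') * y' * (n⁻¹ * x'⁻¹) * (m⁻¹ * y'⁻¹) := by rw [cm, cn', cm']
    _ = n * ((m * x' * y') * n⁻¹) * x'⁻¹ * m⁻¹ * y'⁻¹ := by simp only [mul_assoc]
    _ = n * (n⁻¹ * (m * x' * y')) * x'⁻¹ * m⁻¹ * y'⁻¹ := by rw [cn']
    _ = m * ((x' * y' * x'⁻¹) * m⁻¹) * y'⁻¹ := by group
    _ = m * (m⁻¹ * (x' * y' * x'⁻¹)) * y'⁻¹ := by rw [cm']
    _ = x' * y' * x'⁻¹ * y'⁻¹ := by group

/-- the commutator form -/
noncomputable def Ext.c0 (E : Ext π) (U : UData S) (a b : Fin 4 → ZMod 3) : π.ker :=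
  cm E U (E.lift_spec U a) (E.lift_spec U b)

theorem Ext.c0_eq (E : Ext π) {x y : H} {a b : Fin 4 → ZMod 3} (hx : π x = U.t a) (hy : π y = U.t b) :
    ((E.c0 U a b : π.ker) : H) = x * y * x⁻¹ * y⁻¹ :=
  E.cm_congr (by rw [E.lift_spec, hx]) (by rw [E.lift_spec, hy])

theorem Ext.comm_mem (E : Ext π) {x y : H} {a b : Fin 4 → ZMod 3} (hx : π x = U.t a)
    (hy : π y = U.t b) : π (x * y * x⁻¹ * y⁻¹) = 1 := (cm E U hx hy).2

theorem Ext.c0_add_left (E : Ext π) (a a' b : Fin 4 → ZMod 3) :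
    E.c0 U (a + a') b = E.c0 U a b * E.c0 U a' b := by
  apply Subtype.ext
  set x := E.lift U a
  set x' := E.lift U a'
  set y := E.lift U b
  have hx : π x = U.t a := E.lift_spec U a
  have hx' : π x' = U.t a' := E.lift_spec U a'
  have hy : π y = U.t b := E.lift_spec U b
  have hxx : π (x * x') = U.t (a + a') := by rw [map_mul, hx, hx', U.t_add]
  rw [Subgroup.coe_mul, E.c0_eq U hxx hy, E.c0_eq U hx hy, E.c0_eq U hx' hy]
  have h1 := E.central (E.comm_mem U hx' hy) x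
  calc x * x' * y * (x * x')⁻¹ * y⁻¹ = (x * (x' * y * x'⁻¹ * y⁻¹)) * y * x⁻¹ * y⁻¹ := by group
    _ = (x' * y * x'⁻¹ * y⁻¹) * (x * y * x⁻¹ * y⁻¹) := by rw [h1]; group
    _ = (x * y * x⁻¹ * y⁻¹) * (x' * y * x'⁻¹ * y⁻¹) := (E.central (E.comm_mem U hx' hy) _).symm

theorem Ext.c0_symm (E : Ext π) (a b : Fin 4 → ZMod 3) : E.c0 U b a = (E.c0 U a b)⁻¹ := by
  apply Subtype.ext
  rw [Subgroup.coe_inv, E.c0_eq U (E.lift_spec U b) (E.lift_spec U a),
    E.c0_eq U (E.lift_spec U a) (E.lift_spec U b)]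
  group

theorem ker_comm (E : Ext π) (x y : π.ker) : x * y = y * x := Subtype.ext (E.central y.2 x)

theorem Ext.c0_add_right (E : Ext π) (a b b' : Fin 4 → ZMod 3) :
    E.c0 U a (b + b') = E.c0 U a b * E.c0 U a b' := by
  rw [E.c0_symm, E.c0_add_left, mul_inv_rev, ← E.c0_symm, ← E.c0_symm, ker_comm E]

theorem Ext.c0_conj (E : Ext π) {s : S} {g : (Fin 4 → ZMod 3) → (Fin 4 → ZMod 3)}
    (hs : ∀ a, s * U.t a * s⁻¹ = U.t (g a)) (a b : Fin 4 → ZMod 3) :
    E.c0 U (g a) (g b) = E.c0 U a b := by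
  obtain ⟨x, rfl⟩ := E.surj s
  apply Subtype.ext
  have ha := E.lift_spec U a
  have hb := E.lift_spec U b
  set p := E.lift U a
  set r := E.lift U b
  have h1 : π (x * p * x⁻¹) = U.t (g a) := by rw [map_mul, map_mul, map_inv, ha, hs]
  have h2 : π (x * r * x⁻¹) = U.t (g b) := by rw [map_mul, map_mul, map_inv, hb, hs]
  rw [E.c0_eq U h1 h2, E.c0_eq U ha hb]
  have h3 := E.central (E.comm_mem U ha hb) x
  calc x * p * x⁻¹ * (x * r * x⁻¹) * (x * p * x⁻¹)⁻¹ * (x * r * x⁻¹)⁻¹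
      = (x * (p * r * p⁻¹ * r⁻¹)) * x⁻¹ := by group
    _ = p * r * p⁻¹ * r⁻¹ := by rw [h3]; group

theorem zmod_ext {A : Type*} [AddMonoid A] (f g : ZMod 3 →+ A) (h : f 1 = g 1) : f = g := by
  refine AddMonoidHom.ext fun x => ?_
  have hx : x = x.val • (1 : ZMod 3) := by simp
  rw [hx, map_nsmul, map_nsmul, h]

theorem hom_ext {A : Type*} [AddCommMonoid A] (f g : (Fin 4 → ZMod 3) →+ A)
    (h : ∀ i, f (Pi.single i 1) = g (Pi.single i 1)) : f = g := by
  refine AddMonoidHom.functions_ext' _ _ _ fun i => ?_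
  exact zmod_ext _ _ (h i)

/-- biadditive forms on `F_3^4` -/
theorem form_zero (B : (Fin 4 → ZMod 3) → (Fin 4 → ZMod 3) → ZMod 3)
    (hl : ∀ a a' b, B (a + a') b = B a b + B a' b) (hr : ∀ a b b', B a (b + b') = B a b + B a b')
    (hs : ∀ a b, B b a = - B a b) (hh : ∀ a b, B (gh a) (gh b) = B a b)
    (hw : ∀ a b, B (gw a) (gw b) = B a b) (a b : Fin 4 → ZMod 3) : B a b = 0 := by
  set e : Fin 4 → (Fin 4 → ZMod 3) := fun i => Pi.single i 1 with he
  have w0 : gw (e 0) = e 2 := by decide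
  have w1 : gw (e 1) = e 1 := by decide
  have w2 : gw (e 2) = e 0 := by decide
  have w3 : gw (e 3) = e 3 + e 3 := by decide
  have h0 : gh (e 0) = e 2 := by decide
  have h1 : gh (e 1) = e 1 + e 1 + (e 2 + e 2) := by decide
  have h3 : gh (e 3) = e 2 + e 2 + e 3 := by decide
  have d2 : ∀ x : ZMod 3, x = -x → x = 0 := by decide
  have d3 : ∀ x : ZMod 3, x = x + x → x = 0 := by decide
  have b02 : B (e 0) (e 2) = 0 := by
    have := hw (e 0) (e 2)
    rw [w0, w2, hs] at this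
    exact d2 _ this.symm
  have b13 : B (e 1) (e 3) = 0 := by
    have := hw (e 1) (e 3)
    rw [w1, w3, hr] at this
    exact d3 _ this.symm
  have b22 : B (e 2) (e 2) = 0 := d2 _ (hs _ _)
  have b01 : B (e 0) (e 1) = - B (e 1) (e 2) := by
    have := hw (e 0) (e 1)
    rw [w0, w1, hs] at this
    exact this.symm
  have b12 : B (e 1) (e 2) = 0 := by
    have := hh (e 0) (e 1)
    rw [h0, h1, hr, hr, hr, b22, hs (e 1) (e 2), b01] at this
    generalize B (e 1) (e 2) = x at this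
    revert x; decide
  have b03 : B (e 0) (e 3) = B (e 2) (e 3) + B (e 2) (e 3) := by
    have := hw (e 0) (e 3)
    rw [w0, w3, hr] at this
    exact this.symm
  have b23 : B (e 2) (e 3) = 0 := by
    have := hh (e 0) (e 3)
    rw [h0, h3, hr, hr, b22, b03] at this
    generalize B (e 2) (e 3) = x at this
    revert x; decide
  have hb : ∀ i j, B (e i) (e j) = 0 := by
    rw [b12, neg_zero] at b01
    rw [b23, add_zero] at b03
    have hii : ∀ i, B (e i) (e i) = 0 := fun i => d2 _ (hs _ _)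
    have hsy : ∀ i j, B (e i) (e j) = 0 → B (e j) (e i) = 0 := fun i j h => by rw [hs, h, neg_zero]
    intro i j
    fin_cases i <;> fin_cases j
    · exact hii 0
    · exact b01
    · exact b02
    · exact b03
    · exact hsy _ _ b01
    · exact hii 1
    · exact b12
    · exact b13
    · exact hsy _ _ b02
    · exact hsy _ _ b12
    · exact hii 2
    · exact b23
    · exact hsy _ _ b03
    · exact hsy _ _ b13
    · exact hsy _ _ b23
    · exact hii 3
  let B' : (Fin 4 → ZMod 3) →+ (Fin 4 → ZMod 3) →+ ZMod 3 :=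
    AddMonoidHom.mk' (fun a => AddMonoidHom.mk' (B a) (hr a)) (fun a a' => by
      ext b
      simp only [AddMonoidHom.coe_comp, Function.comp_apply]
      exact hl a a' _)
  have hB : B' = 0 := by
    refine hom_ext _ _ fun i => ?_
    refine hom_ext _ _ fun j => ?_
    exact hb i j
  have := congrArg (fun f : (Fin 4 → ZMod 3) →+ (Fin 4 → ZMod 3) →+ ZMod 3 => f a b) hB
  exact this

/-- Elements over the `3^4` commute. -/
theorem Ext.commute (E : Ext π) {x y : H} {a b : Fin 4 → ZMod 3} (hx : π x = U.t a)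
    (hy : π y = U.t b) : x * y = y * x := by
  obtain ⟨n0, L, -, -, -, hL⟩ := E.exists_log
  have h := form_zero (fun a b => Multiplicative.toAdd (L (E.c0 U a b)))
    (fun a a' b => by rw [E.c0_add_left, map_mul, toAdd_mul])
    (fun a b b' => by rw [E.c0_add_right, map_mul, toAdd_mul])
    (fun a b => by rw [E.c0_symm U a b, map_inv, toAdd_inv])
    (fun a b => by rw [E.c0_conj U U.ch]) (fun a b => by rw [E.c0_conj U U.cw]) a b
  have h1 : L (E.c0 U a b) = 1 := h
  have h2 : E.c0 U a b = 1 := hL (h1.trans (map_one L).symm)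
  have h3 := E.c0_eq U hx hy
  rw [h2, Subgroup.coe_one] at h3
  calc x * y = (x * y * x⁻¹ * y⁻¹) * (y * x) := by group
    _ = y * x := by rw [← h3, one_mul]

theorem fn_zero (f : (Fin 4 → ZMod 3) → ZMod 3) (hf : ∀ a b, f (a + b) = f a + f b)
    (hh : ∀ a, f (gh a) = f a) (a : Fin 4 → ZMod 3) : f a = 0 := by
  set e : Fin 4 → (Fin 4 → ZMod 3) := fun i => Pi.single i 1 with he
  have h0 : gh (e 0) = e 2 := by decide
  have h1 : gh (e 1) = e 1 + e 1 + (e 2 + e 2) := by decide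
  have h2 : gh (e 2) = e 0 + (e 1 + e 1) + (e 2 + e 2) + e 3 := by decide
  have h3 : gh (e 3) = e 2 + e 2 + e 3 := by decide
  have k0 := hh (e 0)
  have k1 := hh (e 1)
  have k2 := hh (e 2)
  have k3 := hh (e 3)
  rw [h0] at k0
  rw [h1, hf, hf, hf] at k1
  rw [h2, hf, hf, hf, hf, hf] at k2
  rw [h3, hf, hf] at k3
  have key : ∀ x0 x1 x2 x3 : ZMod 3, x2 = x0 → x1 + x1 + (x2 + x2) = x1 →
      x0 + (x1 + x1) + (x2 + x2) + x3 = x2 → x2 + x2 + x3 = x3 → x0 = 0 ∧ x1 = 0 ∧ x2 = 0 ∧ x3 = 0 := by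
    decide
  obtain ⟨r0, r1, r2, r3⟩ := key _ _ _ _ k0 k1 k2 k3
  have hF : AddMonoidHom.mk' f hf = 0 := by
    refine hom_ext _ _ fun i => ?_
    fin_cases i
    · exact r0
    · exact r1
    · exact r2
    · exact r3
  exact congrArg (fun g : (Fin 4 → ZMod 3) →+ ZMod 3 => g a) hF

/-- Elements over the `3^4` have exponent 3. -/
theorem Ext.cube (E : Ext π) {x : H} {a : Fin 4 → ZMod 3} (hx : π x = U.t a) : x ^ 3 = 1 := by
  obtain ⟨n0, L, hn0, -, hn3, hL⟩ := E.exists_log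
  have t3 : ∀ a, U.t a ^ 3 = 1 := by
    intro a
    have h0 : U.t 0 = 1 := by
      have := U.t_add 0 0
      rw [add_zero] at this
      exact (left_eq_mul.1 this)
    have h3 : a + a + a = 0 := by
      ext i
      show a i + a i + a i = 0
      generalize a i = y
      revert y; decide
    rw [pow_succ, pow_two, ← U.t_add, ← U.t_add, h3, h0]
  have n3 : ∀ n, π n = 1 → n ^ 3 = 1 := by
    intro n hn
    have h1 : (⟨n, hn⟩ : π.ker) ^ 3 = 1 := by
      rw [← E.card]; exact pow_card_eq_one'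
    exact congrArg Subtype.val h1
  have hcon : ∀ {x y : H}, π x = π y → x ^ 3 = y ^ 3 := by
    intro x y h
    obtain ⟨n, hn, rfl⟩ : ∃ n, π n = 1 ∧ x = y * n := ⟨y⁻¹ * x, by
      rw [map_mul, map_inv, h, inv_mul_cancel], by group⟩
    have hc : Commute y n := E.central hn y
    rw [hc.mul_pow, n3 n hn, mul_one]
  let K : (Fin 4 → ZMod 3) → π.ker := fun a => ⟨E.lift U a ^ 3, by
    rw [MonoidHom.mem_ker, map_pow, E.lift_spec, t3]⟩
  have hK : ∀ {x : H} {a : Fin 4 → ZMod 3}, π x = U.t a → ((K a : π.ker) : H) = x ^ 3 := by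
    intro x a hx
    exact hcon (by rw [E.lift_spec, hx])
  have h := fn_zero (fun a => Multiplicative.toAdd (L (K a)))
    (fun a b => by
      rw [← toAdd_mul, ← map_mul]
      congr 2
      apply Subtype.ext
      have h1 : π (E.lift U a * E.lift U b) = U.t (a + b) := by
        rw [map_mul, E.lift_spec, E.lift_spec, U.t_add]
      rw [hK h1, Subgroup.coe_mul, hK (E.lift_spec U a), hK (E.lift_spec U b)]
      exact (show Commute _ _ from E.commute U (E.lift_spec U a) (E.lift_spec U b)).mul_pow 3)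
    (fun a => by
      congr 2
      apply Subtype.ext
      obtain ⟨y, hy⟩ := E.surj U.h
      have h1 : π (y * E.lift U a * y⁻¹) = U.t (gh a) := by
        rw [map_mul, map_mul, map_inv, E.lift_spec, hy, U.ch]
      rw [hK h1, conj_pow, hK (E.lift_spec U a)]
      have h2 : π (E.lift U a ^ 3) = 1 := by rw [map_pow, E.lift_spec, t3]
      rw [E.central h2 y]; group) a
  have h1 : L (K a) = 1 := h
  have h2 : K a = 1 := hL (h1.trans (map_one L).symm)
  rw [← hK hx, h2]; rfl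

/-- the preimage of the `3^4` -/
def PP (E : Ext π) (U : UData S) : Subgroup H where
  carrier := {x | ∃ a, π x = U.t a}
  one_mem' := ⟨0, by
    have _ := E
    have := U.t_add 0 0
    rw [add_zero] at this
    rw [map_one]; exact (left_eq_mul.1 this).symm⟩
  mul_mem' := by
    rintro x y ⟨a, ha⟩ ⟨b, hb⟩
    exact ⟨a + b, by rw [map_mul, ha, hb, U.t_add]⟩
  inv_mem' := by
    rintro x ⟨a, ha⟩
    refine ⟨-a, ?_⟩
    have h0 : U.t 0 = 1 := by
      have := U.t_add 0 0
      rw [add_zero] at this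
      exact (left_eq_mul.1 this)
    rw [map_inv, ha]
    rw [inv_eq_iff_mul_eq_one, ← U.t_add, add_neg_cancel, h0]

theorem mem_PP (E : Ext π) {x : H} : x ∈ PP E U ↔ ∃ a, π x = U.t a := Iff.rfl

theorem Ext.t_inj (U : UData S) {a b : Fin 4 → ZMod 3} (h : U.t a = U.t b) : a = b := by
  have h0 : U.t 0 = 1 := by
    have := U.t_add 0 0
    rw [add_zero] at this
    exact (left_eq_mul.1 this)
  have h1 : U.t (a - b) * U.t b = U.t b := by rw [← U.t_add, sub_add_cancel, h]
  exact sub_eq_zero.1 (U.inj _ (mul_eq_right.1 h1))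

theorem Ext.ker_le (E : Ext π) : π.ker ≤ PP E U := by
  intro x hx
  have h0 : U.t 0 = 1 := by
    have := U.t_add 0 0
    rw [add_zero] at this
    exact (left_eq_mul.1 this)
  exact ⟨0, by rw [h0]; exact hx⟩

theorem Ext.card_PP [Finite H] (E : Ext π) : 243 ≤ Nat.card (PP E U) := by
  let f : (Fin 4 → ZMod 3) × π.ker → PP E U := fun x =>
    ⟨E.lift U x.1 * x.2, x.1, by
      have : π (x.2 : H) = 1 := x.2.2
      rw [map_mul, this, mul_one, E.lift_spec]⟩
  have hf : Function.Injective f := by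
    rintro ⟨a, n⟩ ⟨b, m⟩ h
    have h1 : E.lift U a * n = E.lift U b * m := congrArg Subtype.val h
    have h2 : a = b := by
      apply Ext.t_inj U
      have h3 := congrArg π h1
      have hn : π (n : H) = 1 := n.2
      have hm : π (m : H) = 1 := m.2
      rwa [map_mul, map_mul, hn, hm, mul_one, mul_one, E.lift_spec, E.lift_spec] at h3
    subst h2
    rw [mul_right_inj] at h1
    exact Prod.ext rfl (Subtype.ext h1)
  have := Nat.card_le_card_of_injective f hf
  have h4 : Nat.card ((Fin 4 → ZMod 3) × π.ker) = 243 := by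
    rw [Nat.card_prod, E.card, Nat.card_eq_fintype_card]
    rfl
  rwa [h4] at this

theorem Ext.mem_normalizer [Finite H] (E : Ext π) {x : H} {g : (Fin 4 → ZMod 3) → (Fin 4 → ZMod 3)}
    (hx : ∀ a, π x * U.t a * (π x)⁻¹ = U.t (g a)) : x ∈ Subgroup.normalizer (PP E U : Set H) := by
  apply Subgroup.mem_normalizer_fintype
  rintro n ⟨a, ha⟩
  exact ⟨g a, by rw [map_mul, map_mul, map_inv, ha, hx]⟩

theorem Ext.notMem_centralizer (E : Ext π) {x : H} {g : (Fin 4 → ZMod 3) → (Fin 4 → ZMod 3)}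
    (hx : ∀ a, π x * U.t a * (π x)⁻¹ = U.t (g a)) {a : Fin 4 → ZMod 3} (ha : g a ≠ a) :
    x ∉ Subgroup.centralizer (PP E U : Set H) := by
  intro h
  apply ha
  apply Ext.t_inj U
  have h1 := Subgroup.mem_centralizer_iff.1 h (E.lift U a) ⟨a, E.lift_spec U a⟩
  have h2 := congrArg π h1
  rw [map_mul, map_mul, E.lift_spec] at h2
  rw [← hx, ← h2]; group

/-! ### divisibility in finite groups -/

section dvd

variable {K : Type*} [Group K] [Finite K]

theorem pow_dvd_card {p n m : ℕ} [Fact p.Prime] {a b : K} (ha : orderOf a = p ^ n)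
    (hb : orderOf b = p ^ m) (hab : b * a * b⁻¹ ∈ Subgroup.zpowers a) (hb' : b ∉ Subgroup.zpowers a) :
    p ^ (n + 1) ∣ Nat.card K := by
  have h1 : b ∈ Subgroup.normalizer (Subgroup.zpowers a : Set K) := by
    apply Subgroup.mem_normalizer_fintype
    intro x hx
    obtain ⟨k, rfl⟩ := Subgroup.mem_zpowers_iff.1 hx
    have e : b * a ^ k * b⁻¹ = (b * a * b⁻¹) ^ k := by rw [conj_zpow]
    rw [e]
    exact (Subgroup.zpowers a).zpow_mem hab k
  have h2 : Subgroup.zpowers b ≤ Subgroup.normalizer (Subgroup.zpowers a : Set K) :=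
    Subgroup.zpowers_le.2 h1
  have hA : IsPGroup p (Subgroup.zpowers a) := IsPGroup.of_card (n := n) (by rw [Nat.card_zpowers, ha])
  have hB : IsPGroup p (Subgroup.zpowers b) := IsPGroup.of_card (n := m) (by rw [Nat.card_zpowers, hb])
  have hAB := hB.to_sup_of_normal_right' hA h2
  obtain ⟨k, hk⟩ := IsPGroup.iff_card.1 hAB
  have h3 : Subgroup.zpowers a < Subgroup.zpowers b ⊔ Subgroup.zpowers a := by
    refine lt_of_le_of_ne le_sup_right fun h => hb' ?_
    rw [h]
    exact (le_sup_left : Subgroup.zpowers b ≤ _) (Subgroup.mem_zpowers b)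
  have h4 : Nat.card (Subgroup.zpowers a) < Nat.card (Subgroup.zpowers b ⊔ Subgroup.zpowers a : Subgroup K) := by
    exact Set.Finite.card_lt_card (Set.toFinite _) (SetLike.coe_ssubset_coe.2 h3)
  rw [hk, Nat.card_zpowers, ha] at h4
  have h5 : n < k := (Nat.pow_lt_pow_iff_right (Fact.out : p.Prime).one_lt).1 h4
  have h6 : p ^ (n + 1) ∣ p ^ k := pow_dvd_pow p h5
  rw [← hk] at h6
  exact h6.trans (Subgroup.card_subgroup_dvd_card _)

theorem card_dvd_360 {h d w s1 s2 : K} (h5 : h ^ 5 = 1) (h1 : h ≠ 1) (d4 : d ^ 4 = 1) (d2 : d ^ 2 ≠ 1)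
    (w2 : w ^ 2 = 1) (wd : w * d * w⁻¹ = d⁻¹) (hw : ∀ i : Fin 4, w ≠ d ^ (i : ℕ))
    (s13 : s1 ^ 3 = 1) (s23 : s2 ^ 3 = 1) (s12 : s2 * s1 * s2⁻¹ = s1) (s1' : s1 ≠ 1)
    (hs : ∀ i : Fin 3, s2 ≠ s1 ^ (i : ℕ)) : 360 ∣ Nat.card K := by
  have p5 : Fact (Nat.Prime 5) := ⟨by norm_num⟩
  have p3 : Fact (Nat.Prime 3) := ⟨Nat.prime_three⟩
  have p2 : Fact (Nat.Prime 2) := ⟨Nat.prime_two⟩
  have o5 : orderOf h = 5 := orderOf_eq_prime h5 h1
  have a5 : 5 ∣ Nat.card K := o5 ▸ orderOf_dvd_natCard h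
  have o3 : orderOf s1 = 3 ^ 1 := orderOf_eq_prime s13 s1'
  have o3' : orderOf s2 = 3 ^ 1 := orderOf_eq_prime s23 (by have := hs 0; simpa using this)
  have a9 : 3 ^ (1 + 1) ∣ Nat.card K := by
    refine pow_dvd_card o3 o3' (by rw [s12]; exact Subgroup.mem_zpowers _) fun hm => ?_
    classical
    rw [mem_zpowers_iff_mem_range_orderOf, o3, Finset.mem_image] at hm
    obtain ⟨k, hk, hk2⟩ := hm
    rw [Finset.mem_range] at hk
    exact hs ⟨k, hk⟩ hk2.symm
  have o4 : orderOf d = 2 ^ 2 := orderOf_eq_prime_pow (by simpa using d2) (by simpa using d4)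
  have ow : orderOf w = 2 ^ 1 := orderOf_eq_prime w2 (by have := hw 0; simpa using this)
  have a8 : 2 ^ (2 + 1) ∣ Nat.card K := by
    refine pow_dvd_card o4 ow (by rw [wd]; exact Subgroup.inv_mem _ (Subgroup.mem_zpowers _))
      fun hm => ?_
    classical
    rw [mem_zpowers_iff_mem_range_orderOf, o4, Finset.mem_image] at hm
    obtain ⟨k, hk, hk2⟩ := hm
    rw [Finset.mem_range] at hk
    exact hw ⟨k, hk⟩ hk2.symm
  have b1 : 8 * 9 ∣ Nat.card K := Nat.Coprime.mul_dvd_of_dvd_of_dvd (by norm_num) a8 a9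
  have b2 : 8 * 9 * 5 ∣ Nat.card K := Nat.Coprime.mul_dvd_of_dvd_of_dvd (by norm_num) b1 a5
  exact b2

end dvd

theorem gh_ne : ∃ a, gh a ≠ a := ⟨![1, 0, 0, 0], by decide⟩
theorem gd2_ne : ∃ a, gd (gd a) ≠ a := ⟨![0, 1, 0, 0], by decide⟩
theorem g1_ne : ∃ a, g1 a ≠ a := ⟨![0, 0, 0, 1], by decide⟩
theorem gw_ne : ∀ i : Fin 4, ∃ a, gw a ≠ (gd^[(i : ℕ)]) a := by decide
theorem g2_ne' : ∀ i : Fin 3, ∃ a, g2 a ≠ (g1^[(i : ℕ)]) a := by decide

theorem conj_iter {U : UData S} {x : S} {g : (Fin 4 → ZMod 3) → (Fin 4 → ZMod 3)}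
    (hx : ∀ a, x * U.t a * x⁻¹ = U.t (g a)) (n : ℕ) (a : Fin 4 → ZMod 3) :
    x ^ n * U.t a * (x ^ n)⁻¹ = U.t ((g^[n]) a) := by
  induction n generalizing a with
  | zero => simp
  | succ n ih =>
    rw [Function.iterate_succ_apply, ← ih, ← hx, pow_succ]; group

/-- The group of automorphisms of `P` induced by the normaliser has order divisible by 360. -/
theorem Ext.dvd [Finite H] (E : Ext π) : 360 ∣ Nat.card (PP E U).normalizerMonoidHom.range := by
  obtain ⟨h, hh⟩ := E.surj U.h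
  obtain ⟨d, hd⟩ := E.surj U.d
  obtain ⟨w, hw⟩ := E.surj U.w
  obtain ⟨s1, hs1⟩ := E.surj U.s1
  obtain ⟨s2, hs2⟩ := E.surj U.s2
  have ch : ∀ a, π h * U.t a * (π h)⁻¹ = U.t (gh a) := by rw [hh]; exact U.ch
  have cd : ∀ a, π d * U.t a * (π d)⁻¹ = U.t (gd a) := by rw [hd]; exact U.cd
  have cw : ∀ a, π w * U.t a * (π w)⁻¹ = U.t (gw a) := by rw [hw]; exact U.cw
  have c1 : ∀ a, π s1 * U.t a * (π s1)⁻¹ = U.t (g1 a) := by rw [hs1]; exact U.c1
  have c2 : ∀ a, π s2 * U.t a * (π s2)⁻¹ = U.t (g2 a) := by rw [hs2]; exact U.c2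
  let φ := (PP E U).normalizerMonoidHom.rangeRestrict
  have h1 : ∀ x : Subgroup.normalizer (PP E U : Set H), φ x = 1 ↔
      (x : H) ∈ Subgroup.centralizer (PP E U : Set H) := by
    intro x
    rw [← MonoidHom.mem_ker, MonoidHom.ker_rangeRestrict, Subgroup.normalizerMonoidHom_ker]
    exact Subgroup.mem_subgroupOf
  have hker : ∀ x : Subgroup.normalizer (PP E U : Set H), π (x : H) = 1 → φ x = 1 := by
    intro x hx
    rw [h1, Subgroup.mem_centralizer_iff]
    intro y _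
    exact E.central hx y
  have key : ∀ (x y : Subgroup.normalizer (PP E U : Set H))
      {g g' : (Fin 4 → ZMod 3) → (Fin 4 → ZMod 3)}
      (_ : ∀ a, π (x : H) * U.t a * (π (x : H))⁻¹ = U.t (g a))
      (_ : ∀ a, π (y : H) * U.t a * (π (y : H))⁻¹ = U.t (g' a)) (_ : ∃ a, g a ≠ g' a), φ x ≠ φ y := by
    intro x y g g' hx hy ha hxy
    obtain ⟨a, ha⟩ := ha
    apply ha
    apply Ext.t_inj U
    have h2 : φ (y⁻¹ * x) = 1 := by rw [map_mul, map_inv, hxy, inv_mul_cancel]
    rw [h1, Subgroup.mem_centralizer_iff] at h2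
    have h3 := h2 (E.lift U a) ⟨a, E.lift_spec U a⟩
    have h4 := congrArg π h3
    rw [map_mul, map_mul, E.lift_spec] at h4
    have h5 : π ((y⁻¹ * x : Subgroup.normalizer (PP E U : Set H)) : H) = (π (y : H))⁻¹ * π (x : H) := by
      rw [← map_inv, ← map_mul]; rfl
    rw [h5] at h4
    rw [← hx, ← hy]
    calc π (x : H) * U.t a * (π (x : H))⁻¹
        = π (y : H) * ((π (y : H))⁻¹ * π (x : H) * U.t a) * (π (x : H))⁻¹ := by group
      _ = π (y : H) * U.t a * (π (y : H))⁻¹ := by rw [← h4]; group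
  let nh : Subgroup.normalizer (PP E U : Set H) := ⟨h, E.mem_normalizer U ch⟩
  let nd : Subgroup.normalizer (PP E U : Set H) := ⟨d, E.mem_normalizer U cd⟩
  let nw : Subgroup.normalizer (PP E U : Set H) := ⟨w, E.mem_normalizer U cw⟩
  let n1 : Subgroup.normalizer (PP E U : Set H) := ⟨s1, E.mem_normalizer U c1⟩
  let n2 : Subgroup.normalizer (PP E U : Set H) := ⟨s2, E.mem_normalizer U c2⟩
  have one : ∀ a, π ((1 : Subgroup.normalizer (PP E U : Set H)) : H) * U.t a *
      (π ((1 : Subgroup.normalizer (PP E U : Set H)) : H))⁻¹ = U.t (id a) := by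
    intro a
    rw [Subgroup.coe_one, map_one]; simp
  refine card_dvd_360 (h := φ nh) (d := φ nd) (w := φ nw) (s1 := φ n1) (s2 := φ n2) ?_ ?_ ?_ ?_ ?_ ?_
    ?_ ?_ ?_ ?_ ?_ ?_
  · rw [← map_pow]
    apply hker
    show π (h ^ 5) = 1
    rw [map_pow, hh, U.h5]
  · have := key nh 1 ch one gh_ne
    rwa [map_one] at this
  · rw [← map_pow]
    apply hker
    show π (d ^ 4) = 1
    rw [map_pow, hd, U.d4]
  · have := key (nd ^ 2) 1 (g := gd^[2]) (fun a => by
      have e : π ((nd ^ 2 : Subgroup.normalizer (PP E U : Set H)) : H) = π d ^ 2 := by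
        rw [← map_pow]; rfl
      rw [e]; exact conj_iter cd 2 a) one gd2_ne
    rwa [map_one, map_pow] at this
  · rw [← map_pow]
    apply hker
    show π (w ^ 2) = 1
    rw [map_pow, hw, U.w2]
  · rw [← map_mul, ← map_inv, ← map_mul, ← map_inv]
    rw [← mul_inv_eq_one, ← map_inv, ← map_mul]
    apply hker
    show π (w * d * w⁻¹ * d⁻¹⁻¹) = 1
    rw [map_mul, map_mul, map_mul, map_inv, map_inv, map_inv, hw, hd, U.wd, mul_inv_cancel]
  · intro i
    rw [← map_pow]
    refine key nw (nd ^ (i : ℕ)) cw (g' := gd^[(i : ℕ)]) (fun a => ?_) (gw_ne i)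
    have e : π ((nd ^ (i : ℕ) : Subgroup.normalizer (PP E U : Set H)) : H) = π d ^ (i : ℕ) := by
      rw [← map_pow]; rfl
    rw [e]; exact conj_iter cd _ a
  · rw [← map_pow]
    apply hker
    show π (s1 ^ 3) = 1
    rw [map_pow, hs1, U.s13]
  · rw [← map_pow]
    apply hker
    show π (s2 ^ 3) = 1
    rw [map_pow, hs2, U.s23]
  · rw [← map_mul, ← map_inv, ← map_mul]
    rw [← mul_inv_eq_one, ← map_inv, ← map_mul]
    apply hker
    show π (s2 * s1 * s2⁻¹ * s1⁻¹) = 1
    rw [map_mul, map_mul, map_mul, map_inv, map_inv, hs1, hs2, ← U.s12]; group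
  · have := key n1 1 c1 one g1_ne
    rwa [map_one] at this
  · intro i
    rw [← map_pow]
    refine key n2 (n1 ^ (i : ℕ)) c2 (g' := g1^[(i : ℕ)]) (fun a => ?_) (g2_ne' i)
    have e : π ((n1 ^ (i : ℕ) : Subgroup.normalizer (PP E U : Set H)) : H) = π s1 ^ (i : ℕ) := by
      rw [← map_pow]; rfl
    rw [e]; exact conj_iter c1 _ a

/-- homomorphisms to abelian groups which kill the kernel are trivial -/
theorem Ext.hom_eq_one (E : Ext π) {A : Type*} [CommGroup A] (f : H →* A)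
    (hf : ∀ n, π n = 1 → f n = 1) (g : H) : f g = 1 := by
  have h5 : π g ∈ (commutator H).map π := by
    have h6 : (commutator H).map π = commutator S := by
      rw [commutator_def, Subgroup.map_commutator, commutator_def]
      rw [← MonoidHom.range_eq_map, MonoidHom.range_eq_top.2 E.surj]
    rw [h6, E.perf]; trivial
  obtain ⟨c, hc, hcg⟩ := h5
  have h7 : π (c⁻¹ * g) = 1 := by
    rw [map_mul, map_inv, hcg, inv_mul_cancel]
  have h8 : f c = 1 := MonoidHom.mem_ker.1 (Abelianization.commutator_subset_ker f hc)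
  have : g = c * (c⁻¹ * g) := by group
  rw [this, map_mul, h8, hf _ h7, one_mul]

/-- what is used about `P = 3^(1+4)` in `H` -/
structure Input {H : Type*} [Group H] (P : Subgroup H) (n0 : H) : Prop where
  comm : ∀ x ∈ P, ∀ y ∈ P, x * y = y * x
  cube : ∀ x ∈ P, x ^ 3 = 1
  mem : n0 ∈ P
  ne : n0 ≠ 1
  cent : ∀ g, g * n0 = n0 * g
  card : 243 ≤ Nat.card P
  dvd : 360 ∣ Nat.card P.normalizerMonoidHom.range
  homs : ∀ {A : Type} [CommGroup A] (f : H →* A), f n0 = 1 → ∀ g, f g = 1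

theorem Ext.input [Finite H] (E : Ext π) (U : UData S) {n0 : H} (hn : π n0 = 1) (h1 : n0 ≠ 1)
    (hall : ∀ n, π n = 1 → n = 1 ∨ n = n0 ∨ n = n0 ^ 2) : Input (PP E U) n0 where
  comm := by
    rintro x ⟨a, ha⟩ y ⟨b, hb⟩
    exact E.commute U ha hb
  cube := by
    rintro x ⟨a, ha⟩
    exact E.cube U ha
  mem := E.ker_le U hn
  ne := h1
  cent := fun g => E.central hn g
  card := E.card_PP U
  dvd := E.dvd U
  homs := fun f hf g => E.hom_eq_one f (fun n hn' => by
    rcases hall n hn' with rfl | rfl | rfl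
    · exact map_one f
    · exact hf
    · rw [map_pow, hf, one_pow]) g

end Cfsg.Agent.R08.FrameAGroup
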