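import Mathlib

/-!
# R08, piece (0), Part A: weights of an abelian group of exponent 3 on an elementary abelian 2-group

`P` is a finite abelian group with `p ^ 3 = 1`, acting on `V`, where `v + v = 0`.  For a subgroup `W` of index 3
(a hyperplane) `Comp W` is the set of vectors fixed by `W` on which `P / W` acts without fixed points
(`v + p v + p² v = 0` for `p ∉ W`).  The sum of the `Comp W` is direct, and together with the fixed points of `P`
they generate `V`.
-/

set_option autoImplicit false

namespace Cfsg.Agent.R08.FrameAWeights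

open Finset

variable {P : Type*} [CommGroup P] {V : Type*} [AddCommGroup V] [DistribMulAction P V]

/-- The vectors with weight `W`. -/
def Comp (V : Type*) [AddCommGroup V] [DistribMulAction P V] (W : Subgroup P) : AddSubgroup V where
  carrier := {v | (∀ w ∈ W, w • v = v) ∧ ∀ p : P, p ∉ W → v + p • v + (p * p) • v = 0}
  zero_mem' := by
    refine ⟨fun w _ => smul_zero w, fun p _ => ?_⟩
    rw [smul_zero, smul_zero, add_zero, add_zero]
  add_mem' := by
    rintro u v ⟨hu1, hu2⟩ ⟨hv1, hv2⟩
    refine ⟨fun w hw => by rw [smul_add, hu1 w hw, hv1 w hw], fun p hp => ?_⟩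
    have : u + v + p • (u + v) + (p * p) • (u + v) =
        (u + p • u + (p * p) • u) + (v + p • v + (p * p) • v) := by
      rw [smul_add, smul_add]; abel
    rw [this, hu2 p hp, hv2 p hp, add_zero]
  neg_mem' := by
    rintro u ⟨hu1, hu2⟩
    refine ⟨fun w hw => by rw [smul_neg, hu1 w hw], fun p hp => ?_⟩
    have : -u + p • (-u) + (p * p) • (-u) = -(u + p • u + (p * p) • u) := by
      rw [smul_neg, smul_neg]; abel
    rw [this, hu2 p hp, neg_zero]

theorem mem_Comp {W : Subgroup P} {v : V} : v ∈ Comp V W ↔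
    (∀ w ∈ W, w • v = v) ∧ ∀ p : P, p ∉ W → v + p • v + (p * p) • v = 0 := Iff.rfl

section ops

variable [Fintype P]

open Classical in
/-- the projection onto `Comp W` -/
noncomputable def cW (W : Subgroup P) (v : V) : V := ∑ p ∈ univ.filter (fun p : P => p ∉ W), p • v

open Classical in
/-- the sum over `W` -/
noncomputable def eW (W : Subgroup P) (v : V) : V := ∑ p ∈ univ.filter (fun p : P => p ∈ W), p • v

open Classical in
theorem cW_add (W : Subgroup P) (u v : V) : cW W (u + v) = cW W u + cW W v := by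
  unfold cW
  rw [← sum_add_distrib]
  exact sum_congr rfl fun p _ => smul_add _ _ _

theorem cW_zero (W : Subgroup P) : cW W (0 : V) = 0 := by
  unfold cW
  exact sum_eq_zero fun p _ => smul_zero _

/-- `cW` as a homomorphism -/
noncomputable def cWhom (W : Subgroup P) : V →+ V where
  toFun := cW W
  map_zero' := cW_zero W
  map_add' := cW_add W

open Classical in
theorem smul_cW {W : Subgroup P} {w : P} (hw : w ∈ W) (v : V) : w • cW W v = cW W v := by
  unfold cW
  rw [smul_sum]
  refine sum_bij (fun p _ => w * p) ?_ ?_ ?_ ?_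
  · intro p hp
    rw [mem_filter] at hp ⊢
    refine ⟨mem_univ _, fun h => hp.2 ?_⟩
    exact (W.mul_mem_cancel_left hw).1 h
  · intro p _ q _ h
    exact mul_left_cancel h
  · intro q hq
    rw [mem_filter] at hq
    refine ⟨w⁻¹ * q, ?_, by group⟩
    rw [mem_filter]
    exact ⟨mem_univ _, fun h => hq.2 ((W.mul_mem_cancel_left (W.inv_mem hw)).1 h)⟩
  · intro p _
    rw [smul_smul]

open Classical in
theorem cW_smul (W : Subgroup P) (b : P) (v : V) : cW W (b • v) = b • cW W v := by
  unfold cW
  rw [smul_sum]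
  exact sum_congr rfl fun p _ => by rw [smul_smul, smul_smul, mul_comm]

end ops

section hyper

variable (h3 : ∀ p : P, p ^ 3 = 1) (hV : ∀ v : V, v + v = 0)

/-- The three cosets of a hyperplane. -/
theorem cosets {W : Subgroup P} (hW : W.index = 3) {b : P} (hb : b ∉ W) (p : P) :
    p ∈ W ∨ b⁻¹ * p ∈ W ∨ b⁻¹ * (b⁻¹ * p) ∈ W := by
  classical
  have hn : W.Normal := inferInstance
  have hcard : Nat.card (P ⧸ W) = 3 := hW
  have hfin : Finite (P ⧸ W) := Nat.finite_of_card_ne_zero (by rw [hcard]; norm_num)
  have hp3 : Fact (Nat.Prime 3) := ⟨Nat.prime_three⟩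
  have hb1 : (QuotientGroup.mk b : P ⧸ W) ≠ 1 := fun h => hb ((QuotientGroup.eq_one_iff b).1 h)
  have htop : Subgroup.zpowers (QuotientGroup.mk b : P ⧸ W) = ⊤ := by
    apply Subgroup.eq_top_of_card_eq
    rw [hcard]
    have hd : Nat.card (Subgroup.zpowers (QuotientGroup.mk b : P ⧸ W)) ∣ 3 := by
      rw [← hcard]; exact Subgroup.card_subgroup_dvd_card _
    rcases (Nat.dvd_prime Nat.prime_three).1 hd with h | h
    · exact absurd (Subgroup.zpowers_eq_bot.1 (Subgroup.card_eq_one.1 h)) hb1
    · exact h
  have hp : (QuotientGroup.mk p : P ⧸ W) ∈ Subgroup.zpowers (QuotientGroup.mk b : P ⧸ W) := by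
    rw [htop]; trivial
  have ho : orderOf (QuotientGroup.mk b : P ⧸ W) = 3 := by
    rw [← Nat.card_zpowers, htop]
    rw [Subgroup.card_top]; exact hcard
  rw [mem_zpowers_iff_mem_range_orderOf, ho] at hp
  rw [Finset.mem_image] at hp
  obtain ⟨n, hn', hn2⟩ := hp
  rw [Finset.mem_range] at hn'
  interval_cases n
  · left
    rw [pow_zero] at hn2
    exact (QuotientGroup.eq_one_iff p).1 hn2.symm
  · right; left
    rw [pow_one] at hn2
    exact QuotientGroup.eq.1 hn2
  · right; right
    have h5 : (QuotientGroup.mk (b * b) : P ⧸ W) = QuotientGroup.mk p := by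
      rw [← hn2, pow_two]; rfl
    have h6 := QuotientGroup.eq.1 h5
    rw [mul_inv_rev, mul_assoc] at h6
    exact h6


include h3 in
theorem sq_notMem {W : Subgroup P} {b : P} (hb : b ∉ W) : b * b ∉ W := by
  intro h
  apply hb
  have h1 : b = (b * b) * (b * b) := by
    have := h3 b
    rw [pow_succ, pow_two] at this
    calc b = b * b * b * b := by rw [this, one_mul]
      _ = _ := by group
  rw [h1]
  exact W.mul_mem h h

include hV in
theorem nsmul_of_even {n : ℕ} (hn : Even n) (v : V) : n • v = 0 := by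
  obtain ⟨k, rfl⟩ := hn
  rw [add_smul, ← smul_add, hV, smul_zero]

include hV in
theorem nsmul_of_odd {n : ℕ} (hn : Odd n) (v : V) : n • v = v := by
  obtain ⟨k, rfl⟩ := hn
  rw [add_smul, one_smul, nsmul_of_even hV (even_two_mul k), zero_add]

variable [Fintype P]

include h3 in
theorem odd_card (W : Subgroup P) : Odd (Nat.card W) := by
  have hp3 : Fact (Nat.Prime 3) := ⟨Nat.prime_three⟩
  have h1 : IsPGroup 3 W := fun w => ⟨1, by
    rw [pow_one]; exact Subtype.ext (h3 w)⟩
  obtain ⟨n, hn⟩ := IsPGroup.iff_card.1 h1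
  rw [hn]
  exact Odd.pow (by decide)

open Classical in
/-- the complement of a hyperplane has two cosets -/
theorem cW_eq {W : Subgroup P} (hW : W.index = 3) {b : P} (hb : b ∉ W)
    (h3 : ∀ p : P, p ^ 3 = 1) (v : V) : cW W v = b • eW W v + (b * b) • eW W v := by
  have h3' : b * b * b = 1 := by have := h3 b; rwa [pow_succ, pow_two] at this
  have e : univ.filter (fun p : P => p ∉ W) =
      (univ.filter (fun p : P => p ∈ W)).image (fun p => b * p) ∪
        (univ.filter (fun p : P => p ∈ W)).image (fun p => b * b * p) := by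
    ext p
    simp only [mem_filter, mem_univ, true_and, mem_union, mem_image]
    constructor
    · intro hp
      rcases cosets hW hb p with h | h | h
      · exact absurd h hp
      · exact Or.inl ⟨b⁻¹ * p, h, by group⟩
      · exact Or.inr ⟨b⁻¹ * (b⁻¹ * p), h, by group⟩
    · rintro (⟨q, hq, rfl⟩ | ⟨q, hq, rfl⟩) h
      · exact hb ((W.mul_mem_cancel_right hq).1 h)
      · exact sq_notMem h3 hb ((W.mul_mem_cancel_right hq).1 h)
  unfold cW eW
  rw [e, sum_union, sum_image, sum_image, smul_sum, smul_sum]
  · congr 1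
    · exact sum_congr rfl fun p _ => by rw [smul_smul]
    · exact sum_congr rfl fun p _ => by rw [smul_smul]
  · intro p _ q _ h; exact mul_left_cancel h
  · intro p _ q _ h; exact mul_left_cancel h
  · rw [disjoint_left]
    intro p hp hq
    simp only [mem_image, mem_filter, mem_univ, true_and] at hp hq
    obtain ⟨x, hx, rfl⟩ := hp
    obtain ⟨y, hy, hxy⟩ := hq
    apply hb
    have : b * y = x := by
      have h1 : b * (b * y) = b * x := by rw [← mul_assoc, hxy]
      exact mul_left_cancel h1
    rw [← this] at hx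
    exact (W.mul_mem_cancel_right hy).1 hx

include h3 hV in
theorem cW_mem {W : Subgroup P} (hW : W.index = 3) (v : V) : cW W v ∈ Comp V W := by
  refine ⟨fun w hw => smul_cW hw v, fun b hb => ?_⟩
  have h3' : b * b * b = 1 := by have := h3 b; rwa [pow_succ, pow_two] at this
  rw [cW_eq hW hb h3]
  generalize eW W v = u
  simp only [smul_add, smul_smul]
  have e1 : b * (b * b) = 1 := by rw [← mul_assoc]; exact h3'
  have e2 : b * b * (b * b) = b := by rw [← mul_assoc, h3', one_mul]
  rw [h3', e1, e2, one_smul]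
  have : b • u + (b * b) • u + ((b * b) • u + u) + (u + b • u) =
      (b • u + b • u) + ((b * b) • u + (b * b) • u) + (u + u) := by abel
  rw [this, hV (b • u), hV ((b * b) • u), hV u, add_zero, add_zero]

open Classical in
theorem card_filter_mem (W : Subgroup P) : (univ.filter (fun p : P => p ∈ W)).card = Nat.card W := by
  rw [← Fintype.card_subtype, Nat.card_eq_fintype_card]

include h3 hV in
open Classical in
theorem eW_fixed {W : Subgroup P} {u : V} (hu : ∀ w ∈ W, w • u = u) : eW W u = u := by
  unfold eW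
  rw [sum_congr rfl (g := fun _ => u) (fun p hp => hu p (mem_filter.1 hp).2), sum_const,
    card_filter_mem]
  exact nsmul_of_odd hV (odd_card h3 W) u

include hV in
theorem add_eq_of_three {a b c : V} (h : a + b + c = 0) : b + c = a := by
  have h1 : a + (b + c) = 0 := by rw [← add_assoc]; exact h
  have h2 : a + (a + (b + c)) = a := by rw [h1, add_zero]
  rw [← add_assoc, hV, zero_add] at h2
  exact h2

include h3 hV in
theorem cW_self {W : Subgroup P} (hW : W.index = 3) {u : V} (hu : u ∈ Comp V W) : cW W u = u := by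
  obtain ⟨b, hb⟩ : ∃ b : P, b ∉ W := by
    by_contra h
    push Not at h
    have : W = ⊤ := (Subgroup.eq_top_iff' W).2 h
    rw [this, Subgroup.index_top] at hW
    norm_num at hW
  rw [cW_eq hW hb h3, eW_fixed h3 hV hu.1]
  exact add_eq_of_three hV (hu.2 b hb)

theorem exists_mem_notMem {W W' : Subgroup P} (hW : W.index = 3) (hW' : W'.index = 3) (hne : W ≠ W') :
    ∃ b ∈ W, b ∉ W' := by
  by_contra h
  push Not at h
  apply hne
  exact Subgroup.eq_of_le_of_card_ge h (by
    have h1 := W.card_mul_index
    have h2 := W'.card_mul_index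
    rw [hW] at h1; rw [hW'] at h2
    omega)

include hV in
theorem cW_other {W W' : Subgroup P} (hW : W.index = 3) (hW' : W'.index = 3) (hne : W ≠ W') {u : V}
    (hu : u ∈ Comp V W') : cW W u = 0 := by
  obtain ⟨b, hb, hb'⟩ := exists_mem_notMem hW hW' hne
  have h1 := hu.2 b hb'
  have h2 : cW W (u + b • u + (b * b) • u) = cW W u := by
    rw [cW_add, cW_add, cW_smul, cW_smul, smul_cW hb, smul_cW (W.mul_mem hb hb)]
    rw [hV, zero_add]
  rw [← h2, h1, cW_zero]

include h3 hV in
theorem cW_fixed {W : Subgroup P} (hW : W.index = 3) {u : V} (hu : ∀ p : P, p • u = u) :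
    cW W u = 0 := by
  obtain ⟨b, hb⟩ : ∃ b : P, b ∉ W := by
    by_contra h
    push Not at h
    have : W = ⊤ := (Subgroup.eq_top_iff' W).2 h
    rw [this, Subgroup.index_top] at hW
    norm_num at hW
  rw [cW_eq hW hb h3, eW_fixed h3 hV (fun w _ => hu w), hu, hu, hV]

/-- independence -/
theorem eq_zero_of_sum {ι : Type*} [Fintype ι] (h3 : ∀ p : P, p ^ 3 = 1) (hV : ∀ v : V, v + v = 0)
    (W : ι → Subgroup P) (hW : ∀ i, (W i).index = 3)
    (hinj : Function.Injective W) (u : ι → V) (hu : ∀ i, u i ∈ Comp V (W i)) (h0 : ∑ i, u i = 0)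
    (i : ι) : u i = 0 := by
  classical
  have h1 : cW (W i) (∑ j, u j) = u i := by
    have : cW (W i) (∑ j, u j) = ∑ j, cW (W i) (u j) := map_sum (cWhom (V := V) (W i)) u univ
    rw [this, sum_eq_single i]
    · exact cW_self h3 hV (hW i) (hu i)
    · intro j _ hj
      exact cW_other hV (hW i) (hW j) (fun h => hj (hinj h).symm) (hu j)
    · intro h; exact absurd (mem_univ i) h
  rw [← h1, h0, cW_zero]

/-! ### generation -/

/-- functionals -/
abbrev Fn (P : Type*) [CommGroup P] := P →* Multiplicative (ZMod 3)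

theorem exists_fn (h3 : ∀ p : P, p ^ 3 = 1) {p : P} (hp : p ≠ 1) :
    ∃ f : Fn P, f p = Multiplicative.ofAdd 1 := by
  let _ : Module (ZMod 3) (Additive P) := AddCommGroup.zmodModule (n := 3) (by
    intro x
    exact congrArg Additive.ofMul (h3 (Additive.toMul x)))
  have h1 : ∃ φ : Module.Dual (ZMod 3) (Additive P), φ (Additive.ofMul p) ≠ 0 := by
    by_contra h
    push Not at h
    apply hp
    exact Additive.ofMul.injective
      ((Module.forall_dual_apply_eq_zero_iff (ZMod 3) (Additive.ofMul p)).1 h)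
  obtain ⟨φ, hφ⟩ := h1
  have h2 : φ (Additive.ofMul p) = 1 ∨ φ (Additive.ofMul p) = 2 := by
    generalize φ (Additive.ofMul p) = x at hφ
    revert x; decide
  rcases h2 with h2 | h2
  · refine ⟨⟨⟨fun q => Multiplicative.ofAdd (φ (Additive.ofMul q)), ?_⟩, ?_⟩, ?_⟩
    · rw [ofMul_one, map_zero]; rfl
    · intro x y
      show Multiplicative.ofAdd (φ (Additive.ofMul (x * y))) = _
      rw [ofMul_mul, map_add]; rfl
    · show Multiplicative.ofAdd (φ (Additive.ofMul p)) = _
      rw [h2]
  · refine ⟨⟨⟨fun q => Multiplicative.ofAdd (2 * φ (Additive.ofMul q)), ?_⟩, ?_⟩, ?_⟩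
    · show Multiplicative.ofAdd (2 * φ (Additive.ofMul 1)) = _
      rw [ofMul_one, map_zero, mul_zero]; rfl
    · intro x y
      show Multiplicative.ofAdd (2 * φ (Additive.ofMul (x * y))) = _
      rw [ofMul_mul, map_add, mul_add]; rfl
    · show Multiplicative.ofAdd (2 * φ (Additive.ofMul p)) = _
      rw [h2]; rfl

noncomputable instance : Finite (Fn P) := by
  exact Finite.of_injective (fun f : Fn P => (f : P → Multiplicative (ZMod 3))) DFunLike.coe_injective

theorem mul_cube : ∀ x : Multiplicative (ZMod 3), x ^ 3 = 1 := by decide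

theorem odd_card_fn : Odd (Nat.card (Fn P)) := by
  have hp3 : Fact (Nat.Prime 3) := ⟨Nat.prime_three⟩
  have h1 : IsPGroup 3 (Fn P) := fun f => ⟨1, by
    refine MonoidHom.ext fun p => ?_
    rw [pow_one, MonoidHom.pow_apply, MonoidHom.one_apply]
    exact mul_cube _⟩
  obtain ⟨n, hn⟩ := IsPGroup.iff_card.1 h1
  rw [hn]
  exact Odd.pow (by decide)

/-- the number of functionals with value `1` at `p ≠ 1` is odd -/
theorem odd_count (h3 : ∀ p : P, p ^ 3 = 1) {p : P} (hp : p ≠ 1) :
    Odd (Nat.card {f : Fn P // f p = Multiplicative.ofAdd 1}) := by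
  obtain ⟨f0, hf0⟩ := exists_fn h3 hp
  let ev : Fn P →* Multiplicative (ZMod 3) :=
    { toFun := fun f => f p, map_one' := rfl, map_mul' := fun f g => rfl }
  have e : {f : Fn P // f p = Multiplicative.ofAdd 1} ≃ ev.ker :=
    { toFun := fun f => ⟨f.1 * f0⁻¹, by
        rw [MonoidHom.mem_ker]
        show f.1 p * (f0 p)⁻¹ = 1
        rw [f.2, hf0]; exact mul_inv_cancel _⟩
      invFun := fun g => ⟨g.1 * f0, by
        have := g.2
        rw [MonoidHom.mem_ker] at this
        have h : g.1 p = 1 := this
        show g.1 p * f0 p = _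
        rw [h, hf0, one_mul]⟩
      left_inv := fun f => Subtype.ext (by simp)
      right_inv := fun g => Subtype.ext (by simp) }
  rw [Nat.card_congr e]
  exact Odd.of_dvd_nat odd_card_fn (Subgroup.card_subgroup_dvd_card _)

omit [Fintype P] in
theorem index_ker {f : Fn P} {p : P} (hf : f p ≠ 1) : f.ker.index = 3 := by
  rw [Subgroup.index_ker]
  have h1 : Nat.card f.range ∣ 3 := by
    have := Subgroup.card_subgroup_dvd_card f.range
    have h2 : Nat.card (Multiplicative (ZMod 3)) = 3 := by
      rw [Nat.card_eq_fintype_card]; rfl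
    rwa [h2] at this
  rcases (Nat.dvd_prime Nat.prime_three).1 h1 with h | h
  · exfalso
    apply hf
    have h2 : f.range = ⊥ := Subgroup.card_eq_one.1 h
    have h3 : f p ∈ f.range := ⟨p, rfl⟩
    rw [h2] at h3
    exact Subgroup.mem_bot.1 h3
  · exact h

open Classical in
/-- the sum over the fibre over `1` of a functional -/
noncomputable def dF (f : Fn P) (v : V) : V :=
  ∑ p ∈ univ.filter (fun p : P => f p = Multiplicative.ofAdd 1), p • v

open Classical in
theorem dF_fixed (f : Fn P) (v : V) {w : P} (hw : f w = 1) : w • dF f v = dF f v := by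
  unfold dF
  rw [smul_sum]
  refine sum_bij (fun p _ => w * p) ?_ ?_ ?_ ?_
  · intro p hp
    rw [mem_filter] at hp ⊢
    refine ⟨mem_univ _, ?_⟩
    rw [map_mul, hw, one_mul]; exact hp.2
  · intro p _ q _ h
    exact mul_left_cancel h
  · intro q hq
    rw [mem_filter] at hq
    refine ⟨w⁻¹ * q, ?_, by group⟩
    rw [mem_filter]
    refine ⟨mem_univ _, ?_⟩
    rw [map_mul, map_inv, hw, inv_one, one_mul]; exact hq.2
  · intro p _
    rw [smul_smul]

open Classical in
theorem sum_dF (h3 : ∀ p : P, p ^ 3 = 1) (hV : ∀ v : V, v + v = 0) [Fintype (Fn P)] (v : V) :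
    ∑ f : Fn P, dF f v = v + ∑ p : P, p • v := by
  have h1 : ∑ f : Fn P, dF f v = ∑ p : P, Nat.card {f : Fn P // f p = Multiplicative.ofAdd 1} • (p • v) := by
    unfold dF
    simp_rw [sum_filter]
    rw [sum_comm]
    refine sum_congr rfl fun p _ => ?_
    rw [← sum_filter, sum_const, Nat.card_eq_fintype_card, Fintype.card_subtype]
  have h2 : ∀ p : P, Nat.card {f : Fn P // f p = Multiplicative.ofAdd 1} • (p • v) =
      if p = 1 then 0 else p • v := by
    intro p
    split_ifs with hp
    · have : IsEmpty {f : Fn P // f p = Multiplicative.ofAdd 1} := ⟨fun f => by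
        have h : f.1 p = Multiplicative.ofAdd 1 := f.2
        have h' : f.1 p = 1 := (congrArg f.1 hp).trans (map_one f.1)
        rw [h'] at h
        exact absurd h (by decide)⟩
      rw [Nat.card_of_isEmpty, zero_smul]
    · exact nsmul_of_odd hV (odd_count h3 hp) _
  rw [h1, sum_congr rfl (fun p _ => h2 p)]
  have h3 : ∑ p : P, p • v = ∑ p : P, ((if p = 1 then 0 else p • v) + if p = 1 then v else 0) := by
    refine sum_congr rfl fun p _ => ?_
    split_ifs with hp
    · rw [hp, one_smul, zero_add]
    · rw [add_zero]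
  rw [h3, sum_add_distrib, sum_ite_eq', if_pos (mem_univ _), add_comm _ v, ← add_assoc, hV, zero_add]

/-- fixed points of `P` -/
def Fix (P V : Type*) [CommGroup P] [AddCommGroup V] [DistribMulAction P V] : AddSubgroup V where
  carrier := {v | ∀ p : P, p • v = v}
  zero_mem' := fun p => smul_zero p
  add_mem' := fun {u v} hu hv p => by rw [smul_add, hu p, hv p]
  neg_mem' := fun {u} hu p => by rw [smul_neg, hu p]

omit [Fintype P] in
theorem mem_Fix {v : V} : v ∈ Fix P V ↔ ∀ p : P, p • v = v := Iff.rfl

theorem fixed_split (h3 : ∀ p : P, p ^ 3 = 1) (hV : ∀ v : V, v + v = 0) {W : Subgroup P}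
    (hW : W.index = 3) {u : V} (hu : ∀ w ∈ W, w • u = u) : ∃ a ∈ Fix P V, ∃ c ∈ Comp V W, u = a + c := by
  obtain ⟨b, hb⟩ : ∃ b : P, b ∉ W := by
    by_contra h
    push Not at h
    have : W = ⊤ := (Subgroup.eq_top_iff' W).2 h
    rw [this, Subgroup.index_top] at hW
    norm_num at hW
  have h3' : b * b * b = 1 := by have := h3 b; rwa [pow_succ, pow_two] at this
  have e1 : b * (b * b) = 1 := by rw [← mul_assoc]; exact h3'
  have ha : ∀ p : P, p • (u + b • u + (b * b) • u) = u + b • u + (b * b) • u := by
    have hb1 : b • (u + b • u + (b * b) • u) = u + b • u + (b * b) • u := by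
      simp only [smul_add, smul_smul]
      rw [e1, one_smul]; abel
    have hw1 : ∀ w ∈ W, w • (u + b • u + (b * b) • u) = u + b • u + (b * b) • u := by
      intro w hw
      have : w • (u + b • u + (b * b) • u) = w • u + b • (w • u) + (b * b) • (w • u) := by
        simp only [smul_add, smul_smul]
        rw [mul_comm w b, mul_comm w (b * b)]
      rw [this, hu w hw]
    intro p
    rcases cosets hW hb p with h | h | h
    · exact hw1 p h
    · have := hw1 _ h
      have e : p = b * (b⁻¹ * p) := by group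
      rw [e, mul_smul, this, hb1]
    · have := hw1 _ h
      have e : p = b * (b * (b⁻¹ * (b⁻¹ * p))) := by group
      rw [e, mul_smul, mul_smul, this, hb1, hb1]
  refine ⟨u + b • u + (b * b) • u, ha, cW W u, cW_mem h3 hV hW u, ?_⟩
  rw [cW_eq hW hb h3, eW_fixed h3 hV hu]
  have : u + b • u + (b * b) • u + (b • u + (b * b) • u) =
    u + (b • u + b • u) + ((b * b) • u + (b * b) • u) := by abel
  rw [this, hV, hV, add_zero, add_zero]

/-- If an additive subgroup contains the fixed points and all the components, it is everything. -/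
theorem eq_top_of_comp (h3 : ∀ p : P, p ^ 3 = 1) (hV : ∀ v : V, v + v = 0) (X : AddSubgroup V)
    (h0 : Fix P V ≤ X) (h1 : ∀ W : Subgroup P, W.index = 3 → Comp V W ≤ X) : X = ⊤ := by
  classical
  have : Fintype (Fn P) := Fintype.ofFinite _
  rw [eq_top_iff]
  intro v _
  have h2 : ∀ f : Fn P, dF f v ∈ X := by
    intro f
    by_cases hf : ∃ p, f p ≠ 1
    · obtain ⟨p, hp⟩ := hf
      obtain ⟨a, ha, c, hc, hac⟩ := fixed_split h3 hV (index_ker hp) (u := dF f v)
        (fun w hw => dF_fixed f v (MonoidHom.mem_ker.1 hw))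
      rw [hac]
      exact X.add_mem (h0 ha) (h1 _ (index_ker hp) hc)
    · push Not at hf
      have : dF f v = 0 := by
        unfold dF
        rw [filter_false_of_mem, sum_empty]
        intro p _ h
        rw [hf p] at h
        exact absurd h (by decide)
      rw [this]; exact X.zero_mem
  have h4 : (∑ p : P, p • v) ∈ X := by
    apply h0
    intro q
    rw [smul_sum]
    refine sum_bij (fun p _ => q * p) (fun p _ => mem_univ _) (fun p _ r _ h => mul_left_cancel h)
      (fun r _ => ⟨q⁻¹ * r, mem_univ _, by group⟩) (fun p _ => by rw [smul_smul])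
  have h5 : v = (∑ f : Fn P, dF f v) - ∑ p : P, p • v := by
    rw [sum_dF h3 hV v]; abel
  rw [h5]
  exact X.sub_mem (X.sum_mem fun f _ => h2 f) h4

end hyper

end Cfsg.Agent.R08.FrameAWeights
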