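import Cfsg.Agent.Co2Type.Quad
import Cfsg.Prelude.Def_Classical

/-!
# R08 (S1715): the local interface (helper778)

`Lab F Q M z`: an extraspecial group `Q = F*(C_G(z))` of order `2 ^ 13` whose quotient `Q / ⟨z⟩` is labelled
by `F ^ 6` (`F` a field with four elements), `M ≤ C_G(z)` of index two acting as `3.U4(3)`.  Total functions
`v : G → F ^ 6` (label of `x ∈ Q`) and `ρ : G → F ^ 6 → F ^ 6` (action of `c`, `c z = z c`); the fields hold
for the arguments in the domain.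

* `Lab.conj' L g (hy : y = g * z * g⁻¹)`: transport to `Q ^ g`, `M ^ g`, `y`.
* `Lab.ofLarge`: constructor from `h : Large Q z` and `lab : h.V ≃+ (Fin 6 → F)`.
-/

set_option autoImplicit false

namespace Cfsg.Agent.R08.Iface

open Cfsg.Agent.Co2Type.Quad

section Model

variable {F : Type*} [Field F]

/-- the standard hermitian form `Σ u_i v_i ^ 2` -/
def H (u v : Fin 6 → F) : F := Cfsg.hermForm 6 F 2 u v

theorem H_def (u v : Fin 6 → F) : H u v = ∑ i, u i * (v i) ^ 2 := rfl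

open Classical in
/-- number of nonzero coordinates -/
noncomputable def wt (v : Fin 6 → F) : ℕ := (Finset.univ.filter fun i => v i ≠ 0).card

/-- the 378 `R`-vectors (126 points) -/
def IsR (v : Fin 6 → F) : Prop := wt v = 2 ∨ (wt v = 6 ∧ ∏ i, v i = 1)

/-- the 1701 `S`-vectors (567 points) -/
def IsS (v : Fin 6 → F) : Prop := wt v = 4 ∨ (wt v = 6 ∧ ∏ i, v i ≠ 1)

/-- `x ↦ x + h(x, r) r` -/
def tr (r x : Fin 6 → F) : Fin 6 → F := x + H x r • r

/-- linear isometries -/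
structure IsLin (f : (Fin 6 → F) → (Fin 6 → F)) : Prop where
  smul : ∀ (a : F) (w : Fin 6 → F), f (a • w) = a • f w
  form : ∀ u w : Fin 6 → F, H (f u) (f w) = H u w

/-- semilinear isometries -/
structure IsSemi (f : (Fin 6 → F) → (Fin 6 → F)) : Prop where
  smul : ∀ (a : F) (w : Fin 6 → F), f (a • w) = a ^ 2 • f w
  form : ∀ u w : Fin 6 → F, H (f u) (f w) = (H u w) ^ 2

end Model

/-- see the head of the file -/
structure Lab (F : Type*) [Field F] {G : Type*} [Group G] (Q M : Subgroup G) (z : G) where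
  card : Nat.card F = 4
  large : Large Q z
  /-- the label of an element of `Q` -/
  v : G → (Fin 6 → F)
  /-- the action of an element of `C_G(z)` -/
  ρ : G → (Fin 6 → F) → (Fin 6 → F)
  v_mul : ∀ x ∈ Q, ∀ y ∈ Q, v (x * y) = v x + v y
  v_eq_zero : ∀ x ∈ Q, v x = 0 ↔ x = 1 ∨ x = z
  v_surj : ∀ w, ∃ x ∈ Q, v x = w
  v_conj : ∀ c, c * z = z * c → ∀ x ∈ Q, v (c * x * c⁻¹) = ρ c (v x)
  sq_iff : ∀ x ∈ Q, x * x = 1 ↔ H (v x) (v x) = 0
  comm_iff : ∀ x ∈ Q, ∀ y ∈ Q, x * y = y * x ↔ H (v x) (v y) = 0 ∨ H (v x) (v y) = 1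
  mem_Q : ∀ c, c * z = z * c → (∀ w, ρ c w = w) → c ∈ Q
  Q_le : Q ≤ M
  M_comm : ∀ m ∈ M, m * z = z * m
  M_conj : ∀ c, c * z = z * c → ∀ m ∈ M, c * m * c⁻¹ ∈ M
  M_mul : ∀ c d, c * z = z * c → d * z = z * d → c ∉ M → d ∉ M → c * d ∈ M
  exists_not_mem : ∃ c, c * z = z * c ∧ c ∉ M
  lin : ∀ m ∈ M, ∃ A : Matrix.SpecialLinearGroup (Fin 6) F, A ∈ Cfsg.SU 6 F 2 ∧
    ∀ w, ρ m w = (A : Matrix (Fin 6) (Fin 6) F).mulVec w
  semi : ∀ c, c * z = z * c → IsLin (ρ c) ∨ IsSemi (ρ c)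
  mono : ∀ (s : Equiv.Perm (Fin 6)) (d : Fin 6 → Fˣ), Equiv.Perm.sign s = 1 → ∏ i, d i = 1 →
    ∃ m ∈ M, ∀ w i, ρ m w i = (d i : F) * w (s⁻¹ i)
  pres : ∀ c, c * z = z * c → ∀ w, IsR w → IsR (ρ c w)
  scal : ∀ a : F, a ≠ 0 → ∃ n ∈ M, ∀ w, ρ n w = a • w
  tau : ∀ r r', IsR r → IsR r' → ∃ m ∈ M, ∀ w, ρ m w = tr r (tr r' w)
  transR : ∀ r r', IsR r → IsR r' → ∃ m ∈ M, ρ m r = r'
  transS : ∀ s s', IsS s → IsS s' → ∃ m ∈ M, ρ m s = s'
  triv : ∀ m ∈ M, ∀ r, IsR r → ρ m r = r → (∀ w, H w r = 0 → ∃ a : F, ρ m w = w + a • r) →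
    ∀ w, ρ m w = w
  cardM : Nat.card M = 9797760 * Nat.card Q
  cardC : Nat.card (Subgroup.centralizer ({z} : Set G)) = 2 * Nat.card M

namespace Lab

variable {F : Type*} [Field F] {G : Type*} [Group G] {Q M : Subgroup G} {z : G}

/-! ### basic API -/

theorem v_one (L : Lab F Q M z) : L.v 1 = 0 := (L.v_eq_zero 1 Q.one_mem).2 (Or.inl rfl)

theorem v_z (L : Lab F Q M z) : L.v z = 0 := (L.v_eq_zero z L.large.z_mem).2 (Or.inr rfl)

theorem char_two (L : Lab F Q M z) : (2 : F) = 0 := by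
  obtain ⟨x, hx, hv⟩ := L.v_surj (fun _ => 1)
  have h1 := L.v_mul x hx x hx
  have h2 : L.v (x * x) = 0 := (L.v_eq_zero _ (Q.mul_mem hx hx)).2 (L.large.sq x hx)
  rw [h2, hv] at h1
  have := congrFun h1 0
  simp only [Pi.zero_apply, Pi.add_apply] at this
  rw [← one_add_one_eq_two]; exact this.symm

theorem add_self (L : Lab F Q M z) (w : Fin 6 → F) : w + w = 0 := by
  ext i
  show w i + w i = 0
  rw [← two_mul, L.char_two, zero_mul]

theorem neg_eq (L : Lab F Q M z) (w : Fin 6 → F) : -w = w := by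
  rw [neg_eq_iff_add_eq_zero]; exact L.add_self w

theorem v_inv (L : Lab F Q M z) {x : G} (hx : x ∈ Q) : L.v x⁻¹ = L.v x := by
  have h1 := L.v_mul x⁻¹ (Q.inv_mem hx) x hx
  rw [inv_mul_cancel, L.v_one] at h1
  rw [← L.neg_eq (L.v x), eq_neg_iff_add_eq_zero]
  exact h1.symm

theorem v_eq (L : Lab F Q M z) {x y : G} (hx : x ∈ Q) (hy : y ∈ Q) :
    L.v x = L.v y ↔ x = y ∨ x = y * z := by
  have h1 : L.v x = L.v y ↔ L.v (y⁻¹ * x) = 0 := by
    rw [L.v_mul _ (Q.inv_mem hy) _ hx, L.v_inv hy]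
    constructor
    · intro h; rw [h, L.add_self]
    · intro h
      rw [add_eq_zero_iff_eq_neg, L.neg_eq] at h
      exact h.symm
  rw [h1, L.v_eq_zero _ (Q.mul_mem (Q.inv_mem hy) hx)]
  constructor
  · rintro (h | h)
    · left; exact (inv_mul_eq_one.1 h).symm
    · right; rw [← h]; group
  · rintro (h | h)
    · left; rw [h]; group
    · right; rw [h]; group

/-- the form `val`-free version of the commutator relation -/
theorem comm_z_iff (L : Lab F Q M z) {x y : G} (hx : x ∈ Q) (hy : y ∈ Q) :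
    x * y = y * x * z ↔ ¬ (H (L.v x) (L.v y) = 0 ∨ H (L.v x) (L.v y) = 1) := by
  rw [← L.comm_iff x hx y hy]
  constructor
  · intro h h'
    rw [h'] at h
    exact L.large.z_ne (mul_eq_left.1 h.symm)
  · intro h
    exact (L.large.comm x hx y hy).resolve_left h

theorem ρ_surj_aux (L : Lab F Q M z) {c : G} (hc : c * z = z * c) {x : G} (hx : x ∈ Q) :
    c * x * c⁻¹ ∈ Q := L.large.conj_mem c hc x hx

theorem ρ_add (L : Lab F Q M z) {c : G} (hc : c * z = z * c) (u w : Fin 6 → F) :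
    L.ρ c (u + w) = L.ρ c u + L.ρ c w := by
  obtain ⟨x, hx, rfl⟩ := L.v_surj u
  obtain ⟨y, hy, rfl⟩ := L.v_surj w
  rw [← L.v_mul x hx y hy, ← L.v_conj c hc _ (Q.mul_mem hx hy), ← L.v_conj c hc x hx,
    ← L.v_conj c hc y hy, ← L.v_mul _ (L.ρ_surj_aux hc hx) _ (L.ρ_surj_aux hc hy)]
  congr 1
  group

theorem ρ_zero (L : Lab F Q M z) {c : G} (hc : c * z = z * c) : L.ρ c 0 = 0 := by
  have h1 := L.ρ_add hc 0 0
  rw [add_zero] at h1
  exact left_eq_add.1 h1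

theorem ρ_mul (L : Lab F Q M z) {c d : G} (hc : c * z = z * c) (hd : d * z = z * d)
    (w : Fin 6 → F) : L.ρ (c * d) w = L.ρ c (L.ρ d w) := by
  obtain ⟨x, hx, rfl⟩ := L.v_surj w
  have hcd : c * d * z = z * (c * d) := by rw [mul_assoc, hd, ← mul_assoc, hc, mul_assoc]
  rw [← L.v_conj _ hcd x hx, ← L.v_conj d hd x hx, ← L.v_conj c hc _ (L.ρ_surj_aux hd hx)]
  congr 1
  group

theorem ρ_mem_Q (L : Lab F Q M z) {c : G} (hc : c ∈ Q) (w : Fin 6 → F) : L.ρ c w = w := by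
  obtain ⟨x, hx, rfl⟩ := L.v_surj w
  have hcz := L.large.comm_z c hc
  rw [← L.v_conj c hcz x hx, L.v_eq (L.ρ_surj_aux hcz hx) hx]
  rcases L.large.comm c hc x hx with h1 | h1
  · left; rw [h1]; group
  · right
    rw [h1, mul_assoc _ z, ← (L.large.commz hc).inv_left.eq]
    group

theorem ρ_one (L : Lab F Q M z) (w : Fin 6 → F) : L.ρ 1 w = w := L.ρ_mem_Q Q.one_mem w

theorem inv_comm {c : G} (hc : c * z = z * c) : c⁻¹ * z = z * c⁻¹ := by
  rw [inv_mul_eq_iff_eq_mul, ← mul_assoc, hc, mul_assoc, mul_inv_cancel, mul_one]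

theorem mul_comm' {c d : G} (hc : c * z = z * c) (hd : d * z = z * d) :
    c * d * z = z * (c * d) := by rw [mul_assoc, hd, ← mul_assoc, hc, mul_assoc]

theorem ρ_inv (L : Lab F Q M z) {c : G} (hc : c * z = z * c) (w : Fin 6 → F) :
    L.ρ c⁻¹ (L.ρ c w) = w := by
  rw [← L.ρ_mul (inv_comm hc) hc, inv_mul_cancel, L.ρ_one]

theorem ρ_inv' (L : Lab F Q M z) {c : G} (hc : c * z = z * c) (w : Fin 6 → F) :
    L.ρ c (L.ρ c⁻¹ w) = w := by
  rw [← L.ρ_mul hc (inv_comm hc), mul_inv_cancel, L.ρ_one]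

theorem ρ_inj (L : Lab F Q M z) {c : G} (hc : c * z = z * c) {u w : Fin 6 → F}
    (h : L.ρ c u = L.ρ c w) : u = w := by
  rw [← L.ρ_inv hc u, h, L.ρ_inv hc]

theorem isLin (L : Lab F Q M z) {m : G} (hm : m ∈ M) : IsLin (L.ρ m) := by
  obtain ⟨A, hA, h⟩ := L.lin m hm
  constructor
  · intro a w
    rw [h, h, Matrix.mulVec_smul]
  · intro u w
    rw [h, h]
    exact hA u w

/-! ### transport by conjugation -/

/-- `B ^ g` -/
def cj (g : G) (B : Subgroup G) : Subgroup G := B.map (MulAut.conj g).toMonoidHom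

theorem mem_cj {g : G} {B : Subgroup G} {x : G} : x ∈ cj g B ↔ g⁻¹ * x * g ∈ B := by
  constructor
  · rintro ⟨b, hb, rfl⟩
    show g⁻¹ * (g * b * g⁻¹) * g ∈ B
    have : g⁻¹ * (g * b * g⁻¹) * g = b := by group
    rwa [this]
  · intro h
    refine ⟨_, h, ?_⟩
    show g * (g⁻¹ * x * g) * g⁻¹ = x
    group

theorem conj_mem_cj {g : G} {B : Subgroup G} {x : G} : g * x * g⁻¹ ∈ cj g B ↔ x ∈ B := by
  rw [mem_cj]
  have : g⁻¹ * (g * x * g⁻¹) * g = x := by group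
  rw [this]

theorem card_cj (g : G) (B : Subgroup G) : Nat.card (cj g B) = Nat.card B :=
  Subgroup.card_map_of_injective (MulAut.conj g).injective

theorem conj_comm_iff (g : G) {y c : G} (hy : y = g * z * g⁻¹) :
    c * y = y * c ↔ (g⁻¹ * c * g) * z = z * (g⁻¹ * c * g) := by
  subst hy
  constructor
  · intro h
    calc (g⁻¹ * c * g) * z = g⁻¹ * (c * (g * z * g⁻¹)) * g := by group
      _ = g⁻¹ * ((g * z * g⁻¹) * c) * g := by rw [h]
      _ = _ := by group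
  · intro h
    calc c * (g * z * g⁻¹) = g * ((g⁻¹ * c * g) * z) * g⁻¹ := by group
      _ = g * (z * (g⁻¹ * c * g)) * g⁻¹ := by rw [h]
      _ = _ := by group

/-- Transport of the structure to `y = z ^ g`. -/
def conj' (L : Lab F Q M z) (g y : G) (hy : y = g * z * g⁻¹) : Lab F (cj g Q) (cj g M) y where
  card := L.card
  large := hy ▸ L.large.conj g
  v x := L.v (g⁻¹ * x * g)
  ρ c := L.ρ (g⁻¹ * c * g)
  v_mul x hx x' hx' := by
    rw [← L.v_mul _ (mem_cj.1 hx) _ (mem_cj.1 hx')]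
    congr 1; group
  v_eq_zero x hx := by
    rw [L.v_eq_zero _ (mem_cj.1 hx)]
    apply or_congr
    · constructor
      · intro h
        have : x = g * (g⁻¹ * x * g) * g⁻¹ := by group
        rw [this, h]; group
      · intro h; rw [h]; group
    · constructor
      · intro h
        have : x = g * (g⁻¹ * x * g) * g⁻¹ := by group
        rw [this, h, hy]
      · intro h; rw [h, hy]; group
  v_surj w := by
    obtain ⟨x, hx, h⟩ := L.v_surj w
    refine ⟨g * x * g⁻¹, conj_mem_cj.2 hx, ?_⟩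
    have : g⁻¹ * (g * x * g⁻¹) * g = x := by group
    rw [this, h]
  v_conj c hc x hx := by
    rw [← L.v_conj _ ((conj_comm_iff g hy).1 hc) _ (mem_cj.1 hx)]
    congr 1; group
  sq_iff x hx := by
    rw [← L.sq_iff _ (mem_cj.1 hx)]
    constructor
    · intro h
      have : g⁻¹ * x * g * (g⁻¹ * x * g) = g⁻¹ * (x * x) * g := by group
      rw [this, h]; group
    · intro h
      have : x * x = g * (g⁻¹ * x * g * (g⁻¹ * x * g)) * g⁻¹ := by group
      rw [this, h]; group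
  comm_iff x hx x' hx' := by
    rw [← L.comm_iff _ (mem_cj.1 hx) _ (mem_cj.1 hx')]
    constructor
    · intro h
      calc g⁻¹ * x * g * (g⁻¹ * x' * g) = g⁻¹ * (x * x') * g := by group
        _ = g⁻¹ * (x' * x) * g := by rw [h]
        _ = _ := by group
    · intro h
      calc x * x' = g * (g⁻¹ * x * g * (g⁻¹ * x' * g)) * g⁻¹ := by group
        _ = g * (g⁻¹ * x' * g * (g⁻¹ * x * g)) * g⁻¹ := by rw [h]
        _ = _ := by group
  mem_Q c hc h := mem_cj.2 (L.mem_Q _ ((conj_comm_iff g hy).1 hc) h)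
  Q_le := by
    intro x hx
    exact mem_cj.2 (L.Q_le (mem_cj.1 hx))
  M_comm m hm := (conj_comm_iff g hy).2 (L.M_comm _ (mem_cj.1 hm))
  M_conj c hc m hm := by
    rw [mem_cj]
    have := L.M_conj _ ((conj_comm_iff g hy).1 hc) _ (mem_cj.1 hm)
    have e : g⁻¹ * (c * m * c⁻¹) * g = g⁻¹ * c * g * (g⁻¹ * m * g) * (g⁻¹ * c * g)⁻¹ := by group
    rwa [e]
  M_mul c d hc hd hcM hdM := by
    rw [mem_cj] at hcM hdM ⊢
    have := L.M_mul _ _ ((conj_comm_iff g hy).1 hc) ((conj_comm_iff g hy).1 hd) hcM hdM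
    have e : g⁻¹ * (c * d) * g = g⁻¹ * c * g * (g⁻¹ * d * g) := by group
    rwa [e]
  exists_not_mem := by
    obtain ⟨c, hc, h⟩ := L.exists_not_mem
    have e : g⁻¹ * (g * c * g⁻¹) * g = c := by group
    refine ⟨g * c * g⁻¹, (conj_comm_iff g hy).2 (by rwa [e]), fun h' => h ?_⟩
    rwa [conj_mem_cj] at h'
  lin m hm := L.lin _ (mem_cj.1 hm)
  semi c hc := L.semi _ ((conj_comm_iff g hy).1 hc)
  mono s d hs hd := by
    obtain ⟨m, hm, h⟩ := L.mono s d hs hd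
    refine ⟨g * m * g⁻¹, conj_mem_cj.2 hm, ?_⟩
    have e : g⁻¹ * (g * m * g⁻¹) * g = m := by group
    rw [e]; exact h
  pres c hc := L.pres _ ((conj_comm_iff g hy).1 hc)
  scal a ha := by
    obtain ⟨m, hm, h⟩ := L.scal a ha
    refine ⟨g * m * g⁻¹, conj_mem_cj.2 hm, ?_⟩
    have e : g⁻¹ * (g * m * g⁻¹) * g = m := by group
    rw [e]; exact h
  tau r r' hr hr' := by
    obtain ⟨m, hm, h⟩ := L.tau r r' hr hr'
    refine ⟨g * m * g⁻¹, conj_mem_cj.2 hm, ?_⟩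
    have e : g⁻¹ * (g * m * g⁻¹) * g = m := by group
    rw [e]; exact h
  transR r r' hr hr' := by
    obtain ⟨m, hm, h⟩ := L.transR r r' hr hr'
    refine ⟨g * m * g⁻¹, conj_mem_cj.2 hm, ?_⟩
    have e : g⁻¹ * (g * m * g⁻¹) * g = m := by group
    rw [e]; exact h
  transS r r' hr hr' := by
    obtain ⟨m, hm, h⟩ := L.transS r r' hr hr'
    refine ⟨g * m * g⁻¹, conj_mem_cj.2 hm, ?_⟩
    have e : g⁻¹ * (g * m * g⁻¹) * g = m := by group
    rw [e]; exact h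
  triv m hm := L.triv _ (mem_cj.1 hm)
  cardM := by rw [card_cj, card_cj]; exact L.cardM
  cardC := by
    rw [card_cj, ← L.cardC]
    have : Subgroup.centralizer ({y} : Set G) = cj g (Subgroup.centralizer ({z} : Set G)) := by
      ext c
      rw [mem_cj, Subgroup.mem_centralizer_singleton_iff, Subgroup.mem_centralizer_singleton_iff]
      exact conj_comm_iff g hy
    rw [this, card_cj]

theorem conj'_v (L : Lab F Q M z) (g y : G) (hy : y = g * z * g⁻¹) (x : G) :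
    (L.conj' g y hy).v x = L.v (g⁻¹ * x * g) := rfl

theorem conj'_ρ (L : Lab F Q M z) (g y : G) (hy : y = g * z * g⁻¹) (c : G) :
    (L.conj' g y hy).ρ c = L.ρ (g⁻¹ * c * g) := rfl

/-- `C_G(z)` normalises `Q`. -/
theorem cj_Q (L : Lab F Q M z) {c : G} (hc : c * z = z * c) : cj c Q = Q := by
  ext x
  rw [mem_cj]
  constructor
  · intro h
    have := L.large.conj_mem c hc _ h
    have e : c * (c⁻¹ * x * c) * c⁻¹ = x := by group
    rwa [e] at this
  · intro h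
    have := L.large.conj_mem c⁻¹ (inv_comm hc) _ h
    rwa [inv_inv] at this

/-- `C_G(z)` normalises `M`. -/
theorem cj_M (L : Lab F Q M z) {c : G} (hc : c * z = z * c) : cj c M = M := by
  ext x
  rw [mem_cj]
  constructor
  · intro h
    have := L.M_conj c hc _ h
    have e : c * (c⁻¹ * x * c) * c⁻¹ = x := by group
    rwa [e] at this
  · intro h
    have := L.M_conj c⁻¹ (inv_comm hc) _ h
    rwa [inv_inv] at this

theorem cj_cj (g k : G) (B : Subgroup G) : cj g (cj k B) = cj (g * k) B := by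
  ext x
  rw [mem_cj, mem_cj, mem_cj]
  have : k⁻¹ * (g⁻¹ * x * g) * k = (g * k)⁻¹ * x * (g * k) := by group
  rw [this]

/-- `Q ^ g` depends only on `z ^ g`. -/
theorem cj_Q_congr (L : Lab F Q M z) {g k : G} (h : g * z * g⁻¹ = k * z * k⁻¹) :
    cj g Q = cj k Q := by
  have hc : (k⁻¹ * g) * z = z * (k⁻¹ * g) := by
    calc (k⁻¹ * g) * z = k⁻¹ * (g * z * g⁻¹) * g := by group
      _ = k⁻¹ * (k * z * k⁻¹) * g := by rw [h]
      _ = _ := by group
  have : g = k * (k⁻¹ * g) := by group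
  rw [this, ← cj_cj, L.cj_Q hc]

/-- `M ^ g` depends only on `z ^ g`. -/
theorem cj_M_congr (L : Lab F Q M z) {g k : G} (h : g * z * g⁻¹ = k * z * k⁻¹) :
    cj g M = cj k M := by
  have hc : (k⁻¹ * g) * z = z * (k⁻¹ * g) := by
    calc (k⁻¹ * g) * z = k⁻¹ * (g * z * g⁻¹) * g := by group
      _ = k⁻¹ * (k * z * k⁻¹) * g := by rw [h]
      _ = _ := by group
  have : g = k * (k⁻¹ * g) := by group
  rw [this, ← cj_cj, L.cj_M hc]

/-- the class of `z` -/
def TwoB (_L : Lab F Q M z) (x : G) : Prop := ∃ g, x = g * z * g⁻¹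

/-- the class of the elements of `Q` with label in `R` -/
def TwoA (L : Lab F Q M z) (x : G) : Prop := ∃ g : G, g⁻¹ * x * g ∈ Q ∧ IsR (L.v (g⁻¹ * x * g))

theorem twoB_self (L : Lab F Q M z) : L.TwoB z := ⟨1, by group⟩

theorem twoB_conj (L : Lab F Q M z) {x : G} (g : G) (hx : L.TwoB x) : L.TwoB (g * x * g⁻¹) := by
  obtain ⟨k, rfl⟩ := hx
  exact ⟨g * k, by group⟩

theorem twoB_conj_iff (L : Lab F Q M z) {x : G} (g : G) : L.TwoB (g * x * g⁻¹) ↔ L.TwoB x := by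
  refine ⟨fun h => ?_, L.twoB_conj g⟩
  have := L.twoB_conj g⁻¹ h
  have e : g⁻¹ * (g * x * g⁻¹) * g⁻¹⁻¹ = x := by group
  rwa [e] at this

theorem twoA_conj (L : Lab F Q M z) {x : G} (g : G) (hx : L.TwoA x) : L.TwoA (g * x * g⁻¹) := by
  obtain ⟨k, h1, h2⟩ := hx
  refine ⟨g * k, ?_⟩
  have e : (g * k)⁻¹ * (g * x * g⁻¹) * (g * k) = k⁻¹ * x * k := by group
  rw [e]; exact ⟨h1, h2⟩

theorem twoA_conj_iff (L : Lab F Q M z) {x : G} (g : G) : L.TwoA (g * x * g⁻¹) ↔ L.TwoA x := by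
  refine ⟨fun h => ?_, L.twoA_conj g⟩
  have := L.twoA_conj g⁻¹ h
  have e : g⁻¹ * (g * x * g⁻¹) * g⁻¹⁻¹ = x := by group
  rwa [e] at this

theorem twoA_of_isR (L : Lab F Q M z) {x : G} (hx : x ∈ Q) (hr : IsR (L.v x)) : L.TwoA x := by
  refine ⟨1, ?_⟩
  have e : (1 : G)⁻¹ * x * 1 = x := by group
  rw [e]; exact ⟨hx, hr⟩

/-- For a conjugate `y` of `z` the two classes computed from `y` are the same. -/
theorem twoB_conj' (L : Lab F Q M z) (g y : G) (hy : y = g * z * g⁻¹) (x : G) :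
    (L.conj' g y hy).TwoB x ↔ L.TwoB x := by
  constructor
  · rintro ⟨k, rfl⟩
    exact ⟨k * g, by rw [hy]; group⟩
  · rintro ⟨k, rfl⟩
    exact ⟨k * g⁻¹, by rw [hy]; group⟩

theorem twoA_conj' (L : Lab F Q M z) (g y : G) (hy : y = g * z * g⁻¹) (x : G) :
    (L.conj' g y hy).TwoA x ↔ L.TwoA x := by
  constructor
  · rintro ⟨k, h1, h2⟩
    refine ⟨k * g, ?_⟩
    rw [mem_cj] at h1
    rw [conj'_v] at h2
    have e : (k * g)⁻¹ * x * (k * g) = g⁻¹ * (k⁻¹ * x * k) * g := by group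
    rw [e]; exact ⟨h1, h2⟩
  · rintro ⟨k, h1, h2⟩
    refine ⟨k * g⁻¹, ?_⟩
    rw [mem_cj, conj'_v]
    have e : g⁻¹ * ((k * g⁻¹)⁻¹ * x * (k * g⁻¹)) * g = k⁻¹ * x * k := by group
    rw [e]; exact ⟨h1, h2⟩

end Lab

/-! ### the constructor -/

section OfLarge

open Classical

variable {F : Type*} [Field F] {G : Type*} [Group G] [Finite G] {Q : Subgroup G} {z : G}

/-- label of an element, from `lab : h.V ≃+ F ^ 6` -/
noncomputable def vOf (h : Large Q z) (lab : h.V ≃+ (Fin 6 → F)) (x : G) : Fin 6 → F :=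
  if hx : x ∈ Q then lab (h.pr ⟨x, hx⟩) else 0

/-- action, from `lab : h.V ≃+ F ^ 6` -/
noncomputable def ρOf (h : Large Q z) (lab : h.V ≃+ (Fin 6 → F)) (c : G) (w : Fin 6 → F) :
    Fin 6 → F :=
  if hc : c ∈ Subgroup.centralizer ({z} : Set G) then lab (h.act ⟨c, hc⟩ (lab.symm w)) else w

omit [Finite G] in
theorem vOf_coe (h : Large Q z) (lab : h.V ≃+ (Fin 6 → F)) (x : Q) :
    vOf h lab x = lab (h.pr x) := by
  rw [vOf, dif_pos x.2]

omit [Finite G] in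
theorem ρOf_coe (h : Large Q z) (lab : h.V ≃+ (Fin 6 → F))
    (c : Subgroup.centralizer ({z} : Set G)) (w : Fin 6 → F) :
    ρOf h lab c w = lab (h.act c (lab.symm w)) := by
  rw [ρOf, dif_pos c.2]

/-- Constructor of `Lab` from the linearised data. -/
noncomputable def ofLarge (h : Large Q z) (hF : Nat.card F = 4) (lab : h.V ≃+ (Fin 6 → F))
    (q_lab : ∀ w, h.q w = 0 ↔ H (lab w) (lab w) = 0)
    (b_lab : ∀ u w, h.b u w = 0 ↔ H (lab u) (lab w) = 0 ∨ H (lab u) (lab w) = 1)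
    (M : Subgroup (Subgroup.centralizer ({z} : Set G))) (hn : M.Normal) (hi : M.index = 2)
    (hQM : ∀ c : Subgroup.centralizer ({z} : Set G), (c : G) ∈ Q → c ∈ M)
    (lin : ∀ m ∈ M, ∃ A : Matrix.SpecialLinearGroup (Fin 6) F, A ∈ Cfsg.SU 6 F 2 ∧
      ∀ w, lab (h.act m w) = (A : Matrix (Fin 6) (Fin 6) F).mulVec (lab w))
    (semi : ∀ c, IsLin (fun w => lab (h.act c (lab.symm w))) ∨
      IsSemi (fun w => lab (h.act c (lab.symm w))))
    (mono : ∀ (s : Equiv.Perm (Fin 6)) (d : Fin 6 → Fˣ), Equiv.Perm.sign s = 1 → ∏ i, d i = 1 →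
      ∃ m ∈ M, ∀ (w : h.V) (i : Fin 6), lab (h.act m w) i = (d i : F) * lab w (s⁻¹ i))
    (pres : ∀ c w, IsR (lab w) → IsR (lab (h.act c w)))
    (scal : ∀ a : F, a ≠ 0 → ∃ n ∈ M, ∀ w, lab (h.act n w) = a • lab w)
    (tau : ∀ r r', IsR r → IsR r' → ∃ m ∈ M, ∀ w, lab (h.act m w) = tr r (tr r' (lab w)))
    (transR : ∀ r r', IsR r → IsR r' → ∃ m ∈ M, lab (h.act m (lab.symm r)) = r')
    (transS : ∀ s s', IsS s → IsS s' → ∃ m ∈ M, lab (h.act m (lab.symm s)) = s')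
    (triv : ∀ m ∈ M, ∀ r, IsR r → lab (h.act m (lab.symm r)) = r →
      (∀ w, H (lab w) r = 0 → ∃ a : F, lab (h.act m w) = lab w + a • r) → h.act m = 1)
    (cardM : Nat.card M = 9797760 * Nat.card Q) :
    Lab F Q (M.map (Subgroup.centralizer ({z} : Set G)).subtype) z where
  card := hF
  large := h
  v := vOf h lab
  ρ := ρOf h lab
  v_mul x hx y hy := by
    rw [vOf_coe h lab ⟨x, hx⟩, vOf_coe h lab ⟨y, hy⟩]
    have : x * y = ((⟨x, hx⟩ * ⟨y, hy⟩ : Q) : G) := rfl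
    rw [this, vOf_coe, h.pr_mul, map_add]
  v_eq_zero x hx := by
    rw [vOf_coe h lab ⟨x, hx⟩, AddEquiv.map_eq_zero_iff, h.pr_eq_zero]
  v_surj w := by
    obtain ⟨x, hx⟩ := h.pr_surjective (lab.symm w)
    exact ⟨x, x.2, by rw [vOf_coe, hx, AddEquiv.apply_symm_apply]⟩
  v_conj c hc x hx := by
    have hc' : c ∈ Subgroup.centralizer ({z} : Set G) := Subgroup.mem_centralizer_singleton_iff.2 hc
    rw [vOf_coe h lab ⟨x, hx⟩, ρOf_coe h lab ⟨c, hc'⟩, AddEquiv.symm_apply_apply, h.act_pr]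
    exact vOf_coe h lab (h.conjQ ⟨c, hc'⟩ ⟨x, hx⟩)
  sq_iff x hx := by
    rw [vOf_coe h lab ⟨x, hx⟩, ← q_lab, h.q_eq_zero]
  comm_iff x hx y hy := by
    rw [vOf_coe h lab ⟨x, hx⟩, vOf_coe h lab ⟨y, hy⟩, ← b_lab, h.b_pr]
  mem_Q c hc hw := by
    have hc' : c ∈ Subgroup.centralizer ({z} : Set G) := Subgroup.mem_centralizer_singleton_iff.2 hc
    have hf : Finite Q := inferInstance
    apply h.mem_of_act ⟨c, hc'⟩
    ext w
    have := hw (lab w)
    rw [ρOf_coe h lab ⟨c, hc'⟩, AddEquiv.symm_apply_apply] at this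
    exact lab.injective this
  Q_le := by
    intro x hx
    exact ⟨⟨x, Subgroup.mem_centralizer_singleton_iff.2 (h.comm_z x hx)⟩, hQM _ hx, rfl⟩
  M_comm := by
    rintro _ ⟨m, -, rfl⟩
    exact Subgroup.mem_centralizer_singleton_iff.1 m.2
  M_conj := by
    rintro c hc _ ⟨m, hm, rfl⟩
    exact ⟨⟨c, Subgroup.mem_centralizer_singleton_iff.2 hc⟩ * m *
      (⟨c, Subgroup.mem_centralizer_singleton_iff.2 hc⟩)⁻¹, hn.conj_mem m hm _, rfl⟩
  M_mul c d hc hd hcM hdM := by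
    have hc' : (⟨c, Subgroup.mem_centralizer_singleton_iff.2 hc⟩ :
        Subgroup.centralizer ({z} : Set G)) ∉ M := fun hh => hcM ⟨_, hh, rfl⟩
    have hd' : (⟨d, Subgroup.mem_centralizer_singleton_iff.2 hd⟩ :
        Subgroup.centralizer ({z} : Set G)) ∉ M := fun hh => hdM ⟨_, hh, rfl⟩
    refine ⟨_, (Subgroup.mul_mem_iff_of_index_two hi).2 (iff_of_false hc' hd'), rfl⟩
  exists_not_mem := by
    have : M ≠ ⊤ := by
      intro e
      rw [e, Subgroup.index_top] at hi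
      exact absurd hi (by norm_num)
    obtain ⟨c, hc⟩ : ∃ c, c ∉ M := by
      by_contra hh
      push Not at hh
      exact this (Subgroup.eq_top_iff' M |>.2 hh)
    refine ⟨c, Subgroup.mem_centralizer_singleton_iff.1 c.2, ?_⟩
    rintro ⟨d, hd, hdc⟩
    exact hc ((Subtype.ext hdc : d = c) ▸ hd)
  lin := by
    rintro _ ⟨m, hm, rfl⟩
    obtain ⟨A, hA, hm'⟩ := lin m hm
    refine ⟨A, hA, fun w => ?_⟩
    rw [Subgroup.coe_subtype, ρOf_coe, hm', AddEquiv.apply_symm_apply]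
  semi c hc := by
    have hc' : c ∈ Subgroup.centralizer ({z} : Set G) := Subgroup.mem_centralizer_singleton_iff.2 hc
    have e : ρOf h lab c = fun w => lab (h.act ⟨c, hc'⟩ (lab.symm w)) := by
      funext w
      exact ρOf_coe h lab ⟨c, hc'⟩ w
    rw [e]
    exact semi ⟨c, hc'⟩
  mono s d hs hd := by
    obtain ⟨m, hm, h'⟩ := mono s d hs hd
    refine ⟨m, ⟨m, hm, rfl⟩, fun w i => ?_⟩
    rw [ρOf_coe, h', AddEquiv.apply_symm_apply]
  pres c hc w hw := by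
    have hc' : c ∈ Subgroup.centralizer ({z} : Set G) := Subgroup.mem_centralizer_singleton_iff.2 hc
    rw [ρOf_coe h lab ⟨c, hc'⟩]
    exact pres _ _ (by rwa [AddEquiv.apply_symm_apply])
  scal a ha := by
    obtain ⟨m, hm, h'⟩ := scal a ha
    refine ⟨m, ⟨m, hm, rfl⟩, fun w => ?_⟩
    rw [ρOf_coe, h', AddEquiv.apply_symm_apply]
  tau r r' hr hr' := by
    obtain ⟨m, hm, h'⟩ := tau r r' hr hr'
    refine ⟨m, ⟨m, hm, rfl⟩, fun w => ?_⟩
    rw [ρOf_coe, h', AddEquiv.apply_symm_apply]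
  transR r r' hr hr' := by
    obtain ⟨m, hm, h'⟩ := transR r r' hr hr'
    refine ⟨m, ⟨m, hm, rfl⟩, ?_⟩
    rw [ρOf_coe, h']
  transS r r' hr hr' := by
    obtain ⟨m, hm, h'⟩ := transS r r' hr hr'
    refine ⟨m, ⟨m, hm, rfl⟩, ?_⟩
    rw [ρOf_coe, h']
  triv := by
    rintro _ ⟨m, hm, rfl⟩ r hr h1 h2 w
    rw [Subgroup.coe_subtype] at h1 h2 ⊢
    rw [ρOf_coe] at h1 ⊢
    have := triv m hm r hr h1 (fun u hu => by
      obtain ⟨a, ha⟩ := h2 _ hu
      rw [ρOf_coe, AddEquiv.symm_apply_apply] at ha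
      exact ⟨a, ha⟩)
    rw [this]
    exact AddEquiv.apply_symm_apply _ _
  cardM := by
    rw [← cardM]
    exact Subgroup.card_map_of_injective (Subgroup.subtype_injective _)
  cardC := by
    have h1 := Subgroup.card_mul_index M
    rw [hi] at h1
    rw [← h1, mul_comm]
    congr 1
    exact (Subgroup.card_map_of_injective (Subgroup.subtype_injective _)).symm

end OfLarge

end Cfsg.Agent.R08.Iface
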