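import Cfsg.Agent.R08.ModFrame
import Cfsg.Agent.R08.Iface

/-!
# R08 (S1715), piece (0) Part B: from `FrameData` to `Iface.Lab` (helper256)
-/

set_option autoImplicit false

namespace Cfsg.Agent.R08.ModLab

open Cfsg.Agent.SporRec.GF4 Cfsg.Agent.R08.ModVec Cfsg.Agent.R08.ModMono Cfsg.Agent.R08.Frame
open Cfsg.Agent.R08.ModOrb Cfsg.Agent.R08.ModIso Cfsg.Agent.R08.ModTau Cfsg.Agent.R08.ModSig
open Cfsg.Agent.R08.ModTriv Cfsg.Agent.R08.ModFrame Cfsg.Agent.Co2Type.Quad

/-! ### the definitions of `Iface` over `F4` -/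

theorem H_eq (u v : W) : Iface.H u v = herm u v := rfl

theorem tr_eq (r x : W) : Iface.tr r x = tau r x := rfl

theorem wt_eq_iface (v : W) : Iface.wt v = wt v := by
  unfold Iface.wt wt
  congr

theorem isR_iface (v : W) : Iface.IsR v ↔ IsR v := by
  unfold Iface.IsR IsR
  rw [wt_eq_iface]

theorem isS_iface (v : W) : Iface.IsS v ↔ IsS v := by
  unfold Iface.IsS IsS
  rw [wt_eq_iface]

theorem card_isR (P : W → Prop) [DecidablePred P] (hP : ∀ v, P v ↔ IsR v) :
    (Finset.univ.filter P).card = 378 := by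
  rw [card_W (p := isRN) (fun v => (hP v).trans (isR_iff v))]
  decide +kernel

/-- fast test for `IsS` -/
def isSN (a b c d e f : F4) : Bool :=
  match wtN a b c d e f with
  | 4 => true
  | 6 => ! (prN a b c d e f == .o)
  | _ => false

theorem isS_iff (v : W) : IsS v ↔ isSN (v 0) (v 1) (v 2) (v 3) (v 4) (v 5) = true := by
  unfold IsS isSN
  rw [← wt_eq', ← prod_eq']
  have hle := wt_le v
  have hcase : wt v = 0 ∨ wt v = 1 ∨ wt v = 2 ∨ wt v = 3 ∨ wt v = 4 ∨ wt v = 5 ∨ wt v = 6 := by omega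
  rcases hcase with h | h | h | h | h | h | h <;> rw [h]
  · simp
  · simp
  · simp
  · simp
  · simp
  · simp
  · show _ ↔ (! (∏ i, v i == F4.o)) = true
    rw [Bool.not_eq_true', beq_eq_false_iff_ne]
    constructor
    · rintro (h1 | h1)
      · omega
      · exact h1.2
    · intro h1; exact Or.inr ⟨rfl, h1⟩

theorem card_isS (P : W → Prop) [DecidablePred P] (hP : ∀ v, P v ↔ IsS v) :
    (Finset.univ.filter P).card = 1701 := by
  rw [card_W (p := isSN) (fun v => (hP v).trans (isS_iff v))]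
  decide +kernel

section Main

variable {G : Type*} [Group G] {Q : Subgroup G} {z : G} {h : Large Q z}
  {N M : Subgroup (Subgroup.centralizer ({z} : Set G))}

/-- the action in coordinates -/
noncomputable def fn (fd : FrameData h N M F4) (c : Subgroup.centralizer ({z} : Set G)) (w : W) : W :=
  fd.lab (h.act c (fd.lab.symm w))

theorem fn_lab (fd : FrameData h N M F4) (c : Subgroup.centralizer ({z} : Set G)) (v : h.V) :
    fn fd c (fd.lab v) = fd.lab (h.act c v) := by
  unfold fn
  rw [AddEquiv.symm_apply_apply]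

theorem fn_mul (fd : FrameData h N M F4) (c d : Subgroup.centralizer ({z} : Set G)) (w : W) :
    fn fd (c * d) w = fn fd c (fn fd d w) := by
  unfold fn
  rw [AddEquiv.symm_apply_apply, map_mul]
  rfl

theorem fn_one (fd : FrameData h N M F4) (w : W) : fn fd 1 w = w := by
  unfold fn
  rw [map_one]
  exact AddEquiv.apply_symm_apply _ _

theorem fn_inj (fd : FrameData h N M F4) (c : Subgroup.centralizer ({z} : Set G)) :
    Function.Injective (fn fd c) := by
  intro u w huw
  have := congrArg (fn fd c⁻¹) huw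
  rwa [← fn_mul, ← fn_mul, inv_mul_cancel, fn_one, fn_one] at this

theorem fn_form (fd : FrameData h N M F4) (c : Subgroup.centralizer ({z} : Set G)) (u w : W) :
    (herm (fn fd c u) (fn fd c w) = 0 ∨ herm (fn fd c u) (fn fd c w) = 1) ↔
      (herm u w = 0 ∨ herm u w = 1) := by
  obtain ⟨u, rfl⟩ := fd.lab.surjective u
  obtain ⟨w, rfl⟩ := fd.lab.surjective w
  rw [fn_lab, fn_lab]
  have h1 := fd.b_lab (h.act c u) (h.act c w)
  rw [h.b_act] at h1
  exact h1.symm.trans (fd.b_lab u w)

theorem fn_mem (fd : FrameData h N M F4) {m : Subgroup.centralizer ({z} : Set G)} (hm : m ∈ M) :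
    ∃ A ∈ grp fd, ∀ w, fn fd m w = A • w := by
  obtain ⟨A, -, hA⟩ := fd.lin m hm
  refine ⟨A, ⟨m, hm, hA⟩, fun w => ?_⟩
  obtain ⟨w, rfl⟩ := fd.lab.surjective w
  rw [fn_lab, hA]
  rfl

theorem fn_scal (fd : FrameData h N M F4) (hN : N.Normal)
    (c : Subgroup.centralizer ({z} : Set G)) :
    (∀ (a : F4) (w : W), fn fd c (a • w) = a • fn fd c w) ∨
      (∀ (a : F4) (w : W), fn fd c (a • w) = cj a • fn fd c w) := by
  have h1 : ∀ a : F4ˣ, ∃ b : F4ˣ, ∀ w, fn fd c ((a : F4) • w) = (b : F4) • fn fd c w := by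
    intro a
    obtain ⟨n, hn, hna⟩ := fd.scal' a
    obtain ⟨b, hb⟩ := fd.scal (c * n * c⁻¹) (hN.conj_mem n hn c)
    refine ⟨b, fun w => ?_⟩
    have h2 : fn fd n w = (a : F4) • w := by
      obtain ⟨w, rfl⟩ := fd.lab.surjective w
      rw [fn_lab, hna]
    have h3 : fn fd (c * n * c⁻¹) (fn fd c w) = (b : F4) • fn fd c w := by
      obtain ⟨w', hw'⟩ := fd.lab.surjective (fn fd c w)
      rw [← hw', fn_lab, hb]
    rw [← h2, ← h3, ← fn_mul, ← fn_mul]
    congr 1
    group
  have hne : ∀ w : W, w ≠ 0 → fn fd c w ≠ 0 := by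
    intro w hw h0
    apply hw
    apply fn_inj fd c
    rw [h0]
    unfold fn
    rw [map_zero, map_zero, map_zero]
  obtain ⟨b, hb⟩ := h1 (Units.mk0 .w (by decide))
  have hb' : ∀ w, fn fd c (F4.w • w) = (b : F4) • fn fd c w := hb
  have hv : ∀ w, fn fd c (F4.v • w) = ((b : F4) * b) • fn fd c w := by
    intro w
    have : F4.v • w = F4.w • (F4.w • w) := by rw [smul_smul]; rfl
    rw [this, hb', hb', smul_smul]
  have h0 : ∀ w, fn fd c ((0 : F4) • w) = 0 := by
    intro w
    rw [zero_smul]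
    unfold fn
    rw [map_zero, map_zero, map_zero]
  have hb1 : (b : F4) ≠ 1 := by
    intro hb1
    have h2 := hb' (e 0)
    rw [hb1, one_smul] at h2
    have h3 := congrFun (fn_inj fd c h2) 0
    exact absurd h3 (by decide)
  have hb0 : (b : F4) ≠ 0 := b.ne_zero
  have hcase : (b : F4) = .w ∨ (b : F4) = .v := by
    revert hb0 hb1
    generalize (b : F4) = x
    cases x <;> decide
  rcases hcase with hb2 | hb2
  · left
    intro a w
    cases a
    · show fn fd c ((0 : F4) • w) = (0 : F4) • _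
      rw [h0, zero_smul]
    · show fn fd c ((1 : F4) • w) = (1 : F4) • _
      rw [one_smul, one_smul]
    · rw [hb', hb2]
    · rw [hv, hb2]; rfl
  · right
    intro a w
    cases a
    · show fn fd c ((0 : F4) • w) = (0 : F4) • _
      rw [h0, zero_smul]
    · show fn fd c ((1 : F4) • w) = (1 : F4) • _
      rw [one_smul, one_smul]
    · rw [hb', hb2]; rfl
    · rw [hv, hb2]; rfl

theorem key_lin : ∀ x y : F4, (∀ l : F4, (l * y = 0 ∨ l * y = 1) ↔ (l * x = 0 ∨ l * x = 1)) →
    y = x := by decide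

theorem key_semi : ∀ x y : F4, (∀ l : F4, (cj l * y = 0 ∨ cj l * y = 1) ↔
    (l * x = 0 ∨ l * x = 1)) → y = cj x := by decide

theorem semi (fd : FrameData h N M F4) (hN : N.Normal) (c : Subgroup.centralizer ({z} : Set G)) :
    Iface.IsLin (fn fd c) ∨ Iface.IsSemi (fn fd c) := by
  rcases fn_scal fd hN c with h1 | h1
  · left
    refine ⟨h1, fun u w => ?_⟩
    apply key_lin
    intro l
    have h2 := fn_form fd c (l • u) w
    rw [h1, herm_smul_left, herm_smul_left] at h2
    exact h2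
  · right
    refine ⟨fun a w => by rw [sq_eq_cj]; exact h1 a w, fun u w => ?_⟩
    rw [sq_eq_cj]
    apply key_semi
    intro l
    have h2 := fn_form fd c (l • u) w
    rw [h1, herm_smul_left, herm_smul_left] at h2
    exact h2

theorem herm_fn_self (fd : FrameData h N M F4) (c : Subgroup.centralizer ({z} : Set G)) {w : W}
    (hw : herm w w = 0) : herm (fn fd c w) (fn fd c w) = 0 := by
  obtain ⟨v, rfl⟩ := fd.lab.surjective w
  rw [fn_lab]
  have h1 := fd.q_lab v
  have h2 := fd.q_lab (h.act c v)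
  rw [h.q_act] at h2
  exact h2.1 (h1.2 hw)

theorem pres (fd : FrameData h N M F4) (hM : M.Normal) (hs : Std (grp fd))
    (c : Subgroup.centralizer ({z} : Set G)) {w : W} (hw : IsR w) : IsR (fn fd c w) := by
  classical
  have h1 := herm_fn_self fd c (herm_of_isR hw)
  have h2 : fn fd c w ≠ 0 := by
    intro h0
    apply isR_ne_zero hw
    apply fn_inj fd c
    rw [h0]
    unfold fn
    rw [map_zero, map_zero, map_zero]
  rcases isR_or_isS h1 h2 with h3 | h3
  · exact h3
  · exfalso
    have hsub : Finset.univ.filter (fun v : W => IsS v) ⊆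
        (Finset.univ.filter (fun v : W => IsR v)).image (fn fd c) := by
      intro s hs'
      rw [Finset.mem_filter] at hs'
      obtain ⟨A, ⟨m, hm, hmA⟩, hA⟩ := hs.transS h3 hs'.2
      rw [Finset.mem_image]
      have hfm : fn fd m (fn fd c w) = s := by
        obtain ⟨v, hv⟩ := fd.lab.surjective (fn fd c w)
        rw [← hv, fn_lab, hmA, hv, hA]
      refine ⟨fn fd (c⁻¹ * m * c) w, ?_, ?_⟩
      · rw [Finset.mem_filter]
        refine ⟨Finset.mem_univ _, ?_⟩
        have hcm : c⁻¹ * m * c ∈ M := by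
          have := hM.conj_mem m hm c⁻¹
          rwa [inv_inv] at this
        obtain ⟨B, hB, hBw⟩ := fn_mem fd hcm
        rw [hBw]
        exact (hs.isR_smul hB).2 hw
      · rw [← fn_mul, ← hfm, ← fn_mul]
        congr 1
        group
    have h4 := (Finset.card_le_card hsub).trans Finset.card_image_le
    rw [card_isR _ (fun v => Iff.rfl), card_isS _ (fun v => Iff.rfl)] at h4
    omega

/-- **Piece (0), Part B**: the labelling of `Q / ⟨z⟩` with standard `R` and `S`. -/
theorem exists_lab [Finite G] {F : Type*} [Field F] (hF : Nat.card F = 4)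
    (fd : FrameData h N M F) (hN : N.Normal) (hM : M.Normal) (hi : M.index = 2)
    (hQM : ∀ c : Subgroup.centralizer ({z} : Set G), (c : G) ∈ Q → c ∈ M) :
    Nonempty (Iface.Lab F4 Q (M.map (Subgroup.centralizer ({z} : Set G)).subtype) z) := by
  classical
  have hfin : Finite F := Nat.finite_of_card_ne_zero (by rw [hF]; norm_num)
  have hft : Fintype F := Fintype.ofFinite F
  have e : F ≃+* F4 := FiniteField.ringEquivOfCardEq (K := F) (K' := F4) (by
    rw [← Nat.card_eq_fintype_card, hF]; rfl)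
  obtain ⟨fd, hs⟩ := exists_std (toF4 fd e) hQM
  have hmem : ∀ {A : SL}, A ∈ grp fd → ∃ m ∈ M, ∀ v, fd.lab (h.act m v) = A • fd.lab v :=
    fun hA => hA
  refine ⟨Iface.ofLarge h (Nat.card_eq_fintype_card.trans rfl) fd.lab fd.q_lab fd.b_lab M hM hi hQM
    fd.lin (semi fd hN) fd.mono ?_ ?_ ?_ ?_ ?_ ?_ fd.card_M⟩
  · intro c w hw
    rw [isR_iface] at hw ⊢
    rw [← fn_lab]
    exact pres fd hM hs c hw
  · intro a ha
    obtain ⟨m, hm, hmv⟩ := fd.mono 1 (fun _ => Units.mk0 a ha) (Equiv.Perm.sign_one) (by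
      rw [Finset.prod_const, Finset.card_univ, Fintype.card_fin]
      apply Units.ext
      rw [Units.val_pow_eq_pow_val, Units.val_mk0, Units.val_one]
      revert ha
      cases a <;> decide)
    exact ⟨m, hm, fun w => funext fun i => hmv w i⟩
  · intro r r' hr hr'
    rw [isR_iface] at hr hr'
    obtain ⟨A, hA, hAv⟩ := tau_tau_mem hs hr hr'
    obtain ⟨m, hm, hmv⟩ := hmem hA
    exact ⟨m, hm, fun w => (hmv w).trans (hAv _)⟩
  · intro r r' hr hr'
    rw [isR_iface] at hr hr'
    obtain ⟨A, hA, hAv⟩ := hs.transR hr hr'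
    obtain ⟨m, hm, hmv⟩ := hmem hA
    exact ⟨m, hm, by rw [hmv, AddEquiv.apply_symm_apply, hAv]⟩
  · intro r r' hr hr'
    rw [isS_iface] at hr hr'
    obtain ⟨A, hA, hAv⟩ := hs.transS hr hr'
    obtain ⟨m, hm, hmv⟩ := hmem hA
    exact ⟨m, hm, by rw [hmv, AddEquiv.apply_symm_apply, hAv]⟩
  · intro m hm r hr h1 h2
    rw [isR_iface] at hr
    obtain ⟨A, hA, hAm⟩ := fd.lin m hm
    have hAm' : ∀ v, fd.lab (h.act m v) = A • fd.lab v := hAm
    have hA1 : A = 1 := by
      refine triv hs ⟨m, hm, hAm'⟩ hr ?_ fun w hw => ?_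
      · have := hAm' (fd.lab.symm r)
        rw [h1, AddEquiv.apply_symm_apply] at this
        exact this.symm
      · obtain ⟨v, rfl⟩ := fd.lab.surjective w
        obtain ⟨a, ha⟩ := h2 v hw
        exact ⟨a, (hAm' v).symm.trans ha⟩
    ext v
    have := hAm' v
    rw [hA1, one_smul] at this
    exact fd.lab.injective this

end Main

end Cfsg.Agent.R08.ModLab
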