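import Cfsg.Agent.R08.FrameALin

/-!
# R08, piece (0), Part A: the forms in coordinates
-/

set_option autoImplicit false

namespace Cfsg.Agent.R08.FrameAForm

open Cfsg Cfsg.Agent.R08.FrameALin Cfsg.Agent.R08.FrameAMod Cfsg.Agent.SporadicStructure.UnitTwo
  Cfsg.Agent.LieClassical.HermBasic
open Finset

/-- a quadratic form over `F_2` in coordinates, invariant under even monomial matrices -/
structure Form (F : Type) [Field F] (ω : F) (Q : (Fin 6 → F) → ZMod 2)
    (B : (Fin 6 → F) → (Fin 6 → F) → ZMod 2) : Prop where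
  om : ω ^ 2 + ω + 1 = 0
  add_left : ∀ u v w, B (u + v) w = B u w + B v w
  add_right : ∀ u v w, B u (v + w) = B u v + B u w
  q_add : ∀ v w, Q (v + w) = Q v + Q w + B v w
  nd : ∀ v, (∀ w, B v w = 0) → v = 0
  scal : ∀ v, Q (ω • v) = Q v
  diag : ∀ d : Fin 6 → Fˣ, ∏ i, d i = 1 → ∀ v, Q (fun i => (d i : F) * v i) = Q v

namespace Form

variable {F : Type} [Field F] {ω : F} {Q : (Fin 6 → F) → ZMod 2}
    {B : (Fin 6 → F) → (Fin 6 → F) → ZMod 2}

theorem zero_right (f : Form F ω Q B) (u : Fin 6 → F) : B u 0 = 0 := by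
  have := f.add_right u 0 0
  rw [add_zero] at this
  exact left_eq_add.1 this

theorem zero_left (f : Form F ω Q B) (u : Fin 6 → F) : B 0 u = 0 := by
  have := f.add_left 0 0 u
  rw [add_zero] at this
  exact left_eq_add.1 this

theorem Q_zero (f : Form F ω Q B) : Q 0 = 0 := by
  have := f.q_add 0 0
  rw [add_zero, f.zero_left, add_zero] at this
  exact left_eq_add.1 this

/-- `B` is invariant under whatever leaves `Q` invariant -/
theorem B_inv (f : Form F ω Q B) {g : (Fin 6 → F) → (Fin 6 → F)} (hg : ∀ v w, g (v + w) = g v + g w)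
    (hQ : ∀ v, Q (g v) = Q v) (v w : Fin 6 → F) : B (g v) (g w) = B v w := by
  have h1 := f.q_add (g v) (g w)
  rw [← hg, hQ, hQ, hQ, f.q_add] at h1
  exact (add_left_cancel h1).symm

/-- different coordinates are orthogonal -/
theorem orth [Fintype F] (hF : Fintype.card F = 2 ^ 2) (f : Form F ω Q B) {i j : Fin 6} (hij : i ≠ j)
    (x y : F) : B (Pi.single i x) (Pi.single j y) = 0 := by
  classical
  have o3 := om3 f.om
  have o0 := om_ne0 f.om
  obtain ⟨k, hki, hkj⟩ : ∃ k : Fin 6, k ≠ i ∧ k ≠ j := by
    revert i j; decide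
  let u : Fˣ := Units.mk0 ω o0
  have hu : u * (u * u) = 1 := Units.ext (by
    show ω * (ω * ω) = 1
    rw [← o3]; ring)
  let d : Fin 6 → Fˣ := fun l => (if l = j then u else 1) * (if l = k then u * u else 1)
  have hd : ∏ l, d l = 1 := by
    rw [prod_mul_distrib, prod_ite_eq', prod_ite_eq', if_pos (mem_univ _), if_pos (mem_univ _), hu]
  have h1 := f.B_inv (g := fun v l => (d l : F) * v l)
    (fun v w => by ext l; simp [mul_add]) (f.diag d hd)
  have e1 : ∀ x : F, (fun l => (d l : F) * (Pi.single i x : Fin 6 → F) l) = Pi.single i x := by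
    intro x
    ext l
    by_cases hl : l = i
    · subst hl
      have : d l = 1 := by
        show (if l = j then u else 1) * (if l = k then u * u else 1) = 1
        rw [if_neg hij, if_neg (Ne.symm hki), one_mul]
      rw [this]; simp
    · rw [Pi.single_eq_of_ne hl, mul_zero]
  have e2 : ∀ y : F, (fun l => (d l : F) * (Pi.single j y : Fin 6 → F) l) = Pi.single j (ω * y) := by
    intro y
    ext l
    by_cases hl : l = j
    · subst hl
      have : d l = u := by
        show (if l = l then u else 1) * (if l = k then u * u else 1) = u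
        rw [if_pos rfl, if_neg (Ne.symm hkj), mul_one]
      rw [this]; simp [u]
    · rw [Pi.single_eq_of_ne hl, Pi.single_eq_of_ne hl, mul_zero]
  have h2 : ∀ x y : F, B (Pi.single i x) (Pi.single j (ω * y)) = B (Pi.single i x) (Pi.single j y) := by
    intro x y
    have := h1 (Pi.single i x) (Pi.single j y)
    simp only [e1, e2] at this
    exact this
  have h3 : ∀ y : F, B (Pi.single i x) (Pi.single j (y + ω * y)) = 0 := by
    intro y
    rw [Pi.single_add, f.add_right, h2]
    exact CharTwo.add_self_eq_zero _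
  have h4 : y = ω * y + ω * (ω * y) := by
    have h2 := two_eq_zero hF
    linear_combination y * f.om - (ω * y + ω ^ 2 * y) * h2
  rw [h4]
  exact h3 (ω * y)

theorem sum_right (f : Form F ω Q B) (u : Fin 6 → F) {ι : Type*} (s : Finset ι) (v : ι → Fin 6 → F) :
    B u (∑ i ∈ s, v i) = ∑ i ∈ s, B u (v i) := by
  classical
  induction s using Finset.induction_on with
  | empty => simp [f.zero_right]
  | insert a s ha ih => rw [sum_insert ha, sum_insert ha, f.add_right, ih]

theorem Q_single [Fintype F] (hF : Fintype.card F = 2 ^ 2) (f : Form F ω Q B) (i : Fin 6) {x : F}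
    (hx : x ≠ 0) : Q (Pi.single i x) = 1 := by
  have h1 : ∀ x : F, Q (Pi.single i (ω * x)) = Q (Pi.single i x) := by
    intro x
    have := f.scal (Pi.single i x)
    rwa [← Pi.single_smul, smul_eq_mul] at this
  have h2 : ∀ x : F, x ≠ 0 → Q (Pi.single i x) = Q (Pi.single i 1) := by
    intro x hx
    rcases cases4 hF f.om x with h | h | h | h
    · exact absurd h hx
    · rw [h]
    · have := h1 1
      rw [h]; rwa [mul_one] at this
    · have h3 := h1 1
      have h4 := h1 ω
      rw [mul_one] at h3
      rw [h, pow_two, h4, h3]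
  by_contra hne
  have h0 : Q (Pi.single i 1) = 0 := by
    rw [h2 x hx] at hne
    generalize Q (Pi.single i 1) = a at hne
    revert a; decide
  have h3 : ∀ y : F, Q (Pi.single i y) = 0 := by
    intro y
    by_cases hy : y = 0
    · rw [hy, Pi.single_zero, f.Q_zero]
    · rw [h2 y hy, h0]
  have h4 : ∀ y : F, B (Pi.single i 1) (Pi.single i y) = 0 := by
    intro y
    have := f.q_add (Pi.single i 1) (Pi.single i y)
    rw [← Pi.single_add, h3, h3, h3, zero_add, zero_add] at this
    exact this.symm
  have h5 : (Pi.single i 1 : Fin 6 → F) = 0 := by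
    refine f.nd _ fun w => ?_
    have : w = ∑ j, Pi.single j (w j) := (Finset.univ_sum_single w).symm
    rw [this, f.sum_right]
    refine sum_eq_zero fun j _ => ?_
    by_cases hj : j = i
    · rw [hj]; exact h4 _
    · exact f.orth hF (Ne.symm hj) _ _
  have := congrFun h5 i
  simp at this

theorem Q_sum [Fintype F] (hF : Fintype.card F = 2 ^ 2) (f : Form F ω Q B) (x : Fin 6 → F) :
    Q x = ∑ i, Q (Pi.single i (x i)) := by
  classical
  have h1 : ∀ s : Finset (Fin 6), Q (∑ i ∈ s, Pi.single i (x i)) = ∑ i ∈ s, Q (Pi.single i (x i)) := by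
    intro s
    induction s using Finset.induction_on with
    | empty => simp [f.Q_zero]
    | insert a s ha ih =>
      have h0 : ∑ j ∈ s, B (Pi.single a (x a)) (Pi.single j (x j)) = 0 :=
        sum_eq_zero fun j hj => f.orth hF (fun h : a = j => ha (by rw [h]; exact hj)) _ _
      rw [sum_insert ha, sum_insert ha, f.q_add, ih, f.sum_right, h0, add_zero]
  have := h1 univ
  rwa [Finset.univ_sum_single] at this

open Classical in
/-- `ZMod 2 → F` -/
noncomputable def dl (F : Type) [Field F] (a : ZMod 2) : F := if a = 0 then 0 else 1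

theorem dl_add [Fintype F] (hF : Fintype.card F = 2 ^ 2) (a b : ZMod 2) :
    dl F (a + b) = dl F a + dl F b := by
  have h01 : ∀ a : ZMod 2, a = 0 ∨ a = 1 := by decide
  have h11 : (1 : ZMod 2) + 1 = 0 := by decide
  rcases h01 a with h | h <;> rcases h01 b with h' | h' <;> rw [h, h']
  · simp [dl]
  · simp [dl]
  · simp [dl]
  · rw [h11]
    simp only [dl, if_true, one_ne_zero, if_false]
    exact (add_self hF 1).symm

theorem dl_eq_zero {a : ZMod 2} : dl F a = 0 ↔ a = 0 := by
  unfold dl
  split_ifs with h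
  · simp [h]
  · simp [h]

theorem dl_sum [Fintype F] (hF : Fintype.card F = 2 ^ 2) {ι : Type*} (s : Finset ι) (a : ι → ZMod 2) :
    dl F (∑ i ∈ s, a i) = ∑ i ∈ s, dl F (a i) := by
  classical
  induction s using Finset.induction_on with
  | empty => simp [dl]
  | insert b s hb ih => rw [sum_insert hb, sum_insert hb, dl_add hF, ih]

/-- `Q` is the hermitian norm -/
theorem dl_Q [Fintype F] (hF : Fintype.card F = 2 ^ 2) (f : Form F ω Q B) (x : Fin 6 → F) :
    dl F (Q x) = hermForm 6 F 2 x x := by
  rw [f.Q_sum hF, dl_sum hF, herm_def]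
  refine sum_congr rfl fun i _ => ?_
  by_cases hx : x i = 0
  · rw [hx, Pi.single_zero, f.Q_zero]; simp [dl]
  · rw [f.Q_single hF i hx]
    have := pow_three hF hx
    simp only [dl, one_ne_zero, if_false]
    rw [← this]; ring

theorem dl_B [Fintype F] (hF : Fintype.card F = 2 ^ 2) (f : Form F ω Q B) (x y : Fin 6 → F) :
    dl F (B x y) = hermForm 6 F 2 x y + (hermForm 6 F 2 x y) ^ 2 := by
  have h1 := congrArg (dl F) (f.q_add x y)
  rw [dl_add hF, dl_add hF, f.dl_Q hF, f.dl_Q hF, f.dl_Q hF, herm_add_left, herm_add_right hF,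
    herm_add_right hF, herm_swap hF x y] at h1
  linear_combination -h1

theorem B_eq_zero [Fintype F] (hF : Fintype.card F = 2 ^ 2) (f : Form F ω Q B) (x y : Fin 6 → F) :
    B x y = 0 ↔ hermForm 6 F 2 x y = 0 ∨ hermForm 6 F 2 x y = 1 := by
  rw [← dl_eq_zero (F := F), f.dl_B hF]
  generalize hermForm 6 F 2 x y = c
  have h2 := two_eq_zero hF
  constructor
  · intro h
    refine zero_or_one_of_fixed hF ?_
    linear_combination h - c * h2
  · rintro (h | h)
    · rw [h]; ring
    · rw [h]; linear_combination h2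

theorem Q_eq_zero [Fintype F] (hF : Fintype.card F = 2 ^ 2) (f : Form F ω Q B) (x : Fin 6 → F) :
    Q x = 0 ↔ hermForm 6 F 2 x x = 0 := by
  rw [← dl_eq_zero (F := F), f.dl_Q hF]

/-- linear maps which leave `Q` invariant are isometries -/
theorem isom [Fintype F] (hF : Fintype.card F = 2 ^ 2) (f : Form F ω Q B)
    {g : (Fin 6 → F) → (Fin 6 → F)} (hg : ∀ v w, g (v + w) = g v + g w)
    (hs : ∀ (c : F) v, g (c • v) = c • g v) (hQ : ∀ v, Q (g v) = Q v) (v w : Fin 6 → F) :
    hermForm 6 F 2 (g v) (g w) = hermForm 6 F 2 v w := by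
  have h1 : hermForm 6 F 2 (g v) (g w) - hermForm 6 F 2 v w = 0 := by
    refine eq_zero_of_forall_trace (q := 2) hF fun c => ?_
    have h2 := congrArg (dl F) (f.B_inv hg hQ (c • v) w)
    rw [f.dl_B hF, f.dl_B hF, hs, herm_smul_left, herm_smul_left] at h2
    have h3 := two_eq_zero hF
    linear_combination h2 - (c ^ 2 * hermForm 6 F 2 (g v) (g w) * hermForm 6 F 2 v w -
      c ^ 2 * hermForm 6 F 2 v w ^ 2) * h3
  exact sub_eq_zero.1 h1

end Form

/-- the form in the coordinates of `LabData` -/
theorem form_of_labData {H V : Type*} [Group H] [AddCommGroup V] [DistribMulAction H V] {F : Type}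
    [Field F] {n0 : H} (L : LabData H V F n0) (q : V → ZMod 2) (b : V → V → ZMod 2)
    (hbl : ∀ u v w, b (u + v) w = b u w + b v w) (hbr : ∀ u v w, b u (v + w) = b u v + b u w)
    (hadd : ∀ v w, q (v + w) = q v + q w + b v w) (hnd : ∀ v, (∀ w, b v w = 0) → v = 0)
    (hinv : ∀ (g : H) v, q (g • v) = q v) :
    Form F L.om (fun x => q (L.lab.symm x)) (fun x y => b (L.lab.symm x) (L.lab.symm y)) where
  om := L.om_eq
  add_left u v w := by rw [map_add, hbl]
  add_right u v w := by rw [map_add, hbr]
  q_add v w := by rw [map_add, hadd]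
  nd v hv := by
    have : L.lab.symm v = 0 := by
      refine hnd _ fun w => ?_
      have := hv (L.lab w)
      rwa [AddEquiv.symm_apply_apply] at this
    rwa [map_eq_zero_iff L.lab.symm L.lab.symm.injective] at this
  scal v := by
    have h1 : L.lab.symm (L.om • v) = n0 • L.lab.symm v := by
      rw [AddEquiv.symm_apply_eq, L.scal, AddEquiv.apply_symm_apply]
    rw [h1, hinv]
  diag d hd v := by
    obtain ⟨g, hg⟩ := L.mono 1 d (by simp) hd
    have h1 : L.lab.symm (fun i => (d i : F) * v i) = g • L.lab.symm v := by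
      rw [AddEquiv.symm_apply_eq]
      funext i
      rw [hg, AddEquiv.apply_symm_apply]; rfl
    rw [h1, hinv]

end Cfsg.Agent.R08.FrameAForm
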