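import Cfsg.Agent.R08.Frame
import Cfsg.Agent.R08.FrameAForm
import Cfsg.Agent.S0280
import Cfsg.Agent.S0283
import Cfsg.Agent.LargeExtra.Base

/-!
# R08 (S1715), piece (0), Part A: coordinates on `Q / ⟨z⟩`

`frameData_of_large`: from the hypotheses of S1715 (for `Large Q z`) to `FrameData h N M F`, for any field `F` with four
elements.
-/

set_option autoImplicit false

namespace Cfsg.Agent.R08.FrameA

open Cfsg Cfsg.Agent.Co2Type.Quad Cfsg.Agent.R08.Frame Cfsg.Agent.R08.FrameAData
  Cfsg.Agent.R08.FrameAGroup Cfsg.Agent.R08.FrameALin Cfsg.Agent.R08.FrameAForm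
  Cfsg.Agent.R08.FrameAMod Cfsg.Agent.SporadicStructure.FieldNine Cfsg.Agent.SporadicStructure.UnitTwo

theorem card_psu : Nat.card (Cfsg.PSU 4 K9 3) = 3265920 := by
  have h := Cfsg.Agent.S0280.result (F := K9) (q := 3) K9.card_K9' 4 (by norm_num)
  have h1 : Nat.gcd 4 (3 + 1) = 4 := by decide
  have h2 : 3 ^ (4 * (4 - 1) / 2) * ∏ i ∈ Finset.range 4,
      (if Even i then 3 ^ (i + 1) + 1 else 3 ^ (i + 1) - 1) = 52254720 := by decide
  rw [h1, h2] at h
  omega

theorem perf_psu : commutator (Cfsg.PSU 4 K9 3) = ⊤ := by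
  have h := Cfsg.Agent.LieClassical.HermPerfect.commutator_SU_eq_top (F := K9) (q := 3) K9.card_K9'
    (n := 4) (by norm_num) (by norm_num)
  have hp : Function.Surjective (QuotientGroup.mk' (Subgroup.center (Cfsg.SU 4 K9 3))) :=
    QuotientGroup.mk'_surjective _
  have h6 : (commutator (Cfsg.SU 4 K9 3)).map (QuotientGroup.mk' (Subgroup.center (Cfsg.SU 4 K9 3))) =
      commutator (Cfsg.PSU 4 K9 3) := by
    rw [commutator_def, Subgroup.map_commutator, commutator_def]
    rw [← MonoidHom.range_eq_map, MonoidHom.range_eq_top.2 hp]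
  rw [← h6, h, ← MonoidHom.range_eq_map, MonoidHom.range_eq_top.2 hp]

/-- **Part A of piece (0).** -/
theorem frameData_of_large {G : Type*} [Group G] [Finite G] {z : G}
    {Q N M : Subgroup (Subgroup.centralizer ({z} : Set G))} [Q.Normal] [N.Normal] [M.Normal]
    (h : Large (Q.map (Subgroup.centralizer ({z} : Set G)).subtype) z) (hcard : Nat.card Q = 2 ^ 13)
    (hQN : Q ≤ N) (hNM : N ≤ M) (hN : Nat.card N = 3 * Nat.card Q) (K : Type) [Field K] [Fintype K]
    (hK : Fintype.card K = 9) (e : M ⧸ N.subgroupOf M ≃* Cfsg.PSU 4 K 3)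
    (F : Type) [Field F] [Fintype F] (hF : Fintype.card F = 2 ^ 2) : Nonempty (FrameData h N M F) := by
  classical
  obtain ⟨ε⟩ := Cfsg.Agent.SporadicStructure.PsuMatch.psu_iso_of_card (F := K) (K := K9)
    (by rw [hK, K9.card_K9']; norm_num) 4 3
  have hQ' : Nat.card (Q.map (Subgroup.centralizer ({z} : Set G)).subtype) = Nat.card Q :=
    (Nat.card_congr (Q.equivMapOfInjective _ (Subgroup.subtype_injective _)).toEquiv).symm
  have hmemQ : ∀ c : Subgroup.centralizer ({z} : Set G),
      (c : G) ∈ Q.map (Subgroup.centralizer ({z} : Set G)).subtype ↔ c ∈ Q := by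
    intro c
    constructor
    · rintro ⟨d, hd, hdc⟩
      rwa [← (Subtype.ext hdc : d = c)]
    · intro hc
      exact ⟨c, hc, rfl⟩
  have hker : ∀ c : Subgroup.centralizer ({z} : Set G), h.act c = 1 ↔ c ∈ Q := fun c =>
    ⟨fun hc => (hmemQ c).1 (h.mem_of_act c hc), fun hc => h.act_mem c ((hmemQ c).2 hc)⟩
  -- the groups
  let a0 : M →* (h.V ≃ₗ[ZMod 2] h.V) := h.act.comp M.subtype
  let a := a0.rangeRestrict
  have ha : Function.Surjective a := a0.rangeRestrict_surjective
  have hact : ∀ (m : M) (v : h.V), a m • v = h.act m v := fun m v => rfl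
  let p : M →* Cfsg.PSU 4 K9 3 := (e.trans ε).toMonoidHom.comp (QuotientGroup.mk' (N.subgroupOf M))
  have hp : Function.Surjective p := (e.trans ε).surjective.comp (QuotientGroup.mk'_surjective _)
  have hpker : ∀ m : M, p m = 1 ↔ (m : Subgroup.centralizer ({z} : Set G)) ∈ N := by
    intro m
    have h1 : p m = 1 ↔ (QuotientGroup.mk' (N.subgroupOf M)) m = 1 :=
      map_eq_one_iff (e.trans ε) (e.trans ε).injective
    rw [h1, QuotientGroup.mk'_apply, QuotientGroup.eq_one_iff, Subgroup.mem_subgroupOf]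
  have haker : ∀ m : M, a m = 1 ↔ (m : Subgroup.centralizer ({z} : Set G)) ∈ Q := by
    intro m
    rw [← hker]
    exact ⟨fun h1 => congrArg Subtype.val h1, fun h1 => Subtype.ext h1⟩
  let π : a0.range →* Cfsg.PSU 4 K9 3 := a.liftOfSurjective ha ⟨p, fun m hm =>
    (hpker m).2 (hQN ((haker m).1 hm))⟩
  have hπ : ∀ m, π (a m) = p m := fun m => MonoidHom.liftOfRightInverse_comp_apply _ _ _ _ m
  have hfin : Finite (h.V ≃ₗ[ZMod 2] h.V) := DFunLike.finite _
  have hMpos : 0 < Nat.card Q := Nat.card_pos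
  have c1 : Nat.card Q * Nat.card a0.range = Nat.card M := by
    have h1 := a.ker.card_mul_index
    rw [Subgroup.index_ker, MonoidHom.range_eq_top.2 ha, Subgroup.card_top] at h1
    have h2 : a.ker = Q.subgroupOf M := by
      ext m; rw [MonoidHom.mem_ker, haker, Subgroup.mem_subgroupOf]
    rw [h2, Nat.card_congr (Subgroup.subgroupOfEquivOfLe (hQN.trans hNM)).toEquiv] at h1
    exact h1
  have c2 : Nat.card N * 3265920 = Nat.card M := by
    have h1 := p.ker.card_mul_index
    rw [Subgroup.index_ker, MonoidHom.range_eq_top.2 hp, Subgroup.card_top, card_psu] at h1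
    have h2 : p.ker = N.subgroupOf M := by
      ext m; rw [MonoidHom.mem_ker, hpker, Subgroup.mem_subgroupOf]
    rw [h2, Nat.card_congr (Subgroup.subgroupOfEquivOfLe hNM).toEquiv] at h1
    exact h1
  have hπs : Function.Surjective π := by
    intro s
    obtain ⟨m, rfl⟩ := hp s
    exact ⟨a m, hπ m⟩
  have E : Ext π := by
    refine ⟨hπs, ?_, perf_psu⟩
    have h1 := π.ker.card_mul_index
    rw [Subgroup.index_ker, MonoidHom.range_eq_top.2 hπs, Subgroup.card_top, card_psu] at h1
    rw [← h1, ← c2, hN] at c1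
    have h2 : Nat.card Q * 3265920 * Nat.card π.ker = Nat.card Q * 3265920 * 3 := by
      calc Nat.card Q * 3265920 * Nat.card π.ker = Nat.card Q * (Nat.card π.ker * 3265920) := by ring
        _ = 3 * Nat.card Q * 3265920 := c1
        _ = _ := by ring
    exact Nat.eq_of_mul_eq_mul_left (by omega) h2
  have hc : Nat.card h.V = 4096 := by
    have h1 := h.card_eq
    rw [hQ', hcard] at h1
    omega
  have hf : ∀ g : a0.range, (∀ v : h.V, g • v = v) → g = 1 := by
    intro g hg
    apply Subtype.ext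
    ext v
    exact hg v
  obtain ⟨n0, hn0, hn1, -, hall⟩ := E.exists_gen
  have I := E.input (uData : UData (Cfsg.PSU 4 K9 3)) hn0 hn1 hall
  obtain ⟨L⟩ := exists_labData hF h.add_self hf hc I
  have hq : ∀ (g : a0.range) v, h.q (g • v) = h.q v := by
    intro g v
    obtain ⟨m, rfl⟩ := ha g
    rw [hact, h.q_act]
  have f := form_of_labData L h.q (fun v w => h.b v w)
    (fun u v w => by rw [map_add]; rfl) (fun u v w => by rw [map_add])
    h.q_add' (fun v hv => h.b_nondeg hv) hq
  have hom3 : L.om ^ 3 = 1 := om3 L.om_eq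
  have hscal2 : ∀ v, L.lab ((n0 ^ 2) • v) = (L.om ^ 2) • L.lab v := by
    intro v
    rw [pow_two, pow_two, mul_smul, mul_smul, L.scal, L.scal]
  refine ⟨⟨L.lab, fun v => ?_, fun v w => ?_, fun n hn => ?_, fun c => ?_, fun m hm => ?_,
    fun s d hs hd => ?_, ?_⟩⟩
  · have := f.Q_eq_zero hF (L.lab v)
    rwa [AddEquiv.symm_apply_apply] at this
  · have := f.B_eq_zero hF (L.lab v) (L.lab w)
    rwa [AddEquiv.symm_apply_apply, AddEquiv.symm_apply_apply] at this
  · have h1 : π (a ⟨n, hNM hn⟩) = 1 := by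
      rw [hπ, hpker]; exact hn
    rcases hall _ h1 with h2 | h2 | h2
    · refine ⟨1, fun v => ?_⟩
      have := hact ⟨n, hNM hn⟩ v
      rw [← this, h2, one_smul, Units.val_one, one_smul]
    · refine ⟨Units.mk0 L.om (om_ne0 L.om_eq), fun v => ?_⟩
      have := hact ⟨n, hNM hn⟩ v
      rw [← this, h2, L.scal]; rfl
    · refine ⟨Units.mk0 (L.om ^ 2) (om2_ne0 L.om_eq), fun v => ?_⟩
      have := hact ⟨n, hNM hn⟩ v
      rw [← this, h2, hscal2]; rfl
  · have key : ∀ g : a0.range, π g = 1 → ∃ n ∈ N, ∀ v, h.act n v = g • v := by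
      intro g hg
      obtain ⟨m, rfl⟩ := ha g
      rw [hπ, hpker] at hg
      exact ⟨m, hg, fun v => rfl⟩
    rcases cases4 hF L.om_eq (c : F) with h1 | h1 | h1 | h1
    · exact absurd h1 c.ne_zero
    · obtain ⟨n, hn, hv⟩ := key 1 (map_one π)
      exact ⟨n, hn, fun v => by rw [hv, h1, one_smul, one_smul]⟩
    · obtain ⟨n, hn, hv⟩ := key n0 hn0
      exact ⟨n, hn, fun v => by rw [hv, h1, L.scal]⟩
    · obtain ⟨n, hn, hv⟩ := key (n0 ^ 2) (by rw [map_pow, hn0, one_pow])
      exact ⟨n, hn, fun v => by rw [hv, h1, hscal2]⟩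
  · obtain ⟨A, hA⟩ := L.lin (a ⟨m, hm⟩)
    refine ⟨A, ?_, fun v => hA v⟩
    intro u v
    have hQA : ∀ v, h.q (L.lab.symm ((A : Matrix (Fin 6) (Fin 6) F).mulVec v)) = h.q (L.lab.symm v) := by
      intro v
      have h1 := hA (L.lab.symm v)
      rw [AddEquiv.apply_symm_apply] at h1
      rw [← h1, AddEquiv.symm_apply_apply, hq]
    exact f.isom hF (g := fun v => (A : Matrix (Fin 6) (Fin 6) F).mulVec v)
      (fun v w => Matrix.mulVec_add _ v w) (fun c v => Matrix.mulVec_smul _ c v) hQA u v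
  · obtain ⟨g, hg⟩ := L.mono s d hs hd
    obtain ⟨m, rfl⟩ := ha g
    exact ⟨m, m.2, fun v i => hg v i⟩
  · rw [← c2, hN, hQ']; ring

/-- Part A with the hypotheses of S1715. -/
theorem exists_frameData {G : Type*} [Group G] [Finite G] (z : G) (hz : orderOf z = 2)
    (Q N M : Subgroup (Subgroup.centralizer ({z} : Set G))) [Q.Normal] [N.Normal] [M.Normal]
    (hFit : Cfsg.generalizedFittingSubgroup (Subgroup.centralizer ({z} : Set G)) = Q)
    (hQ : Cfsg.IsExtraspecial 2 Q) (hcard : Nat.card Q = 2 ^ 13) (hQN : Q ≤ N) (hNM : N ≤ M)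
    (hN : Nat.card N = 3 * Nat.card Q) (K : Type) [Field K] [Fintype K] (hK : Fintype.card K = 9)
    (e : M ⧸ N.subgroupOf M ≃* Cfsg.PSU 4 K 3)
    (F : Type) [Field F] [Fintype F] (hF : Fintype.card F = 2 ^ 2) :
    ∃ h : Large (Q.map (Subgroup.centralizer ({z} : Set G)).subtype) z,
      Nonempty (FrameData h N M F) := by
  have h : Large (Q.map (Subgroup.centralizer ({z} : Set G)).subtype) z := by
    subst hFit
    exact Cfsg.Agent.LargeExtra.Base.large_of_genFitting z hz hQ
  exact ⟨h, frameData_of_large h hcard hQN hNM hN K hK e F hF⟩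

end Cfsg.Agent.R08.FrameA
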