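import Cfsg.Agent.R08.ModTriv

/-!
# R08 (S1715), piece (0) Part B: from `FrameData` to `Std` (helper256)
-/

set_option autoImplicit false

namespace Cfsg.Agent.R08.ModFrame

open Cfsg.Agent.SporRec.GF4 Cfsg.Agent.R08.ModVec Cfsg.Agent.R08.ModMono Cfsg.Agent.R08.Frame
open Cfsg.Agent.R08.ModOrb Cfsg.Agent.R08.ModIso Cfsg.Agent.R08.ModTau Cfsg.Agent.R08.ModSig
open Cfsg.Agent.R08.ModTriv Cfsg.Agent.Co2Type.Quad

variable {G : Type*} [Group G] {Q : Subgroup G} {z : G} {h : Large Q z}
  {N M : Subgroup (Subgroup.centralizer ({z} : Set G))}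

/-! ### change of the field -/

section Transfer

variable {F : Type*} [Field F]

/-- coordinates through a ring isomorphism -/
def arrow (e : F ≃+* F4) : (Fin 6 → F) ≃+ W where
  toFun v i := e (v i)
  invFun v i := e.symm (v i)
  left_inv v := by funext i; exact e.symm_apply_apply _
  right_inv v := by funext i; exact e.apply_symm_apply _
  map_add' u v := by funext i; exact map_add e _ _

theorem arrow_apply (e : F ≃+* F4) (v : Fin 6 → F) (i : Fin 6) : arrow e v i = e (v i) := rfl

theorem herm_arrow (e : F ≃+* F4) (u v : Fin 6 → F) :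
    Cfsg.hermForm 6 F4 2 (arrow e u) (arrow e v) = e (Cfsg.hermForm 6 F 2 u v) := by
  unfold Cfsg.hermForm
  rw [map_sum]
  exact Finset.sum_congr rfl fun i _ => by rw [arrow_apply, arrow_apply, map_mul, map_pow]

theorem arrow_smul (e : F ≃+* F4) (a : F) (v : Fin 6 → F) : arrow e (a • v) = e a • arrow e v := by
  funext i
  exact map_mul e _ _

theorem arrow_mulVec (e : F ≃+* F4) (A : Matrix.SpecialLinearGroup (Fin 6) F) (v : Fin 6 → F) :
    arrow e ((A : Matrix (Fin 6) (Fin 6) F).mulVec v) =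
      ((Matrix.SpecialLinearGroup.map (e : F →+* F4) A : SL) :
        Matrix (Fin 6) (Fin 6) F4).mulVec (arrow e v) := by
  funext i
  exact RingHom.map_mulVec (e : F →+* F4) (A : Matrix (Fin 6) (Fin 6) F) v i

/-- transport to the concrete field -/
noncomputable def toF4 (fd : FrameData h N M F) (e : F ≃+* F4) : FrameData h N M F4 where
  lab := fd.lab.trans (arrow e)
  q_lab v := by
    show _ ↔ Cfsg.hermForm 6 F4 2 (arrow e (fd.lab v)) (arrow e (fd.lab v)) = 0
    rw [herm_arrow, map_eq_zero_iff e e.injective]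
    exact fd.q_lab v
  b_lab v w := by
    show _ ↔ Cfsg.hermForm 6 F4 2 (arrow e (fd.lab v)) (arrow e (fd.lab w)) = 0 ∨
      Cfsg.hermForm 6 F4 2 (arrow e (fd.lab v)) (arrow e (fd.lab w)) = 1
    rw [herm_arrow, map_eq_zero_iff e e.injective, map_eq_one_iff e e.injective]
    exact fd.b_lab v w
  scal n hn := by
    obtain ⟨c, hc⟩ := fd.scal n hn
    refine ⟨Units.map (e : F →* F4) c, fun v => ?_⟩
    show arrow e (fd.lab (h.act n v)) = e (c : F) • arrow e (fd.lab v)
    rw [hc, arrow_smul]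
  scal' c := by
    obtain ⟨n, hn, hc⟩ := fd.scal' (Units.map (e.symm : F4 →* F) c)
    refine ⟨n, hn, fun v => ?_⟩
    show arrow e (fd.lab (h.act n v)) = (c : F4) • arrow e (fd.lab v)
    rw [hc, arrow_smul]
    congr 1
    exact e.apply_symm_apply _
  lin m hm := by
    obtain ⟨A, hA, hAv⟩ := fd.lin m hm
    refine ⟨Matrix.SpecialLinearGroup.map (e : F →+* F4) A, ?_, fun v => ?_⟩
    · intro u v
      obtain ⟨u, rfl⟩ := (arrow e).surjective u
      obtain ⟨v, rfl⟩ := (arrow e).surjective v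
      show Cfsg.hermForm 6 F4 2
        (((Matrix.SpecialLinearGroup.map (e : F →+* F4) A : SL) :
          Matrix (Fin 6) (Fin 6) F4).mulVec (arrow e u))
        (((Matrix.SpecialLinearGroup.map (e : F →+* F4) A : SL) :
          Matrix (Fin 6) (Fin 6) F4).mulVec (arrow e v)) = _
      rw [← arrow_mulVec, ← arrow_mulVec, herm_arrow, herm_arrow]
      congr 1
      exact hA u v
    · show arrow e (fd.lab (h.act m v)) = _
      rw [hAv, arrow_mulVec]
      rfl
  mono s d hs hd := by
    obtain ⟨m, hm, hmv⟩ := fd.mono s (fun i => Units.map (e.symm : F4 →* F) (d i)) hs (by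
      rw [← map_prod, hd, map_one])
    refine ⟨m, hm, fun v i => ?_⟩
    show e (fd.lab (h.act m v) i) = d i * e (fd.lab v (s⁻¹ i))
    rw [hmv, map_mul]
    congr 1
    exact e.apply_symm_apply _
  card_M := fd.card_M

end Transfer

/-! ### rescaling of the basis -/

/-- rescaling of the coordinates -/
def resc (D : Fin 6 → F4ˣ) : W ≃+ W where
  toFun v i := (D i : F4) * v i
  invFun v i := ((D i)⁻¹ : F4ˣ) * v i
  left_inv v := by
    funext i
    show (((D i)⁻¹ : F4ˣ) : F4) * ((D i : F4) * v i) = v i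
    rw [← mul_assoc, Units.inv_mul, one_mul]
  right_inv v := by
    funext i
    show (D i : F4) * ((((D i)⁻¹ : F4ˣ) : F4) * v i) = v i
    rw [← mul_assoc, Units.mul_inv, one_mul]
  map_add' u v := by funext i; exact mul_add _ _ _

theorem resc_apply (D : Fin 6 → F4ˣ) (v : W) (i : Fin 6) : resc D v i = (D i : F4) * v i := rfl

theorem herm_resc (D : Fin 6 → F4ˣ) (u v : W) : herm (resc D u) (resc D v) = herm u v := by
  rw [herm_def, herm_def]
  refine Finset.sum_congr rfl fun i _ => ?_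
  rw [resc_apply, resc_apply, cj_mul]
  have := mul_cj (D i).ne_zero
  calc (D i : F4) * u i * (cj (D i) * cj (v i)) = ((D i : F4) * cj (D i)) * (u i * cj (v i)) := by ring
    _ = _ := by rw [this, one_mul]

theorem resc_smul (D : Fin 6 → F4ˣ) (a : F4) (v : W) : resc D (a • v) = a • resc D v := by
  funext i
  show (D i : F4) * (a * v i) = a * (D i * v i)
  ring

/-- conjugate of a matrix by a diagonal matrix -/
def cjD (D : Fin 6 → F4ˣ) (A : SL) : SL :=
  ⟨Matrix.diagonal (fun i => (D i : F4)) * A.1 * Matrix.diagonal (fun i => ((D i)⁻¹ : F4ˣ).val), by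
    rw [Matrix.det_mul, Matrix.det_mul, A.2, mul_one, Matrix.det_diagonal, Matrix.det_diagonal,
      ← Finset.prod_mul_distrib]
    exact Finset.prod_eq_one fun i _ => Units.mul_inv _⟩

theorem cjD_smul (D : Fin 6 → F4ˣ) (A : SL) (v : W) : cjD D A • resc D v = resc D (A • v) := by
  rw [smul_def, smul_def]
  show (Matrix.diagonal (fun i => (D i : F4)) * A.1 *
    Matrix.diagonal (fun i => ((D i)⁻¹ : F4ˣ).val)).mulVec (resc D v) = _
  rw [← Matrix.mulVec_mulVec, ← Matrix.mulVec_mulVec]
  have : (Matrix.diagonal (fun i => ((D i)⁻¹ : F4ˣ).val)).mulVec (resc D v) = v := by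
    funext i
    rw [Matrix.mulVec_diagonal, resc_apply, ← mul_assoc, Units.inv_mul, one_mul]
  rw [this]
  funext i
  rw [Matrix.mulVec_diagonal]
  rfl

/-- rescaled coordinates -/
noncomputable def rescale (fd : FrameData h N M F4) (D : Fin 6 → F4ˣ) : FrameData h N M F4 where
  lab := fd.lab.trans (resc D)
  q_lab v := by
    show _ ↔ herm (resc D (fd.lab v)) (resc D (fd.lab v)) = 0
    rw [herm_resc]
    exact fd.q_lab v
  b_lab v w := by
    show _ ↔ herm (resc D (fd.lab v)) (resc D (fd.lab w)) = 0 ∨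
      herm (resc D (fd.lab v)) (resc D (fd.lab w)) = 1
    rw [herm_resc]
    exact fd.b_lab v w
  scal n hn := by
    obtain ⟨c, hc⟩ := fd.scal n hn
    refine ⟨c, fun v => ?_⟩
    show resc D (fd.lab (h.act n v)) = (c : F4) • resc D (fd.lab v)
    rw [hc, resc_smul]
  scal' c := by
    obtain ⟨n, hn, hc⟩ := fd.scal' c
    refine ⟨n, hn, fun v => ?_⟩
    show resc D (fd.lab (h.act n v)) = (c : F4) • resc D (fd.lab v)
    rw [hc, resc_smul]
  lin m hm := by
    obtain ⟨A, hA, hAv⟩ := fd.lin m hm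
    refine ⟨cjD D A, ?_, fun v => ?_⟩
    · intro u v
      obtain ⟨u, rfl⟩ := (resc D).surjective u
      obtain ⟨v, rfl⟩ := (resc D).surjective v
      show herm (cjD D A • resc D u) (cjD D A • resc D v) = herm (resc D u) (resc D v)
      rw [cjD_smul, cjD_smul, herm_resc, herm_resc]
      exact hA u v
    · show resc D (fd.lab (h.act m v)) = cjD D A • resc D (fd.lab v)
      rw [cjD_smul, hAv]
      rfl
  mono s d hs hd := by
    obtain ⟨m, hm, hmv⟩ := fd.mono s (fun i => d i * (D i)⁻¹ * D (s⁻¹ i)) hs (by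
      rw [Finset.prod_mul_distrib, Finset.prod_mul_distrib, hd, one_mul,
        Equiv.prod_comp s⁻¹ D, ← Finset.prod_mul_distrib]
      exact Finset.prod_eq_one fun i _ => inv_mul_cancel _)
    refine ⟨m, hm, fun v i => ?_⟩
    show (D i : F4) * fd.lab (h.act m v) i = d i * (D (s⁻¹ i) * fd.lab v (s⁻¹ i))
    rw [hmv, Units.val_mul, Units.val_mul]
    have : (D i : F4) * (((D i)⁻¹ : F4ˣ) : F4) = 1 := Units.mul_inv _
    calc (D i : F4) * ((d i : F4) * (((D i)⁻¹ : F4ˣ) : F4) * (D (s⁻¹ i)) * fd.lab v (s⁻¹ i))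
        = ((D i : F4) * (((D i)⁻¹ : F4ˣ) : F4)) * ((d i : F4) * ((D (s⁻¹ i)) * fd.lab v (s⁻¹ i))) := by
          ring
      _ = _ := by rw [this, one_mul]
  card_M := fd.card_M

/-! ### the group of matrices -/

/-- the group of matrices of `M` -/
def grp (fd : FrameData h N M F4) : Subgroup SL where
  carrier := {A | ∃ m ∈ M, ∀ v, fd.lab (h.act m v) = A • fd.lab v}
  mul_mem' := by
    rintro A B ⟨m, hm, hA⟩ ⟨n, hn, hB⟩
    refine ⟨m * n, M.mul_mem hm hn, fun v => ?_⟩
    rw [map_mul, mul_smul, ← hB, ← hA]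
    rfl
  one_mem' := ⟨1, M.one_mem, fun v => by rw [map_one, one_smul]; rfl⟩
  inv_mem' := by
    rintro A ⟨m, hm, hA⟩
    refine ⟨m⁻¹, M.inv_mem hm, fun v => ?_⟩
    have h1 := hA (h.act m⁻¹ v)
    have h2 : h.act m (h.act m⁻¹ v) = v := by
      have : h.act (m * m⁻¹) v = v := by rw [mul_inv_cancel, map_one]; rfl
      rw [map_mul] at this
      exact this
    rw [h2] at h1
    rw [h1, inv_smul_smul]

theorem mem_grp (fd : FrameData h N M F4) (A : SL) :
    A ∈ grp fd ↔ ∃ m ∈ M, ∀ v, fd.lab (h.act m v) = A • fd.lab v := Iff.rfl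

theorem uniq (fd : FrameData h N M F4) {A B : SL} {c : Subgroup.centralizer ({z} : Set G)}
    (hA : ∀ v, fd.lab (h.act c v) = A • fd.lab v) (hB : ∀ v, fd.lab (h.act c v) = B • fd.lab v) :
    A = B := by
  apply sl_ext
  intro v
  obtain ⟨w, rfl⟩ := fd.lab.surjective v
  rw [← hA, ← hB]

theorem card_grp [Finite G] (fd : FrameData h N M F4)
    (hQM : ∀ c : Subgroup.centralizer ({z} : Set G), (c : G) ∈ Q → c ∈ M) :
    Nat.card (grp fd) = 9797760 := by
  classical
  have h1 : ∀ m : M, ∃ A : SL, ∀ v, fd.lab (h.act m v) = A • fd.lab v := by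
    intro m
    obtain ⟨A, -, hA⟩ := fd.lin m m.2
    exact ⟨A, hA⟩
  choose f hf using h1
  let φ : M →* grp fd :=
    { toFun := fun m => ⟨f m, m, m.2, hf m⟩
      map_one' := by
        apply Subtype.ext
        refine uniq fd (c := 1) (hf 1) fun v => ?_
        show fd.lab (h.act 1 v) = (1 : SL) • fd.lab v
        rw [map_one, one_smul]; rfl
      map_mul' := by
        intro m n
        apply Subtype.ext
        refine uniq fd (c := (m * n : M)) (hf (m * n)) fun v => ?_
        show fd.lab (h.act ((m : Subgroup.centralizer ({z} : Set G)) * n) v) = (f m * f n) • fd.lab v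
        rw [map_mul, mul_smul, ← hf n, ← hf m]
        rfl }
  have hsurj : Function.Surjective φ := by
    rintro ⟨A, m, hm, hA⟩
    exact ⟨⟨m, hm⟩, Subtype.ext (uniq fd (hf ⟨m, hm⟩) hA)⟩
  have hker : Nat.card φ.ker = Nat.card Q := by
    have hfin : Finite Q := inferInstance
    refine Nat.card_congr ⟨fun m => ⟨(((m : M) : Subgroup.centralizer ({z} : Set G)) : G), ?_⟩,
      fun x => ⟨⟨⟨x, Subgroup.mem_centralizer_singleton_iff.2 (h.comm_z x x.2)⟩, hQM _ x.2⟩, ?_⟩,
      fun m => rfl, fun x => rfl⟩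
    · apply h.mem_of_act
      ext v
      have h2 : f m = 1 := congrArg Subtype.val (MonoidHom.mem_ker.1 m.2)
      have h3 := hf m v
      rw [h2, one_smul] at h3
      exact fd.lab.injective h3
    · rw [MonoidHom.mem_ker]
      apply Subtype.ext
      refine uniq fd (hf _) fun v => ?_
      rw [h.act_mem _ x.2]
      show fd.lab v = (1 : SL) • fd.lab v
      rw [one_smul]
  have h2 := Subgroup.card_eq_card_quotient_mul_card_subgroup φ.ker
  rw [hker, Nat.card_congr (QuotientGroup.quotientKerEquivOfSurjective φ hsurj).toEquiv,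
    fd.card_M] at h2
  have h3 : 0 < Nat.card Q := Nat.card_pos
  exact (Nat.eq_of_mul_eq_mul_right h3 h2).symm

theorem linFrame [Finite G] (fd : FrameData h N M F4)
    (hQM : ∀ c : Subgroup.centralizer ({z} : Set G), (c : G) ∈ Q → c ∈ M) :
    LinFrame F4 (grp fd) where
  le := by
    rintro A ⟨m, hm, hA⟩
    obtain ⟨B, hB, hBv⟩ := fd.lin m hm
    rwa [uniq fd hA hBv]
  mono s d hs hd := by
    obtain ⟨m, hm, hmv⟩ := fd.mono s d hs hd
    obtain ⟨A, -, hAv⟩ := fd.lin m hm
    refine ⟨A, ⟨m, hm, hAv⟩, fun v i => ?_⟩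
    obtain ⟨w, rfl⟩ := fd.lab.surjective v
    rw [← hmv, hAv]
  card := card_grp fd hQM

theorem orb_rescale (fd : FrameData h N M F4) (D : Fin 6 → F4ˣ) {u v : W}
    (huv : Orb (grp fd) u v) : Orb (grp (rescale fd D)) (resc D u) (resc D v) := by
  obtain ⟨A, ⟨m, hm, hA⟩, rfl⟩ := huv
  refine ⟨cjD D A, ⟨m, hm, fun v => ?_⟩, cjD_smul D A u⟩
  show resc D (fd.lab (h.act m v)) = cjD D A • resc D (fd.lab v)
  rw [cjD_smul, hA]

/-- There are coordinates with the standard orbits `R`, `S`. -/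
theorem exists_std [Finite G] (fd : FrameData h N M F4)
    (hQM : ∀ c : Subgroup.centralizer ({z} : Set G), (c : G) ∈ Q → c ∈ M) :
    ∃ fd' : FrameData h N M F4, Std (grp fd') := by
  obtain ⟨c, hc, h2, h4⟩ := iso_orbits (linFrame fd hQM)
  let D : Fin 6 → F4ˣ := ![(Units.mk0 c hc)⁻¹, 1, 1, 1, 1, 1]
  obtain ⟨c', hc', h2', h4'⟩ := iso_orbits (linFrame (rescale fd D) hQM)
  have e1 : Orb (grp fd) u2 (u6 c) := (h2 _).2 (Or.inr ⟨wt_u6 hc, prod_u6 c⟩)
  have e2 := orb_rescale fd D e1
  have e3 : wt (resc D u2) = 2 := by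
    have : supp (resc D u2) = supp u2 := by
      ext i
      rw [mem_supp, mem_supp, resc_apply]
      constructor
      · intro h1 h2
        exact h1 (by rw [h2, mul_zero])
      · intro h1
        exact mul_ne_zero (D i).ne_zero h1
    rw [← card_supp, this]
    exact wt_u2
  have e4 : resc D (u6 c) = fun _ => 1 := by
    funext i
    rw [resc_apply]
    have hcc : (((Units.mk0 c hc)⁻¹ : F4ˣ) : F4) * c = 1 := by
      rw [Units.val_inv_eq_inv_val]
      exact inv_mul_cancel₀ hc
    fin_cases i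
    · exact hcc
    · exact one_mul _
    · exact one_mul _
    · exact one_mul _
    · exact one_mul _
    · exact one_mul _
  rw [e4] at e2
  have e5 : Orb (grp (rescale fd D)) u2 (fun _ => 1) :=
    (Orb.of_type (linFrame (rescale fd D) hQM) (wt_u2.trans e3.symm)
      (fun h => by rw [wt_u2] at h; omega)).trans e2
  have e6 : c' = 1 := by
    rcases (h2' _).1 e5 with h5 | ⟨-, h5⟩
    · exact absurd h5 (by decide)
    · rw [← h5]; decide
  refine ⟨rescale fd D, linFrame (rescale fd D) hQM, fun v => ?_, fun v => ?_⟩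
  · rw [h2', e6]; rfl
  · rw [h4', e6]; rfl

end Cfsg.Agent.R08.ModFrame
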