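import Cfsg.Agent.R01.AlphaFi23
import Cfsg.Agent.R01.FiHexad
import Cfsg.Agent.R01.Fi22Facts
import Cfsg.Agent.Fischer.Fi23Double

/-!
The centraliser `K` of a transposition `z0` in the presented group `Fi23`: a double cover of the presented group `Fi22`,
the transpositions commuting with `z0` are the lifts of a class of the transpositions of `Fi22`.
-/

set_option autoImplicit false
set_option linter.constructorNameAsVariable false
set_option maxRecDepth 10000

namespace Cfsg.Agent.R08.FiTwentyThree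

open Cfsg Cfsg.Spor Cfsg.Agent.Fischer Cfsg.Agent.Fischer.Abstract
open Cfsg.Agent.R01 Cfsg.Agent.R01.Lifts
open Cfsg.Agent.R01.AlphaFi23 (t closure_t zrels z0_mem)
open Cfsg.Agent.Fischer.Fi23Hom (gen)
open Cfsg.Agent.Fischer.Fi23Class (K)
open Cfsg.Agent.Fischer.Fi23Z (z0)

/-- The central involution of `K`. -/
def zK : K := ⟨z0, z0_mem⟩

theorem coe_zK : (zK : Fi23) = z0 := rfl

theorem zK_ne : zK ≠ 1 := by
  intro h
  have h1 : (zK : Fi23) = ((1 : K) : Fi23) := by rw [h]
  rw [coe_zK, Subgroup.coe_one] at h1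
  exact Fi23Double.z0_ne h1

theorem hyp : DoubleFi22.Hyp t where
  gen := closure_t
  cox := zrels.cox
  spider := zrels.spider
  e7 := zrels.e7a
  ne := by
    rw [zrels.e7b]
    exact zK_ne

theorem z_eq : DoubleFi22.z t = zK := zrels.e7b

theorem central (g : K) : zK * g = g * zK := zrels.z_central closure_t g

theorem zz : zK * zK = 1 := zrels.zz

/-- The kernel `⟨z0⟩`. -/
def N : Subgroup K := Subgroup.zpowers zK

instance normal_N : N.Normal := ⟨by
  intro n hn g
  have h1 : n ∈ Subgroup.center K := by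
    have : N ≤ Subgroup.center K := by
      unfold N
      rw [Subgroup.zpowers_le, Subgroup.mem_center_iff]
      intro g
      exact (central g).symm
    exact this hn
  rw [Subgroup.mem_center_iff.1 h1 g, mul_inv_cancel_right]
  exact hn⟩

theorem N_ne_top : N ≠ ⊤ := by
  intro h
  apply DoubleFi22.center_ne_top hyp
  rw [eq_top_iff, ← h]
  unfold N
  rw [Subgroup.zpowers_le, Subgroup.mem_center_iff]
  intro g
  exact (central g).symm

/-- The isomorphism of `Fi22` with `K/⟨z0⟩`. -/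
noncomputable def theta : Fi22 ≃* K ⧸ N :=
  DoubleFi22.thetaEquiv N hyp (by rw [z_eq]; exact Subgroup.mem_zpowers _) Fi22Facts.isSimple N_ne_top

theorem theta_gen (x : Fi22.Gen) : theta (Fi22PtsRep.gen x) = QuotientGroup.mk' N (t x) :=
  DoubleFi22.theta_of N hyp (by rw [z_eq]; exact Subgroup.mem_zpowers _) x

/-- **The homomorphism of `K` onto `Fi22`.** -/
noncomputable def pi : K →* Fi22 := theta.symm.toMonoidHom.comp (QuotientGroup.mk' N)

theorem pi_t (x : Fi22.Gen) : pi (t x) = Fi22PtsRep.gen x := by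
  show theta.symm (QuotientGroup.mk' N (t x)) = _
  rw [← theta_gen, MulEquiv.symm_apply_apply]

theorem pi_surjective : Function.Surjective pi := by
  intro x
  obtain ⟨y, hy⟩ := QuotientGroup.mk'_surjective N (theta x)
  refine ⟨y, ?_⟩
  show theta.symm (QuotientGroup.mk' N y) = x
  rw [hy, MulEquiv.symm_apply_apply]

theorem mem_N {x : K} : x ∈ N ↔ x = 1 ∨ x = zK := by
  unfold N
  constructor
  · intro h
    obtain ⟨m, rfl⟩ := Subgroup.mem_zpowers_iff.1 h
    rcases Int.even_or_odd' m with ⟨n, rfl | rfl⟩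
    · left
      rw [zpow_mul, show zK ^ (2 : ℤ) = 1 by rw [zpow_two, zz], one_zpow]
    · right
      rw [zpow_add, zpow_mul, show zK ^ (2 : ℤ) = 1 by rw [zpow_two, zz], one_zpow, one_mul, zpow_one]
  · rintro (rfl | rfl)
    · exact one_mem _
    · exact Subgroup.mem_zpowers _

theorem pi_ker (x : K) : pi x = 1 ↔ x = 1 ∨ x = zK := by
  rw [← mem_N]
  show theta.symm (QuotientGroup.mk' N x) = 1 ↔ _
  rw [MulEquiv.map_eq_one_iff]
  exact QuotientGroup.eq_one_iff x

theorem ext : Ext pi zK where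
  surj := pi_surjective
  zz := zz
  zne := zK_ne
  ker := pi_ker
  comm := fun c => (central c).symm

theorem perfect : commutator K = ⊤ := DoubleFi22.commutator_eq_top hyp

/-! ### The transpositions -/

/-- The class of the transpositions of `Fi23`. -/
def D : Set Fi23 := conjugatesOf z0

theorem finite_fi23 : Finite Fi23 := AlphaFi23.finite_fi23

theorem card_le : Nat.card Fi23 ≤ 4089470473293004800 := AlphaFi23.card_fi23_le

theorem gen_mem_D (x : Fi23.Gen) : gen x ∈ D :=
  have := finite_fi23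
  Fi23Class.isConj_gen card_le x

theorem z0_mem_D : z0 ∈ D := IsConj.refl z0

theorem conj_mem_D {d : Fi23} (hd : d ∈ D) (g : Fi23) : g * d * g⁻¹ ∈ D :=
  IsConj.trans hd (isConj_iff.2 ⟨g, rfl⟩)

theorem exists_rank3 : ∃ R : Rank3 Fi23 (Fi23 ⧸ K), R.t R.x0 = z0 ∧ R.x0 = ((1 : Fi23) : Fi23 ⧸ K) ∧
    Set.range R.t = D := by
  have := finite_fi23
  obtain ⟨R, h1, h2⟩ := Fi23Class.exists_rank3 card_le
  refine ⟨R, h1, h2, ?_⟩
  ext g
  constructor
  · rintro ⟨x, rfl⟩
    obtain ⟨h, rfl⟩ := R.trans x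
    rw [R.map_smul, h1]
    exact isConj_iff.2 ⟨h, rfl⟩
  · intro h
    obtain ⟨c, rfl⟩ := isConj_iff.1 (show IsConj z0 g from h)
    exact ⟨c • R.x0, by rw [R.map_smul, h1]⟩

theorem isThreeTranspositionClass : IsThreeTranspositionClass D := by
  obtain ⟨R, _, _, h⟩ := exists_rank3
  rw [← h]
  exact R.isThreeTranspositionClass

theorem ncard_D : D.ncard = 31671 := by
  obtain ⟨R, _, _, h⟩ := exists_rank3
  rw [← h, ← Nat.card_coe_set_eq, R.card_range, ← Subgroup.index_eq_card]
  exact AlphaFi23.index_K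

theorem sq_D {d : Fi23} (hd : d ∈ D) : d * d = 1 := by
  have h := isThreeTranspositionClass.1.1 d hd
  rw [← pow_two, ← h]
  exact pow_orderOf_eq_one d

theorem ne_one_D {d : Fi23} (hd : d ∈ D) : d ≠ 1 := by
  rintro rfl
  have h := isThreeTranspositionClass.1.1 _ hd
  rw [orderOf_one] at h
  exact absurd h (by norm_num)

theorem three_D {d e : Fi23} (hd : d ∈ D) (he : e ∈ D) : d * e = e * d ∨ (d * e) ^ 3 = 1 := by
  rcases isThreeTranspositionClass.1.2 d hd e he with h | h
  · left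
    exact DoubleFi22.comm_of_two (sq_D hd) (sq_D he) h
  · exact Or.inr h

/-- The centraliser of `z0` is `K`. -/
theorem mem_K_iff (g : Fi23) : g ∈ K ↔ g * z0 = z0 * g := by
  obtain ⟨R, h1, h2, _⟩ := exists_rank3
  rw [← Subgroup.mem_centralizer_singleton_iff, ← h1, R.mem_centralizer_iff, h2]
  constructor
  · intro h
    show ((g * 1 : Fi23) : Fi23 ⧸ K) = _
    rw [QuotientGroup.eq, mul_one, mul_one]
    exact K.inv_mem h
  · intro h
    have h3 : ((g * 1 : Fi23) : Fi23 ⧸ K) = ((1 : Fi23) : Fi23 ⧸ K) := h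
    rw [QuotientGroup.eq, mul_one, mul_one] at h3
    exact (Subgroup.inv_mem_iff K).1 h3

/-- The transpositions commuting with `z0`, different from `z0`, are conjugate to `a` in `K`. -/
theorem commuting_iff {e : Fi23} : e ∈ D ∧ e ≠ z0 ∧ e * z0 = z0 * e ↔
    ∃ k ∈ K, k * gen .a * k⁻¹ = e := by
  obtain ⟨R, h1, h2, h3⟩ := exists_rank3
  have fixK : ∀ k : Fi23, k • R.x0 = R.x0 ↔ k ∈ K := by
    intro k
    rw [← R.mem_centralizer_iff, h1, Subgroup.mem_centralizer_singleton_iff, mem_K_iff]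
  have key : ∀ e : Fi23, e ∈ D → e ≠ z0 → e * z0 = z0 * e → ∃ k ∈ K, k * R.t R.c * k⁻¹ = e := by
    intro e he hne hc
    rw [← h3] at he
    obtain ⟨x, rfl⟩ := he
    have hcom : R.Com R.x0 x := by
      rw [R.com_def, h1]
      exact hc.symm
    rcases R.com_x0_iff.1 hcom with rfl | ⟨h, hh, rfl⟩
    · exact absurd h1 hne
    · exact ⟨h, (fixK h).1 hh, (R.map_smul h R.c).symm⟩
  have ha : gen .a ≠ z0 := by
    intro h
    apply Fi23Class.z0_ncomm
    rw [← h]
    exact Fi23Class.gen_comm .a .j (by decide)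
  have hac : gen .a * z0 = z0 * gen .a := (mem_K_iff _).1 (Fi23Class.gen_mem_K .a (by decide))
  obtain ⟨k0, hk0, e0⟩ := key _ (gen_mem_D .a) ha hac
  constructor
  · rintro ⟨he, hne, hc⟩
    obtain ⟨k, hk, e1⟩ := key e he hne hc
    refine ⟨k * k0⁻¹, K.mul_mem hk (K.inv_mem hk0), ?_⟩
    rw [← e1, ← e0]
    group
  · rintro ⟨k, hk, rfl⟩
    refine ⟨conj_mem_D (gen_mem_D .a) k, ?_, ?_⟩
    · intro h
      apply ha
      have h4 := (mem_K_iff k).1 hk
      calc gen .a = k⁻¹ * (k * gen .a * k⁻¹) * k := by group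
        _ = k⁻¹ * (z0 * k) := by rw [h, mul_assoc]
        _ = k⁻¹ * (k * z0) := by rw [h4]
        _ = z0 := by group
    · exact (mem_K_iff _).1 (K.mul_mem (K.mul_mem hk (Fi23Class.gen_mem_K .a (by decide))) (K.inv_mem hk))

/-- The transpositions in `K`, except `z0`. -/
def S : Set K := {x | (x : Fi23) ∈ D ∧ (x : Fi23) ≠ z0}

theorem mem_S_iff {x : K} : x ∈ S ↔ ∃ k : K, k * t .a * k⁻¹ = x := by
  have h := commuting_iff (e := (x : Fi23))
  constructor
  · rintro ⟨h1, h2⟩
    obtain ⟨k, hk, e⟩ := h.1 ⟨h1, h2, (mem_K_iff _).1 x.2⟩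
    exact ⟨⟨k, hk⟩, Subtype.ext e⟩
  · rintro ⟨k, rfl⟩
    obtain ⟨h1, h2, _⟩ := h.2 ⟨k, k.2, rfl⟩
    exact ⟨h1, h2⟩

/-- The product of `z0` with a transposition is not a transposition. -/
theorem mul_z_nmem {x : K} (hx : x ∈ S) : x * zK ∉ S := by
  obtain ⟨k, rfl⟩ := mem_S_iff.1 hx
  intro h
  have h1 : t .a * zK ∈ S := by
    obtain ⟨k', hk'⟩ := mem_S_iff.1 h
    refine mem_S_iff.2 ⟨k⁻¹ * k', ?_⟩
    calc k⁻¹ * k' * t .a * (k⁻¹ * k')⁻¹ = k⁻¹ * (k' * t .a * k'⁻¹) * k := by group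
      _ = k⁻¹ * (k * t .a * k⁻¹ * zK) * k := by rw [hk']
      _ = t .a * k⁻¹ * (zK * k) := by group
      _ = t .a * k⁻¹ * (k * zK) := by rw [central]
      _ = t .a * zK := by group
  have ha : gen .a * z0 ∈ D := h1.1
  have haz : gen .a * z0 = z0 * gen .a := (mem_K_iff _).1 (Fi23Class.gen_mem_K .a (by decide))
  have haj : gen .a * gen .j = gen .j * gen .a := Fi23Class.gen_comm .a .j (by decide)
  have ha2 : gen .a * gen .a = 1 := sq_D (gen_mem_D .a)
  have h3 : (z0 * gen .j) ^ 3 = 1 := by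
    rcases three_D z0_mem_D (gen_mem_D .j) with h | h
    · exact absurd h Fi23Class.z0_ncomm
    · exact h
  have hc : Commute (gen .a) (z0 * gen .j) := by
    show gen .a * (z0 * gen .j) = z0 * gen .j * gen .a
    rw [← mul_assoc, haz, mul_assoc, haj, ← mul_assoc]
  rcases three_D ha (gen_mem_D .j) with h4 | h4
  · apply Fi23Class.z0_ncomm
    have h5 : gen .a * (z0 * gen .j) = gen .a * (gen .j * z0) := by
      rw [← mul_assoc, h4, ← mul_assoc, ← mul_assoc, haj]
    exact mul_left_cancel h5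
  · rw [mul_assoc, hc.mul_pow, h3, mul_one] at h4
    apply ne_one_D (gen_mem_D .a)
    have h5 : gen .a ^ 3 = gen .a := by rw [pow_succ, pow_two, ha2, one_mul]
    rw [← h5]
    exact h4

theorem comm_of_image {x y : K} (hx : x ∈ S) (hy : y ∈ S) (h : pi x * pi y = pi y * pi x) :
    x * y = y * x := by
  have hx2 : x * x = 1 := Subtype.ext (sq_D hx.1)
  have hy2 : y * y = 1 := Subtype.ext (sq_D hy.1)
  rcases three_D hx.1 hy.1 with h1 | h1
  · exact Subtype.ext h1
  · have h3 : (x * y) ^ 3 = 1 := Subtype.ext h1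
    have h4 : pi ((x * y) ^ 2) = 1 := by
      rw [map_pow, map_mul, pow_two]
      calc pi x * pi y * (pi x * pi y) = pi x * pi y * (pi y * pi x) := by rw [h]
        _ = pi x * (pi (y * y)) * pi x := by rw [map_mul]; simp only [mul_assoc]
        _ = pi (x * x) := by rw [hy2, map_one, mul_one, map_mul]
        _ = 1 := by rw [hx2, map_one]
    rcases (pi_ker _).1 h4 with h5 | h5
    · exact DoubleFi22.comm_of_two hx2 hy2 h5
    · exfalso
      apply zK_ne
      have h6 : (x * y) ^ 6 = 1 := by rw [show 6 = 3 * 2 from rfl, pow_mul, h3, one_pow]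
      have h7 : (x * y) ^ 6 = zK := by
        rw [show 6 = 2 * 3 from rfl, pow_mul, h5, pow_succ, pow_two, zz, one_mul]
      rw [← h7, h6]

/-- **The transpositions commuting with `z0` are the lifts of a class of the transpositions of `Fi22`.** -/
theorem lifted : FiHexad.Lifted pi zK Fi22Facts.T S where
  ext := ext
  sq x hx := Subtype.ext (sq_D hx.1)
  conj c x hx := by
    obtain ⟨k, rfl⟩ := mem_S_iff.1 hx
    exact mem_S_iff.2 ⟨c * k, by group⟩
  map x hx := by
    obtain ⟨k, rfl⟩ := mem_S_iff.1 hx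
    rw [map_mul, map_mul, map_inv, pi_t]
    exact isConj_iff.2 ⟨pi k, rfl⟩
  inj x hx y hy h := by
    rcases (ext.map_eq (a := x) (b := y)).1 h with h1 | h1
    · exact h1
    · exfalso
      apply mul_z_nmem hy
      rw [← h1]
      exact hx
  surj u hu := by
    obtain ⟨c, hc⟩ := isConj_iff.1 (show IsConj (Fi22PtsRep.gen .a) u from hu)
    obtain ⟨k, rfl⟩ := pi_surjective c
    refine ⟨k * t .a * k⁻¹, mem_S_iff.2 ⟨k, rfl⟩, ?_⟩
    rw [map_mul, map_mul, map_inv, pi_t, hc]
  nz x hx := mul_z_nmem hx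
  comm x hx y hy h := comm_of_image hx hy h
  three x hx y hy := by
    rcases three_D hx.1 hy.1 with h | h
    · exact Or.inl (Subtype.ext h)
    · exact Or.inr (Subtype.ext h)

end Cfsg.Agent.R08.FiTwentyThree
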