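import Cfsg.Agent.R01.FiMain

/-!
Uniqueness of the products of two or three commuting members of the class `D₀` of lifts of the
3-transpositions (used for the coherence of the flags in the Fischer group `Fi24'`).
-/

set_option autoImplicit false

namespace Cfsg.Agent.R08.CohUniq

open Cfsg Cfsg.Agent.R01.Lifts Cfsg.Agent.R01.FiFusion Cfsg.Agent.R01.FiFacts
  Cfsg.Agent.R01.FiHexad Cfsg.Agent.R01.FiMain

section abs

variable {C : Type*} [Group C]

/-- `s`, `x` involutions with `(s x)^3 = 1`: the braid relation. -/
theorem braid {s x : C} (hs : s * s = 1) (hx : x * x = 1) (h : (s * x) ^ 3 = 1) :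
    s * x * s = x * s * x := by
  have h1 : s * x * s * (x * s * x) = 1 := by
    rw [← h, pow_succ, pow_two]; group
  have h2 := eq_inv_of_mul_eq_one_left h1
  rw [h2, mul_inv_rev, mul_inv_rev, inv_eq_of_mul_eq_one_left hx,
    inv_eq_of_mul_eq_one_left hs, mul_assoc]

/-- If `s` commutes with `x y` then it commutes with `x` or does not commute with both, which is
impossible for `x ≠ y`. -/
theorem two_abs {s x y : C} (hs : s * s = 1) (hx : x * x = 1) (hy : y * y = 1)
    (hne : x ≠ y) (h : s * (x * y) = x * y * s)
    (h3x : s * x = x * s ∨ (s * x) ^ 3 = 1) (h3y : s * y = y * s ∨ (s * y) ^ 3 = 1) :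
    s * x = x * s ∧ s * y = y * s := by
  by_cases cx : s * x = x * s
  · refine ⟨cx, ?_⟩
    calc s * y = (x * x) * s * y := by rw [hx, one_mul]
      _ = x * (s * x) * y := by rw [cx]; group
      _ = x * (s * (x * y)) := by group
      _ = x * (x * y * s) := by rw [h]
      _ = (x * x) * y * s := by group
      _ = y * s := by rw [hx, one_mul]
  · exfalso
    have cy : ¬ s * y = y * s := by
      intro cy
      apply cx
      calc s * x = s * x * (y * y) := by rw [hy, mul_one]
        _ = s * (x * y) * y := by group
        _ = x * y * s * y := by rw [h]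
        _ = x * y * (s * y) := by group
        _ = x * y * (y * s) := by rw [cy]
        _ = x * (y * y) * s := by group
        _ = x * s := by rw [hy, mul_one]
    have bx := braid hs hx (h3x.resolve_left cx)
    have by' := braid hs hy (h3y.resolve_left cy)
    -- s (x y) s = x y, and s x s = x s x, s y s = y s y
    have e1 : (s * x * s) * (s * y * s) = x * y := by
      calc (s * x * s) * (s * y * s) = s * x * (s * s) * y * s := by group
        _ = s * (x * y) * s := by rw [hs]; group
        _ = x * y * (s * s) := by rw [h]; group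
        _ = x * y := by rw [hs, mul_one]
    rw [bx, by'] at e1
    -- x s x y s y = x y
    have e2 : s * (x * y) * s = 1 := by
      calc s * (x * y) * s = (x * x) * (s * (x * y) * s) * (y * y) := by
            rw [hx, hy, one_mul, mul_one]
        _ = x * (x * s * x * (y * s * y)) * y := by group
        _ = x * (x * y) * y := by rw [e1]
        _ = (x * x) * (y * y) := by group
        _ = 1 := by rw [hx, hy, one_mul]
    apply hne
    rw [h] at e2
    have e3 : x * y = 1 := by
      calc x * y = x * y * (s * s) := by rw [hs, mul_one]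
        _ = x * y * s * s := by group
        _ = 1 := e2
    calc x = x * (y * y) := by rw [hy, mul_one]
      _ = x * y * y := by group
      _ = y := by rw [e3, one_mul]

/-- `s` commuting with the product of three commuting elements commutes with one of them. -/
theorem three_abs {s x y w : C} (hs : s * s = 1) (hx : x * x = 1) (hy : y * y = 1)
    (hw : w * w = 1) (hyw : y * w = w * y)
    (h : s * (x * y * w) = x * y * w * s)
    (h3x : s * x = x * s ∨ (s * x) ^ 3 = 1) (h3y : s * y = y * s ∨ (s * y) ^ 3 = 1)
    (h3w : s * w = w * s ∨ (s * w) ^ 3 = 1) :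
    s * x = x * s ∨ s * y = y * s ∨ s * w = w * s := by
  by_contra hcon
  push Not at hcon
  obtain ⟨cx, cy, cw⟩ := hcon
  have bx := braid hs hx (h3x.resolve_left cx)
  have by' := braid hs hy (h3y.resolve_left cy)
  have bw := braid hs hw (h3w.resolve_left cw)
  -- e = y w s w y = x s x
  have e1 : y * w * s * w * y = x * s * x := by
    have h1 : x * y * w * s * (w * y * x) = s := by
      calc x * y * w * s * (w * y * x) = s * (x * y * w) * (w * y * x) := by rw [h]
        _ = s * x * y * (w * w) * y * x := by group
        _ = s * x * (y * y) * x := by rw [hw]; group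
        _ = s * (x * x) := by rw [hy]; group
        _ = s := by rw [hx, mul_one]
    calc y * w * s * w * y = (x * x) * (y * w * s * w * y) * (x * x) := by
          rw [hx, one_mul, mul_one]
      _ = x * (x * y * w * s * (w * y * x)) * x := by group
      _ = x * s * x := by rw [h1]
  -- e commutes with s
  have e2 : s * (y * w * s * w * y) = (y * w * s * w * y) * s := by
    calc s * (y * w * s * w * y) = s * (y * (w * s * w) * y) := by group
      _ = s * (y * (s * w * s) * y) := by rw [bw]
      _ = (s * y * s) * w * s * y := by group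
      _ = (y * s * y) * w * s * y := by rw [by']
      _ = y * s * (y * w) * s * y := by group
      _ = y * s * (w * y) * s * y := by rw [hyw]
      _ = y * s * w * (y * s * y) := by group
      _ = y * s * w * (s * y * s) := by rw [by']
      _ = y * (s * w * s) * y * s := by group
      _ = y * (w * s * w) * y * s := by rw [bw]
      _ = (y * w * s * w * y) * s := by group
  rw [e1, ← bx] at e2
  -- s (s x s) = (s x s) s
  apply cx
  calc s * x = s * (x * s) * s := by
        rw [mul_assoc, mul_assoc x, hs, mul_one]
    _ = (s * x * s) * s := by group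
    _ = s * (s * x * s) := by rw [e2]
    _ = (s * s) * x * s := by group
    _ = x * s := by rw [hs, one_mul]

end abs

variable {C Φ : Type*} [Group C] [Group Φ] {π : C →* Φ} {z : C} {T : Set Φ} {D₀ : Set C}

/-- A member of `D₀` commuting with the product of two commuting members commutes with both. -/
theorem comm_two (L : Lifted π z T D₀) {s x y : C} (ms : s ∈ D₀) (mx : x ∈ D₀) (my : y ∈ D₀)
    (hne : x ≠ y) (h : s * (x * y) = x * y * s) :
    s * x = x * s ∧ s * y = y * s :=
  two_abs (L.sq _ ms) (L.sq _ mx) (L.sq _ my) hne h (L.three _ ms _ mx) (L.three _ ms _ my)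

/-- A member of `D₀` commuting with the product of three commuting members commutes with them. -/
theorem comm_three (L : Lifted π z T D₀) {s x y w : C} (ms : s ∈ D₀) (t : Tri D₀ x y w)
    (h : s * (x * y * w) = x * y * w * s) :
    s * x = x * s ∧ s * y = y * s ∧ s * w = w * s := by
  have sx := L.sq _ t.mx
  have sy := L.sq _ t.my
  have sw := L.sq _ t.mw
  have rest : ∀ {a b c : C}, a * a = 1 → b ∈ D₀ → c ∈ D₀ → b ≠ c →
      s * (a * (b * c)) = a * (b * c) * s → s * a = a * s → s * b = b * s ∧ s * c = c * s := by
    intro a b c ha hb hc hbc hh hsa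
    apply comm_two L ms hb hc hbc
    calc s * (b * c) = (a * a) * s * (b * c) := by rw [ha, one_mul]
      _ = a * (s * a) * (b * c) := by rw [hsa]; group
      _ = a * (s * (a * (b * c))) := by group
      _ = a * (a * (b * c) * s) := by rw [hh]
      _ = (a * a) * (b * c) * s := by group
      _ = b * c * s := by rw [ha, one_mul]
  rcases three_abs (L.sq _ ms) sx sy sw t.cyw h (L.three _ ms _ t.mx)
    (L.three _ ms _ t.my) (L.three _ ms _ t.mw) with h1 | h1 | h1
  · have := rest sx t.my t.mw t.yw (by rw [← mul_assoc x y w]; exact h) h1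
    exact ⟨h1, this.1, this.2⟩
  · have e : y * (x * w) = x * y * w := by rw [← mul_assoc, t.cxy]
    have := rest sy t.mx t.mw t.xw (by rw [e]; exact h) h1
    exact ⟨this.1, h1, this.2⟩
  · have e : w * (x * y) = x * y * w := by
      rw [← mul_assoc, ← t.cxw, mul_assoc, ← t.cyw, mul_assoc]
    have := rest sw t.mx t.my t.xy (by rw [e]; exact h) h1
    exact ⟨this.1, this.2, h1⟩

/-- The product of two commuting members determines them. -/
theorem uniq_two (L : Lifted π z T D₀) (hT : TFacts T) {x y x' y' : C} (mx : x ∈ D₀)
    (my : y ∈ D₀) (mx' : x' ∈ D₀) (my' : y' ∈ D₀) (hne : x ≠ y)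
    (hxy : x * y = y * x) (hxy' : x' * y' = y' * x') (h : x' * y' = x * y) :
    x' = x ∨ x' = y := by
  by_contra hcon
  push Not at hcon
  have h1 : x' * (x * y) = x * y * x' := by
    rw [← h]
    calc x' * (x' * y') = x' * (y' * x') := by rw [hxy']
      _ = x' * y' * x' := by group
  obtain ⟨c1, c2⟩ := comm_two L mx' mx my hne h1
  have ht : Tri D₀ x y x' := ⟨mx, my, mx', hne, hcon.1.symm, hcon.2.symm, hxy, c1.symm, c2.symm⟩
  have h2 : x * y * x' = y' := by
    calc x * y * x' = x' * (x * y) := h1.symm
      _ = x' * (x' * y') := by rw [h]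
      _ = (x' * x') * y' := by group
      _ = y' := by rw [L.sq _ mx', one_mul]
  apply hT.prod _ _ _ (tri_map L ht)
  rw [← map_mul, ← map_mul, h2]
  exact L.map _ my'

/-- The product of three commuting members determines them. -/
theorem uniq_three (L : Lifted π z T D₀) (hT : TFacts T)
    (hsign : ∀ a ∈ D₀, ∀ b ∈ D₀, ∀ c ∈ D₀, ∀ a' ∈ D₀, ∀ b' ∈ D₀, ∀ c' ∈ D₀,
      Hex T (π a) (π b) (π c) (π a') (π b') (π c') → a * b * c * (a' * b' * c') = z)
    {x y w x' y' w' : C} (t : Tri D₀ x y w) (t' : Tri D₀ x' y' w')
    (h : x' * y' * w' = x * y * w) : x' = x ∨ x' = y ∨ x' = w := by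
  by_contra hcon
  push Not at hcon
  obtain ⟨n1, n2, n3⟩ := hcon
  have cc : ∀ {s : C}, s ∈ D₀ → s * x' = x' * s → s * y' = y' * s → s * w' = w' * s →
      s * x = x * s ∧ s * y = y * s ∧ s * w = w * s := by
    intro s ms h1 h2 h3
    apply comm_three L ms t
    rw [← h]
    calc s * (x' * y' * w') = (s * x') * y' * w' := by group
      _ = x' * (s * y') * w' := by rw [h1]; group
      _ = x' * y' * (s * w') := by rw [h2]; group
      _ = x' * y' * w' * s := by rw [h3]; group
  obtain ⟨a1, a2, a3⟩ := cc t'.mx rfl t'.cxy t'.cxw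
  obtain ⟨b1, b2, b3⟩ := cc t'.my t'.cxy.symm rfl t'.cyw
  obtain ⟨d1, d2, d3⟩ := cc t'.mw t'.cxw.symm t'.cyw.symm rfl
  have sx := L.sq _ t.mx
  have sy := L.sq _ t.my
  have sw := L.sq _ t.mw
  -- if `s ∈ {y', w'}` is one of `x, y, w` then `x'` is too
  have key : ∀ {s r : C}, s ∈ D₀ → r ∈ D₀ → x' * r = r * x' → x' * y' * w' = s * (x' * r) →
      (s = x ∨ s = y ∨ s = w) → False := by
    intro s r ms mr hr he hs
    rw [h] at he
    rcases hs with rfl | rfl | rfl
    · have h1 : x' * r = y * w := by
        calc x' * r = (s * s) * (x' * r) := by rw [sx, one_mul]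
          _ = s * (s * (x' * r)) := by group
          _ = s * (s * y * w) := by rw [he]
          _ = (s * s) * (y * w) := by group
          _ = y * w := by rw [sx, one_mul]
      rcases uniq_two L hT t.my t.mw t'.mx mr t.yw t.cyw hr h1 with h2 | h2
      · exact n2 h2
      · exact n3 h2
    · have h1 : x' * r = x * w := by
        calc x' * r = (s * s) * (x' * r) := by rw [sy, one_mul]
          _ = s * (s * (x' * r)) := by group
          _ = s * (x * s * w) := by rw [he]
          _ = s * (s * x * w) := by rw [t.cxy]
          _ = (s * s) * (x * w) := by group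
          _ = x * w := by rw [sy, one_mul]
      rcases uniq_two L hT t.mx t.mw t'.mx mr t.xw t.cxw hr h1 with h2 | h2
      · exact n1 h2
      · exact n3 h2
    · have h1 : x' * r = x * y := by
        calc x' * r = (s * s) * (x' * r) := by rw [sw, one_mul]
          _ = s * (s * (x' * r)) := by group
          _ = s * (x * y * s) := by rw [he]
          _ = s * (x * (y * s)) := by group
          _ = s * (x * (s * y)) := by rw [t.cyw]
          _ = s * ((x * s) * y) := by group
          _ = s * ((s * x) * y) := by rw [t.cxw]
          _ = (s * s) * (x * y) := by group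
          _ = x * y := by rw [sw, one_mul]
      rcases uniq_two L hT t.mx t.my t'.mx mr t.xy t.cxy hr h1 with h2 | h2
      · exact n1 h2
      · exact n2 h2
  have ny : ¬ (y' = x ∨ y' = y ∨ y' = w) := key t'.my t'.mw t'.cxw (by
    calc x' * y' * w' = (y' * x') * w' := by rw [t'.cxy]
      _ = y' * (x' * w') := by group)
  have nw : ¬ (w' = x ∨ w' = y ∨ w' = w) := key t'.mw t'.my t'.cxy (by
    calc x' * y' * w' = x' * (y' * w') := by group
      _ = x' * (w' * y') := by rw [t'.cyw]
      _ = (x' * w') * y' := by group
      _ = (w' * x') * y' := by rw [t'.cxw]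
      _ = w' * (x' * y') := by group)
  push Not at ny nw
  have inj : ∀ {a b : C}, a ∈ D₀ → b ∈ D₀ → a ≠ b → π a ≠ π b := fun ha hb hab e =>
    hab (L.inj _ ha _ hb e)
  have cm : ∀ {a b : C}, a * b = b * a → π a * π b = π b * π a := fun hab => by
    rw [← map_mul, ← map_mul, hab]
  have hsq := prod3_sq sx sy sw t.cxy t.cxw t.cyw
  have hprod : x * y * w * (x' * y' * w') = 1 := by rw [h]; exact hsq
  have H : Hex T (π x) (π y) (π w) (π x') (π y') (π w') :=
    { t := tri_map L t
      t' := tri_map L t'
      aa := inj t.mx t'.mx n1.symm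
      ab := inj t.mx t'.my ny.1.symm
      ac := inj t.mx t'.mw nw.1.symm
      ba := inj t.my t'.mx n2.symm
      bb := inj t.my t'.my ny.2.1.symm
      bc := inj t.my t'.mw nw.2.1.symm
      ca := inj t.mw t'.mx n3.symm
      cb := inj t.mw t'.my ny.2.2.symm
      cc := inj t.mw t'.mw nw.2.2.symm
      caa := cm a1.symm, cab := cm b1.symm, cac := cm d1.symm
      cba := cm a2.symm, cbb := cm b2.symm, cbc := cm d2.symm
      cca := cm a3.symm, ccb := cm b3.symm, ccc := cm d3.symm
      prod := by
        have := congrArg π hprod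
        rw [map_mul, map_mul, map_mul, map_mul, map_mul, map_one] at this
        exact this }
  have hz := hsign _ t.mx _ t.my _ t.mw _ t'.mx _ t'.my _ t'.mw H
  rw [hprod] at hz
  exact L.ext.zne hz.symm

end Cfsg.Agent.R08.CohUniq
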