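import Cfsg.Agent.R08.NoFpfD
import Cfsg.Agent.R01.Fi22Facts

/-!
# No automorphism moves every transposition of `Fi22` to a different commuting one

* `no_fpf`: the theorem for a finite group with a class of 3510 transpositions with the local hypothesis;
* `fi22_no_fpf`: for an automorphism of order two of the presented group `Fi22`;
* `fi22_no_fpf_perm`: for a permutation of the class which respects conjugation.
-/

set_option autoImplicit false
set_option linter.unusedSectionVars false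
set_option linter.dupNamespace false

namespace Cfsg.Agent.R08.NoFpf

open Cfsg Cfsg.Agent.LieClassical.HermBasic
open scoped Pointwise
open Cfsg.Agent.R01.IsLabel (IsLabel exists_label)
open Cfsg.Agent.SporadicStructure.UnitTwo (two_eq_zero exists_omega)

section General

variable {P : Type*} [Group P] {F : Type*} [Field F] [Fintype F] {hF : Fintype.card F = 2 ^ 2}
  {T : Set P}

/-- the vectors of a totally isotropic subspace -/
def f6 (g : Fin 3 → F) : Fin 6 → F := ![g 0, g 0, g 1, g 1, g 2, g 2]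

theorem f6_injective : Function.Injective (f6 (F := F)) := by
  intro g g' h
  funext i
  fin_cases i
  · exact congrFun h 0
  · exact congrFun h 2
  · exact congrFun h 4

theorem herm_f6 (hF : Fintype.card F = 2 ^ 2) (g g' : Fin 3 → F) :
    hermForm 6 F 2 (f6 g) (f6 g') = 0 := by
  have h2 := two_eq_zero hF
  rw [herm_def, Fin.sum_univ_six]
  simp only [f6, Matrix.cons_val]
  linear_combination (g 0 * g' 0 ^ 2 + g 1 * g' 1 ^ 2 + g 2 * g' 2 ^ 2) * h2

theorem smul_f6 (c : F) (g : Fin 3 → F) : c • f6 g = f6 (c • g) := by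
  funext i
  fin_cases i <;> rfl

theorem f6_zero : f6 (0 : Fin 3 → F) = 0 := by
  funext i
  fin_cases i <;> rfl

theorem exists_cl [Finite P] (h : Sys hF T) : ∃ S, Cl T S := by
  have hne : T.Nonempty := by
    rw [← Set.ncard_pos (Set.toFinite T), h.card]
    norm_num
  obtain ⟨a, ha⟩ := hne
  obtain ⟨τ, L⟩ := exists_label (h.loc a ha)
  have h2 := two_eq_zero hF
  set V : Set (Fin 6 → F) := Set.range (f6 (F := F)) \ {0} with hV
  have hmem : ∀ v ∈ V, v ≠ 0 ∧ hermForm 6 F 2 v v = 0 := by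
    rintro _ ⟨⟨g, rfl⟩, h0⟩
    exact ⟨h0, herm_f6 hF g g⟩
  have hVcard : V.ncard = 63 := by
    rw [hV, Set.ncard_sdiff_singleton_of_mem
      (show (0 : Fin 6 → F) ∈ Set.range (f6 (F := F)) from ⟨0, f6_zero⟩), ← Set.image_univ,
      Set.ncard_image_of_injective _ f6_injective, Set.ncard_univ, Nat.card_fun,
      Nat.card_eq_fintype_card (α := F), hF, Nat.card_eq_fintype_card, Fintype.card_fin]
    norm_num
  have himg := ncard_image hF L V hmem (by
    rintro _ ⟨⟨g, rfl⟩, h0⟩ c hc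
    exact ⟨⟨c • g, (smul_f6 c g).symm⟩, smul_ne_zero hc h0⟩)
  rw [hVcard] at himg
  have hnot : a ∉ τ '' V := by
    rintro ⟨v, hv, hva⟩
    exact (L.mem v (hmem v hv).1 (hmem v hv).2).2.1 hva
  have hcm : ∀ v ∈ V, Commute (τ v) a := fun v hv =>
    (L.mem v (hmem v hv).1 (hmem v hv).2).2.2
  refine ⟨insert a (τ '' V), ?_, ?_, ?_, ?_⟩
  · rintro z (rfl | ⟨v, hv, rfl⟩)
    · exact ha
    · exact (L.mem v (hmem v hv).1 (hmem v hv).2).1
  · rintro y (rfl | ⟨v, hv, rfl⟩) z (rfl | ⟨w, hw, rfl⟩)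
    · exact Commute.refl _
    · exact (hcm w hw).symm
    · exact hcm v hv
    · refine (L.comm v w (hmem v hv).1 (hmem w hw).1 (hmem v hv).2 (hmem w hw).2).2 ?_
      obtain ⟨⟨g, rfl⟩, -⟩ := hv
      obtain ⟨⟨g', rfl⟩, -⟩ := hw
      exact herm_f6 hF g g'
  · intro z hz hc
    by_cases hza : z = a
    · exact Or.inl hza
    right
    obtain ⟨s, hs0, hss, rfl⟩ := L.surj z hz hza (hc a (Or.inl rfl))
    refine ⟨s, ⟨?_, hs0⟩, rfl⟩
    have key : ∀ g : Fin 3 → F, f6 g ≠ 0 → hermForm 6 F 2 s (f6 g) = 0 := by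
      intro g hg
      have hv : f6 g ∈ V := ⟨⟨g, rfl⟩, hg⟩
      exact (L.comm s (f6 g) hs0 hg hss (herm_f6 hF g g)).1 (hc _ (Or.inr ⟨_, hv, rfl⟩))
    have k0 := key ![1, 0, 0] (fun e => one_ne_zero (congrFun e 0))
    have k1 := key ![0, 1, 0] (fun e => one_ne_zero (congrFun e 2))
    have k2 := key ![0, 0, 1] (fun e => one_ne_zero (congrFun e 4))
    rw [herm_def, Fin.sum_univ_six] at k0 k1 k2
    simp only [f6, Matrix.cons_val] at k0 k1 k2
    refine ⟨![s 0, s 2, s 4], ?_⟩
    have e0 : s 0 = s 1 := by linear_combination k0 - s 1 * h2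
    have e1 : s 2 = s 3 := by linear_combination k1 - s 3 * h2
    have e2 : s 4 = s 5 := by linear_combination k2 - s 5 * h2
    funext i
    fin_cases i
    · rfl
    · exact e0
    · rfl
    · exact e1
    · rfl
    · exact e2
  · rw [Set.ncard_insert_of_notMem hnot ((Set.toFinite _).image _)]
    omega

/-- **Theorem.** -/
theorem no_fpf [Finite P] (h : Sys hF T) (θ : P ≃* P) (hT : ∀ t ∈ T, θ t ∈ T)
    (h2 : ∀ t, θ (θ t) = t) (hne : ∀ t ∈ T, θ t ≠ t) (hcomm : ∀ t ∈ T, Commute (θ t) t) :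
    False := by
  classical
  obtain ⟨S₀, hS₀⟩ := exists_cl h
  -- an invariant Sylow 2-subgroup
  let _ : Fintype (Sylow 2 P) := Fintype.ofFinite _
  let θ' : MulAut P := θ
  have hfix : ∃ Q : Sylow 2 P, θ' • Q = Q := by
    have hσ : (MulAction.toPermHom (MulAut P) (Sylow 2 P) θ') ^ 2 ^ 1 = 1 := by
      rw [← map_pow]
      have : θ' ^ 2 ^ 1 = 1 := by
        rw [pow_one, pow_two]
        ext t
        exact h2 t
      rw [this, map_one]
    have hodd : ¬ 2 ∣ Fintype.card (Sylow 2 P) := by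
      rw [← Nat.card_eq_fintype_card]
      exact not_dvd_card_sylow 2 P
    obtain ⟨Q, hQ⟩ := Equiv.Perm.exists_fixed_point_of_prime (p := 2) (n := 1) hodd hσ
    exact ⟨Q, hQ⟩
  obtain ⟨Q, hQ⟩ := hfix
  have hQθ : ∀ a ∈ Q, θ a ∈ Q := by
    intro a ha
    have h1 : θ' • a ∈ θ' • (Q : Subgroup P) :=
      Subgroup.smul_mem_pointwise_smul _ _ _ ha
    have h3 : (θ' • Q : Sylow 2 P).toSubgroup = θ' • (Q : Subgroup P) := rfl
    rw [← h3, hQ] at h1
    exact h1
  obtain ⟨Q₀, hQ₀⟩ := (isPGroup_closure h hS₀).exists_le_sylow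
  obtain ⟨g, hg⟩ := MulAction.exists_smul_eq P Q₀ Q
  have hS := hS₀.cj h g
  have hsub : ∀ a ∈ cj g S₀, a ∈ Q := by
    rintro _ ⟨a, ha, rfl⟩
    have h1 : a ∈ Q₀ := hQ₀ (Subgroup.subset_closure ha)
    rw [← hg]
    exact Subgroup.smul_mem_pointwise_smul a (MulAut.conj g) (Q₀ : Subgroup P) h1
  have hin : ∀ t ∈ T, t ∈ Q → t ∈ cj g S₀ := by
    intro t ht htQ
    refine hS.max t ht ?_
    intro b hb
    have hbT := hS.sub hb
    have hbQ := hsub b hb
    rcases h.braid t ht b hbT with h1 | h1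
    · exact h1
    · -- the product has order dividing three and is a 2-element
      have h3 : (t * b) ^ 3 = 1 := by
        calc (t * b) ^ 3 = (t * b * t) * (b * t * b) := by rw [pow_succ, pow_two]; group
          _ = (b * t * b) * (b * t * b) := by rw [h1]
          _ = b * t * (b * b) * t * b := by group
          _ = b * (t * t) * b := by rw [h.sq b hbT, mul_one]; group
          _ = 1 := by rw [h.sq t ht, mul_one, h.sq b hbT]
      obtain ⟨k, hk⟩ := Q.isPGroup' ⟨t * b, mul_mem htQ hbQ⟩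
      have hk' : (t * b) ^ 2 ^ k = 1 := congrArg Subtype.val hk
      have h4 : t * b = 1 := by
        have h5 : orderOf (t * b) ∣ Nat.gcd 3 (2 ^ k) :=
          Nat.dvd_gcd (orderOf_dvd_of_pow_eq_one h3) (orderOf_dvd_of_pow_eq_one hk')
        have h6 : Nat.gcd 3 (2 ^ k) = 1 := Nat.Coprime.pow_right k (by norm_num)
        rw [h6, Nat.dvd_one, orderOf_eq_one_iff] at h5
        exact h5
      have h5 : t = b := by
        rw [← h.inv hbT]
        exact eq_inv_of_mul_eq_one_left h4
      rw [h5]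
  exact no_fpf_of_cl h hS θ hT h2 hne hcomm
    (fun a ha => hin _ (hT a (hS.sub ha)) (hQθ a (hsub a ha)))

/-- The action on the class. -/
def rho (T : Set P) (hT : ∀ g : P, ∀ a ∈ T, g * a * g⁻¹ ∈ T) : P →* Equiv.Perm T where
  toFun g :=
    { toFun := fun b => ⟨g * b * g⁻¹, hT g b b.2⟩
      invFun := fun b => ⟨g⁻¹ * b * g, by
        have := hT g⁻¹ b b.2
        rwa [inv_inv] at this⟩
      left_inv := fun b => Subtype.ext (by simp only; group)
      right_inv := fun b => Subtype.ext (by simp only; group) }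
  map_one' := by
    ext b
    simp
  map_mul' := by
    intro g k
    ext b
    simp only [Equiv.coe_fn_mk, Equiv.Perm.mul_apply]
    group

/-- **Theorem**, for permutations of the class. -/
theorem no_fpf_perm [Finite P] (h : Sys hF T) (hgen : Subgroup.closure T = ⊤)
    (hcen : Subgroup.center P = ⊥) (θ : P → P) (hT : ∀ t ∈ T, θ t ∈ T)
    (h2 : ∀ t ∈ T, θ (θ t) = t)
    (hc : ∀ s ∈ T, ∀ t ∈ T, θ (s * t * s⁻¹) = θ s * θ t * (θ s)⁻¹)
    (hne : ∀ t ∈ T, θ t ≠ t) (hcomm : ∀ t ∈ T, Commute (θ t) t) : False := by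
  set ρ := rho T h.conj with hρ
  have hρa : ∀ (g : P) (t : T), ((ρ g t : T) : P) = g * t * g⁻¹ := fun _ _ => rfl
  have hinj : Function.Injective ρ := by
    rw [injective_iff_map_eq_one]
    intro g hg
    have h1 : g ∈ Subgroup.center P := by
      rw [Subgroup.mem_center_iff]
      intro k
      have hk : k ∈ Subgroup.closure T := by rw [hgen]; trivial
      induction hk using Subgroup.closure_induction with
      | mem t ht =>
        have h3 := congrArg (fun σ : Equiv.Perm T => ((σ ⟨t, ht⟩ : T) : P)) hg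
        simp only [hρa] at h3
        have h4 : g * t * g⁻¹ = t := h3
        exact (mul_inv_eq_iff_eq_mul.1 h4).symm
      | one => rw [mul_one, one_mul]
      | mul u v _ _ hu hv => exact (Commute.mul_left (show Commute u g from hu) hv)
      | inv u _ hu => exact (Commute.inv_left (show Commute u g from hu))
    rw [hcen] at h1
    exact h1
  let σ : Equiv.Perm T :=
    { toFun := fun t => ⟨θ t, hT t t.2⟩
      invFun := fun t => ⟨θ t, hT t t.2⟩
      left_inv := fun t => Subtype.ext (h2 t t.2)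
      right_inv := fun t => Subtype.ext (h2 t t.2) }
  have hσinv : σ⁻¹ = σ := rfl
  have hσs : ∀ s ∈ T, σ * ρ s * σ⁻¹ = ρ (θ s) := by
    intro s hs
    ext t
    rw [hσinv, hρa]
    show θ (s * θ t * s⁻¹) = _
    rw [hc s hs _ (hT t t.2), h2 t t.2]
  have hrange : ∀ g, σ * ρ g * σ⁻¹ ∈ ρ.range := by
    intro g
    have hg : g ∈ Subgroup.closure T := by rw [hgen]; trivial
    induction hg using Subgroup.closure_induction with
    | mem t ht => exact ⟨θ t, (hσs t ht).symm⟩
    | one => rw [map_one, mul_one, mul_inv_cancel]; exact one_mem _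
    | mul u v _ _ hu hv =>
      have : σ * ρ (u * v) * σ⁻¹ = (σ * ρ u * σ⁻¹) * (σ * ρ v * σ⁻¹) := by
        rw [map_mul]; group
      rw [this]; exact mul_mem hu hv
    | inv u _ hu =>
      have : σ * ρ u⁻¹ * σ⁻¹ = (σ * ρ u * σ⁻¹)⁻¹ := by
        rw [map_inv]; group
      rw [this]; exact inv_mem hu
  let κ : P →* ρ.range := ((MulAut.conj σ).toMonoidHom.comp ρ).codRestrict ρ.range hrange
  let ψ : P →* P := (MonoidHom.ofInjective hinj).symm.toMonoidHom.comp κ
  have hψ : ∀ g, ρ (ψ g) = σ * ρ g * σ⁻¹ := by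
    intro g
    have h1 : (MonoidHom.ofInjective hinj) (ψ g) = κ g :=
      (MonoidHom.ofInjective hinj).apply_symm_apply (κ g)
    exact congrArg Subtype.val h1
  have hψT : ∀ t ∈ T, ψ t = θ t := by
    intro t ht
    apply hinj
    rw [hψ, hσs t ht]
  have hψψ : ∀ g, ψ (ψ g) = g := by
    intro g
    have hg : g ∈ Subgroup.closure T := by rw [hgen]; trivial
    induction hg using Subgroup.closure_induction with
    | mem t ht => rw [hψT t ht, hψT _ (hT t ht), h2 t ht]
    | one => rw [map_one, map_one]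
    | mul u v _ _ hu hv => rw [map_mul, map_mul, hu, hv]
    | inv u _ hu => rw [map_inv, map_inv, hu]
  let Θ : P ≃* P :=
    { toFun := ψ
      invFun := ψ
      left_inv := hψψ
      right_inv := hψψ
      map_mul' := ψ.map_mul }
  have hΘ : ∀ t ∈ T, Θ t = θ t := hψT
  exact no_fpf h Θ (fun t ht => by rw [hΘ t ht]; exact hT t ht) hψψ
    (fun t ht => by rw [hΘ t ht]; exact hne t ht) (fun t ht => by rw [hΘ t ht]; exact hcomm t ht)

end General

/-! ### The presented group -/

open Cfsg.Agent.R01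

theorem sys : Sys Cfsg.Agent.Fischer.Unit22.hF Fi22Facts.T := by
  obtain ⟨⟨hord, h3⟩, ⟨t, ht, hD⟩, -⟩ := Fi22Facts.isThreeTranspositionClass_T
  have hsq : ∀ a ∈ Fi22Facts.T, a * a = 1 := by
    intro a ha
    rw [← pow_two, ← hord a ha, pow_orderOf_eq_one]
  refine ⟨Fi22Facts.loc, hsq, ?_, ?_, Fi22Facts.ncard_T⟩
  · intro g a ha
    rw [hD] at ha ⊢
    exact IsConj.trans ha (isConj_iff.2 ⟨g, rfl⟩)
  · intro a ha b hb
    have ea : a⁻¹ = a := inv_eq_of_mul_eq_one_left (hsq a ha)
    have eb : b⁻¹ = b := inv_eq_of_mul_eq_one_left (hsq b hb)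
    rcases h3 a ha b hb with h | h
    · left
      rw [pow_two] at h
      have h4 := eq_inv_of_mul_eq_one_left h
      rw [mul_inv_rev, ea, eb] at h4
      exact h4
    · right
      have h5 : (a * b * a) * (b * a * b) = 1 := by
        rw [← h, pow_succ, pow_two]; group
      have h4 := eq_inv_of_mul_eq_one_left h5
      rw [h4, mul_inv_rev, mul_inv_rev, ea, eb]
      group

/-- No automorphism of `Fi22` of order two moves every transposition to a different commuting one. -/
theorem fi22_no_fpf (θ : Spor.Fi22 ≃* Spor.Fi22) (hT : ∀ t ∈ Fi22Facts.T, θ t ∈ Fi22Facts.T)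
    (h2 : ∀ t, θ (θ t) = t) (hne : ∀ t ∈ Fi22Facts.T, θ t ≠ t)
    (hcomm : ∀ t ∈ Fi22Facts.T, Commute (θ t) t) : False := by
  have := Fi22Facts.finite
  exact no_fpf sys θ hT h2 hne hcomm

/-- The same for a permutation of the transpositions which respects conjugation. -/
theorem fi22_no_fpf_perm (θ : Spor.Fi22 → Spor.Fi22) (hT : ∀ t ∈ Fi22Facts.T, θ t ∈ Fi22Facts.T)
    (h2 : ∀ t ∈ Fi22Facts.T, θ (θ t) = t)
    (hc : ∀ s ∈ Fi22Facts.T, ∀ t ∈ Fi22Facts.T, θ (s * t * s⁻¹) = θ s * θ t * (θ s)⁻¹)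
    (hne : ∀ t ∈ Fi22Facts.T, θ t ≠ t) (hcomm : ∀ t ∈ Fi22Facts.T, Commute (θ t) t) : False := by
  have := Fi22Facts.finite
  have hsimple := Fi22Facts.isSimple
  refine no_fpf_perm sys Fi22Facts.isThreeTranspositionClass_T.2.2 ?_ θ hT h2 hc hne hcomm
  rcases hsimple.eq_bot_or_eq_top_of_normal (Subgroup.center Spor.Fi22) inferInstance with h | h
  · exact h
  · exfalso
    apply Cfsg.Agent.Fischer.Fi22Order.ab_ne
    have h1 : Cfsg.Agent.Fischer.Fi22PtsRep.gen .b ∈ Subgroup.center Spor.Fi22 := by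
      rw [h]; trivial
    exact Subgroup.mem_center_iff.1 h1 _

end Cfsg.Agent.R08.NoFpf
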