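import Cfsg.Agent.R08.TetFi24
import Cfsg.Agent.R08.NoFpf

/-!
# The facts about `Fi24` with no hypothesis left
-/

namespace Cfsg.Agent.R08.TetFi24C

open Cfsg Cfsg.Agent.R08

/-- `Fi24'` satisfies the hypotheses of the closing argument. -/
theorem facts : TetClose.Facts FiTwentyFour.L (commutator Spor.Fi24) :=
  TetFi24.facts_of fun θ h2 hall =>
    NoFpf.fi22_no_fpf θ (fun t ht => (hall t ht).1) h2 (fun t ht => (hall t ht).2.1)
      (fun t ht => (hall t ht).2.2)

end Cfsg.Agent.R08.TetFi24C
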