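import Cfsg.Agent.R01.FiLocal
import Cfsg.Agent.R01.KeyFi22All
import Cfsg.Agent.R01.Fi22Facts

/-!
Automorphisms of the presented group `Fi22` preserve the class of the 3510 transpositions.
-/

set_option autoImplicit false

namespace Cfsg.Agent.R08.AutT

open Cfsg Cfsg.Agent.Fischer Cfsg.Agent.R01
open scoped commutatorElement
open Cfsg.Spor (coxLabel)
open Cfsg.Spor.Fi22 (Gen edges)
open Cfsg.Agent.Fischer.Fi22PtsRep (gen gen_sq gen_comm gen_cox)
open Cfsg.Agent.R01.FiFusion (Tri)
open Cfsg.Agent.R01.FiFacts (TFacts Hex)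
open Cfsg.Agent.SporRec.GF4

/-- The class of transpositions. -/
abbrev T : Set Spor.Fi22 := Fi22Facts.T

instance finite : Finite Spor.Fi22 := Fi22Facts.finite

theorem tFacts : TFacts T := FiLocal.tFacts_of_loc Fi22Facts.isThreeTranspositionClass_T Fi22Facts.loc

theorem perf : commutator Spor.Fi22 = ⊤ := by
  have := Fi22Facts.isSimple
  rcases Subgroup.Normal.eq_bot_or_eq_top (inferInstance : (commutator Spor.Fi22).Normal) with h | h
  · exfalso
    apply Fi22Order.ab_ne
    have h1 : commutator Spor.Fi22 = ⊥ := h
    have h2 : ⁅gen .a, gen .b⁆ ∈ commutator Spor.Fi22 :=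
      Subgroup.commutator_mem_commutator (Subgroup.mem_top _) (Subgroup.mem_top _)
    rw [h1, Subgroup.mem_bot, commutatorElement_eq_one_iff_mul_comm] at h2
    exact h2
  · exact h

theorem base : KeyFi22.Base Spor.Fi22 Cfsg.Agent.Fischer.Unit22.hF T where
  conj := tFacts.conj
  perf := perf
  card := by
    left
    have h := Fi22Facts.ncard_T
    rw [← Nat.card_coe_set_eq] at h
    have h' : Nat.card T = 3510 := h
    rw [h']
  loc := Fi22Facts.loc

/-- Every involution commutes with a transposition. -/
theorem hfix : ∀ f : Spor.Fi22, f * f = 1 → ∃ t ∈ T, f * t = t * f := fun _ hf =>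
  base.exists_commute hf

theorem comm_of_label {x y : Gen} (h : coxLabel edges x y = 2) :
    gen x * gen y = gen y * gen x := gen_comm h

theorem e_ne_g : gen .e ≠ gen .g := by
  have := Fi22Order.ne_of_pt (v := [.e]) (w := [.g])
    (p := 54) (by decide +kernel)
  simpa [Fi22PtsRep.wd] using this

/-- An automorphism preserves the class. -/
theorem aut_mem (α : Spor.Fi22 ≃* Spor.Fi22) {t : Spor.Fi22} (ht : t ∈ T) : α t ∈ T := by
  obtain ⟨⟨hord, h3⟩, -, -⟩ := Fi22Facts.isThreeTranspositionClass_T
  have mem := Fi22Facts.gen_mem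
  -- the members of the image
  have him : ∀ k s0 : Spor.Fi22, (∃ t1 ∈ T, α t1 = s0) → ∃ t1 ∈ T, α t1 = k * s0 * k⁻¹ := by
    rintro k s0 ⟨t1, h1, rfl⟩
    refine ⟨α.symm k * t1 * (α.symm k)⁻¹, tFacts.conj _ _ h1, ?_⟩
    rw [map_mul, map_mul, map_inv, α.apply_symm_apply]
  have hab : ∀ x y : Spor.Fi22, (∃ t1 ∈ T, α t1 = x) → (∃ t2 ∈ T, α t2 = y) →
      x * y = y * x ∨ (x * y) ^ 3 = 1 := by
    rintro x y ⟨t1, h1, rfl⟩ ⟨t2, h2, rfl⟩
    rcases h3 t1 h1 t2 h2 with h | h
    · left
      have e1 : t1⁻¹ = t1 := inv_eq_of_mul_eq_one_left (tFacts.sq t1 h1)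
      have e2 : t2⁻¹ = t2 := inv_eq_of_mul_eq_one_left (tFacts.sq t2 h2)
      have h4 : t1 * t2 = t2 * t1 := by
        rw [pow_two] at h
        have := eq_inv_of_mul_eq_one_left h
        rwa [mul_inv_rev, e1, e2] at this
      rw [← map_mul, ← map_mul, h4]
    · right
      rw [← map_mul, ← map_pow, h, map_one]
  have cae : gen .a * gen .e = gen .e * gen .a := gen_comm (by decide)
  have cag : gen .a * gen .g = gen .g * gen .a := gen_comm (by decide)
  have cbe : gen .b * gen .e = gen .e * gen .b := gen_comm (by decide)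
  have cbg : gen .b * gen .g = gen .g * gen .b := gen_comm (by decide)
  have ceg : gen .e * gen .g = gen .g * gen .e := gen_comm (by decide)
  have cai : gen .a * gen .i = gen .i * gen .a := gen_comm (by decide)
  have cbi : gen .b * gen .i = gen .i * gen .b := gen_comm (by decide)
  have cei : gen .e * gen .i = gen .i * gen .e := gen_comm (by decide)
  have cgi : gen .g * gen .i = gen .i * gen .g := gen_comm (by decide)
  have hab3 : (gen .a * gen .b) ^ 3 = 1 := gen_cox _ _
  have hg2 := gen_sq .g
  have he2 := gen_sq .e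
  have hi2 := gen_sq .i
  -- the key contradiction
  have key : ∀ p q : Spor.Fi22, p * q = (gen .a * gen .b) * (gen .e * gen .g) →
      q * p = (gen .b * gen .a) * (gen .g * gen .e) →
      (p * q = q * p ∨ (p * q) ^ 3 = 1) → False := by
    intro p q hpq hqp h
    rcases h with h | h
    · rw [hpq, hqp, ceg] at h
      exact Fi22Order.ab_ne (mul_right_cancel h)
    · rw [hpq] at h
      have hc : Commute (gen .a * gen .b) (gen .e * gen .g) :=
        (Commute.mul_right (show Commute _ _ from cae) cag).mul_left
          (Commute.mul_right (show Commute _ _ from cbe) cbg)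
      rw [hc.mul_pow, hab3, one_mul] at h
      have h5 : (gen .e * gen .g) ^ 2 = 1 := by
        rw [pow_two]
        calc gen .e * gen .g * (gen .e * gen .g) = gen .e * (gen .g * gen .e) * gen .g := by group
          _ = gen .e * (gen .e * gen .g) * gen .g := by rw [ceg]
          _ = (gen .e * gen .e) * (gen .g * gen .g) := by group
          _ = 1 := by rw [he2, hg2, one_mul]
      rw [pow_succ, h5, one_mul] at h
      apply e_ne_g
      have h6 : (gen .g)⁻¹ = gen .g := inv_eq_of_mul_eq_one_left hg2
      rw [← h6]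
      exact eq_inv_of_mul_eq_one_left h
  -- the image of one generator
  have hs : α (gen .a) ∈ T := by
    have hss : α (gen .a) * α (gen .a) = 1 := by rw [← map_mul, gen_sq, map_one]
    rcases tFacts.inv _ hss (hfix _ hss) with h | h | ⟨x, hx, y, hy, hxy, hc, h⟩ |
      ⟨x, y, w, htri, h⟩
    · exfalso
      have h1 : gen .a = 1 := α.injective (by rw [h, map_one])
      apply Fi22Order.ab_ne
      rw [h1, one_mul, mul_one]
    · exact h
    · exfalso
      have him0 : ∃ t1 ∈ T, α t1 = x * y := ⟨gen .a, mem .a, h⟩
      obtain ⟨k, hk1, hk2⟩ := Fi22Facts.trans_commuting x hx y hy (gen .a) (mem .a) (gen .e)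
        (mem .e) hxy (by
          intro e
          apply Fi22Order.ab_ne
          rw [e, cbe]) hc cae
      obtain ⟨l, hl1, hl2⟩ := Fi22Facts.trans_commuting x hx y hy (gen .b) (mem .b) (gen .g)
        (mem .g) hxy (by
          intro e
          apply Fi22Order.ab_ne
          rw [e, cag]) hc cbg
      have m1 := him k _ him0
      have m2 := him l _ him0
      have e1 : k * (x * y) * k⁻¹ = gen .a * gen .e := by rw [← hk1, ← hk2]; group
      have e2 : l * (x * y) * l⁻¹ = gen .b * gen .g := by rw [← hl1, ← hl2]; group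
      rw [e1] at m1
      rw [e2] at m2
      refine key (gen .a * gen .e) (gen .b * gen .g) ?_ ?_ (hab _ _ m1 m2)
      · calc gen .a * gen .e * (gen .b * gen .g) = gen .a * (gen .e * gen .b) * gen .g := by group
          _ = gen .a * (gen .b * gen .e) * gen .g := by rw [cbe]
          _ = _ := by group
      · calc gen .b * gen .g * (gen .a * gen .e) = gen .b * (gen .g * gen .a) * gen .e := by group
          _ = gen .b * (gen .a * gen .g) * gen .e := by rw [cag]
          _ = _ := by group
    · exfalso
      have him0 : ∃ t1 ∈ T, α t1 = x * y * w := ⟨gen .a, mem .a, h⟩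
      have nae : gen .a ≠ gen .e := by
        intro e
        apply Fi22Order.ab_ne
        rw [e, cbe]
      have nai : gen .a ≠ gen .i := by
        intro e
        apply Fi22Order.ab_ne
        rw [e, cbi]
      have nbg : gen .b ≠ gen .g := by
        intro e
        apply Fi22Order.ab_ne
        rw [e, cag]
      have nbi : gen .b ≠ gen .i := by
        intro e
        apply Fi22Order.ab_ne
        rw [e, cai]
      have nei : gen .e ≠ gen .i := by
        have := Fi22Order.ne_of_pt (v := [.e]) (w := [.i]) (p := 54) (by decide +kernel)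
        simpa [Fi22PtsRep.wd] using this
      have ngi : gen .g ≠ gen .i := by
        have := Fi22Order.ne_of_pt (v := [.g]) (w := [.i]) (p := 54) (by decide +kernel)
        simpa [Fi22PtsRep.wd] using this
      obtain ⟨k, hk1, hk2, hk3⟩ := tFacts.tri x y w (gen .a) (gen .e) (gen .i) htri
        ⟨mem .a, mem .e, mem .i, nae, nai, nei, cae, cai, cei⟩
      obtain ⟨l, hl1, hl2, hl3⟩ := tFacts.tri x y w (gen .b) (gen .g) (gen .i) htri
        ⟨mem .b, mem .g, mem .i, nbg, nbi, ngi, cbg, cbi, cgi⟩
      have m1 := him k _ him0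
      have m2 := him l _ him0
      have e1 : k * (x * y * w) * k⁻¹ = gen .a * gen .e * gen .i := by
        rw [← hk1, ← hk2, ← hk3]; group
      have e2 : l * (x * y * w) * l⁻¹ = gen .b * gen .g * gen .i := by
        rw [← hl1, ← hl2, ← hl3]; group
      rw [e1] at m1
      rw [e2] at m2
      refine key (gen .a * gen .e * gen .i) (gen .b * gen .g * gen .i) ?_ ?_ (hab _ _ m1 m2)
      · calc gen .a * gen .e * gen .i * (gen .b * gen .g * gen .i)
            = gen .a * gen .e * (gen .i * gen .b) * gen .g * gen .i := by group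
          _ = gen .a * gen .e * (gen .b * gen .i) * gen .g * gen .i := by rw [cbi]
          _ = gen .a * (gen .e * gen .b) * (gen .i * gen .g) * gen .i := by group
          _ = gen .a * (gen .b * gen .e) * (gen .g * gen .i) * gen .i := by rw [cbe, cgi]
          _ = (gen .a * gen .b) * (gen .e * gen .g) * (gen .i * gen .i) := by group
          _ = _ := by rw [hi2, mul_one]
      · calc gen .b * gen .g * gen .i * (gen .a * gen .e * gen .i)
            = gen .b * gen .g * (gen .i * gen .a) * gen .e * gen .i := by group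
          _ = gen .b * gen .g * (gen .a * gen .i) * gen .e * gen .i := by rw [cai]
          _ = gen .b * (gen .g * gen .a) * (gen .i * gen .e) * gen .i := by group
          _ = gen .b * (gen .a * gen .g) * (gen .e * gen .i) * gen .i := by rw [cag, cei]
          _ = (gen .b * gen .a) * (gen .g * gen .e) * (gen .i * gen .i) := by group
          _ = _ := by rw [hi2, mul_one]
  obtain ⟨k, rfl⟩ := tFacts.trans (gen .a) (mem .a) t ht
  rw [map_mul, map_mul, map_inv]
  exact tFacts.conj _ _ hs

end Cfsg.Agent.R08.AutT
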