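import Cfsg.Agent.R08.CohUniq

/-!
Coherence, part 1: if the central involution `u` of `L` is conjugate to a member `r` of `D₀`, then it
is interchanged with `r` by an element of the group.
-/

set_option autoImplicit false

namespace Cfsg.Agent.R08.CohRank

open Cfsg Cfsg.Agent.R01.Lifts Cfsg.Agent.R01.FiFusion Cfsg.Agent.R01.FiFacts
  Cfsg.Agent.R01.FiHexad Cfsg.Agent.R01.FiMain Cfsg.Agent.R08.CohUniq

/-! ### Perfect groups acting on two or three elements -/

section perfect

variable {H : Type*} [Group H]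

/-- A homomorphism of a perfect group to a commutative group is trivial. -/
theorem hom_trivial {A : Type*} [CommGroup A] (hH : commutator H = ⊤) (f : H →* A) (h : H) :
    f h = 1 := by
  have h1 : h ∈ commutator H := by rw [hH]; trivial
  exact MonoidHom.mem_ker.1 (Abelianization.commutator_subset_ker f h1)

/-- In a perfect group no element acts as a transposition on an invariant finite set. -/
theorem no_swap {X : Type*} [Finite X] [MulAction H X] (hH : commutator H = ⊤) {x y : X}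
    (hxy : x ≠ y) (h : H) (h1 : h • x = y) (h2 : h • y = x)
    (h3 : ∀ w : X, w ≠ x → w ≠ y → h • w = w) : False := by
  classical
  have := Fintype.ofFinite X
  have h4 : MulAction.toPermHom H X h = Equiv.swap x y := by
    ext w
    rw [MulAction.toPermHom_apply, MulAction.toPerm_apply]
    by_cases hx : w = x
    · rw [hx, h1, Equiv.swap_apply_left]
    by_cases hy : w = y
    · rw [hy, h2, Equiv.swap_apply_right]
    rw [h3 w hx hy, Equiv.swap_apply_of_ne_of_ne hx hy]
  have h5 := hom_trivial hH (Equiv.Perm.sign.comp (MulAction.toPermHom H X)) h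
  rw [MonoidHom.comp_apply, h4, Equiv.Perm.sign_swap hxy] at h5
  exact absurd h5 (by decide)

end perfect

/-- The subgroup `S` of `C` is perfect, leaves the set `X` invariant, so that no element of `S`
interchanges two elements of `X` and fixes the others. -/
theorem no_swap_set {C : Type*} [Group C] {S : Subgroup C} (hS : commutator S = ⊤) {X : Set C}
    (hX : X.Finite) (hinv : ∀ s ∈ S, ∀ x ∈ X, s * x * s⁻¹ ∈ X) {x y : C} (hx : x ∈ X) (hy : y ∈ X)
    (hxy : x ≠ y) (s : C) (hs : s ∈ S) (h1 : s * x * s⁻¹ = y) (h2 : s * y * s⁻¹ = x)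
    (h3 : ∀ w ∈ X, w ≠ x → w ≠ y → s * w * s⁻¹ = w) : False := by
  have : Finite X := hX
  let _ : MulAction S X :=
    { smul := fun s x => ⟨s * x * (s : C)⁻¹, hinv s s.2 x x.2⟩
      one_smul := fun x => Subtype.ext (by
        show ((1 : S) : C) * x * ((1 : S) : C)⁻¹ = x
        rw [Subgroup.coe_one, one_mul, inv_one, mul_one])
      mul_smul := fun s t x => Subtype.ext (by
        show ((s * t : S) : C) * x * ((s * t : S) : C)⁻¹ = s * (t * x * (t : C)⁻¹) * (s : C)⁻¹
        rw [Subgroup.coe_mul]; group) }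
  refine no_swap (X := X) hS (x := ⟨x, hx⟩) (y := ⟨y, hy⟩) (fun h => hxy (congrArg Subtype.val h))
    ⟨s, hs⟩ (Subtype.ext h1) (Subtype.ext h2) ?_
  rintro ⟨w, hw⟩ n1 n2
  exact Subtype.ext (h3 w hw (fun h => n1 (Subtype.ext h)) (fun h => n2 (Subtype.ext h)))

/-! ### The context -/

variable {G Φ : Type*} [Group G] [Group Φ]

/-- `L` is the subgroup of index two of the centraliser of `u`, `D` the class of lifts. -/
structure Ctx (L : Subgroup G) (π : L →* Φ) (u : L) (T : Set Φ) (D : Set L) : Prop where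
  lift : Lifted π u T D
  facts : TFacts T
  fix : ∀ f : Φ, f * f = 1 → ∃ t ∈ T, f * t = t * f
  sign : ∀ a ∈ D, ∀ b ∈ D, ∀ c ∈ D, ∀ a' ∈ D, ∀ b' ∈ D, ∀ c' ∈ D,
      Hex T (π a) (π b) (π c) (π a') (π b') (π c') → a * b * c * (a' * b' * c') = u
  cent : ∀ g : G, g * u = u * g → ∀ d ∈ D, g * d = d * g → g ∈ L
  comm : ∀ a b : G, a * u = u * a → b * u = u * b → a * b * a⁻¹ * b⁻¹ ∈ L
  swap : ∃ b : G, b * u = u * b ∧ ∀ d ∈ D, ∃ d' ∈ D, b * d * b⁻¹ = u * d'
  perf : ∀ d ∈ D, commutator (Subgroup.centralizer ({d} : Set L)) = ⊤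

namespace Ctx

variable {L : Subgroup G} {π : L →* Φ} {u : L} {T : Set Φ} {D : Set L}

theorem u_ne (h : Ctx L π u T D) {r : L} (hr : r ∈ D) : r ≠ u := by
  rintro rfl
  exact h.facts.ne _ (h.lift.map _ hr) h.lift.ext.mapz

theorem r_ne (h : Ctx L π u T D) {r : L} (hr : r ∈ D) : r ≠ 1 := by
  rintro rfl
  exact h.facts.ne _ (h.lift.map _ hr) (map_one π)

theorem inv_u (h : Ctx L π u T D) : u⁻¹ = u := inv_eq_of_mul_eq_one_left h.lift.ext.zz

/-- Conjugation by `L` is transitive on `D`. -/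
theorem trans (h : Ctx L π u T D) {x y : L} (hx : x ∈ D) (hy : y ∈ D) :
    ∃ c : L, c * x * c⁻¹ = y := by
  obtain ⟨g, hg⟩ := h.facts.trans _ (h.lift.map _ hx) _ (h.lift.map _ hy)
  obtain ⟨c, rfl⟩ := h.lift.ext.surj g
  exact ⟨c, conj_eq h.lift hx hy hg⟩

/-- The conjugates of the elements of `C_L(r)`. -/
theorem mem_of_perf (h : Ctx L π u T D) {r : L} (hr : r ∈ D) {g : G}
    (hg : g * u * g⁻¹ = r) (k : L) (hk : k * r = r * k) : g⁻¹ * k * g ∈ L := by
  have hcm : ∀ x : Subgroup.centralizer ({r} : Set L), (g⁻¹ * ((x : L) : G) * g) * u =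
      u * (g⁻¹ * ((x : L) : G) * g) := by
    intro x
    have hx : ((x : L) : G) * r = r * ((x : L) : G) := by
      have := Subgroup.mem_centralizer_singleton_iff.1 x.2
      exact_mod_cast congrArg Subtype.val this
    have hu : (u : G) = g⁻¹ * r * g := by rw [← hg]; group
    rw [hu]
    calc g⁻¹ * ((x : L) : G) * g * (g⁻¹ * r * g) = g⁻¹ * (((x : L) : G) * r) * g := by group
      _ = g⁻¹ * (r * ((x : L) : G)) * g := by rw [hx]
      _ = g⁻¹ * r * g * (g⁻¹ * ((x : L) : G) * g) := by group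
  have key : ∀ x ∈ commutator (Subgroup.centralizer ({r} : Set L)),
      g⁻¹ * ((x : L) : G) * g ∈ L := by
    intro x hx
    rw [commutator_def, Subgroup.commutator_def] at hx
    refine Subgroup.closure_induction
      (p := fun (x : Subgroup.centralizer ({r} : Set L)) _ => g⁻¹ * ((x : L) : G) * g ∈ L)
      ?_ ?_ ?_ ?_ hx
    · rintro _ ⟨a, -, b, -, rfl⟩
      have := h.comm _ _ (hcm a) (hcm b)
      rw [commutatorElement_def]
      have e : g⁻¹ * (((a * b * a⁻¹ * b⁻¹ : Subgroup.centralizer ({r} : Set L)) : L) : G) * g =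
          (g⁻¹ * ((a : L) : G) * g) * (g⁻¹ * ((b : L) : G) * g) * (g⁻¹ * ((a : L) : G) * g)⁻¹ *
            (g⁻¹ * ((b : L) : G) * g)⁻¹ := by
        push_cast
        group
      rw [e]
      exact this
    · simp
    · intro a b _ _ ha hb
      have e : g⁻¹ * (((a * b : Subgroup.centralizer ({r} : Set L)) : L) : G) * g =
          (g⁻¹ * ((a : L) : G) * g) * (g⁻¹ * ((b : L) : G) * g) := by
        push_cast
        group
      rw [e]
      exact mul_mem ha hb
    · intro a _ ha
      have e : g⁻¹ * (((a⁻¹ : Subgroup.centralizer ({r} : Set L)) : L) : G) * g =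
          (g⁻¹ * ((a : L) : G) * g)⁻¹ := by
        push_cast
        group
      rw [e]
      exact inv_mem ha
  have hkm : k ∈ Subgroup.centralizer ({r} : Set L) :=
    Subgroup.mem_centralizer_singleton_iff.2 hk
  exact key ⟨k, hkm⟩ (by rw [h.perf r hr]; trivial)

/-- The conjugate of `u` in question. -/
theorem exists_u' (h : Ctx L π u T D) {r : L} (hr : r ∈ D) {g : G}
    (hg : g * u * g⁻¹ = r) : ∃ u' : L, (u' : G) = g⁻¹ * u * g ∧ u' ≠ 1 ∧ u' ≠ u ∧ u' * u' = 1 := by
  have h1 := h.mem_of_perf hr hg u (h.lift.ext.comm r).symm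
  refine ⟨⟨_, h1⟩, rfl, ?_, ?_, ?_⟩
  · intro h2
    have h3 : g⁻¹ * (u : G) * g = 1 := congrArg Subtype.val h2
    apply h.lift.ext.zne
    apply Subtype.ext
    calc (u : G) = g * (g⁻¹ * u * g) * g⁻¹ := by group
      _ = 1 := by rw [h3]; group
  · intro h2
    have h3 : g⁻¹ * (u : G) * g = u := congrArg Subtype.val h2
    apply h.u_ne hr
    apply Subtype.ext
    rw [← hg]
    calc g * (u : G) * g⁻¹ = g * (g⁻¹ * u * g) * g⁻¹ := by rw [h3]
      _ = u := by group
  · apply Subtype.ext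
    show (g⁻¹ * (u : G) * g) * (g⁻¹ * u * g) = 1
    have h3 : (u : G) * u = 1 := by exact_mod_cast congrArg Subtype.val h.lift.ext.zz
    calc (g⁻¹ * (u : G) * g) * (g⁻¹ * u * g) = g⁻¹ * (u * u) * g := by group
      _ = 1 := by rw [h3]; group

/-- The centraliser of `u'` in `L` is perfect. -/
theorem perf_u' (h : Ctx L π u T D) {r : L} (hr : r ∈ D) {g : G}
    (hg : g * u * g⁻¹ = r) {u' : L} (hu' : (u' : G) = g⁻¹ * u * g) :
    commutator (Subgroup.centralizer ({u'} : Set L)) = ⊤ := by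
  have hur : (u : G) * r = r * u := by exact_mod_cast congrArg Subtype.val (h.lift.ext.comm r).symm
  have hlu : ∀ x : L, (x : G) * u = u * x := fun x => by
    exact_mod_cast congrArg Subtype.val (h.lift.ext.comm x)
  -- the map `C_L(r) → C_L(u')`
  have m1 : ∀ k : Subgroup.centralizer ({r} : Set L), g⁻¹ * ((k : L) : G) * g ∈ L := fun k =>
    h.mem_of_perf hr hg k (Subgroup.mem_centralizer_singleton_iff.1 k.2)
  have m2 : ∀ k : Subgroup.centralizer ({r} : Set L), (⟨_, m1 k⟩ : L) ∈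
      Subgroup.centralizer ({u'} : Set L) := by
    intro k
    rw [Subgroup.mem_centralizer_singleton_iff]
    apply Subtype.ext
    show g⁻¹ * ((k : L) : G) * g * u' = u' * (g⁻¹ * ((k : L) : G) * g)
    rw [hu']
    calc g⁻¹ * ((k : L) : G) * g * (g⁻¹ * u * g) = g⁻¹ * (((k : L) : G) * u) * g := by group
      _ = g⁻¹ * (u * ((k : L) : G)) * g := by rw [hlu]
      _ = g⁻¹ * u * g * (g⁻¹ * ((k : L) : G) * g) := by group
  let f : Subgroup.centralizer ({r} : Set L) →* Subgroup.centralizer ({u'} : Set L) :=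
    { toFun := fun k => ⟨⟨_, m1 k⟩, m2 k⟩
      map_one' := by
        apply Subtype.ext
        apply Subtype.ext
        show g⁻¹ * (1 : G) * g = 1
        group
      map_mul' := fun a b => by
        apply Subtype.ext
        apply Subtype.ext
        show g⁻¹ * (((a : L) : G) * ((b : L) : G)) * g =
          (g⁻¹ * ((a : L) : G) * g) * (g⁻¹ * ((b : L) : G) * g)
        group }
  have hf : Function.Surjective f := by
    intro x
    have hx : ((x : L) : G) * u' = u' * ((x : L) : G) := by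
      have := Subgroup.mem_centralizer_singleton_iff.1 x.2
      exact_mod_cast congrArg Subtype.val this
    have h1 : (g * ((x : L) : G) * g⁻¹) * u = u * (g * ((x : L) : G) * g⁻¹) := by
      have hu : (u : G) = g * u' * g⁻¹ := by rw [hu']; group
      rw [hu]
      calc g * ((x : L) : G) * g⁻¹ * (g * u' * g⁻¹) = g * (((x : L) : G) * u') * g⁻¹ := by group
        _ = g * (u' * ((x : L) : G)) * g⁻¹ := by rw [hx]
        _ = g * u' * g⁻¹ * (g * ((x : L) : G) * g⁻¹) := by group
    have h2 : (g * ((x : L) : G) * g⁻¹) * r = r * (g * ((x : L) : G) * g⁻¹) := by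
      rw [← hg]
      calc g * ((x : L) : G) * g⁻¹ * (g * u * g⁻¹) = g * (((x : L) : G) * u) * g⁻¹ := by group
        _ = g * (u * ((x : L) : G)) * g⁻¹ := by rw [hlu]
        _ = g * u * g⁻¹ * (g * ((x : L) : G) * g⁻¹) := by group
    have h3 := h.cent _ h1 r hr h2
    refine ⟨⟨⟨_, h3⟩, ?_⟩, ?_⟩
    · rw [Subgroup.mem_centralizer_singleton_iff]
      exact Subtype.ext h2
    · apply Subtype.ext
      apply Subtype.ext
      show g⁻¹ * (g * ((x : L) : G) * g⁻¹) * g = ((x : L) : G)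
      group
  have h4 : Subgroup.map f ⊤ = ⊤ := by rw [← MonoidHom.range_eq_map, MonoidHom.range_eq_top.2 hf]
  have h5 := h.perf r hr
  rw [commutator_def] at h5 ⊢
  rw [← h4, ← Subgroup.map_commutator, h5, h4]

/-- An element of `L` interchanging two commuting members of `D`, and fixing a third one. -/
theorem exists_swap3 (h : Ctx L π u T D) {x y w : L} (t : Tri D x y w) :
    ∃ k : L, k * x * k⁻¹ = y ∧ k * y * k⁻¹ = x ∧ k * w * k⁻¹ = w := by
  have t' := tri_map h.lift t
  have t'' : Tri T (π y) (π x) (π w) :=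
    ⟨t'.my, t'.mx, t'.mw, t'.xy.symm, t'.yw, t'.xw, t'.cxy.symm, t'.cyw, t'.cxw⟩
  obtain ⟨g, g1, g2, g3⟩ := h.facts.tri _ _ _ _ _ _ t' t''
  obtain ⟨k, rfl⟩ := h.lift.ext.surj g
  exact ⟨k, conj_eq h.lift t.mx t.my g1, conj_eq h.lift t.my t.mx g2,
    conj_eq h.lift t.mw t.mw g3⟩

/-- A third commuting member. -/
theorem exists_third (h : Ctx L π u T D) {x y : L} (hx : x ∈ D) (hy : y ∈ D) (hne : x ≠ y)
    (hxy : x * y = y * x) : ∃ w, Tri D x y w := by
  obtain ⟨t1, t2, t3, t4, y1, y2, hH, -⟩ := h.facts.elat _ (h.lift.map _ hx) _ (h.lift.map _ hy)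
    (fun e => hne (h.lift.inj _ hx _ hy e)) (by rw [← map_mul, ← map_mul, hxy])
  obtain ⟨w, hw, rfl⟩ := h.lift.surj _ hH.t.mw
  exact ⟨w, tri_lift h.lift hx hy hw hH.t⟩

/-- **The conjugate `u'` of `u` has rank one.** -/
theorem rank_one (h : Ctx L π u T D) {r : L} (hr : r ∈ D) {g : G}
    (hg : g * u * g⁻¹ = r) : ∃ x ∈ D, g⁻¹ * (u : G) * g = x ∨ g⁻¹ * (u : G) * g = u * x := by
  obtain ⟨u', hu', n1, n2, sq⟩ := h.exists_u' hr hg
  have hperf := h.perf_u' hr hg hu'
  rw [← hu']
  obtain ⟨c₀, h0, hc⟩ := lkey h.lift h.facts h.fix u' (Or.inl sq)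
  have hcc : ∀ k : L, k * c₀ * k⁻¹ = c₀ := by
    intro k
    rcases h0 with rfl | rfl
    · group
    · rw [h.lift.ext.comm, mul_inv_cancel_right]
  have hS : ∀ {b k : L}, u' = c₀ * b → (k ∈ Subgroup.centralizer ({u'} : Set L) ↔
      k * b * k⁻¹ = b) := by
    intro b k hb
    rw [Subgroup.mem_centralizer_singleton_iff, hb]
    constructor
    · intro e
      have e1 : c₀ * (k * b * k⁻¹) = c₀ * b := by
        calc c₀ * (k * b * k⁻¹) = (k * c₀ * k⁻¹) * (k * b * k⁻¹) := by rw [hcc]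
          _ = k * (c₀ * b) * k⁻¹ := by group
          _ = c₀ * b := by rw [e, mul_inv_cancel_right]
      exact mul_left_cancel e1
    · intro e
      calc k * (c₀ * b) = (k * c₀ * k⁻¹) * (k * b * k⁻¹) * k := by group
        _ = c₀ * b * k := by rw [hcc, e]
  rcases hc with hc | ⟨x, hx, hc⟩ | ⟨x, hx, y, hy, hne, hxy, hc⟩ | ⟨x, y, w, t, hc⟩
  · exfalso
    rcases h0 with rfl | rfl
    · exact n1 hc
    · exact n2 hc
  · refine ⟨x, hx, ?_⟩
    rcases h0 with rfl | rfl
    · left; rw [hc, one_mul]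
    · right; rw [hc]; rfl
  · exfalso
    obtain ⟨w, t⟩ := h.exists_third hx hy hne hxy
    obtain ⟨k, k1, k2, -⟩ := h.exists_swap3 t
    refine no_swap_set hperf (X := {x, y}) (Set.toFinite _) ?_ (x := x) (y := y) (by simp) (by simp)
      hne k ?_ k1 k2 ?_
    · intro s hs v hv
      have e := (hS hc).1 hs
      have ms : ∀ a ∈ D, s * a * s⁻¹ ∈ D := fun a ha => h.lift.conj s a ha
      have e1 : (s * x * s⁻¹) * (s * y * s⁻¹) = x * y := by rw [← e]; group
      have e2 : (s * y * s⁻¹) * (s * x * s⁻¹) = x * y := by rw [← e, hxy]; group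
      have c1 : (s * x * s⁻¹) * (s * y * s⁻¹) = (s * y * s⁻¹) * (s * x * s⁻¹) := by rw [e1, e2]
      rcases hv with rfl | rfl
      · exact uniq_two h.lift h.facts hx hy (ms _ hx) (ms _ hy) hne hxy c1 e1
      · exact uniq_two h.lift h.facts hx hy (ms _ hy) (ms _ hx) hne hxy c1.symm e2
    · rw [hS hc]
      calc k * (x * y) * k⁻¹ = (k * x * k⁻¹) * (k * y * k⁻¹) := by group
        _ = x * y := by rw [k1, k2, hxy]
    · intro v hv h1 h2
      rcases hv with rfl | rfl
      · exact absurd rfl h1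
      · exact absurd rfl h2
  · exfalso
    obtain ⟨k, k1, k2, k3⟩ := h.exists_swap3 t
    refine no_swap_set hperf (X := {x, y, w}) (Set.toFinite _) ?_ (x := x) (y := y) (by simp)
      (by simp) t.xy k ?_ k1 k2 ?_
    · intro s hs v hv
      have e := (hS hc).1 hs
      have ms : ∀ a ∈ D, s * a * s⁻¹ ∈ D := fun a ha => h.lift.conj s a ha
      have cj : ∀ {a b : L}, a * b = b * a → (s * a * s⁻¹) * (s * b * s⁻¹) =
          (s * b * s⁻¹) * (s * a * s⁻¹) := by
        intro a b hab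
        calc (s * a * s⁻¹) * (s * b * s⁻¹) = s * (a * b) * s⁻¹ := by group
          _ = s * (b * a) * s⁻¹ := by rw [hab]
          _ = (s * b * s⁻¹) * (s * a * s⁻¹) := by group
      have inj : ∀ {a b : L}, a ≠ b → s * a * s⁻¹ ≠ s * b * s⁻¹ := by
        intro a b hab e
        apply hab
        calc a = s⁻¹ * (s * a * s⁻¹) * s := by group
          _ = s⁻¹ * (s * b * s⁻¹) * s := by rw [e]
          _ = b := by group
      have t1 : Tri D (s * x * s⁻¹) (s * y * s⁻¹) (s * w * s⁻¹) :=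
        ⟨ms _ t.mx, ms _ t.my, ms _ t.mw, inj t.xy, inj t.xw, inj t.yw, cj t.cxy, cj t.cxw,
          cj t.cyw⟩
      have t2 : Tri D (s * y * s⁻¹) (s * x * s⁻¹) (s * w * s⁻¹) :=
        ⟨t1.my, t1.mx, t1.mw, t1.xy.symm, t1.yw, t1.xw, t1.cxy.symm, t1.cyw, t1.cxw⟩
      have t3 : Tri D (s * w * s⁻¹) (s * x * s⁻¹) (s * y * s⁻¹) :=
        ⟨t1.mw, t1.mx, t1.my, t1.xw.symm, t1.yw.symm, t1.xy, t1.cxw.symm, t1.cyw.symm, t1.cxy⟩
      have e1 : (s * x * s⁻¹) * (s * y * s⁻¹) * (s * w * s⁻¹) = x * y * w := by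
        rw [← e]; group
      have e2 : (s * y * s⁻¹) * (s * x * s⁻¹) * (s * w * s⁻¹) = x * y * w := by
        rw [← t1.cxy]; exact e1
      have e3 : (s * w * s⁻¹) * (s * x * s⁻¹) * (s * y * s⁻¹) = x * y * w := by
        calc (s * w * s⁻¹) * (s * x * s⁻¹) * (s * y * s⁻¹) =
            (s * x * s⁻¹) * (s * w * s⁻¹) * (s * y * s⁻¹) := by rw [t1.cxw]
          _ = (s * x * s⁻¹) * ((s * w * s⁻¹) * (s * y * s⁻¹)) := by group
          _ = (s * x * s⁻¹) * ((s * y * s⁻¹) * (s * w * s⁻¹)) := by rw [t1.cyw]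
          _ = x * y * w := by rw [← e1]; group
      rcases hv with rfl | rfl | rfl
      · exact uniq_three h.lift h.facts h.sign t t1 e1
      · exact uniq_three h.lift h.facts h.sign t t2 e2
      · exact uniq_three h.lift h.facts h.sign t t3 e3
    · rw [hS hc]
      calc k * (x * y * w) * k⁻¹ = (k * x * k⁻¹) * (k * y * k⁻¹) * (k * w * k⁻¹) := by group
        _ = x * y * w := by rw [k1, k2, k3, t.cxy]
    · intro v hv h1 h2
      rcases hv with rfl | rfl | rfl
      · exact absurd rfl h1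
      · exact absurd rfl h2
      · exact k3

/-- **The involutions `u` and `r` are interchanged.** -/
theorem exists_interchange (h : Ctx L π u T D) {r : L} (hr : r ∈ D) {g : G}
    (hg : g * u * g⁻¹ = r) : ∃ n : G, n * u * n⁻¹ = r ∧ n * r * n⁻¹ = u := by
  have huu : (u : G) * u = 1 := by exact_mod_cast congrArg Subtype.val h.lift.ext.zz
  have hlu : ∀ x : L, (x : G) * u = u * x := fun x => by
    exact_mod_cast congrArg Subtype.val (h.lift.ext.comm x)
  -- it suffices to find `c` in the centraliser of `u` mapping `g⁻¹ u g` to `r`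
  have main : ∀ c : G, c * u = u * c → c * (g⁻¹ * u * g) * c⁻¹ = r →
      ∃ n : G, n * u * n⁻¹ = r ∧ n * r * n⁻¹ = u := by
    intro c hc hcr
    refine ⟨g * c⁻¹, ?_, ?_⟩
    · calc g * c⁻¹ * u * (g * c⁻¹)⁻¹ = g * (c⁻¹ * (u * c)) * g⁻¹ := by group
        _ = g * (c⁻¹ * (c * u)) * g⁻¹ := by rw [hc]
        _ = g * u * g⁻¹ := by group
        _ = r := hg
    · rw [← hcr]; group
  obtain ⟨x, hx, h1 | h1⟩ := h.rank_one hr hg
  · obtain ⟨c, hc⟩ := h.trans hx hr
    refine main c (hlu c) ?_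
    rw [h1]
    exact_mod_cast congrArg Subtype.val hc
  · obtain ⟨b, hb, hbD⟩ := h.swap
    obtain ⟨y, hy, hby⟩ := hbD x hx
    obtain ⟨c, hc⟩ := h.trans hy hr
    refine main (c * b) ?_ ?_
    · calc (c : G) * b * u = c * (b * u) := by group
        _ = c * (u * b) := by rw [hb]
        _ = (c * u) * b := by group
        _ = u * (c * b) := by rw [hlu]; group
    · rw [h1]
      calc (c : G) * b * (u * x) * (c * b)⁻¹ = c * (b * u) * x * b⁻¹ * (c : G)⁻¹ := by group
        _ = c * u * (b * x * b⁻¹) * (c : G)⁻¹ := by rw [hb]; group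
        _ = c * (u * u) * y * (c : G)⁻¹ := by rw [hby]; group
        _ = c * y * (c : G)⁻¹ := by rw [huu, mul_one]
        _ = r := by exact_mod_cast congrArg Subtype.val hc

end Ctx

end Cfsg.Agent.R08.CohRank
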