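import Cfsg.Agent.R08.KPerf
import Cfsg.Agent.R08.CohRank

/-!
Theorem X, first part: the class of lifts of the transpositions in the subgroup `L` of index two of
the centraliser of `u`.
-/

set_option autoImplicit false

namespace Cfsg.Agent.R08.X1

open Cfsg Cfsg.Agent.Fischer Cfsg.Agent.R01 Cfsg.Agent.R01.Lifts Cfsg.Agent.R01.FiFusion
  Cfsg.Agent.R01.FiFacts Cfsg.Agent.R01.FiHexad Cfsg.Agent.R01.FiMain
open Cfsg.Agent.R08.AutT (T tFacts hfix aut_mem)
open Cfsg.Agent.R08.LiftCls
open scoped commutatorElement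

universe w

/-- Lemma V: an automorphism of the double cover which preserves the class of lifts is inner. -/
def LemmaV : Prop :=
  ∀ (C : Type w) [Group C] [Finite C] (π : C →* Spor.Fi22) (z : C) (D₀ : Set C),
    Lifted π z T D₀ → commutator C = ⊤ → ∀ α : C ≃* C, (∀ d ∈ D₀, α d ∈ D₀) →
      ∃ c : C, ∀ x, α x = c * x * c⁻¹

/-- Perfectness along an isomorphism. -/
theorem perf_of_equiv {A B : Type*} [Group A] [Group B] (e : A ≃* B) (h : commutator B = ⊤) :
    commutator A = ⊤ := by
  rw [eq_top_iff]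
  intro x _
  have h1 : e x ∈ commutator B := by rw [h]; trivial
  have h2 : Subgroup.map e.symm.toMonoidHom (commutator B) ≤ commutator A := by
    rw [commutator_def, commutator_def, Subgroup.map_commutator]
    exact Subgroup.commutator_mono le_top le_top
  have h3 := h2 ⟨e x, h1, rfl⟩
  have h4 : e.symm.toMonoidHom (e x) = x := e.symm_apply_apply x
  rwa [h4] at h3

variable {G : Type w} [Group G]

/-- The hypotheses on the subgroup `L` of index two of the centraliser of `u`. -/
structure Hyp (u : G) (L : Subgroup G) (φ : L →* Spor.Fi22) : Prop where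
  uu : u * u = 1
  une : u ≠ 1
  le : ∀ l ∈ L, l * u = u * l
  mul : ∀ a b : G, a * u = u * a → b * u = u * b → a ∉ L → b ∉ L → a * b ∈ L
  out : ∃ b : G, b * u = u * b ∧ b ∉ L
  perf : commutator L = ⊤
  surj : Function.Surjective φ
  ker : ∀ l : L, φ l = 1 ↔ l = 1 ∨ (l : G) = u
  cent : ∀ c : G, c * u = u * c → (∀ l ∈ L, c * l = l * c) → c = 1 ∨ c = u

namespace Hyp

variable {u : G} {L : Subgroup G} {φ : L →* Spor.Fi22}

theorem inv_comm {g : G} (hg : g * u = u * g) : g⁻¹ * u = u * g⁻¹ := by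
  have h : Commute g u := hg
  exact h.inv_left.eq

theorem norm (h : Hyp u L φ) (g : G) (hg : g * u = u * g) (x : G) (hx : x ∈ L) :
    g * x * g⁻¹ ∈ L := by
  by_cases hgL : g ∈ L
  · exact L.mul_mem (L.mul_mem hgL hx) (L.inv_mem hgL)
  · apply h.mul (g * x) g⁻¹
    · exact (Commute.mul_left (show Commute g u from hg) (show Commute x u from h.le x hx)).eq
    · exact inv_comm hg
    · intro h1
      apply hgL
      have := L.mul_mem h1 (L.inv_mem hx)
      rwa [mul_inv_cancel_right] at this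
    · intro h1
      apply hgL
      rw [← inv_inv g]
      exact L.inv_mem h1

theorem comm (h : Hyp u L φ) (a b : G) (ha : a * u = u * a) (hb : b * u = u * b) :
    a * b * a⁻¹ * b⁻¹ ∈ L := by
  by_cases haL : a ∈ L
  · have h1 := h.norm b hb a⁻¹ (L.inv_mem haL)
    have h2 := L.mul_mem haL h1
    rwa [← mul_assoc, ← mul_assoc] at h2
  by_cases hbL : b ∈ L
  · exact L.mul_mem (h.norm a ha b hbL) (L.inv_mem hbL)
  have haL' : a⁻¹ ∉ L := fun h1 => haL (by rw [← inv_inv a]; exact L.inv_mem h1)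
  have hbL' : b⁻¹ ∉ L := fun h1 => hbL (by rw [← inv_inv b]; exact L.inv_mem h1)
  have h1 := h.mul a b ha hb haL hbL
  have h2 := h.mul a⁻¹ b⁻¹ (inv_comm ha) (inv_comm hb) haL' hbL'
  have h3 := L.mul_mem h1 h2
  rwa [← mul_assoc] at h3

/-- The involution `u` lies in `L`. -/
theorem mem (h : Hyp u L φ) {r : L} (hr : φ r ∈ T) {g : G} (hg : g * u * g⁻¹ = r) : u ∈ L := by
  by_contra hu
  have hinj : Function.Injective φ := by
    rw [injective_iff_map_eq_one]
    intro l hl
    rcases (h.ker l).1 hl with h1 | h1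
    · exact h1
    · exact absurd (h1 ▸ l.2) hu
  set E : L ≃* Spor.Fi22 := MulEquiv.ofBijective φ ⟨hinj, h.surj⟩ with hE
  have hperf : commutator (Subgroup.centralizer ({r} : Set L)) = ⊤ := by
    apply perf_of_equiv (Fi22Facts.centMap E r)
    exact KPerf.perf_cent hr
  have hur : u = g⁻¹ * r * g := by rw [← hg]; group
  have hcm : ∀ x : Subgroup.centralizer ({r} : Set L), (g⁻¹ * ((x : L) : G) * g) * u =
      u * (g⁻¹ * ((x : L) : G) * g) := by
    intro x
    have hx : ((x : L) : G) * r = r * ((x : L) : G) := by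
      have := Subgroup.mem_centralizer_singleton_iff.1 x.2
      exact congrArg Subtype.val this
    rw [hur]
    calc g⁻¹ * ((x : L) : G) * g * (g⁻¹ * r * g) = g⁻¹ * (((x : L) : G) * r) * g := by group
      _ = g⁻¹ * (r * ((x : L) : G)) * g := by rw [hx]
      _ = g⁻¹ * r * g * (g⁻¹ * ((x : L) : G) * g) := by group
  set ψ : Subgroup.centralizer ({r} : Set L) →* G :=
    (MulAut.conj g⁻¹).toMonoidHom.comp (L.subtype.comp
      (Subgroup.centralizer ({r} : Set L)).subtype) with hψ
  have hψa : ∀ x, ψ x = g⁻¹ * ((x : L) : G) * g := by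
    intro x
    show g⁻¹ * ((x : L) : G) * g⁻¹⁻¹ = _
    rw [inv_inv]
  have hle : commutator (Subgroup.centralizer ({r} : Set L)) ≤ L.comap ψ := by
    rw [commutator_def, Subgroup.commutator_le]
    intro a _ b _
    rw [Subgroup.mem_comap, commutatorElement_def, map_mul, map_mul, map_mul, map_inv, map_inv]
    exact h.comm _ _ (by rw [hψa]; exact hcm a) (by rw [hψa]; exact hcm b)
  rw [hperf] at hle
  have hrr : r ∈ Subgroup.centralizer ({r} : Set L) :=
    Subgroup.mem_centralizer_singleton_iff.2 rfl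
  have h1 := hle (Subgroup.mem_top ⟨r, hrr⟩)
  rw [Subgroup.mem_comap, hψa] at h1
  apply hu
  rw [hur]
  exact h1

/-- `L` is a perfect double cover of `Fi22`. -/
theorem ext (h : Hyp u L φ) (huL : u ∈ L) : Ext φ (⟨u, huL⟩ : L) where
  surj := h.surj
  zz := Subtype.ext h.uu
  zne := fun h1 => h.une (congrArg Subtype.val h1)
  ker := by
    intro c
    rw [h.ker]
    constructor
    · rintro (h1 | h1)
      · exact Or.inl h1
      · exact Or.inr (Subtype.ext h1)
    · rintro (h1 | h1)
      · exact Or.inl h1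
      · exact Or.inr (congrArg Subtype.val h1)
  comm := fun c => Subtype.ext (h.le c c.2)

/-- Conjugation by an element commuting with `u` on `L`. -/
def conjL (h : Hyp u L φ) (g : G) (hg : g * u = u * g) : L ≃* L where
  toFun x := ⟨g * x * g⁻¹, h.norm g hg x x.2⟩
  invFun x := ⟨g⁻¹ * x * g, by
    have := h.norm g⁻¹ (inv_comm hg) x x.2
    rwa [inv_inv] at this⟩
  left_inv x := Subtype.ext (by
    show g⁻¹ * (g * x * g⁻¹) * g = x
    group)
  right_inv x := Subtype.ext (by
    show g * (g⁻¹ * x * g) * g⁻¹ = x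
    group)
  map_mul' x y := Subtype.ext (by
    show g * ((x : G) * y) * g⁻¹ = g * x * g⁻¹ * (g * y * g⁻¹)
    group)

theorem coe_conjL (h : Hyp u L φ) (g : G) (hg : g * u = u * g) (x : L) :
    ((h.conjL g hg x : L) : G) = g * x * g⁻¹ := rfl

variable {D : Set L}

/-- An element which preserves the class lies in `L`. -/
theorem mem_of_pres [Finite L] (hV : LemmaV.{w}) (h : Hyp u L φ) (huL : u ∈ L)
    (hD : Cls φ (⟨u, huL⟩ : L) D) (g : G) (hg : g * u = u * g)
    (hp : ∀ d ∈ D, h.conjL g hg d ∈ D) : g ∈ L := by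
  obtain ⟨l, hl⟩ := hV L φ ⟨u, huL⟩ D hD.lifted h.perf (h.conjL g hg) hp
  have h1 : ∀ x ∈ L, (l : G)⁻¹ * g * x = x * ((l : G)⁻¹ * g) := by
    intro x hx
    have h2 : g * x * g⁻¹ = l * x * (l : G)⁻¹ := congrArg Subtype.val (hl ⟨x, hx⟩)
    calc (l : G)⁻¹ * g * x = (l : G)⁻¹ * (g * x * g⁻¹) * g := by group
      _ = (l : G)⁻¹ * (l * x * (l : G)⁻¹) * g := by rw [h2]
      _ = x * ((l : G)⁻¹ * g) := by group
  have h3 : ((l : G)⁻¹ * g) * u = u * ((l : G)⁻¹ * g) :=
    (Commute.mul_left (show Commute ((l : G)⁻¹) u from (h.le _ (L.inv_mem l.2)))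
      (show Commute g u from hg)).eq
  have h4 : (l : G)⁻¹ * g ∈ L := by
    rcases h.cent _ h3 h1 with h5 | h5
    · rw [h5]; exact L.one_mem
    · rw [h5]; exact huL
  have h5 := L.mul_mem l.2 h4
  rwa [mul_inv_cancel_left] at h5

/-- The elements of `C_G(u)` outside `L` interchange the two classes. -/
theorem swap_of_notMem [Finite L] (hV : LemmaV.{w}) (h : Hyp u L φ) (huL : u ∈ L)
    (hD : Cls φ (⟨u, huL⟩ : L) D) (g : G) (hg : g * u = u * g) (hgL : g ∉ L) :
    ∀ d ∈ D, h.conjL g hg d * ⟨u, huL⟩ ∈ D := by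
  rcases hD.aut_cases (h.conjL g hg) (aut_z hD.ext _) with h1 | h1
  · exact absurd (h.mem_of_pres hV huL hD g hg h1) hgL
  · exact h1

/-- **Theorem X, first part.** -/
theorem ctx [Finite L] (hV : LemmaV.{w}) (h : Hyp u L φ) (huL : u ∈ L)
    (hD : Cls φ (⟨u, huL⟩ : L) D) : CohRank.Ctx L φ ⟨u, huL⟩ T D where
  lift := hD.lifted
  facts := tFacts
  fix := hfix
  sign := hD.sign
  cent := by
    intro g hg d hd hgd
    by_contra hgL
    have h1 := h.swap_of_notMem hV huL hD g hg hgL d hd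
    have h2 : h.conjL g hg d = d := by
      apply Subtype.ext
      rw [coe_conjL, hgd, mul_inv_cancel_right]
    rw [h2] at h1
    exact hD.nz d hd h1
  comm := h.comm
  swap := by
    obtain ⟨b, hb, hbL⟩ := h.out
    refine ⟨b, hb, fun d hd => ⟨h.conjL b hb d * ⟨u, huL⟩,
      h.swap_of_notMem hV huL hD b hb hbL d hd, ?_⟩⟩
    show b * d * b⁻¹ = u * (b * d * b⁻¹ * u)
    rw [h.le _ (h.norm b hb d d.2), ← mul_assoc, h.uu, one_mul]
  perf := fun _ hd => KPerf.perf hD hd

end Hyp

/-- The hypotheses of Theorem X for the image of `L` in `G`. -/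
theorem hyp_of {u : G} (hu : orderOf u = 2) (L : Subgroup (Subgroup.centralizer ({u} : Set G)))
    (hidx : L.index = 2) (hperf : commutator L = ⊤) (φ : L →* Spor.Fi22)
    (hsurj : Function.Surjective φ)
    (hker : ∀ l : L, φ l = 1 ↔ l = 1 ∨ ((l : Subgroup.centralizer ({u} : Set G)) : G) = u)
    (hcent : ∀ c : Subgroup.centralizer ({u} : Set G), (∀ l ∈ L, c * l = l * c) →
      c = 1 ∨ (c : G) = u) :
    ∃ (L' : Subgroup G) (e : L ≃* L'), (∀ l : L, ((e l : L') : G) =
      ((l : Subgroup.centralizer ({u} : Set G)) : G)) ∧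
      Hyp u L' (φ.comp e.symm.toMonoidHom) := by
  set e := L.equivMapOfInjective (Subgroup.centralizer ({u} : Set G)).subtype
    (Subgroup.subtype_injective _) with he
  have hmem : ∀ g : G, g ∈ L.map (Subgroup.centralizer ({u} : Set G)).subtype ↔ ∃ c : (Subgroup.centralizer ({u} : Set G)), c ∈ L ∧ (c : G) = g := by
    intro g
    rw [Subgroup.mem_map]
    rfl
  have hcoe : ∀ l : L, ((e l : L.map (Subgroup.centralizer ({u} : Set G)).subtype) : G) = ((l : (Subgroup.centralizer ({u} : Set G))) : G) := fun l => rfl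
  have hmem' : ∀ (g : G) (hg : g * u = u * g), g ∈ L.map (Subgroup.centralizer ({u} : Set G)).subtype ↔
      (⟨g, Subgroup.mem_centralizer_singleton_iff.2 hg⟩ : (Subgroup.centralizer ({u} : Set G))) ∈ L := by
    intro g hg
    rw [hmem]
    constructor
    · rintro ⟨c, hc, rfl⟩
      exact hc
    · intro h
      exact ⟨_, h, rfl⟩
  refine ⟨L.map (Subgroup.centralizer ({u} : Set G)).subtype, e, hcoe, ?_⟩
  refine
    { uu := ?_, une := ?_, le := ?_, mul := ?_, out := ?_, perf := ?_, surj := ?_, ker := ?_,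
      cent := ?_ }
  · have := pow_orderOf_eq_one u
    rwa [hu, pow_two] at this
  · rintro rfl
    rw [orderOf_one] at hu
    norm_num at hu
  · intro l hl
    obtain ⟨c, -, rfl⟩ := (hmem l).1 hl
    exact Subgroup.mem_centralizer_singleton_iff.1 c.2
  · intro a b ha hb haL hbL
    rw [hmem' a ha] at haL
    rw [hmem' b hb] at hbL
    have h1 := (Subgroup.mul_mem_iff_of_index_two hidx
      (a := ⟨a, Subgroup.mem_centralizer_singleton_iff.2 ha⟩)
      (b := ⟨b, Subgroup.mem_centralizer_singleton_iff.2 hb⟩)).2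
        ⟨fun h => absurd h haL, fun h => absurd h hbL⟩
    exact (hmem _).2 ⟨_, h1, rfl⟩
  · have hne : L ≠ ⊤ := by
      intro h
      rw [h, Subgroup.index_top] at hidx
      norm_num at hidx
    obtain ⟨c, hc⟩ : ∃ c : (Subgroup.centralizer ({u} : Set G)), c ∉ L := by
      by_contra hcon
      push Not at hcon
      exact hne (eq_top_iff.2 fun c _ => hcon c)
    have hcc := Subgroup.mem_centralizer_singleton_iff.1 c.2
    refine ⟨c, hcc, ?_⟩
    rw [hmem' _ hcc]
    exact hc
  · exact perf_of_equiv e.symm hperf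
  · exact hsurj.comp e.symm.surjective
  · intro l
    obtain ⟨l, rfl⟩ := e.surjective l
    show φ (e.symm (e l)) = 1 ↔ _
    rw [e.symm_apply_apply, hker, hcoe]
    constructor
    · rintro (h | h)
      · left; rw [h, map_one]
      · right; exact h
    · rintro (h | h)
      · left; exact e.injective (by rw [h, map_one])
      · right; exact h
  · intro c hc hcl
    have h1 := hcent ⟨c, Subgroup.mem_centralizer_singleton_iff.2 hc⟩ (by
      intro l hl
      apply Subtype.ext
      exact hcl l ((hmem _).2 ⟨l, hl, rfl⟩))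
    rcases h1 with h1 | h1
    · left; exact congrArg Subtype.val h1
    · right; exact h1

/-- **Theorem X, first part**, in the form of the hypotheses of Theorem X. -/
theorem x1 [Finite G] (hV : LemmaV.{w}) {u : G} (hu : orderOf u = 2)
    (L : Subgroup (Subgroup.centralizer ({u} : Set G)))
    (hidx : L.index = 2) (hperf : commutator L = ⊤) (φ : L →* Spor.Fi22)
    (hsurj : Function.Surjective φ)
    (hker : ∀ l : L, φ l = 1 ↔ l = 1 ∨ ((l : Subgroup.centralizer ({u} : Set G)) : G) = u)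
    (hcent : ∀ c : Subgroup.centralizer ({u} : Set G), (∀ l ∈ L, c * l = l * c) →
      c = 1 ∨ (c : G) = u)
    (r : L) (hr : φ r ∈ T)
    (hru : ∃ g : G, g * u * g⁻¹ = ((r : Subgroup.centralizer ({u} : Set G)) : G)) :
    ∃ (L' : Subgroup G) (e : L ≃* L') (u' : L') (D : Set L'),
      (∀ l : L, ((e l : L') : G) = ((l : Subgroup.centralizer ({u} : Set G)) : G)) ∧
      (u' : G) = u ∧ Hyp u L' (φ.comp e.symm.toMonoidHom) ∧
      Cls (φ.comp e.symm.toMonoidHom) u' D ∧ e r ∈ D ∧
      CohRank.Ctx L' (φ.comp e.symm.toMonoidHom) u' T D := by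
  obtain ⟨L', e, he, H⟩ := hyp_of hu L hidx hperf φ hsurj hker hcent
  obtain ⟨g, hg⟩ := hru
  have hr' : φ.comp e.symm.toMonoidHom (e r) ∈ T := by
    show φ (e.symm (e r)) ∈ T
    rw [e.symm_apply_apply]; exact hr
  have huL : u ∈ L' := H.mem hr' (g := g) (by rw [hg, he])
  obtain ⟨D, hD, hrD⟩ := exists_cls_mem (H.ext huL) H.perf hr'
  exact ⟨L', e, ⟨u, huL⟩, D, he, rfl, H, hD, hrD, H.ctx hV huL hD⟩

end Cfsg.Agent.R08.X1
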