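import Cfsg.Agent.R08.FlagH
import Cfsg.Agent.R08.FiTwentyThree
import Cfsg.Agent.R08.X1
import Cfsg.Agent.R01.GlueAbs

/-!
The facts `HData` on the presented `Fi23`.
-/

set_option autoImplicit false

namespace Cfsg.Agent.R08.FlagData

open Cfsg Cfsg.Spor Cfsg.Agent.LieClassical.HermBasic Cfsg.Agent.R01.Lifts Cfsg.Agent.R01.Start
open Cfsg.Agent.R01.InvForm Cfsg.Agent.R01.HermRigid Cfsg.Agent.R01.HermPlane
open Cfsg.Agent.R01.GlueFull Cfsg.Agent.R01.LabelsOf Cfsg.Agent.R01.FiHexad Cfsg.Agent.R01.FiFacts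
open Cfsg.Agent.R08.FlagMain Cfsg.Agent.Fischer
open Cfsg.Agent.R01.Fi22Facts (T loc isThreeTranspositionClass_T gen_mem)
open Cfsg.Agent.Fischer.Fi23Hom (gen)
open Cfsg.Agent.Fischer.Fi23Class (K)
open Cfsg.Agent.Fischer.Fi23Z (z0)

theorem K_eq : (K : Subgroup Fi23) = Subgroup.centralizer ({z0} : Set Fi23) := by
  ext g
  rw [FiTwentyThree.mem_K_iff, Subgroup.mem_centralizer_singleton_iff]

/-- The isomorphism of `K` with the centraliser. -/
def eK : K ≃* Subgroup.centralizer ({z0} : Set Fi23) := MulEquiv.subgroupCongr K_eq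

theorem coe_eK (x : K) : (eK x : Fi23) = x := rfl

theorem coe_eK_symm (x : Subgroup.centralizer ({z0} : Set Fi23)) : (eK.symm x : Fi23) = x := rfl

/-- The class of lifts in the centraliser of `z0`. -/
def S' : Set (Subgroup.centralizer ({z0} : Set Fi23)) := {y | eK.symm y ∈ FiTwentyThree.S}

theorem coe_zel (G : Type*) [Group G] (z : G) : ((zel z : Subgroup.centralizer ({z} : Set G)) : G) = z := rfl

theorem eK_z : eK FiTwentyThree.zK = zel z0 :=
  Subtype.ext (((coe_eK _).trans FiTwentyThree.coe_zK).trans (coe_zel _ _).symm)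

/-- The double cover of `Fi22` on the centraliser of `z0`. -/
noncomputable def pi' : Subgroup.centralizer ({z0} : Set Fi23) →* Fi22 :=
  FiTwentyThree.pi.comp eK.symm.toMonoidHom

theorem lifted : Lifted pi' (zel z0) T S' :=
  R01.GlueAbs.lifted_transport FiTwentyThree.lifted eK eK_z

theorem mem_iff (x : Subgroup.centralizer ({z0} : Set Fi23)) :
    (x : Fi23) ∈ conjugatesOf z0 ↔ x = zel z0 ∨ x ∈ S' := by
  constructor
  · intro hx
    by_cases hne : (x : Fi23) = z0
    · left; exact Subtype.ext hne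
    · right; exact ⟨hx, hne⟩
  · rintro (rfl | hx)
    · exact mem_conjugatesOf_self
    · exact hx.1

theorem perf : commutator (Subgroup.centralizer ({z0} : Set Fi23)) = ⊤ :=
  X1.perf_of_equiv eK.symm FiTwentyThree.perfect

theorem hns (c : Subgroup.centralizer ({z0} : Set Fi23)) : c * c ≠ zel z0 := by
  have := R01.AlphaFi23.finite_fi23
  obtain ⟨D, hD⟩ := LiftCls.exists_cls lifted.ext perf
  exact hD.hns c

theorem sign : ∀ a ∈ S', ∀ b ∈ S', ∀ c ∈ S', ∀ a' ∈ S', ∀ b' ∈ S', ∀ c' ∈ S',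
    Hex T (pi' a) (pi' b) (pi' c) (pi' a') (pi' b') (pi' c') →
      a * b * c * (a' * b' * c') = zel z0 := by
  have := R01.AlphaFi23.finite_fi23
  exact fun _ ha _ hb _ hc _ ha' _ hb' _ hc' hH =>
    lifted.hexad_sign AutT.tFacts perf hns gen_mem ha hb hc ha' hb' hc' hH

theorem one_not_mem : (1 : Fi22) ∉ T := by
  intro h
  have := isThreeTranspositionClass_T.1.1 _ h
  rw [orderOf_one] at this
  exact absurd this (by norm_num)

/-- **The facts on `Fi23`.** -/
theorem hdata : ∃ (F : Type) (_ : Field F) (_ : Fintype F), Fintype.card F = 2 ^ 2 ∧ HData F := by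
  have := R01.AlphaFi23.finite_fi23
  refine ⟨SporRec.GF4.F4, inferInstance, inferInstance, Unit22.hF, ?_⟩
  have haD : (gen .a : Fi23) ∈ conjugatesOf z0 := FlagMain.isConj_gen .a
  have haz : Commute (gen .a : Fi23) z0 :=
    comm_z0 _ (Cfsg.Agent.Fischer.Fi23Class.gen_mem_K .a (by decide))
  obtain ⟨lab, hlab⟩ := exists_labels (R01.GlueAbs.ch_of_lifted lifted mem_iff) one_not_mem loc
    R01.GlueAbs.conj_mem haD gen_a_ne haz
  have h6 := R01.HexNe.hex1 lifted sign mem_iff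
  have h5 := R01.HexNe.five1 lifted AutT.tFacts mem_iff
  obtain ⟨u, v, w, hfr⟩ := R01.GlueAbs.exists_fr3 (F := SporRec.GF4.F4) Unit22.hF
  obtain ⟨f, hf⟩ := exists_frame_of_fr3 Unit22.hF hfr
  obtain ⟨ho1, ho2⟩ := R01.Oval.oval_inj Unit22.hF hlab hf h6 h5 mem_conjugatesOf_self haD
    FlagMain.z0_sq (Cfsg.Agent.Fischer.Fi23Final.gen_sq .a) haz gen_a_ne
  exact FlagH.hdata ⟨lab, hlab.labels, u, v, w, hfr, ho1, ho2⟩ hlab.gen

end Cfsg.Agent.R08.FlagData
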