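import Cfsg.Agent.R08.LemmaV
import Cfsg.Agent.R08.FlagData

/-!
LEMMA V for the perfect double covers of `Fi22`: an automorphism which preserves a class of lifts of the
transpositions is inner.
-/

set_option autoImplicit false

namespace Cfsg.Agent.R08.LemmaVInst

open Cfsg Cfsg.Spor Cfsg.Agent.LieClassical.HermBasic Cfsg.Agent.R01.Lifts
open Cfsg.Agent.R01.InvForm Cfsg.Agent.R01.HermRigid Cfsg.Agent.R01.HermPlane
open Cfsg.Agent.R01.GlueFull Cfsg.Agent.R01.FiHexad Cfsg.Agent.R01.FiFacts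
open Cfsg.Agent.R01.AlphaFi23 (t)
open Cfsg.Agent.R08.LiftCls Cfsg.Agent.R08.AutT
open Cfsg.Agent.Fischer.Fi23Hom (gen)
open Cfsg.Agent.Fischer.Fi23Class (K)
open Cfsg.Agent.Fischer.Fi23Z (z0)
open Cfsg.Agent.R08.FiTwentyThree (zK S)

universe w

section

variable {C : Type*} [Group C] {π : C →* Spor.Fi22} {z : C} {D D' : Set C}

theorem eq_of_mem (L : Lifted π z T D) (h : Cls π z D') {x : C} (hx : x ∈ D) (hx' : x ∈ D') :
    D = D' := by
  have h1 : D' ⊆ D := by
    intro y hy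
    obtain ⟨c, rfl⟩ := h.trans hx' hy
    exact L.conj c x hx
  refine Set.Subset.antisymm ?_ h1
  intro y hy
  obtain ⟨y', hy', hyy⟩ := h.bij.2.2 (L.map y hy)
  rw [← L.inj y' (h1 hy') y hy hyy]
  exact hy'

/-- A set of lifts is one of the two classes. -/
theorem cls_of_lifted (L : Lifted π z T D) (hperf : commutator C = ⊤) : Cls π z D := by
  obtain ⟨x, hx, -⟩ := L.surj _ (Cfsg.Agent.R01.Fi22Facts.gen_mem .a)
  obtain ⟨D', hD', hx'⟩ := exists_cls_mem L.ext hperf (L.map x hx)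
  rw [eq_of_mem L hD' hx hx']
  exact hD'

/-- Two noncommuting members commute with a third. -/
theorem link (h : Cls π z D) : ∀ x ∈ D, ∀ y ∈ D, ¬ Commute x y →
    ∃ i ∈ D, Commute i x ∧ Commute i y := by
  intro x hx y hy hxy
  have hab : ¬ Commute (Cfsg.Agent.Fischer.Fi22PtsRep.gen .a)
      (Cfsg.Agent.Fischer.Fi22PtsRep.gen .b) := Cfsg.Agent.Fischer.Fi22Order.ab_ne
  have hxy' : ¬ Commute (π x) (π y) := fun hc => hxy (h.comm x y (h.bij.1 hx) (h.bij.1 hy) hc)
  obtain ⟨k, hk1, hk2⟩ := Cfsg.Agent.R01.Fi22Facts.trans_noncommuting _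
    (Cfsg.Agent.R01.Fi22Facts.gen_mem .a) _ (Cfsg.Agent.R01.Fi22Facts.gen_mem .b) _ (h.bij.1 hx) _
    (h.bij.1 hy) hab hxy'
  have hd : k * Cfsg.Agent.Fischer.Fi22PtsRep.gen .d * k⁻¹ ∈ T :=
    tFacts.conj _ _ (Cfsg.Agent.R01.Fi22Facts.gen_mem .d)
  obtain ⟨i, hi, hik⟩ := h.bij.2.2 hd
  refine ⟨i, hi, h.comm i x (h.bij.1 hi) (h.bij.1 hx) ?_, h.comm i y (h.bij.1 hi) (h.bij.1 hy) ?_⟩
  · rw [hik, ← hk1]
    have h1 : Commute (Cfsg.Agent.Fischer.Fi22PtsRep.gen .d)
      (Cfsg.Agent.Fischer.Fi22PtsRep.gen .a) := comm_of_label (by decide)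
    have := h1.map (MulAut.conj k)
    rwa [MulAut.conj_apply, MulAut.conj_apply] at this
  · rw [hik, ← hk2]
    have h1 : Commute (Cfsg.Agent.Fischer.Fi22PtsRep.gen .d)
      (Cfsg.Agent.Fischer.Fi22PtsRep.gen .b) := comm_of_label (by decide)
    have := h1.map (MulAut.conj k)
    rwa [MulAut.conj_apply, MulAut.conj_apply] at this

theorem class3 (h : Cls π z D) : LemmaV.Class3 D where
  conj := fun c _ hx => h.conj c hx
  sq := h.lifted.sq
  three := h.lifted.three

theorem closure_eq (h : Cls π z D) : Subgroup.closure D = ⊤ := h.cls.2.2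

end

/-- The members of the ovals are isotropic. -/
theorem iso_of_mem {F : Type*} [Field F] [Fintype F] (hF : Fintype.card F = 2 ^ 2)
    {u v w : Fin 6 → F} (h : Fr3 u v w) (s : Fˣ) (x : Fin 6 → F) (hx : x ∈ ovalList u v w s) :
    x ≠ 0 ∧ hermForm 6 F 2 x x = 0 := by
  classical
  obtain ⟨f, hf⟩ := exists_frame_of_fr3 hF h
  unfold ovalList at hx
  simp only [List.mem_cons, List.mem_map, Finset.mem_toList, Finset.mem_univ, true_and] at hx
  rcases hx with rfl | rfl | rfl | ⟨b, rfl⟩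
  · exact ⟨h.u_ne, h.uu⟩
  · exact ⟨h.v_ne, h.vv⟩
  · exact ⟨h.w_ne, h.ww⟩
  · have h1 : u + (b : F) • v + ((s * b⁻¹ : Fˣ) : F) • w =
        comb ![u, v, w] f ![1, (b : F), ((s * b⁻¹ : Fˣ) : F)] 0 := by
      rw [comb_vec hF, one_smul]
      rfl
    rw [h1]
    refine ⟨comb_ne hF hf _ ?_, iso_comb hF hf _⟩
    intro h0
    have := congrFun h0 0
    simp at this

theorem clsK : Cls FiTwentyThree.pi zK S := cls_of_lifted FiTwentyThree.lifted FiTwentyThree.perfect

theorem mem_S {x : K} : x ∈ S ↔ (x : Fi23) ∈ conjugatesOf z0 ∧ (x : Fi23) ≠ z0 := Iff.rfl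

theorem ta_mem : t .a ∈ S := FiTwentyThree.mem_S_iff.2 ⟨1, by group⟩

/-- LEMMA V in `K`. -/
theorem innerK (ψ : K ≃* K) (hψ : ∀ x ∈ S, ψ x ∈ S) (hz : ψ zK = zK) :
    ∃ g : K, ∀ y, ψ y = g * y * g⁻¹ := by
  classical
  obtain ⟨F, _, _, hF, hd⟩ := FlagData.hdata
  obtain ⟨lab, hL, u, v, w, hfr, ho1, ho2⟩ := hd.lab
  have hmK : ∀ v : Fin 6 → F, v ≠ 0 → hermForm 6 F 2 v v = 0 → lab v ∈ K := by
    intro v hv0 hv
    exact FlagH.cen _ (hL.mem v hv0 hv).2.1
  set lab' : (Fin 6 → F) → K := fun v => if h : lab v ∈ K then ⟨lab v, h⟩ else 1 with hlab'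
  have hco : ∀ v : Fin 6 → F, v ≠ 0 → hermForm 6 F 2 v v = 0 → (lab' v : Fi23) = lab v := by
    intro v hv0 hv
    rw [hlab']
    show ((dite _ _ _ : K) : Fi23) = _
    rw [dif_pos (hmK v hv0 hv)]
  have hL' : Labels (LemmaV.Nb S (t .a)) 6 F lab' := by
    refine ⟨?_, ?_, ?_, ?_, ?_, ?_, ?_⟩
    · intro v hv0 hv
      obtain ⟨h1, h2, h3, h4, h5⟩ := hL.mem v hv0 hv
      refine ⟨?_, ?_, ?_⟩
      · rw [mem_S, hco v hv0 hv]
        exact ⟨h1, h4⟩
      · apply Subtype.ext
        show (lab' v : Fi23) * gen .a = gen .a * (lab' v : Fi23)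
        rw [hco v hv0 hv]
        exact h3
      · intro h
        apply h5
        rw [← hco v hv0 hv, h]
        rfl
    · rintro s ⟨h1, h2, h3⟩
      obtain ⟨v, hv0, hv, hs⟩ := hL.surj (s : Fi23) ⟨h1.1, FlagMain.comm_z0 _ s.2,
        congrArg Subtype.val h2, h1.2, fun h => h3 (Subtype.ext h)⟩
      exact ⟨v, hv0, hv, Subtype.ext (by rw [hs, hco v hv0 hv])⟩
    · intro v hv0 hv c hc
      apply Subtype.ext
      rw [hco v hv0 hv, hco _ (smul_ne_zero hc hv0), hL.smul v hv0 hv c hc]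
      rw [herm_smul_left, herm_smul_right, hv, mul_zero, mul_zero]
    · intro v w hv0 hw0 hv hw h
      apply hL.inj v w hv0 hw0 hv hw
      rw [← hco v hv0 hv, ← hco w hw0 hw, h]
    · intro v w hv0 hw0 hv hw
      rw [← hL.comm v w hv0 hw0 hv hw, ← hco v hv0 hv, ← hco w hw0 hw]
      exact ⟨fun h => congrArg Subtype.val h, fun h => Subtype.ext h⟩
    · intro v hv0 hv
      apply Subtype.ext
      show (lab' v : Fi23) * (lab' v : Fi23) = 1
      rw [hco v hv0 hv]
      exact hL.sq v hv0 hv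
    · intro v w hv0 hw0 hv hw
      apply Subtype.ext
      show (lab' v : Fi23) * (lab' w : Fi23) * (lab' v : Fi23) = _
      have e1 : w + hermForm 6 F 2 w v • v =
          Cfsg.Agent.ClassicalGeometry.UnitTransv.act
            (Cfsg.Agent.SporadicStructure.UnitTwo.T hF v hv) w :=
        (Cfsg.Agent.SporadicStructure.UnitTwo.act_T hF v hv w).symm
      have h0 : w + hermForm 6 F 2 w v • v ≠ 0 := by
        rw [e1]
        intro h
        apply hw0
        have hz0 : Cfsg.Agent.ClassicalGeometry.UnitTransv.act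
            (Cfsg.Agent.SporadicStructure.UnitTwo.T hF v hv) 0 = 0 := by
          have h2 := Cfsg.Agent.ClassicalGeometry.UnitTransv.act_smul
            (Cfsg.Agent.SporadicStructure.UnitTwo.T hF v hv) 0 0
          rwa [zero_smul, zero_smul] at h2
        exact Cfsg.Agent.ClassicalGeometry.UnitTransv.act_injective _ (h.trans hz0.symm)
      have h1 : hermForm 6 F 2 (w + hermForm 6 F 2 w v • v) (w + hermForm 6 F 2 w v • v) = 0 := by
        rw [e1, Cfsg.Agent.ClassicalGeometry.UnitTransv.herm_act, hw]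
      rw [hco v hv0 hv, hco w hw0 hw, hL.conj v w hv0 hw0 hv hw, hco _ h0 h1]
  have hprod : ∀ s : Fˣ, ((((ovalList u v w s).map lab').prod : K) : Fi23) =
      ((ovalList u v w s).map lab).prod := by
    intro s
    have h1 : ∀ l : List (Fin 6 → F), (∀ x ∈ l, x ≠ 0 ∧ hermForm 6 F 2 x x = 0) →
        (((l.map lab').prod : K) : Fi23) = (l.map lab).prod := by
      intro l
      induction l with
      | nil => intro _; rfl
      | cons x l ih =>
        intro hl
        rw [List.map_cons, List.map_cons, List.prod_cons, List.prod_cons, Subgroup.coe_mul,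
          hco x (hl x List.mem_cons_self).1 (hl x List.mem_cons_self).2,
          ih (fun y hy => hl y (List.mem_cons_of_mem _ hy))]
    exact h1 _ (iso_of_mem hF hfr s)
  refine LemmaV.inner hF (class3 clsK) (link clsK) (fun x hx y hy => clsK.trans hx hy)
    (closure_eq clsK) FiTwentyThree.central ta_mem hL' hfr ?_ ?_ ψ hψ hz
  · intro s
    have h1 : Subgroup.map K.subtype (Subgroup.closure ({zK, t .a} : Set K)) =
        Subgroup.closure ({z0, gen .a} : Set Fi23) := by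
      rw [MonoidHom.map_closure, Set.image_pair]
      rfl
    have h2 := ho1 s
    rw [← h1, ← hprod s] at h2
    obtain ⟨y, hy, hys⟩ := h2
    have : y = ((ovalList u v w s).map lab').prod := Subtype.ext hys
    rw [← this]
    exact hy
  · intro s s' h
    apply ho2
    rw [← hprod, ← hprod, h]

/-- An automorphism of `K` which maps `a` to a conjugate is inner. -/
theorem inner_of_isConj (ψ : K ≃* K) (h : IsConj (t .a) (ψ (t .a))) :
    ∃ g : K, ∀ y, ψ y = g * y * g⁻¹ := by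
  refine innerK ψ ?_ (aut_z FiTwentyThree.ext ψ)
  intro x hx
  obtain ⟨k, rfl⟩ := FiTwentyThree.mem_S_iff.1 hx
  obtain ⟨c, hc⟩ := isConj_iff.1 h
  rw [FiTwentyThree.mem_S_iff]
  refine ⟨ψ k * c, ?_⟩
  rw [map_mul, map_mul, map_inv, ← hc]
  group

/-- **LEMMA V.** -/
theorem lemmaV : X1.LemmaV.{w} := by
  intro C _ _ π z D L hperf α hα
  have h := cls_of_lifted L hperf
  obtain ⟨e, s, -, -, -, -, hez, heD⟩ := Cfsg.Agent.R01.AlphaFi23.exists_alpha_class h.ext hperf
    h.cls h.bij h.hns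
  have hDS : ∀ c, c ∈ D ↔ e c ∈ S := by
    intro c
    rw [heD, FiTwentyThree.mem_S_iff, isConj_iff]
  obtain ⟨g, hg⟩ := innerK ((e.symm.trans α).trans e) (by
    intro x hx
    show e (α (e.symm x)) ∈ S
    rw [← hDS]
    apply hα
    rw [hDS, e.apply_symm_apply]
    exact hx) (by
    show e (α (e.symm zK)) = zK
    have h1 : e z = zK := Subtype.ext hez
    rw [← h1, e.symm_apply_apply, aut_z h.ext])
  refine ⟨e.symm g, fun x => ?_⟩
  apply e.injective
  have h1 := hg (e x)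
  have h2 : e (α x) = g * e x * g⁻¹ := by
    rw [← h1]
    show _ = e (α (e.symm (e x)))
    rw [e.symm_apply_apply]
  rw [h2, map_mul, map_mul, map_inv, e.apply_symm_apply]

end Cfsg.Agent.R08.LemmaVInst
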