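import Mathlib
import Cfsg.Agent.R08.TetThree

/-!
# The element `κ` for two involutions with unique fixed points
-/

set_option autoImplicit false

namespace Cfsg.Agent.R08.TetStar

open Cfsg.Agent.R08.TetBasic Cfsg.Agent.R08.TetTwo Cfsg.Agent.R08.TetThree

section star

variable {G : Type*} [Group G]

theorem half {H : Subgroup G} {x r : G} (hxx : x * x = 1) (hx : x ∈ H) (cx : ∀ g, g * x * g⁻¹ ∈ H → g ∈ H)
    (hinv : x * r * x = r⁻¹) (i : ℕ) (h : r ^ (2 * i) ∈ H) : r ^ i ∈ H := by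
  have hxi : x⁻¹ = x := inv_eq_of_mul_eq_one_left hxx
  have key : x * r ^ i * x = (r ^ i)⁻¹ := by
    have : x * r ^ i * x⁻¹ = (x * r * x⁻¹) ^ i := by rw [conj_pow]
    rw [hxi] at this
    rw [this, hinv, inv_pow]
  have h1 : (r ^ i)⁻¹ * x * (r ^ i)⁻¹⁻¹ = x * r ^ (2 * i) := by
    rw [inv_inv, two_mul, pow_add, ← key]
    rw [show x * r ^ i * x * x * r ^ i = x * r ^ i * (x * x) * r ^ i by group, hxx, mul_one, mul_assoc]
  have h2 : (r ^ i)⁻¹ ∈ H := cx _ (by rw [h1]; exact H.mul_mem hx h)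
  simpa using H.inv_mem h2

/-- Let `x ∈ H`, `y ∈ H'` be involutions such that `g x g⁻¹ ∈ H → g ∈ H` and `g y g⁻¹ ∈ H' → g ∈ H'`.
Then some power `κ` of `x y` lies in `H` and `H'` and `x κ` is conjugate to `y` under the powers of `x y`. -/
theorem star [Finite G] {H H' : Subgroup G} {x y : G} (hxx : x * x = 1) (hyy : y * y = 1) (hx : x ∈ H)
    (hy : y ∈ H') (cx : ∀ g, g * x * g⁻¹ ∈ H → g ∈ H) (cy : ∀ g, g * y * g⁻¹ ∈ H' → g ∈ H') :
    ∃ k i : ℕ, (x * y) ^ k ∈ H ∧ (x * y) ^ k ∈ H' ∧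
      x * (x * y) ^ k = ((x * y) ^ i)⁻¹ * y * ((x * y) ^ i)⁻¹⁻¹ := by
  have hxi : x⁻¹ = x := inv_eq_of_mul_eq_one_left hxx
  have hyi : y⁻¹ = y := inv_eq_of_mul_eq_one_left hyy
  obtain ⟨r, hr⟩ : ∃ r, r = x * y := ⟨_, rfl⟩
  have inv1 : x * r * x = r⁻¹ := by
    rw [hr, mul_inv_rev, hxi, hyi, show x * (x * y) * x = (x * x) * (y * x) by group, hxx, one_mul]
  have inv2 : y * r * y = r⁻¹ := by
    rw [hr, mul_inv_rev, hxi, hyi, show y * (x * y) * y = y * x * (y * y) by group, hyy, mul_one]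
  obtain ⟨e, m, hm, hn⟩ := Nat.exists_eq_two_pow_mul_odd (orderOf_pos r).ne'
  have claim : ∀ j : ℕ, j ≤ e → r ^ (2 ^ (e - j) * m) ∈ H ∧ r ^ (2 ^ (e - j) * m) ∈ H' := by
    intro j
    induction j with
    | zero =>
      intro _
      rw [Nat.sub_zero, ← hn, pow_orderOf_eq_one]
      exact ⟨H.one_mem, H'.one_mem⟩
    | succ j ih =>
      intro hj
      obtain ⟨h1, h2⟩ := ih (by omega)
      have e1 : 2 ^ (e - j) * m = 2 * (2 ^ (e - (j + 1)) * m) := by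
        rw [show e - j = (e - (j + 1)) + 1 by omega, pow_succ]; ring
      rw [e1] at h1 h2
      exact ⟨half hxx hx cx inv1 _ h1, half hyy hy cy inv2 _ h2⟩
  obtain ⟨h1, h2⟩ := claim e le_rfl
  rw [Nat.sub_self, pow_zero, one_mul] at h1 h2
  obtain ⟨i, hi⟩ := hm
  refine ⟨m, i, by rw [← hr]; exact h1, by rw [← hr]; exact h2, ?_⟩
  rw [← hr, inv_inv]
  have key : (r ^ i)⁻¹ = x * r ^ i * x := by
    have : x * r ^ i * x⁻¹ = (x * r * x⁻¹) ^ i := by rw [conj_pow]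
    rw [hxi] at this
    rw [this, inv1, inv_pow]
  have hy' : y = x * r := by rw [hr, ← mul_assoc, hxx, one_mul]
  rw [key, hi, hy', show 2 * i + 1 = i + 1 + i by ring, pow_add, pow_add, pow_one,
    show x * r ^ i * x * (x * r) * r ^ i = x * r ^ i * (x * x) * r * r ^ i by group, hxx]
  group

end star

end Cfsg.Agent.R08.TetStar
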