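import Mathlib
import Cfsg.Agent.R08.TetStar

/-!
# The closing argument

`F` is a group with a class `L` of 3-transpositions, `F0` its even subgroup, embedded by `χ` as a subgroup
`H` of the finite group `G`.  Assume that the products of two commuting transpositions have their
centralisers and their fusion in `H`.  Then `H` has odd order intersection with its other conjugates.
-/

set_option autoImplicit false

namespace Cfsg.Agent.R08.TetClose

open Cfsg.Agent.R08.TetBasic Cfsg.Agent.R08.TetTwo Cfsg.Agent.R08.TetThree Cfsg.Agent.R08.TetStar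

variable {F : Type*} [Group F]

/-- The facts about the 3-transposition group which are used. -/
structure Facts (L : Set F) (F0 : Subgroup F) : Prop where
  tr : Tr L
  even : ∀ a ∈ L, ∀ b ∈ L, a * b ∈ F0
  octad : ∀ s a b c d, IsTet L s a b c d → ∀ e ∈ L, Commute e a → Commute e b → Commute e c → Commute e d →
    e ≠ a → e ≠ b → e ≠ c → e ≠ d → ∃ f g h, IsTet L s e f g h
  ex : ∀ s a b c d, IsTet L s a b c d → ∃ e ∈ L, Commute e a ∧ Commute e b ∧ Commute e c ∧ Commute e d ∧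
    e ≠ a ∧ e ≠ b ∧ e ≠ c ∧ e ≠ d
  cent : ∀ s a b c d, IsTet L s a b c d → ∀ v ∈ F0, Commute v a → Commute v b → Commute v c → Commute v d →
    (∀ e ∈ L, Commute e a → Commute e b → Commute e c → Commute e d → Commute v e) →
    v = 1 ∨ v = s ∨ v ∈ Pairs L s
  invol : ∀ t ∈ F0, t * t = 1 → t ≠ 1 → (∃ a ∈ L, ∃ b ∈ L, a ≠ b ∧ Commute a b ∧ t = a * b) ∨
    ∃ a b c d, IsTet L t a b c d

/-- `χ` is an isomorphism of `F0` onto `H`. -/
structure Emb {G : Type*} [Group G] (χ : F → G) (F0 : Subgroup F) (H : Subgroup G) : Prop where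
  mul : ∀ x ∈ F0, ∀ y ∈ F0, χ (x * y) = χ x * χ y
  mem : ∀ x ∈ F0, χ x ∈ H
  surj : ∀ h ∈ H, ∃ x ∈ F0, χ x = h
  inj : ∀ x ∈ F0, ∀ y ∈ F0, χ x = χ y → x = y

namespace Emb

variable {G : Type*} [Group G] {χ : F → G} {F0 : Subgroup F} {H : Subgroup G}

theorem one (h : Emb χ F0 H) : χ 1 = 1 := by
  have := h.mul 1 F0.one_mem 1 F0.one_mem
  rw [mul_one] at this
  exact (mul_eq_left.mp this.symm)

theorem inv (h : Emb χ F0 H) {x : F} (hx : x ∈ F0) : χ x⁻¹ = (χ x)⁻¹ := by
  have := h.mul x⁻¹ (F0.inv_mem hx) x hx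
  rw [inv_mul_cancel, h.one] at this
  exact eq_inv_of_mul_eq_one_left this.symm

theorem conj (h : Emb χ F0 H) {x y : F} (hx : x ∈ F0) (hy : y ∈ F0) :
    χ (x * y * x⁻¹) = χ x * χ y * (χ x)⁻¹ := by
  rw [h.mul _ (F0.mul_mem hx hy) _ (F0.inv_mem hx), h.mul _ hx _ hy, h.inv hx]

theorem commute_iff (h : Emb χ F0 H) {x y : F} (hx : x ∈ F0) (hy : y ∈ F0) :
    Commute (χ x) (χ y) ↔ Commute x y := by
  constructor
  · intro hc
    apply h.inj _ (F0.mul_mem hx hy) _ (F0.mul_mem hy hx)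
    rw [h.mul _ hx _ hy, h.mul _ hy _ hx]; exact hc
  · intro hc
    show χ x * χ y = χ y * χ x
    rw [← h.mul _ hx _ hy, ← h.mul _ hy _ hx, hc.eq]

end Emb

theorem three_ne_one {L : Set F} (hT : Tr L) {b c d k : F} (hb : b ∈ L) (hc : c ∈ L) (hd : d ∈ L) (hk : k ∈ L)
    (bc : Commute b c) (bd : Commute b d) (cd : Commute c d) (nbc : b ≠ c) (nbd : b ≠ d) (ncd : c ≠ d)
    (kb : Commute k b) (kc : Commute k c) (kd : Commute k d) : b * c * d ≠ k := by
  intro h
  have ne_one : ∀ x y : F, x ∈ L → y ∈ L → x ≠ y → x * y ≠ 1 := by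
    intro x y hx hy hxy h1
    apply hxy
    rw [← hT.inv hy]; exact eq_inv_of_mul_eq_one_left h1
  by_cases h1 : k = b
  · subst h1
    rw [mul_assoc] at h
    exact ne_one c d hc hd ncd (mul_eq_left.mp h)
  by_cases h2 : k = c
  · subst h2
    rw [bc.eq, mul_assoc] at h
    exact ne_one b d hb hd nbd (mul_eq_left.mp h)
  by_cases h3 : k = d
  · subst h3
    exact ne_one b c hb hc nbc (mul_eq_right.mp h)
  exact hT.four b hb c hc k hk d hd nbc (Ne.symm h1) nbd (Ne.symm h2) ncd h3 bc kb.symm bd kc.symm cd kd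
    (by rw [← h, mul_assoc, hT.sq d hd, mul_one])

theorem tet_ne_pair {L : Set F} (hT : Tr L) {s a b c d g k : F} (h : IsTet L s a b c d) (hg : g ∈ L) (hk : k ∈ L)
    (hgk : Commute g k) (ngk : g ≠ k) : s ≠ g * k := by
  intro hs
  have cm : ∀ x, x ∈ L → Commute x s → Commute x g ∧ Commute x k := by
    intro x hx hxs
    rw [hs] at hxs
    exact comm_of_comm_mul hT hg hk hx hgk ngk hxs
  obtain ⟨ag, ak⟩ := cm a h.ha h.comm_a
  obtain ⟨bg, bk⟩ := cm b h.hb h.comm_b
  obtain ⟨cg, ck⟩ := cm c h.hc h.comm_c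
  obtain ⟨dg, dk⟩ := cm d h.hd h.comm_d
  -- `x` (one of `g, k`) different from the first member of a tetrad
  have aux : ∀ x y a b c d : F, x ∈ L → y ∈ L → IsTet L s a b c d → s = x * y → Commute a y → Commute b y →
      Commute c y → Commute d y → x ≠ a := by
    rintro x y a b c d hx hy h hs ay by' cy dy rfl
    have e1 : b * c * d = y := by
      have : x * (b * c * d) = x * y := by rw [← hs, ← h.prod]; group
      exact mul_left_cancel this
    exact three_ne_one hT h.hb h.hc h.hd hy h.bc h.bd h.cd h.nbc h.nbd h.ncd by'.symm cy.symm dy.symm e1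
  have hs' : s = k * g := by rw [hs, hgk.eq]
  have g1 := aux g k a b c d hg hk h hs ak bk ck dk
  have g2 := aux g k b a c d hg hk h.sw12 hs bk ak ck dk
  have g3 := aux g k c b a d hg hk h.sw13 hs ck bk ak dk
  have g4 := aux g k d b c a hg hk h.sw14 hs dk bk ck ak
  have k1 := aux k g a b c d hk hg h hs' ag bg cg dg
  have k2 := aux k g b a c d hk hg h.sw12 hs' bg ag cg dg
  have k3 := aux k g c b a d hk hg h.sw13 hs' cg bg ag dg
  have k4 := aux k g d b c a hk hg h.sw14 hs' dg bg cg ag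
  apply hT.six a h.ha b h.hb c h.hc g hg k hk d h.hd h.nab h.nac h.nbc ngk g4 k4 g1.symm k1.symm h.nad
    g2.symm k2.symm h.nbd g3.symm k3.symm h.ncd h.ab h.ac h.bc hgk dg.symm dk.symm ag ak h.ad bg bk h.bd cg ck h.cd
  rw [← hs, ← h.prod, mul_assoc _ d d, hT.sq d h.hd, mul_one]

section main

variable {G : Type*} [Group G] {χ : F → G} {F0 : Subgroup F} {H : Subgroup G} {L : Set F}

/-- Hypotheses of the closing argument: `s` is a tetrad involution in `H ∩ H^{g0}`. -/
structure Setup (χ : F → G) (F0 : Subgroup F) (H : Subgroup G) (L : Set F) (g0 : G) (s : F) : Prop where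
  facts : Facts L F0
  emb : Emb χ F0 H
  ctrl : ∀ a ∈ L, ∀ b ∈ L, a ≠ b → Commute a b → ∀ g : G, g * χ (a * b) * g⁻¹ ∈ H → g ∈ H
  hg0 : g0 ∉ H
  tet : ∃ a b c d, IsTet L s a b c d
  mem' : g0⁻¹ * χ s * g0 ∈ H

namespace Setup

variable {g0 : G} {s : F}

theorem s_mem (h : Setup χ F0 H L g0 s) : s ∈ F0 := by
  obtain ⟨a, b, c, d, ht⟩ := h.tet
  rw [← ht.prod, mul_assoc]
  exact F0.mul_mem (h.facts.even a ht.ha b ht.hb) (h.facts.even c ht.hc d ht.hd)

theorem s_sq (h : Setup χ F0 H L g0 s) : s * s = 1 := by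
  obtain ⟨a, b, c, d, ht⟩ := h.tet
  exact ht.sq_s h.facts.tr

theorem s_ne_pair (h : Setup χ F0 H L g0 s) {x y : F} (hx : x ∈ L) (hy : y ∈ L) (nxy : x ≠ y)
    (hxy : Commute x y) : s ≠ x * y := by
  obtain ⟨a, b, c, d, ht⟩ := h.tet
  exact tet_ne_pair h.facts.tr ht hx hy hxy nxy

theorem s_not_pairs (h : Setup χ F0 H L g0 s) : s ∉ Pairs L s := by
  rintro ⟨e, f, hm, he⟩
  have := hm.mem
  exact h.s_ne_pair this.1 this.2.1 this.2.2.2 this.2.2.1 he

theorem one_not_pairs (h : Setup χ F0 H L g0 s) : (1 : F) ∉ Pairs L s := by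
  rintro ⟨e, f, hm, he⟩
  have := hm.mem
  apply this.2.2.2
  rw [← h.facts.tr.inv this.2.1]; exact eq_inv_of_mul_eq_one_left he.symm

theorem s_ne_one (h : Setup χ F0 H L g0 s) : s ≠ 1 := by
  rintro rfl
  obtain ⟨a, b, c, d, ht⟩ := h.tet
  have h1 := compl_mem h.facts.tr (⟨a, b, ⟨c, d, ht⟩, rfl⟩ : a * b ∈ Pairs L 1)
  rw [one_mul] at h1
  have e1 := ht.prod
  have e2 : a * b = c * d := by
    have e3 : a * b * (c * d) = 1 := by rw [← e1]; group
    rw [← inv_pair h.facts.tr ht.hc ht.hd ht.cd]; exact eq_inv_of_mul_eq_one_left e3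
  exact h.facts.tr.four a ht.ha b ht.hb c ht.hc d ht.hd ht.nab ht.nac ht.nad ht.nbc ht.nbd ht.ncd ht.ab ht.ac
    ht.ad ht.bc ht.bd ht.cd e2

/-- The other conjugate of `H`. -/
def H' (H : Subgroup G) (g0 : G) : Subgroup G := H.comap (MulAut.conj g0⁻¹).toMonoidHom

theorem mem_H' {H : Subgroup G} {g0 x : G} : x ∈ H' H g0 ↔ g0⁻¹ * x * g0 ∈ H := by
  unfold H'
  rw [Subgroup.mem_comap]
  simp

theorem Q_le (h : Setup χ F0 H L g0 s) : Q L s ≤ F0 := by
  unfold Q
  rw [Subgroup.closure_le]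
  rintro x ⟨e, f, hm, rfl⟩
  exact h.facts.even e hm.mem.1 f hm.mem.2.1

/-- No product of two commuting transpositions lies in `H'`. -/
theorem not_mem' (h : Setup χ F0 H L g0 s) {x y : F} (hx : x ∈ L) (hy : y ∈ L) (nxy : x ≠ y)
    (hxy : Commute x y) : χ (x * y) ∉ H' H g0 := by
  rw [mem_H']
  intro h1
  have := h.ctrl x hx y hy nxy hxy g0⁻¹ (by simpa using h1)
  exact h.hg0 (by simpa using H.inv_mem this)

/-- Step 1: every product `x` of two commuting transpositions which commutes with `s` is of the form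
`ρ κ⁻¹` with `ρ` a pair and `κ ∈ H ∩ H'`. -/
theorem step1 [Finite G] (h : Setup χ F0 H L g0 s) {e f : F} (he : e ∈ L) (hf : f ∈ L) (nef : e ≠ f)
    (hef : Commute e f) (hs : Commute (e * f) s) :
    ∃ k ∈ F0, Commute k s ∧ χ k ∈ H' H g0 ∧ e * f * k ∈ Pairs L s := by
  have hT := h.facts.tr
  have hE := h.emb
  have hxF := h.facts.even e he f hf
  -- the element `y`
  obtain ⟨a, b, c, d, ht⟩ := h.tet
  obtain ⟨s', hs'F, hs'⟩ := hE.surj _ h.mem'
  have hs'1 : s' ≠ 1 := by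
    rintro rfl
    rw [hE.one] at hs'
    apply h.s_ne_one
    apply hE.inj _ h.s_mem _ F0.one_mem
    rw [hE.one]
    have : χ s = g0 * (g0⁻¹ * χ s * g0) * g0⁻¹ := by group
    rw [this, ← hs']; simp
  have hs'2 : s' * s' = 1 := by
    apply hE.inj _ (F0.mul_mem hs'F hs'F) _ F0.one_mem
    rw [hE.mul _ hs'F _ hs'F, hs', hE.one,
      show g0⁻¹ * χ s * g0 * (g0⁻¹ * χ s * g0) = g0⁻¹ * (χ s * χ s) * g0 by group, ← hE.mul _ h.s_mem _ h.s_mem,
      h.s_sq, hE.one]
    group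
  have htet' : ∃ a b c d, IsTet L s' a b c d := by
    rcases h.facts.invol s' hs'F hs'2 hs'1 with ⟨x, hx, y, hy, nxy, hxy, rfl⟩ | ht'
    · exfalso
      have : g0 ∈ H := h.ctrl x hx y hy nxy hxy g0 (by
        rw [hs', show g0 * (g0⁻¹ * χ s * g0) * g0⁻¹ = χ s by group]; exact hE.mem _ h.s_mem)
      exact h.hg0 this
    · exact ht'
  obtain ⟨a', b', c', d', ht'⟩ := htet'
  have hyF := h.facts.even a' ht'.ha b' ht'.hb
  obtain ⟨x, hx⟩ : ∃ x, x = χ (e * f) := ⟨_, rfl⟩
  obtain ⟨y, hy⟩ : ∃ y, y = g0 * χ (a' * b') * g0⁻¹ := ⟨_, rfl⟩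
  have hxx : x * x = 1 := by
    rw [hx, ← hE.mul _ hxF _ hxF, sq_pair hT he hf hef, hE.one]
  have hyy : y * y = 1 := by
    rw [hy, show g0 * χ (a' * b') * g0⁻¹ * (g0 * χ (a' * b') * g0⁻¹) = g0 * (χ (a' * b') * χ (a' * b')) * g0⁻¹
      by group, ← hE.mul _ hyF _ hyF, sq_pair hT ht'.ha ht'.hb ht'.ab, hE.one]
    group
  have hxH : x ∈ H := hx ▸ hE.mem _ hxF
  have hyH : y ∈ H' H g0 := by
    rw [mem_H', hy, show g0⁻¹ * (g0 * χ (a' * b') * g0⁻¹) * g0 = χ (a' * b') by group]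
    exact hE.mem _ hyF
  have cx : ∀ g, g * x * g⁻¹ ∈ H → g ∈ H := by
    intro g hg; rw [hx] at hg; exact h.ctrl e he f hf nef hef g hg
  have cy : ∀ g, g * y * g⁻¹ ∈ H' H g0 → g ∈ H' H g0 := by
    intro g hg
    rw [mem_H'] at hg ⊢
    apply h.ctrl a' ht'.ha b' ht'.hb ht'.nab ht'.ab
    have : g0⁻¹ * (g * y * g⁻¹) * g0 = g0⁻¹ * g * g0 * χ (a' * b') * (g0⁻¹ * g * g0)⁻¹ := by
      rw [hy]; group
    rwa [this] at hg
  have hst : g0 * χ s' * g0⁻¹ = χ s := by rw [hs']; group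
  have cxs : Commute x (χ s) := by
    rw [hx]; exact (hE.commute_iff hxF h.s_mem).mpr hs
  have cys : Commute y (χ s) := by
    rw [hy, ← hst]
    have : Commute (χ (a' * b')) (χ s') :=
      (hE.commute_iff hyF hs'F).mpr (ht'.comm_a.mul_left ht'.comm_b)
    simpa using this.map (MulAut.conj g0).toMonoidHom
  obtain ⟨k, i, h1, h2, h3⟩ := star hxx hyy hxH hyH cx cy
  have cr : ∀ j, Commute ((x * y) ^ j) (χ s) := fun j => (cxs.mul_left cys).pow_left j
  obtain ⟨g, hg⟩ : ∃ g, g = ((x * y) ^ i)⁻¹ := ⟨_, rfl⟩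
  have cg : Commute g (χ s) := by rw [hg]; exact (cr i).inv_left
  rw [← hg] at h3
  -- `g g0 ∈ H`
  have h4 : (g * g0) * χ (a' * b') * (g * g0)⁻¹ = x * (x * y) ^ k := by
    rw [h3, hy]; group
  have h5 : g * g0 ∈ H := h.ctrl a' ht'.ha b' ht'.hb ht'.nab ht'.ab _ (by rw [h4]; exact H.mul_mem hxH h1)
  obtain ⟨q, hqF, hq⟩ := hE.surj _ h5
  have h6 : q * s' * q⁻¹ = s := by
    apply hE.inj _ (F0.mul_mem (F0.mul_mem hqF hs'F) (F0.inv_mem hqF)) _ h.s_mem
    rw [hE.conj hqF hs'F, hq, show g * g0 * χ s' * (g * g0)⁻¹ = g * (g0 * χ s' * g0⁻¹) * g⁻¹ by group, hst,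
      cg.eq]
    group
  obtain ⟨κ, hκF, hκ⟩ := hE.surj _ h1
  refine ⟨κ, hκF, ?_, by rw [hκ]; exact h2, ?_⟩
  · rw [← hE.commute_iff hκF h.s_mem, hκ]; exact cr k
  · -- `e f κ = q (a' b') q⁻¹`
    have h7 : e * f * κ = q * (a' * b') * q⁻¹ := by
      apply hE.inj _ (F0.mul_mem hxF hκF) _ (F0.mul_mem (F0.mul_mem hqF hyF) (F0.inv_mem hqF))
      rw [hE.mul _ hxF _ hκF, hE.conj hqF hyF, hq, h4, hκ, hx]
    rw [h7]
    have hconj : ∀ z : F, z ∈ L → q * z * q⁻¹ ∈ L := fun z hz => hT.conj q z hz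
    have hc : ∀ x y : F, Commute x y → Commute (q * x * q⁻¹) (q * y * q⁻¹) := by
      intro x y hxy
      exact hxy.map (MulAut.conj q).toMonoidHom
    have hn : ∀ x y : F, x ≠ y → q * x * q⁻¹ ≠ q * y * q⁻¹ := by
      intro x y hxy e
      exact hxy (mul_left_cancel (mul_right_cancel e))
    refine ⟨q * a' * q⁻¹, q * b' * q⁻¹, ⟨q * c' * q⁻¹, q * d' * q⁻¹, ?_⟩, by group⟩
    refine ⟨hconj _ ht'.ha, hconj _ ht'.hb, hconj _ ht'.hc, hconj _ ht'.hd, hc _ _ ht'.ab, hc _ _ ht'.ac,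
      hc _ _ ht'.ad, hc _ _ ht'.bc, hc _ _ ht'.bd, hc _ _ ht'.cd, hn _ _ ht'.nab, hn _ _ ht'.nac,
      hn _ _ ht'.nad, hn _ _ ht'.nbc, hn _ _ ht'.nbd, hn _ _ ht'.ncd, ?_⟩
    rw [← h6, ← ht'.prod]; group

/-- The group `U = Q ∩ H'`. -/
def U (h : Setup χ F0 H L g0 s) : Subgroup F where
  carrier := {u | u ∈ Q L s ∧ χ u ∈ H' H g0}
  mul_mem' := by
    rintro x y ⟨hx, hx'⟩ ⟨hy, hy'⟩
    refine ⟨(Q L s).mul_mem hx hy, ?_⟩
    rw [h.emb.mul _ (h.Q_le hx) _ (h.Q_le hy)]
    exact Subgroup.mul_mem _ hx' hy'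
  one_mem' := ⟨(Q L s).one_mem, by rw [h.emb.one]; exact Subgroup.one_mem _⟩
  inv_mem' := by
    rintro x ⟨hx, hx'⟩
    refine ⟨(Q L s).inv_mem hx, ?_⟩
    rw [h.emb.inv (h.Q_le hx)]
    exact Subgroup.inv_mem _ hx'

theorem mem_U (h : Setup χ F0 H L g0 s) {u : F} : u ∈ h.U ↔ u ∈ Q L s ∧ χ u ∈ H' H g0 := Iff.rfl

theorem s_mem_U (h : Setup χ F0 H L g0 s) : s ∈ h.U := by
  obtain ⟨a, b, c, d, ht⟩ := h.tet
  exact ⟨TetThree.s_mem h.facts.tr ⟨c, d, ht⟩, mem_H'.mpr h.mem'⟩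

theorem pair_not_U (h : Setup χ F0 H L g0 s) {x y : F} (hx : x ∈ L) (hy : y ∈ L) (nxy : x ≠ y)
    (hxy : Commute x y) : x * y ∉ h.U := fun h1 => h.not_mem' hx hy nxy hxy h1.2

/-- Step 2: `U` is normalised by the products of two commuting transpositions centralising `s`. -/
theorem step2 [Finite G] (h : Setup χ F0 H L g0 s) {e f u : F} (he : e ∈ L) (hf : f ∈ L) (nef : e ≠ f)
    (hef : Commute e f) (hs : Commute (e * f) s) (hu : u ∈ h.U) : (e * f) * u * (e * f)⁻¹ ∈ h.U := by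
  have hE := h.emb
  obtain ⟨k, hkF, hks, hk', hρ⟩ := h.step1 he hf nef hef hs
  obtain ⟨ρ, hρd⟩ : ∃ ρ, ρ = e * f * k := ⟨_, rfl⟩
  rw [← hρd] at hρ
  have h1 : k⁻¹ * u * k⁻¹⁻¹ ∈ h.U := by
    refine ⟨conj_Q h.facts.tr hks.inv_left hu.1, ?_⟩
    rw [hE.conj (F0.inv_mem hkF) (h.Q_le hu.1), hE.inv hkF]
    exact Subgroup.mul_mem _ (Subgroup.mul_mem _ (Subgroup.inv_mem _ hk') hu.2)
      (Subgroup.inv_mem _ (Subgroup.inv_mem _ hk'))
  have h2 : (e * f) * u * (e * f)⁻¹ = ρ * (k⁻¹ * u * k⁻¹⁻¹) * ρ⁻¹ := by rw [hρd]; group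
  rw [h2]
  exact normal_of (U := h.U) h.facts.tr (fun x hx => (h.mem_U.mp hx).1) h.s_mem_U
    (Subgroup.subset_closure hρ) h1

/-- Case B: an element of `U` centralising a tetrad is `1` or `s`. -/
theorem caseB [Finite G] (h : Setup χ F0 H L g0 s) {a b c d v : F} (ht : IsTet L s a b c d) (hv : v ∈ h.U)
    (va : Commute v a) (vb : Commute v b) (vc : Commute v c) (vd : Commute v d) : v = 1 ∨ v = s := by
  have hT := h.facts.tr
  have key : ∀ e ∈ L, Commute e a → Commute e b → Commute e c → Commute e d → Commute v e := by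
    intro e he ea eb ec ed
    by_cases n1 : e = a
    · rw [n1]; exact va
    by_cases n2 : e = b
    · rw [n2]; exact vb
    by_cases n3 : e = c
    · rw [n3]; exact vc
    by_cases n4 : e = d
    · rw [n4]; exact vd
    obtain ⟨f, g, k, hte⟩ := h.facts.octad s a b c d ht e he ea eb ec ed n1 n2 n3 n4
    by_contra hcon
    have hes : Commute e s := hte.comm_a
    -- `v` moves `e` to `e'`
    obtain ⟨e', he'd⟩ : ∃ e', e' = v * e * v⁻¹ := ⟨_, rfl⟩
    have hne : e ≠ e' := by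
      intro h1; apply hcon
      rw [h1] at he'd
      exact (mul_inv_eq_iff_eq_mul.mp (by rw [← h1] at he'd; exact he'd.symm))
    have hcases : e' = f ∨ e' = g ∨ e' = k := by
      rcases act_of_mem hT hv.1 hte with ⟨h1, _⟩ | ⟨h1, _⟩ | ⟨h1, _⟩ | ⟨h1, _⟩
      · exact absurd (he'd.trans h1).symm hne
      · left; rw [he'd, h1]
      · right; left; rw [he'd, h1]
      · right; right; rw [he'd, h1]
    have he'L : e' ∈ L ∧ Commute e e' := by
      rcases hcases with h1 | h1 | h1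
      · rw [h1]; exact ⟨hte.hb, hte.ab⟩
      · rw [h1]; exact ⟨hte.hc, hte.ac⟩
      · rw [h1]; exact ⟨hte.hd, hte.ad⟩
    have hae' : Commute a e' := by
      have h2 := hte.comm_of hT ht.ha ht.comm_a ea.symm
      rcases hcases with h1 | h1 | h1
      · rw [h1]; exact h2.1
      · rw [h1]; exact h2.2.1
      · rw [h1]; exact h2.2.2
    have h3 := h.step2 ht.ha he (Ne.symm n1) ea.symm (ht.comm_a.mul_left hes) hv
    have h4 : (a * e) * v * (a * e)⁻¹ * v⁻¹ ∈ h.U := h.U.mul_mem h3 (h.U.inv_mem hv)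
    have h5 : (a * e) * v * (a * e)⁻¹ * v⁻¹ = e * e' := by
      have e1 : (a * e)⁻¹ = e * a := by rw [mul_inv_rev, hT.inv ht.ha, hT.inv he]
      rw [e1]
      calc (a * e) * v * (e * a) * v⁻¹ = (a * e) * (v * e * v⁻¹) * (v * a * v⁻¹) := by group
        _ = (a * e) * e' * a := by rw [← he'd, va.eq]; group
        _ = a * ((e * e') * a) := by group
        _ = a * (a * (e * e')) := by rw [((ea.symm.mul_right hae').symm).eq]
        _ = e * e' := by rw [hT.cancel ht.ha]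
    rw [h5] at h4
    exact h.pair_not_U he he'L.1 hne he'L.2 h4
  rcases h.facts.cent s a b c d ht v (h.Q_le hv.1) va vb vc vd key with h1 | h1 | h1
  · exact Or.inl h1
  · exact Or.inr h1
  · exfalso
    obtain ⟨e, f, hm, rfl⟩ := h1
    have := hm.mem
    exact h.pair_not_U this.1 this.2.1 this.2.2.2 this.2.2.1 hv

/-- Step 3: `U = ⟨s⟩`. -/
theorem step3 [Finite G] (h : Setup χ F0 H L g0 s) {v : F} (hv : v ∈ h.U) : v = 1 ∨ v = s := by
  have hT := h.facts.tr
  obtain ⟨a, b, c, d, ht⟩ := h.tet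
  by_cases hfix : v * a * v⁻¹ = a
  · -- `v` centralises the tetrad
    have cm : ∀ x, v * x * v⁻¹ = x → Commute v x := fun x hx => mul_inv_eq_iff_eq_mul.mp hx
    rcases act_of_mem hT hv.1 ht with ⟨h1, h2, h3, h4⟩ | ⟨h1, _⟩ | ⟨h1, _⟩ | ⟨h1, _⟩
    · exact h.caseB ht hv (cm _ h1) (cm _ h2) (cm _ h3) (cm _ h4)
    · exact absurd (hfix.symm.trans h1) ht.nab
    · exact absurd (hfix.symm.trans h1) ht.nac
    · exact absurd (hfix.symm.trans h1) ht.nad
  · exfalso
    obtain ⟨a', ha'd⟩ : ∃ a', a' = v * a * v⁻¹ := ⟨_, rfl⟩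
    have hna : a ≠ a' := fun h1 => hfix (by rw [← ha'd]; exact h1.symm)
    have hacase : a' = b ∨ a' = c ∨ a' = d := by
      rcases act_of_mem hT hv.1 ht with ⟨h1, _⟩ | ⟨h1, _⟩ | ⟨h1, _⟩ | ⟨h1, _⟩
      · exact absurd h1 hfix
      · left; rw [ha'd, h1]
      · right; left; rw [ha'd, h1]
      · right; right; rw [ha'd, h1]
    obtain ⟨e, he, ea, eb, ec, ed, n1, n2, n3, n4⟩ := h.facts.ex s a b c d ht
    obtain ⟨f, g, k, hte⟩ := h.facts.octad s a b c d ht e he ea eb ec ed n1 n2 n3 n4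
    have ha' : a' ∈ L ∧ Commute a a' ∧ Commute e a' := by
      rcases hacase with h1 | h1 | h1
      · rw [h1]; exact ⟨ht.hb, ht.ab, eb⟩
      · rw [h1]; exact ⟨ht.hc, ht.ac, ec⟩
      · rw [h1]; exact ⟨ht.hd, ht.ad, ed⟩
    obtain ⟨e', he'd⟩ : ∃ e', e' = v * e * v⁻¹ := ⟨_, rfl⟩
    have h3 := h.step2 ht.ha he (Ne.symm n1) ea.symm (ht.comm_a.mul_left hte.comm_a) hv
    have h4 : (a * e) * v * (a * e)⁻¹ * v⁻¹ ∈ h.U := h.U.mul_mem h3 (h.U.inv_mem hv)
    have h5 : (a * e) * v * (a * e)⁻¹ * v⁻¹ = a * (e * e') * a' := by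
      have e1 : (a * e)⁻¹ = e * a := by rw [mul_inv_rev, hT.inv ht.ha, hT.inv he]
      rw [e1]
      calc (a * e) * v * (e * a) * v⁻¹ = a * (e * (v * e * v⁻¹)) * (v * a * v⁻¹) := by group
        _ = a * (e * e') * a' := by rw [← he'd, ← ha'd]
    rw [h5] at h4
    by_cases hee : e' = e
    · rw [hee, hT.sq e he, mul_one] at h4
      exact h.pair_not_U ht.ha ha'.1 hna ha'.2.1 h4
    have hecase : e' = f ∨ e' = g ∨ e' = k := by
      rcases act_of_mem hT hv.1 hte with ⟨h1, _⟩ | ⟨h1, _⟩ | ⟨h1, _⟩ | ⟨h1, _⟩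
      · exact absurd (he'd.trans h1) hee
      · left; rw [he'd, h1]
      · right; left; rw [he'd, h1]
      · right; right; rw [he'd, h1]
    have he' : e' ∈ L ∧ Commute e e' ∧ (∀ x ∈ L, Commute x s → Commute x e → Commute x e') := by
      rcases hecase with h1 | h1 | h1
      · rw [h1]; exact ⟨hte.hb, hte.ab, fun x hx hxs hxe => (hte.comm_of hT hx hxs hxe).1⟩
      · rw [h1]; exact ⟨hte.hc, hte.ac, fun x hx hxs hxe => (hte.comm_of hT hx hxs hxe).2.1⟩
      · rw [h1]; exact ⟨hte.hd, hte.ad, fun x hx hxs hxe => (hte.comm_of hT hx hxs hxe).2.2⟩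
    have ae' := he'.2.2 a ht.ha ht.comm_a ea.symm
    have be' := he'.2.2 b ht.hb ht.comm_b eb.symm
    have ce' := he'.2.2 c ht.hc ht.comm_c ec.symm
    have de' := he'.2.2 d ht.hd ht.comm_d ed.symm
    have a'e' : Commute a' e' := by
      rcases hacase with h1 | h1 | h1
      · rw [h1]; exact be'
      · rw [h1]; exact ce'
      · rw [h1]; exact de'
    have a'n : ∀ x, Commute x a → Commute x b → Commute x c → Commute x d → Commute x a' := by
      intro x h1 h2 h3 h4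
      rcases hacase with h5 | h5 | h5 <;> rw [h5] <;> assumption
    have e'n : e' ≠ a ∧ e' ≠ a' := by
      have key : ∀ x, x ∈ L → Commute x s → e' = x → e = x ∨ ∃ p q r, IsTet L s x p q r ∧ (e = p ∨ e = q ∨ e = r) := by
        intro x _ _ hx
        right
        rcases hecase with h1 | h1 | h1
        · refine ⟨e, g, k, ?_, Or.inl rfl⟩
          rw [← hx, h1]; exact hte.sw12
        · refine ⟨e, f, k, ?_, Or.inl rfl⟩
          rw [← hx, h1]; exact hte.sw13.sw23
        · refine ⟨e, f, g, ?_, Or.inl rfl⟩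
          rw [← hx, h1]; exact hte.sw34.sw23.sw12
      have key2 : ∀ x y z w, IsTet L s x y z w → e ≠ x → e ≠ y → e ≠ z → e ≠ w → e' ≠ x := by
        intro x y z w hx n1 n2 n3 n4 h1
        rcases key x hx.ha hx.comm_a h1 with h2 | ⟨p, q, r, h2, h3⟩
        · exact n1 h2
        · rcases h3 with h3 | h3 | h3
          · rw [← h3] at h2
            rcases hx.unique hT h2 with h4 | h4 | h4
            · exact n2 h4
            · exact n3 h4
            · exact n4 h4
          · rw [← h3] at h2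
            rcases hx.unique hT h2.sw23 with h4 | h4 | h4
            · exact n2 h4
            · exact n3 h4
            · exact n4 h4
          · rw [← h3] at h2
            rcases hx.unique hT h2.sw24 with h4 | h4 | h4
            · exact n2 h4
            · exact n3 h4
            · exact n4 h4
      refine ⟨key2 a b c d ht n1 n2 n3 n4, ?_⟩
      rcases hacase with h1 | h1 | h1
      · rw [h1]; exact key2 b a c d ht.sw12 n2 n1 n3 n4
      · rw [h1]; exact key2 c b a d ht.sw13 n3 n2 n1 n4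
      · rw [h1]; exact key2 d b c a ht.sw14 n4 n2 n3 n1
    have nea' : e ≠ a' := by
      rcases hacase with h1 | h1 | h1 <;> rw [h1] <;> assumption
    -- `w = a a' e e'` centralises the tetrad
    have hcm : ∀ x, Commute x a → Commute x b → Commute x c → Commute x d → Commute x e → Commute x e' →
        Commute (a * (e * e') * a') x := by
      intro x h1 h2 h3 h4 h5 h6
      exact ((h1.mul_right (h5.mul_right h6)).mul_right (a'n x h1 h2 h3 h4)).symm
    rcases h.caseB ht h4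
      (hcm a (Commute.refl _) ht.ab ht.ac ht.ad ea.symm ae')
      (hcm b ht.ab.symm (Commute.refl _) ht.bc ht.bd eb.symm be')
      (hcm c ht.ac.symm ht.bc.symm (Commute.refl _) ht.cd ec.symm ce')
      (hcm d ht.ad.symm ht.bd.symm ht.cd.symm (Commute.refl _) ed.symm de') with h6 | h6
    · -- four commuting transpositions with product one
      have h7 : (a * a') * (e * e') = 1 := by
        rw [← h6, mul_assoc a a' (e * e'), (((ha'.2.2.symm).mul_right a'e')).eq, ← mul_assoc]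
      have h8 : a * a' = e * e' := by
        rw [← inv_pair hT he he'.1 he'.2.1]; exact eq_inv_of_mul_eq_one_left h7
      exact hT.four a ht.ha a' ha'.1 e he e' he'.1 hna (Ne.symm n1) e'n.1.symm nea'.symm e'n.2.symm (Ne.symm hee)
        ha'.2.1 ea.symm ae' ha'.2.2.symm a'e' he'.2.1 h8
    · have h7 : IsTet L s a e e' a' :=
        ⟨ht.ha, he, he'.1, ha'.1, ea.symm, ae', ha'.2.1, he'.2.1, ha'.2.2, a'e'.symm, Ne.symm n1, e'n.1.symm,
          hna, Ne.symm hee, nea', e'n.2, by rw [← h6]; group⟩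
      rcases ht.unique hT h7 with h8 | h8 | h8
      · exact n2 h8
      · exact n3 h8
      · exact n4 h8

/-- The contradiction. -/
theorem false [Finite G] (h : Setup χ F0 H L g0 s) : False := by
  have hT := h.facts.tr
  obtain ⟨a, b, c, d, ht⟩ := h.tet
  obtain ⟨e, he, ea, eb, ec, ed, n1, n2, n3, n4⟩ := h.facts.ex s a b c d ht
  obtain ⟨_, _, _, hte⟩ := h.facts.octad s a b c d ht e he ea eb ec ed n1 n2 n3 n4
  have hes : Commute e s := hte.comm_a
  obtain ⟨ka, hkaF, hkas, hka', hρ⟩ := h.step1 ht.ha he (Ne.symm n1) ea.symm (ht.comm_a.mul_left hes)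
  obtain ⟨ρ, hρd⟩ : ∃ ρ, ρ = a * e * ka := ⟨_, rfl⟩
  rw [← hρd] at hρ
  -- `(x a) ρ` is a pair for every `x` in the tetrad different from `a`
  have key : ∀ x y z, IsTet L s a x y z → Commute e x → e ≠ x → (x * a) * ρ ∈ Pairs L s := by
    intro x y z hx hex nex
    obtain ⟨kx, hkxF, hkxs, hkx', hρx⟩ := h.step1 hx.hb he (Ne.symm nex) hex.symm (hx.comm_b.mul_left hes)
    obtain ⟨σ, hσd⟩ : ∃ σ, σ = x * e * kx := ⟨_, rfl⟩
    rw [← hσd] at hρx
    have hcj : ∀ w u : F, w ∈ L → Commute w s → u ∈ Q L s → w * u * w ∈ Q L s := by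
      intro w u hw hws hu
      have := conj_Q hT hws hu
      rwa [hT.inv hw] at this
    have h1 : kx * ka⁻¹ ∈ h.U := by
      refine ⟨?_, ?_⟩
      · have e1 : kx * ka⁻¹ = (e * (x * (σ * ρ⁻¹) * x) * e) * (x * a) := by
          have e2 : kx = e * x * σ := by
            rw [hσd, show e * x * (x * e * kx) = e * (x * x) * e * kx by group, hT.sq x hx.hb, mul_one,
              hT.sq e he, one_mul]
          have e3 : ka⁻¹ = ρ⁻¹ * (a * e) := by rw [hρd]; group
          rw [e2, e3]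
          have e4 : x * (e * x * a) = e * a := by
            rw [show x * (e * x * a) = (x * e) * (x * a) by group, hex.symm.eq,
              show e * x * (x * a) = e * (x * x) * a by group, hT.sq x hx.hb, mul_one]
          calc e * x * σ * (ρ⁻¹ * (a * e)) = e * x * σ * ρ⁻¹ * (a * e) := by group
            _ = e * x * σ * ρ⁻¹ * (e * a) := by rw [ea.eq]
            _ = e * x * σ * ρ⁻¹ * (x * (e * x * a)) := by rw [e4]
            _ = e * (x * (σ * ρ⁻¹) * x) * e * (x * a) := by group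
        rw [e1]
        exact (Q L s).mul_mem (hcj _ _ he hes (hcj _ _ hx.hb hx.comm_b
          ((Q L s).mul_mem (Subgroup.subset_closure hρx) ((Q L s).inv_mem (Subgroup.subset_closure hρ)))))
          (pair_mem ⟨y, z, hx.sw12⟩)
      · rw [h.emb.mul _ hkxF _ (F0.inv_mem hkaF), h.emb.inv hkaF]
        exact Subgroup.mul_mem _ hkx' (Subgroup.inv_mem _ hka')
    have e5 : σ = x * e * kx * ka⁻¹ * (e * a) * ρ := by
      rw [hσd, hρd, show x * e * kx * ka⁻¹ * (e * a) * (a * e * ka) = x * e * kx * ka⁻¹ * (e * (a * a) * e) * ka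
        by group, hT.sq a ht.ha, mul_one, hT.sq e he]; group
    have e6 : x * e * (e * a) = x * a := by
      rw [show x * e * (e * a) = x * (e * e) * a by group, hT.sq e he, mul_one]
    rcases h.step3 h1 with h2 | h2
    · have : (x * a) * ρ = σ := by
        rw [e5, show x * e * kx * ka⁻¹ * (e * a) * ρ = x * e * (kx * ka⁻¹) * (e * a) * ρ by group, h2, mul_one,
          e6]
      rw [this]; exact hρx
    · have : s * ((x * a) * ρ) = σ := by
        have c1 : Commute (x * e) s := hx.comm_b.mul_left hes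
        rw [e5, show x * e * kx * ka⁻¹ * (e * a) * ρ = x * e * (kx * ka⁻¹) * (e * a) * ρ by group, h2, c1.eq,
          show s * (x * e) * (e * a) * ρ = s * (x * e * (e * a)) * ρ by group, e6]; group
      have h3 := compl_mem hT (this ▸ hρx)
      rwa [← mul_assoc s s, h.s_sq, one_mul] at h3
  have kb := key b c d ht eb n2
  have kc := key c b d ht.sw23 ec n3
  have kd := key d c b ht.sw24 ed n4
  obtain ⟨e1, f1, ⟨e3, e4, hm⟩, hρe⟩ := hρ
  -- products `(x a)(e1 f1)` with `x a` and `e1 f1` disjoint commuting pairs are not pairs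
  by_cases hc : Commute e1 a
  · -- everything commutes
    by_cases q1 : e1 = a ∨ e1 = b ∨ e1 = c ∨ e1 = d
    · -- `ρ` is a pair of the tetrad
      have fin : ∀ x, (x * a) * ρ ∈ Pairs L s → (x * a) * ρ = 1 ∨ (x * a) * ρ = s → False := by
        intro x h1 h2
        rcases h2 with h2 | h2
        · rw [h2] at h1; exact h.one_not_pairs h1
        · rw [h2] at h1; exact h.s_not_pairs h1
      have psq : ∀ x, x ∈ L → Commute x a → (x * a) * (x * a) = 1 := fun x hx hxa =>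
        sq_pair hT hx ht.ha hxa
      have cd_s : ∀ p q x y, IsTet L s p q x y → (p * q) * (x * y) = s := by
        intro p q x y hp; rw [← hp.prod]; group
      rcases q1 with q1 | q1 | q1 | q1
      · subst q1
        rcases ht.unique hT hm with q2 | q2 | q2
        · exact fin b kb (Or.inl (by rw [hρe, q2, ht.ab.eq]; exact psq b ht.hb ht.ab.symm))
        · exact fin c kc (Or.inl (by rw [hρe, q2, ht.ac.eq]; exact psq c ht.hc ht.ac.symm))
        · exact fin d kd (Or.inl (by rw [hρe, q2, ht.ad.eq]; exact psq d ht.hd ht.ad.symm))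
      · subst q1
        rcases ht.sw12.unique hT hm with q2 | q2 | q2
        · exact fin e1 kb (Or.inl (by rw [hρe, q2]; exact psq e1 ht.hb ht.ab.symm))
        · exact fin d kd (Or.inr (by rw [hρe, q2]; exact cd_s d a e1 c ht.sw14.sw24.sw34))
        · exact fin c kc (Or.inr (by rw [hρe, q2]; exact cd_s c a e1 d ht.sw13.sw23))
      · subst q1
        rcases ht.sw13.unique hT hm with q2 | q2 | q2
        · exact fin d kd (Or.inr (by rw [hρe, q2]; exact cd_s d a e1 b ht.sw14.sw24))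
        · exact fin e1 kc (Or.inl (by rw [hρe, q2]; exact psq e1 ht.hc ht.ac.symm))
        · exact fin b kb (Or.inr (by rw [hρe, q2]; exact cd_s b a e1 d ht.sw12))
      · subst q1
        rcases ht.sw14.unique hT hm with q2 | q2 | q2
        · exact fin c kc (Or.inr (by rw [hρe, q2]; exact cd_s c a e1 b ht.sw13.sw23.sw34))
        · exact fin b kb (Or.inr (by rw [hρe, q2]; exact cd_s b a e1 c ht.sw12.sw34))
        · exact fin e1 kd (Or.inl (by rw [hρe, q2]; exact psq e1 ht.hd ht.ad.symm))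
    · push Not at q1
      obtain ⟨q1, q2, q3, q4⟩ := q1
      have ce1 := ht.comm_of hT hm.ha hm.comm_a hc
      have cf1a := hm.comm_of hT ht.ha ht.comm_a hc.symm
      have cf1b := hm.comm_of hT ht.hb ht.comm_b ce1.1.symm
      have nf1 : f1 ≠ a ∧ f1 ≠ b := by
        constructor
        · intro h1
          have h2 := hm.sw12
          rw [h1] at h2
          rcases ht.unique hT h2 with h3 | h3 | h3
          · exact q2 h3
          · exact q3 h3
          · exact q4 h3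
        · intro h1
          have h2 := hm.sw12
          rw [h1] at h2
          rcases ht.sw12.unique hT h2 with h3 | h3 | h3
          · exact q1 h3
          · exact q3 h3
          · exact q4 h3
      have h5 : IsTet L ((b * a) * ρ) b a e1 f1 :=
        ⟨ht.hb, ht.ha, hm.ha, hm.hb, ht.ab.symm, ce1.1.symm, cf1b.1, hc.symm, cf1a.1, hm.ab, ht.nab.symm,
          Ne.symm q2, nf1.2.symm, Ne.symm q1, nf1.1.symm, hm.nab, by rw [hρe]; group⟩
      obtain ⟨g, k, hgk, hgk'⟩ := kb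
      have := hgk.mem
      exact tet_ne_pair hT h5 this.1 this.2.1 this.2.2.1 this.2.2.2 hgk'
  · -- the square of `(x a) ρ` is `s` for a suitable `x`
    have hact : Act ρ a b c d := by rw [hρe]; exact act_pair hT hm ht
    have hρQ : ρ * ρ = 1 := by rw [hρe]; exact sq_pair hT hm.ha hm.hb hm.ab
    have fin : ∀ x y z w, IsTet L s a x y z → IsTet L s y z x a → w = x → (x * a) * ρ ∈ Pairs L s →
        ρ * a * ρ⁻¹ = y → ρ * x * ρ⁻¹ = z → False := by
      intro x y z w hx hy _ hmem h1 h2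
      obtain ⟨g, k, hgk, hgk'⟩ := hmem
      have hm' := hgk.mem
      have h3 : ((x * a) * ρ) * ((x * a) * ρ) = 1 := by
        rw [hgk']; exact sq_pair hT hm'.1 hm'.2.1 hm'.2.2.1
      have hρi : ρ⁻¹ = ρ := inv_eq_of_mul_eq_one_left hρQ
      have h4 : ((x * a) * ρ) * ((x * a) * ρ) = (x * a) * (z * y) := by
        have e8 : ρ * (x * a) * ρ = z * y := by
          rw [← h2, ← h1, hρi, show ρ * x * ρ * (ρ * a * ρ) = ρ * x * (ρ * ρ) * a * ρ by group, hρQ]; group
        calc ((x * a) * ρ) * ((x * a) * ρ) = (x * a) * (ρ * (x * a) * ρ) := by group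
          _ = (x * a) * (z * y) := by rw [e8]
      rw [h4] at h3
      apply h.s_ne_one
      calc s = a * x * y * z := hx.prod.symm
        _ = (x * a) * (z * y) := by rw [hx.ab.eq, mul_assoc (x * a) y z, hx.cd.eq]
        _ = 1 := h3
    rcases hact with ⟨h1, _⟩ | ⟨h1, h2, h3, h4⟩ | ⟨h1, h2, h3, h4⟩ | ⟨h1, h2, h3, h4⟩
    · apply hc
      have h6 : Commute a (e1 * f1) := by
        rw [← hρe]; exact (mul_inv_eq_iff_eq_mul.mp h1).symm
      exact ((comm_of_comm_mul hT hm.ha hm.hb ht.ha hm.ab hm.nab h6).1).symm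
    · -- a ↔ b, c ↔ d : take x = c
      exact fin c b d c ht.sw23 ht.sw12.sw24 rfl kc h1 h3
    · -- a ↔ c, b ↔ d : take x = b
      exact fin b c d b ht ht.sw13.sw24.sw34 rfl kb h1 h3
    · -- a ↔ d, b ↔ c : take x = b
      exact fin b d c b ht.sw34 ht.sw14.sw23 rfl kb h1 h3

end Setup

/-- **Closing.**  No involution of `H` lies in another conjugate of `H`. -/
theorem main [Finite G] (hF : Facts L F0) (hE : Emb χ F0 H)
    (ctrl : ∀ a ∈ L, ∀ b ∈ L, a ≠ b → Commute a b → ∀ g : G, g * χ (a * b) * g⁻¹ ∈ H → g ∈ H)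
    (g0 : G) (hg0 : g0 ∉ H) (t : G) (ht : t ∈ H) (ht' : g0⁻¹ * t * g0 ∈ H) (htt : t * t = 1) : t = 1 := by
  by_contra hne
  obtain ⟨s, hs, rfl⟩ := hE.surj t ht
  have hs1 : s ≠ 1 := by rintro rfl; exact hne hE.one
  have hss : s * s = 1 := by
    apply hE.inj _ (F0.mul_mem hs hs) _ F0.one_mem
    rw [hE.mul _ hs _ hs, htt, hE.one]
  rcases hF.invol s hs hss hs1 with ⟨a, ha, b, hb, nab, hab, rfl⟩ | htet
  · have := ctrl a ha b hb nab hab g0⁻¹ (by simpa using ht')
    exact hg0 (by simpa using H.inv_mem this)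
  · exact Setup.false ⟨hF, hE, ctrl, hg0, htet, ht'⟩

end main

end Cfsg.Agent.R08.TetClose
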