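import Mathlib
import Cfsg.Agent.R08.TetClose
import Cfsg.Agent.Lib.ClosingTI

/-!
# Closing of the `Fi24'` case: the whole group
-/

set_option autoImplicit false

namespace Cfsg.Agent.R08.TetFinal

open Cfsg.Agent.R08.TetBasic Cfsg.Agent.R08.TetTwo Cfsg.Agent.R08.TetThree Cfsg.Agent.R08.TetClose

variable {F : Type*} [Group F] {G : Type*} [Group G] {χ : F → G} {F0 : Subgroup F} {H : Subgroup G}
  {L : Set F}

/-- `u` is an involution of `H`, its centraliser lies in `H`, and no tetrad involution is conjugate to it. -/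
structure Hyp (χ : F → G) (F0 : Subgroup F) (H : Subgroup G) (L : Set F) (u : G) : Prop where
  facts : Facts L F0
  trans2 : ∀ a ∈ L, ∀ b ∈ L, ∀ a' ∈ L, ∀ b' ∈ L, a ≠ b → Commute a b → a' ≠ b' → Commute a' b' →
    ∃ g ∈ F0, g * a * g⁻¹ = a' ∧ g * b * g⁻¹ = b'
  emb : Emb χ F0 H
  une : u ≠ 1
  uu : u * u = 1
  cent : ∀ g : G, g * u = u * g → g ∈ H
  big : ∀ s a b c d, IsTet L s a b c d → ∀ g : G, g * u * g⁻¹ ≠ χ s

namespace Hyp

variable {u : G}

theorem mem (h : Hyp χ F0 H L u) : u ∈ H := h.cent u rfl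

/-- `u` is a product of two commuting transpositions. -/
theorem exists_pair (h : Hyp χ F0 H L u) : ∃ a ∈ L, ∃ b ∈ L, a ≠ b ∧ Commute a b ∧ χ (a * b) = u := by
  obtain ⟨t, ht, htu⟩ := h.emb.surj u h.mem
  have ht1 : t ≠ 1 := by
    rintro rfl
    rw [h.emb.one] at htu
    exact h.une htu.symm
  have htt : t * t = 1 := by
    apply h.emb.inj _ (F0.mul_mem ht ht) _ F0.one_mem
    rw [h.emb.mul _ ht _ ht, h.emb.one, htu, h.uu]
  rcases h.facts.invol t ht htt ht1 with ⟨a, ha, b, hb, nab, hab, rfl⟩ | ⟨a, b, c, d, htet⟩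
  · exact ⟨a, ha, b, hb, nab, hab, htu⟩
  · exfalso
    exact h.big t a b c d htet 1 (by rw [one_mul, inv_one, mul_one, htu])

/-- Products of two commuting transpositions are conjugate to `u` under `H`. -/
theorem conj_u (h : Hyp χ F0 H L u) {a b : F} (ha : a ∈ L) (hb : b ∈ L) (nab : a ≠ b) (hab : Commute a b) :
    ∃ k ∈ H, k * u * k⁻¹ = χ (a * b) := by
  obtain ⟨a0, ha0, b0, hb0, n0, c0, rfl⟩ := h.exists_pair
  obtain ⟨g, hg, h1, h2⟩ := h.trans2 a0 ha0 b0 hb0 a ha b hb n0 c0 nab hab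
  refine ⟨χ g, h.emb.mem g hg, ?_⟩
  rw [← h.emb.conj hg (h.facts.even a0 ha0 b0 hb0), ← h1, ← h2]
  congr 1
  group

theorem cent_pair (h : Hyp χ F0 H L u) {a b : F} (ha : a ∈ L) (hb : b ∈ L) (nab : a ≠ b) (hab : Commute a b)
    (g : G) (hg : g * χ (a * b) = χ (a * b) * g) : g ∈ H := by
  obtain ⟨k, hk, hku⟩ := h.conj_u ha hb nab hab
  have h1 : k⁻¹ * g * k ∈ H := by
    apply h.cent
    have h2 : g * (k * u * k⁻¹) = k * u * k⁻¹ * g := by rw [hku, hg]
    calc k⁻¹ * g * k * u = k⁻¹ * (g * (k * u * k⁻¹)) * k := by group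
      _ = k⁻¹ * (k * u * k⁻¹ * g) * k := by rw [h2]
      _ = u * (k⁻¹ * g * k) := by group
  have h3 := H.mul_mem (H.mul_mem hk h1) (H.inv_mem hk)
  rwa [show k * (k⁻¹ * g * k) * k⁻¹ = g by group] at h3

theorem ctrl (h : Hyp χ F0 H L u) (a : F) (ha : a ∈ L) (b : F) (hb : b ∈ L) (nab : a ≠ b) (hab : Commute a b)
    (g : G) (hg : g * χ (a * b) * g⁻¹ ∈ H) : g ∈ H := by
  obtain ⟨k, hk, hku⟩ := h.conj_u ha hb nab hab
  obtain ⟨t, ht, htu⟩ := h.emb.surj _ hg
  have hgk : (g * k) * u * (g * k)⁻¹ = χ t := by rw [htu, ← hku]; group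
  have ht1 : t ≠ 1 := by
    rintro rfl
    rw [h.emb.one] at hgk
    apply h.une
    have : u = (g * k)⁻¹ * ((g * k) * u * (g * k)⁻¹) * (g * k) := by group
    rw [this, hgk]; group
  have htt : t * t = 1 := by
    apply h.emb.inj _ (F0.mul_mem ht ht) _ F0.one_mem
    rw [h.emb.mul _ ht _ ht, h.emb.one, ← hgk,
      show g * k * u * (g * k)⁻¹ * (g * k * u * (g * k)⁻¹) = g * k * (u * u) * (g * k)⁻¹ by group, h.uu]
    group
  rcases h.facts.invol t ht htt ht1 with ⟨a1, ha1, b1, hb1, n1, c1, rfl⟩ | ⟨a1, b1, c1, d1, htet⟩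
  · obtain ⟨k1, hk1, hku1⟩ := h.conj_u ha1 hb1 n1 c1
    have h2 : k1⁻¹ * (g * k) ∈ H := by
      apply h.cent
      have h3 : (g * k) * u * (g * k)⁻¹ = k1 * u * k1⁻¹ := by rw [hgk, hku1]
      calc k1⁻¹ * (g * k) * u = k1⁻¹ * ((g * k) * u * (g * k)⁻¹) * (g * k) := by group
        _ = k1⁻¹ * (k1 * u * k1⁻¹) * (g * k) := by rw [h3]
        _ = u * (k1⁻¹ * (g * k)) := by group
    have h4 := H.mul_mem (H.mul_mem hk1 h2) (H.inv_mem hk)
    rwa [show k1 * (k1⁻¹ * (g * k)) * k⁻¹ = g by group] at h4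
  · exact absurd hgk (h.big t a1 b1 c1 d1 htet _)

/-- `H` contains the centralisers of its involutions. -/
theorem cent_all [Finite G] (h : Hyp χ F0 H L u) (i : G) (hi : i ∈ H) (hi1 : i ≠ 1) (hii : i * i = 1) (g : G)
    (hg : g * i * g⁻¹ = i) : g ∈ H := by
  by_contra hcon
  apply hi1
  have hg' : g⁻¹ * i * g = i := by
    calc g⁻¹ * i * g = g⁻¹ * (g * i * g⁻¹) * g := by rw [hg]
      _ = i := by group
  exact TetClose.main h.facts h.emb (fun a ha b hb => h.ctrl a ha b hb) g hcon i hi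
    (by rw [hg']; exact hi) hii

end Hyp

/-- **The closing theorem.** -/
theorem main [Finite G] [IsSimpleGroup G] {u : G} (h : Hyp χ F0 H L u)
    (hex : ∃ s a b c d, IsTet L s a b c d) : H = ⊤ := by
  obtain ⟨s, a, b, c, d, ht⟩ := hex
  have hT := h.facts.tr
  have hsF : s ∈ F0 := by
    rw [← ht.prod, mul_assoc]
    exact F0.mul_mem (h.facts.even a ht.ha b ht.hb) (h.facts.even c ht.hc d ht.hd)
  have hs1 : χ s ≠ 1 := by
    intro h1
    have h2 : s = 1 := by
      apply h.emb.inj _ hsF _ F0.one_mem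
      rw [h1, h.emb.one]
    apply hT.four a ht.ha b ht.hb c ht.hc d ht.hd ht.nab ht.nac ht.nad ht.nbc ht.nbd ht.ncd ht.ab ht.ac
      ht.ad ht.bc ht.bd ht.cd
    have e3 : a * b * (c * d) = 1 := by rw [← h2, ← ht.prod]; group
    rw [← inv_pair hT ht.hc ht.hd ht.cd]; exact eq_inv_of_mul_eq_one_left e3
  have hss : χ s * χ s = 1 := by
    rw [← h.emb.mul _ hsF _ hsF, ht.sq_s hT, h.emb.one]
  have hnc : ¬ IsConj u (χ s) := by
    rw [isConj_iff]
    rintro ⟨g, hg⟩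
    exact h.big s a b c d ht g hg
  have hall : ∀ j : G, j * j = 1 → j ∈ H := fun j hj =>
    Cfsg.Agent.Lib.ClosingTI.all_involutions H
      (fun i hi hi1 hii g hg => h.cent_all i hi hi1 hii g hg) u (χ s) h.mem h.une h.uu (h.emb.mem s hsF) hs1 hss
      hnc j hj
  -- the normal closure of `u`
  have h1 : Subgroup.normalClosure {u} ≤ H := by
    unfold Subgroup.normalClosure
    rw [Subgroup.closure_le]
    intro x hx
    obtain ⟨y, hy, hyx⟩ := Group.mem_conjugatesOfSet_iff.mp hx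
    rw [Set.mem_singleton_iff] at hy
    subst hy
    obtain ⟨g, hg⟩ := isConj_iff.mp hyx
    apply hall
    rw [← hg, show g * y * g⁻¹ * (g * y * g⁻¹) = g * (y * y) * g⁻¹ by group, h.uu]
    group
  rcases (Subgroup.normalClosure_normal (s := {u})).eq_bot_or_eq_top with h2 | h2
  · exfalso
    apply h.une
    have : u ∈ Subgroup.normalClosure {u} := Subgroup.subset_normalClosure (Set.mem_singleton u)
    rw [h2] at this
    exact Subgroup.mem_bot.mp this
  · rw [h2] at h1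
    exact top_le_iff.mp h1

end Cfsg.Agent.R08.TetFinal
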