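import Cfsg.Agent.R08.TetAdapt
import Cfsg.Agent.R08.TetFi24C
import Cfsg.Agent.R08.TetFinal
import Cfsg.Agent.R08.TetBigInst

/-!
# A simple group with a subgroup `Fi24'` containing the centraliser of a small involution
-/

set_option autoImplicit false

namespace Cfsg.Agent.R08.TetFinalFi24

open Cfsg Cfsg.Spor Cfsg.Agent.R01
open Cfsg.Agent.R08.TetBasic Cfsg.Agent.R08.TetTwo
open Cfsg.Agent.R08.FiTwentyFour (L)

/-- **Closing**, with the 2-part of the centraliser of a tetrad involution given. -/
theorem main_of {G : Type*} [Group G] [Finite G] [IsSimpleGroup G] {H : Subgroup G} {k : ℕ}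
    (hk : ∀ s a b c d, IsTet L s a b c d →
      k ∣ Nat.card ↥(commutator Spor.Fi24 ⊓ Subgroup.centralizer ({s} : Set Spor.Fi24)))
    (hH : Spor.IsoFi24' H) {u : G} (hu : u ≠ 1) (huu : u * u = 1)
    (hC : Subgroup.centralizer ({u} : Set G) ≤ H)
    (h20 : ¬ k ∣ Nat.card (Subgroup.centralizer ({u} : Set G))) : H = ⊤ := by
  obtain ⟨χ, hE⟩ := TetAdapt.exists_emb hH
  refine TetFinal.main (χ := χ) (F0 := commutator Spor.Fi24) (L := L) (u := u)
    { facts := TetFi24C.facts
      trans2 := fun a ha b hb a' ha' b' hb' hne hab hne' hab' =>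
        FiTwentyFour.trans2 ha hb ha' hb' hne hab hne' hab'
      emb := hE
      une := hu
      uu := huu
      cent := fun g hg => hC (Subgroup.mem_centralizer_singleton_iff.2 hg)
      big := fun s a b c d h g hg => TetAdapt.hbig hE hk h20 s a b c d h ⟨g, hg⟩ }
    TetAdapt.exists_tet

/-- **Closing of S1735**: a subgroup `H ≃ Fi24'` of a simple group containing the centraliser of an involution whose
order is not divisible by `2 ^ 20`. -/
theorem main {G : Type*} [Group G] [Finite G] [IsSimpleGroup G] {H : Subgroup G}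
    (hH : Spor.IsoFi24' H) {u : G} (hu : u ≠ 1) (huu : u * u = 1)
    (hC : Subgroup.centralizer ({u} : Set G) ≤ H)
    (h20 : ¬ 2 ^ 20 ∣ Nat.card (Subgroup.centralizer ({u} : Set G))) : H = ⊤ :=
  main_of (fun _ _ _ _ _ h => TetBigInst.dvd h) hH hu huu hC h20

end Cfsg.Agent.R08.TetFinalFi24
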