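import Cfsg.Agent.R08.X0Fin
import Cfsg.Prelude.Def_Spor_Fi24

/-!
Theorem X: the forms with and without coherence.
-/

set_option autoImplicit false

namespace Cfsg.Agent.R08.X0Core

open Cfsg Cfsg.Spor
open Cfsg.Agent.R08.AutT (T)

universe w

/-- The conclusion for an identification of `L` with `L'`. -/
theorem transfer {G : Type w} [Group G] {u : G}
    (L : Subgroup (Subgroup.centralizer ({u} : Set G))) (φ : L →* Spor.Fi22)
    {L' : Subgroup G} {e : L ≃* L'}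
    (he : ∀ l : L, ((e l : L') : G) = ((l : Subgroup.centralizer ({u} : Set G)) : G))
    (h : ∃ H : Subgroup G, Subgroup.centralizer ({u} : Set G) ≤ H ∧ Spor.IsoFi24' H ∧
      ∀ l : L', (φ.comp e.symm.toMonoidHom) l ∈ T → ∃ g ∈ H, g * u * g⁻¹ = l) :
    ∃ H : Subgroup G, Subgroup.centralizer ({u} : Set G) ≤ H ∧ Spor.IsoFi24' H ∧
      ∀ l : L, φ l ∈ T → ∃ g ∈ H, g * u * g⁻¹ = ((l : Subgroup.centralizer ({u} : Set G)) : G) := by
  obtain ⟨H, h1, h2, h3⟩ := h
  refine ⟨H, h1, h2, fun l hl => ?_⟩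
  obtain ⟨g, hg, hgl⟩ := h3 (e l) (by
    show φ (e.symm (e l)) ∈ T
    rwa [e.symm_apply_apply])
  exact ⟨g, hg, by rw [hgl, he]⟩

/-- **Theorem X**, coherence given. -/
theorem x0 {G : Type w} [Group G] [Finite G] (u : G) (hu : orderOf u = 2)
    (L : Subgroup (Subgroup.centralizer ({u} : Set G)))
    (hidx : L.index = 2) (hperf : commutator L = ⊤) (φ : L →* Spor.Fi22)
    (hsurj : Function.Surjective φ)
    (hker : ∀ l : L, φ l = 1 ↔ l = 1 ∨ ((l : Subgroup.centralizer ({u} : Set G)) : G) = u)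
    (hcent : ∀ c : Subgroup.centralizer ({u} : Set G), (∀ l ∈ L, c * l = l * c) →
      c = 1 ∨ (c : G) = u)
    (r : L) (hr : φ r ∈ T) (n : G)
    (hn1 : n * u * n⁻¹ = ((r : Subgroup.centralizer ({u} : Set G)) : G))
    (hn2 : n * ((r : Subgroup.centralizer ({u} : Set G)) : G) * n⁻¹ = u)
    (hcoh : ∀ x : L, IsConj r x → x ≠ r → Commute x r → ∃ y : L, IsConj r y ∧
      ((y : Subgroup.centralizer ({u} : Set G)) : G) =
        n * ((x : Subgroup.centralizer ({u} : Set G)) : G) * n⁻¹) :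
    ∃ H : Subgroup G, Subgroup.centralizer ({u} : Set G) ≤ H ∧ Spor.IsoFi24' H ∧
      ∀ l : L, φ l ∈ T → ∃ g ∈ H, g * u * g⁻¹ = ((l : Subgroup.centralizer ({u} : Set G)) : G) := by
  obtain ⟨L', e, u', D, ε, θ, he, _, h⟩ := XTheta.exists_out LemmaVInst.lemmaV hu L hidx hperf φ
    hsurj hker hcent r hr n hn1 hn2 hcoh
  obtain ⟨τ, w, hτ⟩ := X5Main.main (XBridge.emb h)
  exact transfer L φ he (X0Fin.finish h hτ)

/-- **Theorem X**, without coherence. -/
theorem theoremX {G : Type w} [Group G] [Finite G] {u : G} (hu : orderOf u = 2)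
    (L : Subgroup (Subgroup.centralizer ({u} : Set G)))
    (hidx : L.index = 2) (hperf : commutator L = ⊤) (φ : L →* Spor.Fi22)
    (hsurj : Function.Surjective φ)
    (hker : ∀ l : L, φ l = 1 ↔ l = 1 ∨ ((l : Subgroup.centralizer ({u} : Set G)) : G) = u)
    (hcent : ∀ c : Subgroup.centralizer ({u} : Set G), (∀ l ∈ L, c * l = l * c) →
      c = 1 ∨ (c : G) = u)
    (r : L) (hr : φ r ∈ T)
    (hru : ∃ g : G, g * u * g⁻¹ = ((r : Subgroup.centralizer ({u} : Set G)) : G)) :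
    ∃ H : Subgroup G, Subgroup.centralizer ({u} : Set G) ≤ H ∧ Spor.IsoFi24' H ∧
      ∀ l : L, φ l ∈ T → ∃ g ∈ H, g * u * g⁻¹ = ((l : Subgroup.centralizer ({u} : Set G)) : G) := by
  obtain ⟨L', e, u', D, ε, θ, he, _, h⟩ := XTheta.exists_out' LemmaVInst.lemmaV hu L hidx hperf φ
    hsurj hker hcent r hr hru
  obtain ⟨τ, w, hτ⟩ := X5Main.main (XBridge.emb h)
  exact transfer L φ he (X0Fin.finish h hτ)

end Cfsg.Agent.R08.X0Core
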