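import Cfsg.Agent.S0111
import Cfsg.Agent.S0283
import Cfsg.Prelude.Def_CaseTheorems
import Cfsg.Prelude.Def_Spor_Fi22

/-!
From the centraliser of a four-group to the double cover of `Fi22`: `H` is a finite group with a central involution `t`,
`r` another involution whose centraliser `C` is perfect with `C / ⟨t, r⟩` isomorphic to `PSU(6,2)`. If an involution `y`
conjugate to an element swapping `r` and `r t` satisfies the hypothesis of the Thompson transfer lemma, then there is a
subgroup `L` of index two, quasisimple with `L / ⟨t⟩` isomorphic to `Fi22` (by the recognition theorem of `Fi22`).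
-/

set_option autoImplicit false

namespace Cfsg.Agent.R08.Seven

open Cfsg

universe u v

/-- The recognition theorem of `Fi22` (statement S1713). -/
def Rec.{w} : Prop := ∀ (G : Type w) [Group G] [Finite G] (d : G), orderOf d = 2 →
  IsQuasisimple (Subgroup.centralizer ({d} : Set G)) →
  ∀ [((Subgroup.zpowers d).subgroupOf (Subgroup.centralizer ({d} : Set G))).Normal]
    (K : Type) [Field K] [Fintype K], Fintype.card K = 4 →
    Nonempty ((Subgroup.centralizer ({d} : Set G)) ⧸
      (Subgroup.zpowers d).subgroupOf (Subgroup.centralizer ({d} : Set G)) ≃* PSU 6 K 2) →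
    (∃ g : G, g * d * g⁻¹ ∈ Subgroup.centralizer ({d} : Set G) ∧ g * d * g⁻¹ ≠ d) →
    Spor.IsoFi22 G

/-- The recognition theorem, strong form: `d` is mapped to an element of `T`. -/
def RecT.{w} (T : Set Spor.Fi22) : Prop := ∀ (G : Type w) [Group G] [Finite G] (d : G),
  orderOf d = 2 →
  IsQuasisimple (Subgroup.centralizer ({d} : Set G)) →
  ∀ [((Subgroup.zpowers d).subgroupOf (Subgroup.centralizer ({d} : Set G))).Normal]
    (K : Type) [Field K] [Fintype K], Fintype.card K = 4 →
    Nonempty ((Subgroup.centralizer ({d} : Set G)) ⧸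
      (Subgroup.zpowers d).subgroupOf (Subgroup.centralizer ({d} : Set G)) ≃* PSU 6 K 2) →
    (∃ g : G, g * d * g⁻¹ ∈ Subgroup.centralizer ({d} : Set G) ∧ g * d * g⁻¹ ≠ d) →
    ∃ f : G ≃* Spor.Fi22, f d ∈ T

theorem recT_univ.{w} (h : Rec.{w}) : RecT.{w} Set.univ := by
  intro G _ _ d hd hq _ K _ _ hK he hn
  obtain ⟨f⟩ := h G d hd hq K hK he hn
  exact ⟨f, trivial⟩

/-- A perfect central extension of a simple group is quasisimple, with the kernel as centre. -/
theorem center_eq_ker {C U : Type*} [Group C] [Group U] (π : C →* U) (hs : Function.Surjective π)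
    (hk : π.ker ≤ Subgroup.center C) (hperf : commutator C = ⊤) (hU : IsSimpleGroup U) :
    Subgroup.center C = π.ker := by
  apply le_antisymm _ hk
  intro x hx
  have h1 : π x ∈ Subgroup.center U := by
    rw [Subgroup.mem_center_iff]
    intro g
    obtain ⟨c, rfl⟩ := hs g
    rw [← map_mul, ← map_mul, Subgroup.mem_center_iff.1 hx c]
  have h2 : Subgroup.center U = ⊥ := by
    rcases hU.eq_bot_or_eq_top_of_normal (Subgroup.center U) inferInstance with h | h
    · exact h
    · exfalso
      have h3 : commutator U = ⊤ := by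
        rw [eq_top_iff]
        intro y _
        obtain ⟨c, rfl⟩ := hs y
        have hc : c ∈ commutator C := by rw [hperf]; trivial
        have h4 : Subgroup.map π (commutator C) ≤ commutator U := by
          rw [commutator_def, commutator_def, Subgroup.map_commutator]
          exact Subgroup.commutator_mono le_top le_top
        exact h4 ⟨c, hc, rfl⟩
      have h4 : commutator U = ⊥ := (commutator_eq_bot_iff_center_eq_top U).2 h
      rw [h3] at h4
      exact absurd h4.symm bot_ne_top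
  rw [h2, Subgroup.mem_bot] at h1
  exact h1

theorem quasisimple_of_surj {C U : Type*} [Group C] [Group U] (π : C →* U)
    (hs : Function.Surjective π) (hk : π.ker ≤ Subgroup.center C) (hperf : commutator C = ⊤)
    (hU : IsSimpleGroup U) : IsQuasisimple C := by
  refine ⟨Group.isPerfect_def.2 hperf, ?_⟩
  have hc := center_eq_ker π hs hk hperf hU
  have e1 : C ⧸ Subgroup.center C ≃* C ⧸ π.ker := QuotientGroup.quotientMulEquivOfEq hc
  have e := e1.trans (QuotientGroup.quotientKerEquivOfSurjective π hs)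
  have hn : Nontrivial (C ⧸ Subgroup.center C) := e.toEquiv.nontrivial
  exact IsSimpleGroup.isSimpleGroup_of_surjective e.symm.toMonoidHom e.symm.surjective

/-- Two surjections with the same kernel. -/
theorem equiv_of_ker {C A B : Type*} [Group C] [Group A] [Group B] (f : C →* A) (g : C →* B)
    (hf : Function.Surjective f) (hg : Function.Surjective g) (h : ∀ c, f c = 1 ↔ g c = 1) :
    Nonempty (A ≃* B) := by
  have hk : f.ker = g.ker := by
    ext c
    rw [MonoidHom.mem_ker, MonoidHom.mem_ker, h]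
  exact ⟨(QuotientGroup.quotientKerEquivOfSurjective f hf).symm.trans
    ((QuotientGroup.quotientMulEquivOfEq hk).trans (QuotientGroup.quotientKerEquivOfSurjective g hg))⟩

/-- The perfect subgroups are contained in the subgroups of index two. -/
theorem le_of_perfect {H : Type*} [Group H] (M : Subgroup H) (hM : M.index = 2) (C : Subgroup H)
    (hC : commutator C = ⊤) : C ≤ M := by
  have hN : M.Normal := Subgroup.normal_of_index_eq_two hM
  have hsq : ∀ x : H, x * x ∈ M := fun x => Subgroup.mul_self_mem_of_index_two hM x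
  have hab : ∀ x y : H, x * y * x⁻¹ * y⁻¹ ∈ M := by
    intro x y
    have h1 : x * y * x⁻¹ * y⁻¹ = (x * y * (x * y)) * (y⁻¹ * (x⁻¹ * x⁻¹) * y⁻¹⁻¹) * (y⁻¹ * y⁻¹) := by
      group
    rw [h1]
    exact M.mul_mem (M.mul_mem (hsq _) (hN.conj_mem _ (hsq _) _)) (hsq _)
  intro c hc
  have h1 : (⟨c, hc⟩ : C) ∈ commutator C := by rw [hC]; trivial
  have h2 : commutator C ≤ M.subgroupOf C := by
    rw [commutator_def, Subgroup.commutator_le]
    intro x _ y _
    rw [Subgroup.mem_subgroupOf, commutatorElement_def]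
    exact hab x y
  exact h2 h1

/-- The hypotheses. -/
structure Hyp {H : Type u} [Group H] (K : Type) [Field K] [Fintype K] (t r y : H)
    (π : Subgroup.centralizer ({r} : Set H) →* PSU 6 K 2) : Prop where
  card : Fintype.card K = 4
  tc : ∀ h : H, h * t = t * h
  tt : t * t = 1
  t1 : t ≠ 1
  rr : r * r = 1
  r1 : r ≠ 1
  rt : r ≠ t
  surj : Function.Surjective π
  ker : ∀ c : Subgroup.centralizer ({r} : Set H), π c = 1 ↔ (c : H) = 1 ∨ (c : H) = t ∨
    (c : H) = r ∨ (c : H) = t * r
  perf : commutator (Subgroup.centralizer ({r} : Set H)) = ⊤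
  /-- `y` is conjugate to an element swapping `r` and `t r` -/
  swap : ∃ h : H, (h * y * h⁻¹) * r * (h * y * h⁻¹)⁻¹ = t * r
  /-- the involution `r` is not isolated modulo `t` -/
  nwc : ∃ h : H, h * r * h⁻¹ * r = r * (h * r * h⁻¹) ∧ h * r * h⁻¹ ≠ r ∧ h * r * h⁻¹ ≠ t * r

variable {H : Type u} [Group H] {K : Type} [Field K] [Fintype K] {t r y : H}
  {π : Subgroup.centralizer ({r} : Set H) →* PSU 6 K 2}

namespace Hyp

theorem tr1 (h : Hyp K t r y π) : t * r ≠ 1 := by
  intro h1
  apply h.rt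
  have : t * (t * r) = t * 1 := by rw [h1]
  rwa [← mul_assoc, h.tt, one_mul, mul_one] at this

theorem mem_c {c : H} : c ∈ Subgroup.centralizer ({r} : Set H) ↔ c * r = r * c :=
  Subgroup.mem_centralizer_singleton_iff

theorem t_mem (h : Hyp K t r y π) : t ∈ Subgroup.centralizer ({r} : Set H) :=
  mem_c.2 (h.tc r).symm

theorem r_mem : r ∈ Subgroup.centralizer ({r} : Set H) := mem_c.2 rfl

/-- The element swapping `r` and `t r` also acts so by its inverse. -/
theorem swap_inv (h : Hyp K t r y π) {s : H} (hs : s * r * s⁻¹ = t * r) :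
    s⁻¹ * r * s = t * r := by
  have h1 : t * (s⁻¹ * r * s) = r := by
    calc t * (s⁻¹ * r * s) = s⁻¹ * (t * r) * s := by
          calc t * (s⁻¹ * r * s) = (t * s⁻¹) * r * s := by group
            _ = (s⁻¹ * t) * r * s := by rw [h.tc]
            _ = _ := by group
      _ = s⁻¹ * (s * r * s⁻¹) * s := by rw [hs]
      _ = r := by group
  calc s⁻¹ * r * s = (t * t) * (s⁻¹ * r * s) := by rw [h.tt, one_mul]
    _ = t * (t * (s⁻¹ * r * s)) := by group
    _ = t * r := by rw [h1]

theorem orderOf_t (h : Hyp K t r y π) : orderOf t = 2 :=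
  orderOf_eq_prime (by rw [pow_two, h.tt]) h.t1

theorem zpowers_t (h : Hyp K t r y π) {x : H} : x ∈ Subgroup.zpowers t ↔ x = 1 ∨ x = t := by
  constructor
  · intro hx
    obtain ⟨k, rfl⟩ := Subgroup.mem_zpowers_iff.1 hx
    rcases Int.even_or_odd k with ⟨m, rfl⟩ | ⟨m, rfl⟩
    · left
      rw [← two_mul, zpow_mul, zpow_ofNat, pow_two, h.tt, one_zpow]
    · right
      rw [zpow_add, zpow_mul, zpow_ofNat, pow_two, h.tt, one_zpow, one_mul, zpow_one]
  · rintro (rfl | rfl)
    · exact one_mem _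
    · exact Subgroup.mem_zpowers _

end Hyp

/-- The recognition theorem applied to `L / ⟨t⟩`. -/
theorem exists_fi22T {T : Set Spor.Fi22} (hrec : RecT.{u} T) [Finite H] (h : Hyp K t r y π)
    (L : Subgroup H) (hL : L.index = 2) (hy : y ∉ L) :
    ∃ φ : L →* Spor.Fi22, Function.Surjective φ ∧
      (∀ x : L, φ x = 1 ↔ (x : H) = 1 ∨ (x : H) = t) ∧ ∀ hr : r ∈ L, φ ⟨r, hr⟩ ∈ T := by
  classical
  have hLn : L.Normal := Subgroup.normal_of_index_eq_two hL
  have hCL : Subgroup.centralizer ({r} : Set H) ≤ L := le_of_perfect L hL _ h.perf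
  have htL : t ∈ L := hCL h.t_mem
  have hrL : r ∈ L := hCL Hyp.r_mem
  -- an element swapping `r` and `t r`, outside `L`
  obtain ⟨g0, hs⟩ := h.swap
  set s := g0 * y * g0⁻¹ with hsdef
  have hsL : s ∉ L := by
    intro h1
    apply hy
    have h2 := hLn.conj_mem _ h1 g0⁻¹
    have h3 : g0⁻¹ * s * g0⁻¹⁻¹ = y := by rw [hsdef]; group
    rwa [h3] at h2
  -- the quotient
  let N : Subgroup L := (Subgroup.zpowers t).subgroupOf L
  have hmemN : ∀ x : L, x ∈ N ↔ (x : H) = 1 ∨ (x : H) = t := fun x => by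
    rw [Subgroup.mem_subgroupOf, h.zpowers_t]
  have hNn : N.Normal := by
    constructor
    intro n hn g
    rw [hmemN] at hn ⊢
    rcases hn with h1 | h1
    · left
      rw [Subgroup.coe_mul, Subgroup.coe_mul, h1, mul_one, Subgroup.coe_inv, mul_inv_cancel]
    · right
      rw [Subgroup.coe_mul, Subgroup.coe_mul, h1, h.tc, Subgroup.coe_inv, mul_inv_cancel_right]
  let q : L →* L ⧸ N := QuotientGroup.mk' N
  have hq : Function.Surjective q := QuotientGroup.mk'_surjective N
  have hq1 : ∀ x : L, q x = 1 ↔ (x : H) = 1 ∨ (x : H) = t := fun x => by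
    rw [← hmemN]
    exact QuotientGroup.eq_one_iff x
  have hqeq : ∀ x x' : L, q x = q x' ↔ (x : H) = x' ∨ (x : H) = t * x' := by
    intro x x'
    rw [← mul_inv_eq_one, ← map_inv, ← map_mul, hq1, Subgroup.coe_mul, Subgroup.coe_inv,
      mul_inv_eq_one, mul_inv_eq_iff_eq_mul]
  let d : L ⧸ N := q ⟨r, hrL⟩
  have hdd : orderOf d = 2 := by
    apply orderOf_eq_prime
    · rw [pow_two, ← map_mul, hq1]
      left
      exact h.rr
    · intro h1
      rcases (hq1 _).1 h1 with h2 | h2
      · exact h.r1 h2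
      · exact h.rt h2
  -- the centraliser of `d`
  have hcent : ∀ x : L, q x ∈ Subgroup.centralizer ({d} : Set (L ⧸ N)) ↔
      (x : H) ∈ Subgroup.centralizer ({r} : Set H) := by
    intro x
    rw [Subgroup.mem_centralizer_singleton_iff, Hyp.mem_c, ← map_mul, ← map_mul, hqeq]
    constructor
    · rintro (h1 | h1)
      · exact h1
      · exfalso
        have h1' : (x : H) * r = t * (r * x) := h1
        have h2 : (x : H) * r * (x : H)⁻¹ = t * r := by
          rw [h1']; group
        have h3 : s⁻¹ * x ∈ Subgroup.centralizer ({r} : Set H) := by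
          rw [Hyp.mem_c]
          have h4 : (s⁻¹ * x) * r * (s⁻¹ * x)⁻¹ = r := by
            calc (s⁻¹ * x) * r * (s⁻¹ * x)⁻¹ = s⁻¹ * ((x : H) * r * (x : H)⁻¹) * s := by group
              _ = s⁻¹ * (t * r) * s := by rw [h2]
              _ = s⁻¹ * (s * r * s⁻¹) * s := by rw [hs]
              _ = r := by group
          exact mul_inv_eq_iff_eq_mul.1 h4
        apply hsL
        have h5 := L.mul_mem x.2 (L.inv_mem (hCL h3))
        have h6 : (x : H) * (s⁻¹ * x)⁻¹ = s := by group
        rwa [h6] at h5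
    · intro h1
      left
      exact h1
  -- the map from the centraliser of `r`
  let ψ : Subgroup.centralizer ({r} : Set H) →* Subgroup.centralizer ({d} : Set (L ⧸ N)) :=
    (q.comp (Subgroup.inclusion hCL)).codRestrict _ (fun c => (hcent _).2 c.2)
  have hψ : ∀ c, (ψ c : L ⧸ N) = q ⟨c, hCL c.2⟩ := fun c => rfl
  have hψs : Function.Surjective ψ := by
    rintro ⟨x, hx⟩
    obtain ⟨x, rfl⟩ := hq x
    exact ⟨⟨x, (hcent x).1 hx⟩, Subtype.ext rfl⟩
  have hψ1 : ∀ c, ψ c = 1 ↔ (c : H) = 1 ∨ (c : H) = t := by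
    intro c
    rw [← hq1 ⟨c, hCL c.2⟩, ← hψ]
    exact ⟨fun h1 => congrArg Subtype.val h1, fun h1 => Subtype.ext h1⟩
  have hperfd : commutator (Subgroup.centralizer ({d} : Set (L ⧸ N))) = ⊤ := by
    rw [eq_top_iff]
    intro x _
    obtain ⟨c, rfl⟩ := hψs x
    have hc : c ∈ commutator (Subgroup.centralizer ({r} : Set H)) := by rw [h.perf]; trivial
    have h1 : Subgroup.map ψ (commutator (Subgroup.centralizer ({r} : Set H))) ≤
        commutator (Subgroup.centralizer ({d} : Set (L ⧸ N))) := by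
      rw [commutator_def, commutator_def, Subgroup.map_commutator]
      exact Subgroup.commutator_mono le_top le_top
    exact h1 ⟨c, hc, rfl⟩
  -- the projection of the centraliser of `d` to `PSU`
  have hker : π.ker ≤ π.ker := le_rfl
  have hπψ : ∀ c, ψ c = 1 → π c = 1 := by
    intro c hc
    rw [h.ker]
    rcases (hψ1 c).1 hc with h1 | h1
    · exact Or.inl h1
    · exact Or.inr (Or.inl h1)
  have hle : ψ.ker ≤ π.ker := fun c hc => hπψ c hc
  let ρ : Subgroup.centralizer ({d} : Set (L ⧸ N)) →* PSU 6 K 2 :=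
    (ψ.liftOfSurjective hψs) ⟨π, hle⟩
  have hρ : ∀ c, ρ (ψ c) = π c := fun c => ψ.liftOfRightInverse_comp_apply _ _ ⟨π, hle⟩ c
  have hρs : Function.Surjective ρ := by
    intro u
    obtain ⟨c, rfl⟩ := h.surj u
    exact ⟨ψ c, hρ c⟩
  have hρ1 : ∀ x : Subgroup.centralizer ({d} : Set (L ⧸ N)), ρ x = 1 ↔
      (x : L ⧸ N) = 1 ∨ (x : L ⧸ N) = d := by
    intro x
    obtain ⟨c, rfl⟩ := hψs x
    rw [hρ, h.ker, hψ, hq1, hqeq]
    show _ ↔ ((c : H) = 1 ∨ (c : H) = t) ∨ ((c : H) = r ∨ (c : H) = t * r)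
    tauto
  have hdc : ∀ x : Subgroup.centralizer ({d} : Set (L ⧸ N)), (x : L ⧸ N) * d = d * x := fun x =>
    Subgroup.mem_centralizer_singleton_iff.1 x.2
  have hzp : ∀ x : L ⧸ N, x ∈ Subgroup.zpowers d ↔ x = 1 ∨ x = d := by
    intro x
    have hd2 : d * d = 1 := by rw [← pow_two, ← hdd, pow_orderOf_eq_one]
    constructor
    · intro hx
      obtain ⟨k, rfl⟩ := Subgroup.mem_zpowers_iff.1 hx
      rcases Int.even_or_odd k with ⟨m, rfl⟩ | ⟨m, rfl⟩
      · left
        rw [← two_mul, zpow_mul, zpow_ofNat, pow_two, hd2, one_zpow]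
      · right
        rw [zpow_add, zpow_mul, zpow_ofNat, pow_two, hd2, one_zpow, one_mul, zpow_one]
    · rintro (rfl | rfl)
      · exact one_mem _
      · exact Subgroup.mem_zpowers _
  have hkerρ : ρ.ker = (Subgroup.zpowers d).subgroupOf
      (Subgroup.centralizer ({d} : Set (L ⧸ N))) := by
    ext x
    rw [MonoidHom.mem_ker, hρ1, Subgroup.mem_subgroupOf, hzp]
  have hnorm : ((Subgroup.zpowers d).subgroupOf
      (Subgroup.centralizer ({d} : Set (L ⧸ N)))).Normal := by
    rw [← hkerρ]; infer_instance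
  have hsimple : IsSimpleGroup (PSU 6 K 2) :=
    Cfsg.Agent.S0283.result (q := 2) h.card 6 (by norm_num) (by norm_num)
  have hqs : IsQuasisimple (Subgroup.centralizer ({d} : Set (L ⧸ N))) := by
    refine quasisimple_of_surj ρ hρs ?_ hperfd hsimple
    intro x hx
    rw [MonoidHom.mem_ker, hρ1] at hx
    rw [Subgroup.mem_center_iff]
    intro g
    rcases hx with hx | hx
    · have : x = 1 := Subtype.ext hx
      rw [this, mul_one, one_mul]
    · apply Subtype.ext
      show (g : L ⧸ N) * x = x * g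
      rw [hx, hdc]
  have e : Nonempty ((Subgroup.centralizer ({d} : Set (L ⧸ N))) ⧸
      (Subgroup.zpowers d).subgroupOf (Subgroup.centralizer ({d} : Set (L ⧸ N))) ≃*
        PSU 6 K 2) := ⟨(QuotientGroup.quotientMulEquivOfEq hkerρ.symm).trans
          (QuotientGroup.quotientKerEquivOfSurjective ρ hρs)⟩
  have hnwc : ∃ g : L ⧸ N, g * d * g⁻¹ ∈ Subgroup.centralizer ({d} : Set (L ⧸ N)) ∧
      g * d * g⁻¹ ≠ d := by
    obtain ⟨g, hg1, hg2, hg3⟩ := h.nwc
    -- an element of `L` doing the same modulo `t`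
    have key : ∃ m : L, (m : H) * r * (m : H)⁻¹ = g * r * g⁻¹ ∨
        (m : H) * r * (m : H)⁻¹ = t * (g * r * g⁻¹) := by
      by_cases hgL : g ∈ L
      · exact ⟨⟨g, hgL⟩, Or.inl rfl⟩
      · have h1 : g * s⁻¹ ∈ L := (Subgroup.mul_mem_iff_of_index_two hL).2 (by
          rw [L.inv_mem_iff]; tauto)
        refine ⟨⟨g * s⁻¹, h1⟩, Or.inr ?_⟩
        show g * s⁻¹ * r * (g * s⁻¹)⁻¹ = t * (g * r * g⁻¹)
        calc g * s⁻¹ * r * (g * s⁻¹)⁻¹ = g * (s⁻¹ * r * s) * g⁻¹ := by group
          _ = g * (t * r) * g⁻¹ := by rw [h.swap_inv hs]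
          _ = (g * t) * r * g⁻¹ := by group
          _ = (t * g) * r * g⁻¹ := by rw [h.tc]
          _ = t * (g * r * g⁻¹) := by group
    obtain ⟨m, hm⟩ := key
    refine ⟨q m, ?_, ?_⟩
    · have h1 : q m * d * (q m)⁻¹ = q (m * ⟨r, hrL⟩ * m⁻¹) := by
        rw [map_mul, map_mul, map_inv]
      rw [h1, hcent, Hyp.mem_c]
      show (m : H) * r * (m : H)⁻¹ * r = r * ((m : H) * r * (m : H)⁻¹)
      rcases hm with hm | hm <;> rw [hm]
      · exact hg1
      · calc t * (g * r * g⁻¹) * r = t * ((g * r * g⁻¹) * r) := by group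
          _ = t * (r * (g * r * g⁻¹)) := by rw [hg1]
          _ = (t * r) * (g * r * g⁻¹) := by group
          _ = (r * t) * (g * r * g⁻¹) := by rw [h.tc]
          _ = r * (t * (g * r * g⁻¹)) := by group
    · have h1 : q m * d * (q m)⁻¹ = q (m * ⟨r, hrL⟩ * m⁻¹) := by
        rw [map_mul, map_mul, map_inv]
      rw [h1]
      intro h2
      rcases (hqeq _ _).1 h2 with h3 | h3
      · have h3' : (m : H) * r * (m : H)⁻¹ = r := h3
        rcases hm with hm | hm
        · exact hg2 (hm.symm.trans h3')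
        · apply hg3
          rw [hm] at h3'
          calc g * r * g⁻¹ = (t * t) * (g * r * g⁻¹) := by rw [h.tt, one_mul]
            _ = t * (t * (g * r * g⁻¹)) := by group
            _ = t * r := by rw [h3']
      · have h3' : (m : H) * r * (m : H)⁻¹ = t * r := h3
        rcases hm with hm | hm
        · exact hg3 (hm.symm.trans h3')
        · apply hg2
          rw [hm] at h3'
          exact mul_left_cancel h3'
  obtain ⟨f, hf⟩ := hrec (L ⧸ N) d hdd hqs K h.card e hnwc
  refine ⟨f.toMonoidHom.comp q, f.surjective.comp hq, fun x => ?_, fun _ => hf⟩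
  show f (q x) = 1 ↔ _
  rw [map_eq_one_iff f f.injective, hq1]

/-- The recognition theorem applied to `L / ⟨t⟩`. -/
theorem exists_fi22 (hrec : Rec.{u}) [Finite H] (h : Hyp K t r y π) (L : Subgroup H)
    (hL : L.index = 2) (hy : y ∉ L) :
    ∃ φ : L →* Spor.Fi22, Function.Surjective φ ∧
      ∀ x : L, φ x = 1 ↔ (x : H) = 1 ∨ (x : H) = t := by
  obtain ⟨φ, h1, h2, -⟩ := exists_fi22T (recT_univ hrec) h L hL hy
  exact ⟨φ, h1, h2⟩

/-- The main theorem, given the subgroup `L` of index two avoiding `y`. -/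
theorem main_of_indexT {T : Set Spor.Fi22} (hrec : RecT.{u} T) (hfi : IsSimpleGroup Spor.Fi22)
    [Finite H] (h : Hyp K t r y π) (L : Subgroup H) (hL : L.index = 2) (hy : y ∉ L) :
    L.Normal ∧ Subgroup.centralizer ({r} : Set H) ≤ L ∧ commutator L = ⊤ ∧ IsQuasisimple L ∧
      (∀ x : H, (∀ c ∈ L, c * x = x * c) ↔ x = 1 ∨ x = t) ∧
      ∃ φ : L →* Spor.Fi22, Function.Surjective φ ∧
        (∀ x : L, φ x = 1 ↔ (x : H) = 1 ∨ (x : H) = t) ∧ ∀ hr : r ∈ L, φ ⟨r, hr⟩ ∈ T := by
  have hLn : L.Normal := Subgroup.normal_of_index_eq_two hL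
  have hCL : Subgroup.centralizer ({r} : Set H) ≤ L := le_of_perfect L hL _ h.perf
  obtain ⟨φ, hφ, hφ1, hφ2⟩ := exists_fi22T hrec h L hL hy
  have hkc : φ.ker ≤ Subgroup.center L := by
    intro x hx
    rw [MonoidHom.mem_ker, hφ1] at hx
    rw [Subgroup.mem_center_iff]
    intro g
    apply Subtype.ext
    show (g : H) * x = x * g
    rcases hx with hx | hx
    · rw [hx, mul_one, one_mul]
    · rw [hx, h.tc]
  -- `L` is perfect
  have hperf : commutator L = ⊤ := by
    have hU : commutator Spor.Fi22 = ⊤ := by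
      rcases hfi.eq_bot_or_eq_top_of_normal (commutator Spor.Fi22) inferInstance with h1 | h1
      · exfalso
        -- the centraliser of `r` is perfect and not contained in the kernel
        have h2 : ∀ c ∈ Subgroup.centralizer ({r} : Set H), c = 1 ∨ c = t := by
          intro c hc
          have h3 : (⟨c, hc⟩ : Subgroup.centralizer ({r} : Set H)) ∈
              commutator (Subgroup.centralizer ({r} : Set H)) := by rw [h.perf]; trivial
          let f := φ.comp (Subgroup.inclusion hCL)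
          have h4 : Subgroup.map f (commutator (Subgroup.centralizer ({r} : Set H))) ≤
              commutator Spor.Fi22 := by
            rw [commutator_def, commutator_def, Subgroup.map_commutator]
            exact Subgroup.commutator_mono le_top le_top
          have h5 : f ⟨c, hc⟩ ∈ commutator Spor.Fi22 := h4 ⟨_, h3, rfl⟩
          rw [h1, Subgroup.mem_bot] at h5
          exact (hφ1 ⟨c, hCL hc⟩).1 h5
        rcases h2 r Hyp.r_mem with h3 | h3
        · exact h.r1 h3
        · exact h.rt h3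
      · exact h1
    rw [eq_top_iff]
    intro x _
    have h1 : φ x ∈ commutator Spor.Fi22 := by rw [hU]; trivial
    have h2 : commutator Spor.Fi22 ≤ Subgroup.map φ (commutator L) := by
      rw [commutator_def, commutator_def, Subgroup.map_commutator,
        Subgroup.map_top_of_surjective φ hφ]
    obtain ⟨x', hx', hxx⟩ := h2 h1
    have h3 : φ (x * x'⁻¹) = 1 := by rw [map_mul, map_inv, hxx, mul_inv_cancel]
    have h4 : x * x'⁻¹ ∈ commutator L := by
      rcases (hφ1 _).1 h3 with h5 | h5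
      · have : x * x'⁻¹ = 1 := Subtype.ext h5
        rw [this]
        exact one_mem _
      · have h6 : x * x'⁻¹ = Subgroup.inclusion hCL ⟨t, h.t_mem⟩ := Subtype.ext h5
        rw [h6]
        have h7 : (⟨t, h.t_mem⟩ : Subgroup.centralizer ({r} : Set H)) ∈
          commutator (Subgroup.centralizer ({r} : Set H)) := by rw [h.perf]; trivial
        have h8 : Subgroup.map (Subgroup.inclusion hCL)
            (commutator (Subgroup.centralizer ({r} : Set H))) ≤ commutator L := by
          rw [commutator_def, commutator_def, Subgroup.map_commutator]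
          exact Subgroup.commutator_mono le_top le_top
        exact h8 ⟨_, h7, rfl⟩
    have h5 : x = (x * x'⁻¹) * x' := by group
    rw [h5]
    exact mul_mem h4 hx'
  refine ⟨hLn, hCL, hperf, quasisimple_of_surj φ hφ hkc hperf hfi, ?_, φ, hφ, hφ1, hφ2⟩
  intro x
  constructor
  · intro hx
    have hxr : x ∈ Subgroup.centralizer ({r} : Set H) :=
      Hyp.mem_c.2 (hx r (hCL Hyp.r_mem)).symm
    have h1 : (⟨x, hCL hxr⟩ : L) ∈ Subgroup.center L := by
      rw [Subgroup.mem_center_iff]
      intro g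
      exact Subtype.ext (hx g g.2)
    rw [center_eq_ker φ hφ hkc hperf hfi, MonoidHom.mem_ker, hφ1] at h1
    exact h1
  · rintro (rfl | rfl) c -
    · rw [mul_one, one_mul]
    · exact h.tc c

/-- The main theorem, given the subgroup `L` of index two avoiding `y`. -/
theorem main_of_index (hrec : Rec.{u}) (hfi : IsSimpleGroup Spor.Fi22) [Finite H]
    (h : Hyp K t r y π) (L : Subgroup H) (hL : L.index = 2) (hy : y ∉ L) :
    L.Normal ∧ Subgroup.centralizer ({r} : Set H) ≤ L ∧ commutator L = ⊤ ∧ IsQuasisimple L ∧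
      (∀ x : H, (∀ c ∈ L, c * x = x * c) ↔ x = 1 ∨ x = t) ∧
      ∃ φ : L →* Spor.Fi22, Function.Surjective φ ∧
        ∀ x : L, φ x = 1 ↔ (x : H) = 1 ∨ (x : H) = t := by
  obtain ⟨h1, h2, h3, h4, h5, φ, h6, h7, -⟩ := main_of_indexT (recT_univ hrec) hfi h L hL hy
  exact ⟨h1, h2, h3, h4, h5, φ, h6, h7⟩

/-- **Step (7)**, strong form: the subgroup of index two from the Thompson transfer lemma. -/
theorem mainT {T : Set Spor.Fi22} (hrec : RecT.{u} T) (hfi : IsSimpleGroup Spor.Fi22) [Finite H]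
    (h : Hyp K t r y π)
    (hy : orderOf y = 2) (P : Sylow 2 H) (Q : Subgroup H) (hQP : Q ≤ (P : Subgroup H))
    (hQi : Q.relIndex (P : Subgroup H) = 2) (hyP : y ∈ (P : Subgroup H))
    (hyQ : ∀ g : H, g * y * g⁻¹ ∉ Q) :
    ∃ L : Subgroup H, L.index = 2 ∧ y ∉ L ∧
      L.Normal ∧ Subgroup.centralizer ({r} : Set H) ≤ L ∧ commutator L = ⊤ ∧ IsQuasisimple L ∧
      (∀ x : H, (∀ c ∈ L, c * x = x * c) ↔ x = 1 ∨ x = t) ∧
      ∃ φ : L →* Spor.Fi22, Function.Surjective φ ∧
        (∀ x : L, φ x = 1 ↔ (x : H) = 1 ∨ (x : H) = t) ∧ ∀ hr : r ∈ L, φ ⟨r, hr⟩ ∈ T := by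
  have hyQ1 : y ∉ Q := by
    have := hyQ 1
    simpa using this
  rcases Cfsg.Agent.S0111.result P Q hQP hQi y hy hyP hyQ1 with ⟨M, hMn, hMi, hyM⟩ | ⟨g, hg⟩
  · exact ⟨M, hMi, hyM, main_of_indexT hrec hfi h M hMi hyM⟩
  · exact absurd hg (hyQ g)

/-- **Step (7)**: the subgroup of index two from the Thompson transfer lemma. -/
theorem main (hrec : Rec.{u}) (hfi : IsSimpleGroup Spor.Fi22) [Finite H] (h : Hyp K t r y π)
    (hy : orderOf y = 2) (P : Sylow 2 H) (Q : Subgroup H) (hQP : Q ≤ (P : Subgroup H))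
    (hQi : Q.relIndex (P : Subgroup H) = 2) (hyP : y ∈ (P : Subgroup H))
    (hyQ : ∀ g : H, g * y * g⁻¹ ∉ Q) :
    ∃ L : Subgroup H, L.index = 2 ∧ y ∉ L ∧
      L.Normal ∧ Subgroup.centralizer ({r} : Set H) ≤ L ∧ commutator L = ⊤ ∧ IsQuasisimple L ∧
      (∀ x : H, (∀ c ∈ L, c * x = x * c) ↔ x = 1 ∨ x = t) ∧
      ∃ φ : L →* Spor.Fi22, Function.Surjective φ ∧
        ∀ x : L, φ x = 1 ↔ (x : H) = 1 ∨ (x : H) = t := by
  have hyQ1 : y ∉ Q := by
    have := hyQ 1
    simpa using this
  rcases Cfsg.Agent.S0111.result P Q hQP hQi y hy hyP hyQ1 with ⟨M, hMn, hMi, hyM⟩ | ⟨g, hg⟩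
  · exact ⟨M, hMi, hyM, main_of_index hrec hfi h M hMi hyM⟩
  · exact absurd hg (hyQ g)

end Cfsg.Agent.R08.Seven
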