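import Cfsg.Agent.R08.X1
import Cfsg.Agent.R08.Seven
import Cfsg.Agent.S1713
import Cfsg.Agent.S1697
import Cfsg.Agent.S0215
import Cfsg.Agent.S1180
import Cfsg.Agent.Lib.Cores

/-!
The fusion of the central involution of a perfect double cover `L` of `Fi22` of index two in an
involution centraliser: if `u` is not conjugate to a lift of a transposition then the centraliser of
each such lift is contained in `L`.
-/

set_option autoImplicit false

namespace Cfsg.Agent.R08.FusOne

open Cfsg Cfsg.Agent.Fischer Cfsg.Agent.R01 Cfsg.Agent.R01.Lifts Cfsg.Agent.R01.FiFusion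
  Cfsg.Agent.R01.FiFacts Cfsg.Agent.R01.FiHexad Cfsg.Agent.R01.FiMain Cfsg.Agent.R01.Label
open Cfsg.Agent.R01.Start (zel)
open Cfsg.Agent.R08.AutT (T tFacts hfix aut_mem)
open Cfsg.Agent.R08.LiftCls Cfsg.Agent.R08.X1
open Cfsg.Agent.R08.Seven (quasisimple_of_surj)
open scoped commutatorElement

universe w

/-- The statement S1714 for the group `G`. -/
def St1714 (G : Type w) [Group G] : Prop :=
  ∀ (d : G) (_ : orderOf d = 2)
    (_ : Cfsg.IsQuasisimple (Subgroup.centralizer ({d} : Set G)))
    [((Subgroup.zpowers d).subgroupOf (Subgroup.centralizer ({d} : Set G))).Normal]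
    (_ : Cfsg.Spor.IsoFi22 ((Subgroup.centralizer ({d} : Set G)) ⧸
      (Subgroup.zpowers d).subgroupOf (Subgroup.centralizer ({d} : Set G))))
    (_ : ∃ g : G, g * d * g⁻¹ ∈ Subgroup.centralizer ({d} : Set G) ∧ g * d * g⁻¹ ≠ d),
    Cfsg.Spor.IsoFi23 G

/-- An isolated involution of a group with trivial core is central. -/
theorem central_of_isolated {Y : Type*} [Group Y] [Finite Y] (hO : pPrimeCore 2 Y = ⊥) {t : Y}
    (ht : t * t = 1) (ht1 : t ≠ 1)
    (hiso : ∀ g : Y, t * (g * t * g⁻¹) = (g * t * g⁻¹) * t → g * t * g⁻¹ = t) (y : Y) :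
    y * t = t * y := by
  classical
  have : Fact (Nat.Prime 2) := ⟨Nat.prime_two⟩
  have hz : orderOf t = 2 := orderOf_eq_prime (by rw [pow_two, ht]) ht1
  have hiso' : Cfsg.IsIsolatedInvolution t := ⟨hz, fun g hg => hiso g hg⟩
  have hp : IsPGroup 2 (Subgroup.zpowers t) := by
    rw [IsPGroup.iff_card]
    exact ⟨1, by rw [Nat.card_zpowers, hz, pow_one]⟩
  obtain ⟨P, hP⟩ := hp.exists_le_sylow
  have hzP : t ∈ P := hP (Subgroup.mem_zpowers t)
  obtain ⟨N, hN, hodd, hcomm⟩ := Cfsg.Agent.S0215.result P t hz hzP fun g hg =>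
    Cfsg.Agent.S1180.eq_of_conj_mem_isPGroup t hiso' (P : Subgroup Y) P.isPGroup' hzP g hg
  have hNle : N ≤ pPrimeCore 2 Y :=
    Cfsg.Agent.Lib.Cores.le_pPrimeCore hN (Nat.coprime_two_right.2 hodd)
  have h1 := hNle (hcomm y)
  rw [hO, Subgroup.mem_bot] at h1
  have h2 : t * y * t⁻¹ = y := by
    calc t * y * t⁻¹ = t * y * t⁻¹ * y⁻¹ * y := by group
      _ = y := by rw [h1, one_mul]
  calc y * t = t * y * t⁻¹ * t := by rw [h2]
    _ = t * y := by group

/-- Perfectness along a surjection. -/
theorem perf_of_surj {A B : Type*} [Group A] [Group B] (f : A →* B) (hf : Function.Surjective f)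
    (h : commutator A = ⊤) : commutator B = ⊤ := by
  rw [eq_top_iff]
  intro y _
  obtain ⟨x, rfl⟩ := hf y
  have hx : x ∈ commutator A := by rw [h]; trivial
  have h1 : Subgroup.map f (commutator A) ≤ commutator B := by
    rw [commutator_def, commutator_def, Subgroup.map_commutator]
    exact Subgroup.commutator_mono le_top le_top
  exact h1 ⟨x, hx, rfl⟩

/-- The powers of an involution. -/
theorem mem_zpowers_iff {H : Type*} [Group H] {d : H} (hdd : d * d = 1) (x : H) :
    x ∈ Subgroup.zpowers d ↔ x = 1 ∨ x = d := by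
  constructor
  · intro hx
    obtain ⟨k, rfl⟩ := Subgroup.mem_zpowers_iff.1 hx
    rcases Int.even_or_odd k with ⟨m, rfl⟩ | ⟨m, rfl⟩
    · left
      rw [← two_mul, zpow_mul, zpow_ofNat, pow_two, hdd, one_zpow]
    · right
      rw [zpow_add, zpow_mul, zpow_ofNat, pow_two, hdd, one_zpow, one_mul, zpow_one]
  · rintro (rfl | rfl)
    · exact one_mem _
    · exact Subgroup.mem_zpowers _

theorem ker_eq {H U : Type*} [Group H] [Group U] {d : H} (hdd : d * d = 1)
    (ρ : Subgroup.centralizer ({d} : Set H) →* U) (hρ1 : ∀ x, ρ x = 1 ↔ x = 1 ∨ (x : H) = d) :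
    ρ.ker = (Subgroup.zpowers d).subgroupOf (Subgroup.centralizer ({d} : Set H)) := by
  ext x
  rw [MonoidHom.mem_ker, hρ1, Subgroup.mem_subgroupOf, mem_zpowers_iff hdd]
  constructor
  · rintro (h | h)
    · left; rw [h]; rfl
    · right; exact h
  · rintro (h | h)
    · left; exact Subtype.ext h
    · right; exact h

theorem ker_le_center {H U : Type*} [Group H] [Group U] {d : H}
    (ρ : Subgroup.centralizer ({d} : Set H) →* U) (hρ1 : ∀ x, ρ x = 1 ↔ x = 1 ∨ (x : H) = d) :
    ρ.ker ≤ Subgroup.center (Subgroup.centralizer ({d} : Set H)) := by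
  intro x hx
  rw [MonoidHom.mem_ker, hρ1] at hx
  rw [Subgroup.mem_center_iff]
  intro g
  rcases hx with hx | hx
  · rw [hx, mul_one, one_mul]
  · apply Subtype.ext
    show (g : H) * x = x * g
    rw [hx, Subgroup.mem_centralizer_singleton_iff.1 g.2]

/-- S1713 for a surjection of the centraliser. -/
theorem fi22_of {H : Type w} [Group H] [Finite H] {K : Type} [Field K] [Fintype K]
    (hK : Fintype.card K = 4) {d : H} (hdd : d * d = 1) (hd1 : d ≠ 1)
    (hperf : commutator (Subgroup.centralizer ({d} : Set H)) = ⊤)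
    (ρ : Subgroup.centralizer ({d} : Set H) →* PSU 6 K 2) (hρ : Function.Surjective ρ)
    (hρ1 : ∀ x, ρ x = 1 ↔ x = 1 ∨ (x : H) = d)
    (hnwc : ∃ g : H, (g * d * g⁻¹) * d = d * (g * d * g⁻¹) ∧ g * d * g⁻¹ ≠ d) :
    Nonempty (H ≃* Spor.Fi22) := by
  have hk := ker_eq hdd ρ hρ1
  have hN : ((Subgroup.zpowers d).subgroupOf (Subgroup.centralizer ({d} : Set H))).Normal := by
    rw [← hk]; infer_instance
  have hsimple : IsSimpleGroup (PSU 6 K 2) :=
    Cfsg.Agent.S0283.result (q := 2) hK 6 (by norm_num) (by norm_num)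
  obtain ⟨g, hg1, hg2⟩ := hnwc
  exact Cfsg.Agent.S1713.result d (orderOf_eq_prime (by rw [pow_two, hdd]) hd1)
    (quasisimple_of_surj ρ hρ (ker_le_center ρ hρ1) hperf hsimple) K hK
    ((QuotientGroup.quotientMulEquivOfEq hk.symm).trans
      (QuotientGroup.quotientKerEquivOfSurjective ρ hρ))
    ⟨g, Subgroup.mem_centralizer_singleton_iff.2 hg1, hg2⟩

/-- S1714 for a surjection of the centraliser. -/
theorem fi23_of {H : Type w} [Group H] (hS : St1714 H) {d : H} (hdd : d * d = 1) (hd1 : d ≠ 1)
    (hperf : commutator (Subgroup.centralizer ({d} : Set H)) = ⊤)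
    (ρ : Subgroup.centralizer ({d} : Set H) →* Spor.Fi22) (hρ : Function.Surjective ρ)
    (hρ1 : ∀ x, ρ x = 1 ↔ x = 1 ∨ (x : H) = d)
    (hnwc : ∃ g : H, (g * d * g⁻¹) * d = d * (g * d * g⁻¹) ∧ g * d * g⁻¹ ≠ d) :
    Nonempty (H ≃* Spor.Fi23) := by
  have hk := ker_eq hdd ρ hρ1
  have hN : ((Subgroup.zpowers d).subgroupOf (Subgroup.centralizer ({d} : Set H))).Normal := by
    rw [← hk]; infer_instance
  obtain ⟨g, hg1, hg2⟩ := hnwc
  exact hS d (orderOf_eq_prime (by rw [pow_two, hdd]) hd1)
    (quasisimple_of_surj ρ hρ (ker_le_center ρ hρ1) hperf Fi22Facts.isSimple)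
    ⟨(QuotientGroup.quotientMulEquivOfEq hk.symm).trans
      (QuotientGroup.quotientKerEquivOfSurjective ρ hρ)⟩
    ⟨g, Subgroup.mem_centralizer_singleton_iff.2 hg1, hg2⟩

variable {G : Type w} [Group G] {u : G} {L : Subgroup G} {φ : L →* Spor.Fi22} {D : Set L}

/-- The order of the centraliser of `u`. -/
theorem card_cent [Finite G] (H : Hyp u L φ) (huL : u ∈ L) :
    Nat.card (Subgroup.centralizer ({u} : Set G)) = 4 * Nat.card Spor.Fi22 := by
  have hle : L ≤ Subgroup.centralizer ({u} : Set G) := fun l hl =>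
    Subgroup.mem_centralizer_singleton_iff.2 (H.le l hl)
  have hidx : (L.subgroupOf (Subgroup.centralizer ({u} : Set G))).index = 2 := by
    rw [Subgroup.index_eq_two_iff]
    obtain ⟨b, hb, hbL⟩ := H.out
    refine ⟨⟨b, Subgroup.mem_centralizer_singleton_iff.2 hb⟩, fun c => ?_⟩
    have hc := Subgroup.mem_centralizer_singleton_iff.1 c.2
    rw [Subgroup.mem_subgroupOf, Subgroup.mem_subgroupOf]
    show Xor ((c : G) * b ∈ L) ((c : G) ∈ L)
    by_cases hcL : (c : G) ∈ L
    · right
      refine ⟨hcL, fun h => hbL ?_⟩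
      have := L.mul_mem (L.inv_mem hcL) h
      rwa [inv_mul_cancel_left] at this
    · left
      exact ⟨H.mul _ _ hc hb hcL hbL, hcL⟩
  have h1 := (L.subgroupOf (Subgroup.centralizer ({u} : Set G))).card_mul_index
  rw [hidx, Nat.card_congr (Subgroup.subgroupOfEquivOfLe hle).toEquiv] at h1
  have h2 : Nat.card φ.ker = 2 := by
    have : (φ.ker : Set L) = {1, ⟨u, huL⟩} := by
      ext x
      show φ x = 1 ↔ _
      rw [H.ker, Set.mem_insert_iff, Set.mem_singleton_iff]
      constructor
      · rintro (h | h)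
        · exact Or.inl h
        · exact Or.inr (Subtype.ext h)
      · rintro (h | h)
        · exact Or.inl h
        · exact Or.inr (congrArg Subtype.val h)
    have h3 : Nat.card φ.ker = Set.ncard (φ.ker : Set L) := Nat.card_coe_set_eq _
    rw [h3, this, Set.ncard_pair]
    intro h
    exact H.une (congrArg Subtype.val h).symm
  have h3 : Nat.card L = Nat.card Spor.Fi22 * 2 := by
    have h4 := φ.ker.card_mul_index
    rw [h2, Subgroup.index_ker, MonoidHom.range_eq_top.2 H.surj, Subgroup.card_top] at h4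
    rw [← h4, mul_comm]
  rw [← h1, h3]
  ring

/-- A member of the class commuting with a given one. -/
theorem exists_comm {π : L →* Spor.Fi22} {z : L} (hC : Cls π z D) {x : L} (hx : x ∈ D) :
    ∃ y ∈ D, y ≠ x ∧ y * x = x * y := by
  obtain ⟨f, h1, h2⟩ := KPerf.exists_hex (hC.bij.1 hx)
  obtain ⟨y, hy, hyf⟩ := hC.bij.2.2 h2.t.mx
  refine ⟨y, hy, ?_, ?_⟩
  · rintro rfl
    exact (h1 0).1 hyf.symm
  · apply hC.lifted.comm _ hy _ hx
    rw [hyf]; exact (h1 0).2

/-- **(F1)** If `u` is not conjugate to a lift of a transposition then the centralisers of the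
lifts are contained in `L`. -/
theorem cent_le [Finite G] (hS : St1714 G)
    (hO : ∀ t : G, orderOf t = 2 → centralizerPPrimeCore 2 t = ⊥)
    (H : Hyp u L φ) (huL : u ∈ L) (hC : Cls φ (⟨u, huL⟩ : L) D)
    (hcent : ∀ g : G, g * u = u * g → ∀ d ∈ D, g * d = d * g → g ∈ L)
    (hns : ∀ r ∈ D, ∀ g : G, g * u * g⁻¹ ≠ r ∧ g * u * g⁻¹ ≠ u * r)
    {x : L} (hx : x ∈ D) (y : G) (hy : y * x = x * y) : y ∈ L := by
  have hxx : x * x = 1 := hC.lifted.sq x hx
  have htt : (x : G) * x = 1 := congrArg Subtype.val hxx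
  have hx1 : x ≠ 1 := by
    rintro rfl
    exact tFacts.ne _ (hC.bij.1 hx) (map_one φ)
  have ht1 : (x : G) ≠ 1 := fun h => hx1 (Subtype.ext h)
  have hxu : x ≠ ⟨u, huL⟩ := by
    rintro rfl
    exact tFacts.ne _ (hC.bij.1 hx) hC.ext.mapz
  have htu : (x : G) ≠ u := fun h => hxu (Subtype.ext h)
  have hut : (x : G) * u = u * x := H.le _ x.2
  by_cases hiso : ∀ m : G, m * x = x * m → u * (m * u * m⁻¹) = (m * u * m⁻¹) * u →
      m * u * m⁻¹ = u
  · -- `u` is central in the centraliser of `x`
    have hcore : pPrimeCore 2 (Subgroup.centralizer ({(x : G)} : Set G)) = ⊥ := by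
      have h1 := hO (x : G) (orderOf_eq_prime (by rw [pow_two, htt]) ht1)
      rw [centralizerPPrimeCore] at h1
      exact (Subgroup.map_eq_bot_iff_of_injective _ (Subgroup.subtype_injective _)).1 h1
    have hum : u ∈ Subgroup.centralizer ({(x : G)} : Set G) :=
      Subgroup.mem_centralizer_singleton_iff.2 hut.symm
    have h1 := central_of_isolated hcore (t := ⟨u, hum⟩) (Subtype.ext H.uu)
      (fun h => H.une (congrArg Subtype.val h)) (by
        intro g hg
        apply Subtype.ext
        exact hiso g (Subgroup.mem_centralizer_singleton_iff.1 g.2) (congrArg Subtype.val hg))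
      ⟨y, Subgroup.mem_centralizer_singleton_iff.2 hy⟩
    exact hcent y (congrArg Subtype.val h1) x hx hy
  · exfalso
    push Not at hiso
    obtain ⟨m, hm1, hm2, hm3⟩ := hiso
    -- the quotient by `x`
    set M := Subgroup.centralizer ({(x : G)} : Set G) with hM
    have mM : ∀ {g : G}, g * x = x * g → g ∈ M := fun h =>
      Subgroup.mem_centralizer_singleton_iff.2 h
    have Mm : ∀ g : M, (g : G) * x = x * g := fun g =>
      Subgroup.mem_centralizer_singleton_iff.1 g.2
    set tM : M := ⟨x, mM rfl⟩ with htM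
    have htM2 : tM * tM = 1 := Subtype.ext htt
    have hcen : ∀ g : M, g * tM = tM * g := fun g => Subtype.ext (Mm g)
    have hZn : (Subgroup.zpowers tM).Normal := by
      refine ⟨fun n hn g => ?_⟩
      rw [mem_zpowers_iff htM2] at hn ⊢
      rcases hn with rfl | rfl
      · left; group
      · right; rw [hcen, mul_inv_cancel_right]
    set q := QuotientGroup.mk' (Subgroup.zpowers tM) with hq
    have hq1 : ∀ g : M, q g = 1 ↔ g = 1 ∨ g = tM := by
      intro g
      rw [hq, QuotientGroup.mk'_apply, QuotientGroup.eq_one_iff, mem_zpowers_iff htM2]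
    have hqs : Function.Surjective q := QuotientGroup.mk'_surjective _
    have hqe : ∀ a b : M, q a = q b ↔ a = b ∨ a = b * tM := by
      intro a b
      rw [← inv_mul_eq_one, ← map_inv, ← map_mul, hq1]
      constructor
      · rintro (h | h)
        · left; rw [inv_mul_eq_one] at h; exact h
        · right
          have h2 : a * tM = b := by rw [← h, mul_inv_cancel_left]
          rw [← h2, mul_assoc, htM2, mul_one]
      · rintro (h | h)
        · left; rw [h, inv_mul_cancel]
        · right
          rw [h, mul_inv_rev, inv_mul_cancel_right, inv_eq_of_mul_eq_one_left htM2]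
    set uM : M := ⟨u, mM hut.symm⟩ with huM
    have huM2 : uM * uM = 1 := Subtype.ext H.uu
    set d := q uM with hd
    have hdd : d * d = 1 := by rw [hd, ← map_mul, huM2, map_one]
    have hd1 : d ≠ 1 := by
      intro h
      rcases (hq1 uM).1 h with h | h
      · exact H.une (congrArg Subtype.val h)
      · exact htu (congrArg Subtype.val h).symm
    -- no element of `M` maps `u` to `u x`
    have hno : ∀ g : M, (g : G) * u ≠ u * g * x := by
      intro g hg
      apply (hns x hx g).2
      calc (g : G) * u * (g : G)⁻¹ = u * (g * x) * (g : G)⁻¹ := by rw [hg]; group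
        _ = u * x := by rw [Mm g]; group
    have hcd : ∀ g : M, q g * d = d * q g → (g : G) * u = u * g := by
      intro g hg
      rw [hd, ← map_mul, ← map_mul, hqe] at hg
      rcases hg with hg | hg
      · exact congrArg Subtype.val hg
      · exact absurd (congrArg Subtype.val hg) (hno g)
    set K := Subgroup.centralizer ({x} : Set L) with hK
    have Kx : ∀ k : K, (k : L) * x = x * k := fun k =>
      Subgroup.mem_centralizer_singleton_iff.1 k.2
    have Ku : ∀ k : K, ((k : L) : G) * u = u * k := fun k => H.le _ (k : L).2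
    let j : K →* M :=
      { toFun := fun k => ⟨((k : L) : G), mM (congrArg Subtype.val (Kx k))⟩
        map_one' := rfl
        map_mul' := fun _ _ => rfl }
    have hjcom : ∀ k : K, j k * uM = uM * j k := fun k => Subtype.ext (Ku k)
    let ψ : K →* Subgroup.centralizer ({d} : Set (M ⧸ Subgroup.zpowers tM)) :=
      { toFun := fun k => ⟨q (j k), by
          rw [Subgroup.mem_centralizer_singleton_iff, hd, ← map_mul, ← map_mul, hjcom]⟩
        map_one' := Subtype.ext (by show q (j 1) = 1; rw [map_one, map_one])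
        map_mul' := fun a b => Subtype.ext (by
          show q (j (a * b)) = q (j a) * q (j b)
          rw [map_mul, map_mul]) }
    have hjk : ∀ (k : K) (g : M) (l : L), (g : G) = (l : G) → (j k = g ↔ (k : L) = l) := by
      intro k g l hgl
      constructor
      · intro h
        apply Subtype.ext
        rw [← hgl, ← h]
        rfl
      · intro h
        apply Subtype.ext
        rw [hgl, ← h]
        rfl
    have hψs : Function.Surjective ψ := by
      rintro ⟨c, hc⟩
      obtain ⟨g, rfl⟩ := hqs c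
      have h1 := hcd g (Subgroup.mem_centralizer_singleton_iff.1 hc)
      have h2 : (g : G) ∈ L := hcent g h1 x hx (Mm g)
      refine ⟨⟨⟨g, h2⟩, Subgroup.mem_centralizer_singleton_iff.2 (Subtype.ext (Mm g))⟩, ?_⟩
      exact Subtype.ext rfl
    obtain ⟨π0, lift, Lb, -⟩ := Fi22Facts.loc (φ x) (hC.bij.1 hx)
    set θ : K →* PSU 6 SporRec.GF4.F4 2 := π0.comp (KPerf.centHom φ x) with hθ
    have hθs : Function.Surjective θ := Lb.ext.surj.comp (KPerf.centHom_surj hC hx)
    have hθ1 : ∀ k : K, θ k = 1 ↔ φ (k : L) = 1 ∨ φ (k : L) = φ x := by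
      intro k
      show π0 (KPerf.centHom φ x k) = 1 ↔ _
      rw [Lb.ext.ker]
      constructor
      · rintro (h | h)
        · exact Or.inl (congrArg Subtype.val h)
        · exact Or.inr (congrArg Subtype.val h)
      · rintro (h | h)
        · exact Or.inl (Subtype.ext h)
        · exact Or.inr (Subtype.ext h)
    have hψ1 : ∀ k : K, ψ k = 1 ↔ (k : L) = 1 ∨ (k : L) = x := by
      intro k
      rw [← hjk k 1 1 rfl, ← hjk k tM x rfl, ← hq1]
      exact ⟨fun h => congrArg Subtype.val h, fun h => Subtype.ext h⟩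
    have hle : ψ.ker ≤ θ.ker := by
      intro k hk
      rw [MonoidHom.mem_ker, hψ1] at hk
      rw [MonoidHom.mem_ker, hθ1]
      rcases hk with hk | hk
      · left; rw [hk, map_one]
      · right; rw [hk]
    set ρ := ψ.liftOfSurjective hψs ⟨θ, hle⟩ with hρ
    have hρψ : ∀ k : K, ρ (ψ k) = θ k := fun k =>
      MonoidHom.liftOfRightInverse_comp_apply _ _ _ _ k
    have hρs : Function.Surjective ρ := by
      intro b
      obtain ⟨k, rfl⟩ := hθs b
      exact ⟨ψ k, hρψ k⟩
    have hρ1 : ∀ c, ρ c = 1 ↔ c = 1 ∨ (c : M ⧸ Subgroup.zpowers tM) = d := by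
      intro c
      obtain ⟨k, rfl⟩ := hψs c
      rw [hρψ, hθ1, hψ1]
      have h1 : ((ψ k : Subgroup.centralizer ({d} : Set (M ⧸ Subgroup.zpowers tM))) :
          M ⧸ Subgroup.zpowers tM) = d ↔ (k : L) = ⟨u, huL⟩ ∨ (k : L) = ⟨u, huL⟩ * x := by
        show q (j k) = q uM ↔ _
        rw [hqe, hjk k uM ⟨u, huL⟩ rfl, hjk k (uM * tM) (⟨u, huL⟩ * x) rfl]
      rw [h1, hC.ext.ker, hC.ext.map_eq, hC.ext.comm x]
      tauto
    have hKp : commutator K = ⊤ := KPerf.perf hC hx
    have hperfd := perf_of_surj ψ hψs hKp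
    obtain ⟨e0⟩ := fi22_of (K := SporRec.GF4.F4) Unit22.hF hdd hd1 hperfd ρ hρs hρ1
      ⟨q ⟨m, mM hm1⟩, by
        have h2 : (⟨m, mM hm1⟩ : M) * uM * (⟨m, mM hm1⟩ : M)⁻¹ * uM =
            uM * ((⟨m, mM hm1⟩ : M) * uM * (⟨m, mM hm1⟩ : M)⁻¹) := Subtype.ext hm2.symm
        rw [hd, ← map_inv, ← map_mul, ← map_mul, ← map_mul, ← map_mul, h2], by
        intro h
        rw [hd, ← map_inv, ← map_mul, ← map_mul, hqe] at h
        rcases h with h | h
        · exact hm3 (congrArg Subtype.val h)
        · exact (hns x hx m).2 (congrArg Subtype.val h)⟩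
    -- the centraliser of `x` is a perfect double cover of `Fi22`
    set ρM : M →* Spor.Fi22 := e0.toMonoidHom.comp q with hρM
    have hρMs : Function.Surjective ρM := e0.surjective.comp hqs
    have hρM1 : ∀ g : M, ρM g = 1 ↔ g = 1 ∨ (g : G) = x := by
      intro g
      show e0 (q g) = 1 ↔ _
      rw [map_eq_one_iff e0 e0.injective, hq1]
      constructor
      · rintro (h | h)
        · exact Or.inl h
        · exact Or.inr (congrArg Subtype.val h)
      · rintro (h | h)
        · exact Or.inl h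
        · exact Or.inr (Subtype.ext h)
    have htc : tM ∈ commutator M := by
      have h1 : Subgroup.map j (commutator K) ≤ commutator M := by
        rw [commutator_def, commutator_def, Subgroup.map_commutator]
        exact Subgroup.commutator_mono le_top le_top
      have hxK : x ∈ K := Subgroup.mem_centralizer_singleton_iff.2 rfl
      have h2 : (⟨x, hxK⟩ : K) ∈ commutator K := by rw [hKp]; trivial
      exact h1 ⟨_, h2, rfl⟩
    have hMp : commutator M = ⊤ := by
      rw [eq_top_iff]
      intro g _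
      have h1 : ρM g ∈ commutator Spor.Fi22 := by rw [AutT.perf]; trivial
      have h2 : commutator Spor.Fi22 ≤ Subgroup.map ρM (commutator M) := by
        rw [commutator_def, commutator_def, Subgroup.map_commutator,
          Subgroup.map_top_of_surjective ρM hρMs]
      obtain ⟨g', hg', hgg⟩ := h2 h1
      have h3 : ρM (g * g'⁻¹) = 1 := by rw [map_mul, map_inv, hgg, mul_inv_cancel]
      have h4 : g * g'⁻¹ ∈ commutator M := by
        rcases (hρM1 _).1 h3 with h5 | h5
        · rw [h5]; exact one_mem _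
        · have h6 : g * g'⁻¹ = tM := Subtype.ext h5
          rw [h6]; exact htc
      have h5 : g = (g * g'⁻¹) * g' := by group
      rw [h5]
      exact mul_mem h4 hg'
    obtain ⟨x', hx', hxx', hcx'⟩ := exists_comm hC hx
    obtain ⟨c, hc⟩ := hC.trans hx hx'
    have hcG : (c : G) * x * (c : G)⁻¹ = x' := congrArg Subtype.val hc
    obtain ⟨e1⟩ := fi23_of hS htt ht1 hMp ρM hρMs hρM1 ⟨c, by
      rw [hcG]; exact congrArg Subtype.val hcx', by
      rw [hcG]; exact fun h => hxx' (Subtype.ext h)⟩
    -- the orders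
    have h1 : Nat.card G = 4089470473293004800 := by
      rw [Nat.card_congr e1.toEquiv]
      exact Cfsg.Agent.S1697.result.2
    have h2 := card_cent H huL
    have h3 : Nat.card (Subgroup.centralizer ({u} : Set G)) ∣ Nat.card G :=
      Subgroup.card_subgroup_dvd_card _
    rw [h1, h2, Fi22Facts.card] at h3
    norm_num at h3

end Cfsg.Agent.R08.FusOne
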