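import Mathlib
import Cfsg.Prelude.Def_Classical
import Cfsg.Agent.LieClassical.HermPerfect

/-!
# R08 (S1715): `M / Q` has no subgroup of index two (helper885)

The hypothesis `even` of `TwoSys.sysOf` from the hypotheses of S1715.
-/

set_option autoImplicit false

namespace Cfsg.Agent.R08.EvenOf

open Cfsg

theorem hom_trivial {A P : Type*} [CommGroup A] [Group P] (hp : commutator P = ⊤) (f : P →* A)
    (x : P) : f x = 1 := by
  have h := Abelianization.commutator_subset_ker f
  rw [hp] at h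
  exact h (Subgroup.mem_top x)

theorem psu_trivial {A : Type*} [CommGroup A] {K : Type*} [Field K] [Fintype K]
    (hK : Fintype.card K = 9) (f : PSU 4 K 3 →* A) (x : PSU 4 K 3) : f x = 1 := by
  obtain ⟨y, rfl⟩ := QuotientGroup.mk_surjective x
  have hp : commutator (SU 4 K 3) = ⊤ :=
    Cfsg.Agent.LieClassical.HermPerfect.commutator_SU_eq_top (by rw [hK]; norm_num) (by norm_num)
      (by norm_num)
  exact hom_trivial hp (f.comp (QuotientGroup.mk' _)) y

theorem even {C : Type*} [Group C] [Finite C] (Q N M : Subgroup C) [Q.Normal] [N.Normal]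
    (hQN : Q ≤ N) (hNM : N ≤ M) (hN : Nat.card N = 3 * Nat.card Q) (K : Type*) [Field K]
    [Fintype K] (hK : Fintype.card K = 9) (e : M ⧸ N.subgroupOf M ≃* PSU 4 K 3)
    (f : M →* ℤˣ) (hf : ∀ m : M, (m : C) ∈ Q → f m = 1) (m : M) : f m = 1 := by
  have hidx : (Q.subgroupOf N).index = 3 := by
    have h1 := Subgroup.card_mul_index (Q.subgroupOf N)
    have h2 : Nat.card (Q.subgroupOf N) = Nat.card Q :=
      Nat.card_congr (Subgroup.subgroupOfEquivOfLe hQN).toEquiv
    rw [h2, hN, mul_comm 3] at h1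
    exact Nat.eq_of_mul_eq_mul_left Nat.card_pos h1
  have h3 : ∀ n ∈ N, n ^ 3 ∈ Q := by
    intro n hn
    have h := Subgroup.pow_index_mem (Q.subgroupOf N) (⟨n, hn⟩ : N)
    rw [hidx, Subgroup.mem_subgroupOf] at h
    exact h
  have hker : N.subgroupOf M ≤ f.ker := by
    intro n hn
    rw [Subgroup.mem_subgroupOf] at hn
    rw [MonoidHom.mem_ker]
    have h1 : f n ^ 3 = 1 := by
      rw [← map_pow]
      exact hf _ (h3 _ hn)
    have h2 : f n ^ 2 = 1 := Int.units_sq (f n)
    rw [pow_succ, h2, one_mul] at h1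
    exact h1
  let g : M ⧸ N.subgroupOf M →* ℤˣ := QuotientGroup.lift _ f hker
  have h4 := psu_trivial hK (g.comp e.symm.toMonoidHom) (e (QuotientGroup.mk m))
  have h5 : g (e.symm (e (QuotientGroup.mk m))) = 1 := h4
  rw [e.symm_apply_apply] at h5
  exact h5

/-- the form for the image in `G` -/
theorem even_map {G : Type*} [Group G] {C : Subgroup G} [Finite C] (Q N M : Subgroup C) [Q.Normal]
    [N.Normal] (hQN : Q ≤ N) (hNM : N ≤ M) (hN : Nat.card N = 3 * Nat.card Q) (K : Type*)
    [Field K] [Fintype K] (hK : Fintype.card K = 9) (e : M ⧸ N.subgroupOf M ≃* PSU 4 K 3)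
    (f : M.map C.subtype →* ℤˣ)
    (hf : ∀ m : M.map C.subtype, (m : G) ∈ Q.map C.subtype → f m = 1) (m : M.map C.subtype) :
    f m = 1 := by
  let φ : M ≃* M.map C.subtype := M.equivMapOfInjective C.subtype C.subtype_injective
  have hφ : ∀ x : M, ((φ x : M.map C.subtype) : G) = ((x : C) : G) := fun x => rfl
  have h := even Q N M hQN hNM hN K hK e (f.comp φ.toMonoidHom) (fun x hx => by
    apply hf
    show ((φ x : M.map C.subtype) : G) ∈ _
    rw [hφ]
    exact ⟨(x : C), hx, rfl⟩) (φ.symm m)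
  have h5 : f (φ (φ.symm m)) = 1 := h
  rw [φ.apply_symm_apply] at h5
  exact h5

end Cfsg.Agent.R08.EvenOf
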