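import Cfsg.Agent.R08.SevenOut
import Cfsg.Agent.R08.FrameA
import Cfsg.Agent.R08.ModLab
import Cfsg.Agent.R08.EvenOf
import Cfsg.Prelude.Def_Spor_Fi24

/-!
# S1715 from Theorem X (helper398)

`X0`: the core of Theorem X (with coherence) as a proposition; `assembly`: S1715 from `X0`.
-/

set_option autoImplicit false
set_option linter.unusedSectionVars false

namespace Cfsg.Agent.R08.Assembly15

open Cfsg Cfsg.Agent.SporRec.GF4 Cfsg.Agent.R08 Cfsg.Agent.R08.Iface Cfsg.Agent.R08.SixIn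
open Cfsg.Agent.R08.SevenCtx Cfsg.Agent.R08.SevenFin

universe u

/-- The core of Theorem X. -/
def X0 : Prop := ∀ (G : Type u) [Group G] [Finite G] (u : G), orderOf u = 2 →
  ∀ (L : Subgroup (Subgroup.centralizer ({u} : Set G))), L.index = 2 → commutator L = ⊤ →
  ∀ (φ : L →* Spor.Fi22), Function.Surjective φ →
    (∀ l : L, φ l = 1 ↔ l = 1 ∨ ((l : Subgroup.centralizer ({u} : Set G)) : G) = u) →
    (∀ c : Subgroup.centralizer ({u} : Set G), (∀ l ∈ L, c * l = l * c) → c = 1 ∨ (c : G) = u) →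
    ∀ r : L, φ r ∈ Cfsg.Agent.R01.Fi22Facts.T →
    ∀ n : G, n * u * n⁻¹ = ((r : Subgroup.centralizer ({u} : Set G)) : G) →
      n * ((r : Subgroup.centralizer ({u} : Set G)) : G) * n⁻¹ = u →
      (∀ x : L, IsConj r x → x ≠ r → Commute x r →
        ∃ y : L, IsConj r y ∧ ((y : Subgroup.centralizer ({u} : Set G)) : G) =
          n * ((x : Subgroup.centralizer ({u} : Set G)) : G) * n⁻¹) →
      ∃ H : Subgroup G, Subgroup.centralizer ({u} : Set G) ≤ H ∧ Spor.IsoFi24' H ∧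
        ∀ l : L, φ l ∈ Cfsg.Agent.R01.Fi22Facts.T →
          ∃ g ∈ H, g * u * g⁻¹ = ((l : Subgroup.centralizer ({u} : Set G)) : G)

/-- **S1715 from the core of Theorem X**. -/
theorem assembly (hX : X0.{u}) {G : Type u} [Group G] [Finite G] (z : G) (hz : orderOf z = 2)
    (Q N M : Subgroup (Subgroup.centralizer ({z} : Set G))) [Q.Normal] [N.Normal] [M.Normal]
    (hF : Cfsg.generalizedFittingSubgroup (Subgroup.centralizer ({z} : Set G)) = Q)
    (hQ : Cfsg.IsExtraspecial 2 Q) (hcard : Nat.card Q = 2 ^ 13) (hQN : Q ≤ N) (hNM : N ≤ M)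
    (hN : Nat.card N = 3 * Nat.card Q) (K : Type) [Field K] [Fintype K]
    (hK : Fintype.card K = 9) (e : M ⧸ N.subgroupOf M ≃* Cfsg.PSU 4 K 3) (hM : M.index = 2)
    (hnwc : ∃ g : G, (∃ hq : g * z * g⁻¹ ∈ Subgroup.centralizer ({z} : Set G),
      (⟨g * z * g⁻¹, hq⟩ : Subgroup.centralizer ({z} : Set G)) ∈ Q) ∧ g * z * g⁻¹ ≠ z) :
    Cfsg.Spor.IsoFi24' G := by
  obtain ⟨h, ⟨fd⟩⟩ := FrameA.exists_frameData z hz Q N M hF hQ hcard hQN hNM hN K hK e F4
    F4.card_F4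
  obtain ⟨L⟩ := ModLab.exists_lab (by rw [Nat.card_eq_fintype_card, F4.card_F4]) fd
    inferInstance inferInstance hM (fun c hc => hNM (hQN (by
      obtain ⟨x, hx, hxe⟩ := hc
      have h1 : x = c := Subtype.ext hxe
      rwa [← h1])))
  have hnwc' : ∃ g : G, g * z * g⁻¹ ∈ Q.map (Subgroup.centralizer ({z} : Set G)).subtype ∧
      g * z * g⁻¹ ≠ z := by
    obtain ⟨g, ⟨hq, h1⟩, h2⟩ := hnwc
    exact ⟨g, ⟨_, h1, rfl⟩, h2⟩
  have even := fun f hf m => EvenOf.even_map Q N M hQN hNM hN K hK e f hf m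
  obtain ⟨L, I⟩ := SevenOut.exists_in L hnwc' even
  obtain ⟨t, r, hc, L', r', n, hC, hr', hnz, hn1, hn2, hcoh⟩ :=
    SevenOut.exists_out L hnwc' even I
  obtain ⟨φ, hφs, hφk, hφr⟩ := hC.phi
  have ht : orderOf t = 2 := orderOf_eq_prime (by rw [pow_two]; exact hc.tt) hc.t1
  obtain ⟨H, hH1, hH2, hH3⟩ := hX G t ht L' hC.index hC.perf φ hφs hφk
    (fun c hcc => (hC.hcent c).1 (fun l hl => (hcc l hl).symm)) r' (hφr r' hr') n
    (by rw [hr', hn1]) (by rw [hr', hn2]) hcoh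
  -- `r` and `t r`
  have hr : ∃ k ∈ H, k * t * k⁻¹ = r := by
    obtain ⟨g, hg, hgr⟩ := hH3 r' (hφr r' hr')
    exact ⟨g, hg, by rw [hgr, hr']⟩
  have htL : (⟨t, Subgroup.mem_centralizer_singleton_iff.2 rfl⟩ :
      Subgroup.centralizer ({t} : Set G)) ∈ L' := hC.cent_le _ hc.tr
  have htr : ∃ k ∈ H, k * t * k⁻¹ = t * r := by
    let t' : L' := ⟨⟨t, Subgroup.mem_centralizer_singleton_iff.2 rfl⟩, htL⟩
    have h1 : φ t' = 1 := (hφk t').2 (Or.inr rfl)
    obtain ⟨g, hg, hgr⟩ := hH3 (t' * r') (by rw [map_mul, h1, one_mul]; exact hφr r' hr')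
    refine ⟨g, hg, ?_⟩
    rw [hgr]
    show t * ((r' : Subgroup.centralizer ({t} : Set G)) : G) = t * r
    rw [hr']
  have htop := SevenOut.close L hnwc' even I hc H hH1 hr htr
  subst htop
  obtain ⟨f⟩ := hH2
  exact ⟨Subgroup.topEquiv.symm.trans f⟩

end Cfsg.Agent.R08.Assembly15
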