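import Mathlib
import Cfsg.Agent.Lib.ClosingTI

/-!
# R08 (S1715), piece (8): the closing argument, abstract part (helper932)

* `eq_top`: a subgroup `H` containing the centralisers of two non-conjugate involutions `z`, `t`, all of whose
  involutions are `H`-conjugate to `z` or `t`, is the whole group.
* `fus_of_cent`: the fusion hypothesis has to be checked only for the involutions of `C_G(z)`, if this group
  contains a Sylow 2-subgroup of `G`.
-/

set_option autoImplicit false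

namespace Cfsg.Agent.R08.CloseAbs

variable {G : Type*} [Group G]

theorem centralizer_conj_le {H : Subgroup G} {z v g : G} (hg : g ∈ H)
    (hC : Subgroup.centralizer ({z} : Set G) ≤ H) (hv : g * v * g⁻¹ = z) :
    Subgroup.centralizer ({v} : Set G) ≤ H := by
  intro c hc
  rw [Subgroup.mem_centralizer_singleton_iff] at hc
  have h1 : g * c * g⁻¹ ∈ H := by
    apply hC
    rw [Subgroup.mem_centralizer_singleton_iff, ← hv]
    calc g * c * g⁻¹ * (g * v * g⁻¹) = g * (c * v) * g⁻¹ := by group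
      _ = g * (v * c) * g⁻¹ := by rw [hc]
      _ = g * v * g⁻¹ * (g * c * g⁻¹) := by group
  have h2 := H.mul_mem (H.mul_mem (H.inv_mem hg) h1) hg
  have h3 : g⁻¹ * (g * c * g⁻¹) * g = c := by group
  rwa [h3] at h2

/-- The closing theorem. -/
theorem eq_top [Finite G] (H : Subgroup G) {z t : G} (hz1 : z ≠ 1) (hz : z * z = 1) (ht1 : t ≠ 1)
    (ht : t * t = 1) (hCz : Subgroup.centralizer ({z} : Set G) ≤ H)
    (hCt : Subgroup.centralizer ({t} : Set G) ≤ H) (hnc : ¬ IsConj z t)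
    (hfus : ∀ v ∈ H, v ≠ 1 → v * v = 1 → ∃ g ∈ H, g * v * g⁻¹ = z ∨ g * v * g⁻¹ = t) :
    H = ⊤ := by
  have hzH : z ∈ H := hCz (Subgroup.mem_centralizer_singleton_iff.2 rfl)
  have htH : t ∈ H := hCt (Subgroup.mem_centralizer_singleton_iff.2 rfl)
  have hall : ∀ j : G, j * j = 1 → j ∈ H := by
    intro j hj
    refine Cfsg.Agent.Lib.ClosingTI.all_involutions H ?_ z t hzH hz1 hz htH ht1 ht hnc j hj
    intro i hi hi1 hi2 g hg
    obtain ⟨k, hk, hkv⟩ := hfus i hi hi1 hi2
    have hgc : g ∈ Subgroup.centralizer ({i} : Set G) := by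
      rw [Subgroup.mem_centralizer_singleton_iff]
      calc g * i = (g * i * g⁻¹) * g := by group
        _ = i * g := by rw [hg]
    rcases hkv with h | h
    · exact centralizer_conj_le hk hCz h hgc
    · exact centralizer_conj_le hk hCt h hgc
  rw [eq_top_iff]
  intro g _
  have hv2 : (g * t * g⁻¹) * (g * t * g⁻¹) = 1 := by
    calc (g * t * g⁻¹) * (g * t * g⁻¹) = g * (t * t) * g⁻¹ := by group
      _ = 1 := by rw [ht, mul_one, mul_inv_cancel]
  have hv1 : g * t * g⁻¹ ≠ 1 := by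
    intro h
    apply ht1
    have : g⁻¹ * (g * t * g⁻¹) * g = g⁻¹ * 1 * g := by rw [h]
    simpa [mul_assoc] using this
  obtain ⟨k, hk, hkv⟩ := hfus _ (hall _ hv2) hv1 hv2
  rcases hkv with h | h
  · exfalso
    apply hnc
    rw [isConj_iff]
    refine ⟨(k * g)⁻¹, ?_⟩
    rw [← h]
    group
  · have h1 : k * g ∈ H := by
      apply hCt
      rw [Subgroup.mem_centralizer_singleton_iff]
      calc k * g * t = (k * (g * t * g⁻¹) * k⁻¹) * (k * g) := by group
        _ = t * (k * g) := by rw [h]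
    have h2 := H.mul_mem (H.inv_mem hk) h1
    rwa [inv_mul_cancel_left] at h2

/-- Every involution of `H` is `H`-conjugate into a Sylow 2-subgroup of `G` contained in `H`. -/
theorem exists_conj_mem [Finite G] (H : Subgroup G) (S : Sylow 2 G) (hSH : (S : Subgroup G) ≤ H)
    {v : G} (hv : v ∈ H) (hv2 : v * v = 1) : ∃ g ∈ H, g * v * g⁻¹ ∈ (S : Subgroup G) := by
  classical
  let S' : Sylow 2 H := S.subtype hSH
  let v' : H := ⟨v, hv⟩
  have hp : IsPGroup 2 (Subgroup.zpowers v') := by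
    refine IsPGroup.of_card (n := if v' = 1 then 0 else 1) ?_
    rw [Nat.card_zpowers]
    have hv'2 : v' * v' = 1 := Subtype.ext hv2
    by_cases h1 : v' = 1
    · simp [h1]
    · rw [if_neg h1, pow_one]
      exact orderOf_eq_prime (by rw [pow_two]; exact hv'2) h1
  obtain ⟨T, hT⟩ := hp.exists_le_sylow
  obtain ⟨g, hg⟩ := MulAction.exists_smul_eq H T S'
  refine ⟨(g : G), g.2, ?_⟩
  have h1 : v' ∈ (T : Subgroup H) := hT (Subgroup.mem_zpowers v')
  have h2 : g * v' * g⁻¹ ∈ (S' : Subgroup H) := by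
    rw [← hg]
    exact Subgroup.mem_map.2 ⟨v', h1, rfl⟩
  exact h2

theorem fus_of_cent [Finite G] (H : Subgroup G) {z t : G}
    (hCz : Subgroup.centralizer ({z} : Set G) ≤ H)
    (S : Sylow 2 G) (hS : (S : Subgroup G) ≤ Subgroup.centralizer ({z} : Set G))
    (hC : ∀ v ∈ Subgroup.centralizer ({z} : Set G), v ≠ 1 → v * v = 1 →
      ∃ g ∈ H, g * v * g⁻¹ = z ∨ g * v * g⁻¹ = t) :
    ∀ v ∈ H, v ≠ 1 → v * v = 1 → ∃ g ∈ H, g * v * g⁻¹ = z ∨ g * v * g⁻¹ = t := by
  intro v hv hv1 hv2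
  obtain ⟨g, hg, hgS⟩ := exists_conj_mem H S (hS.trans hCz) hv hv2
  have h2 : (g * v * g⁻¹) * (g * v * g⁻¹) = 1 := by
    calc (g * v * g⁻¹) * (g * v * g⁻¹) = g * (v * v) * g⁻¹ := by group
      _ = 1 := by rw [hv2, mul_one, mul_inv_cancel]
  have h1 : g * v * g⁻¹ ≠ 1 := by
    intro h
    apply hv1
    have : g⁻¹ * (g * v * g⁻¹) * g = g⁻¹ * 1 * g := by rw [h]
    simpa [mul_assoc] using this
  obtain ⟨k, hk, hkv⟩ := hC _ (hS hgS) h1 h2
  have e : k * g * v * (k * g)⁻¹ = k * (g * v * g⁻¹) * k⁻¹ := by group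
  exact ⟨k * g, H.mul_mem hk hg, by rw [e]; exact hkv⟩

end Cfsg.Agent.R08.CloseAbs
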