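import Cfsg.Agent.R08.CloseAbs
import Cfsg.Agent.R08.Iface

/-!
# R08 (S1715), piece (8): the closing argument in the language of `Lab` (helper932)

`K` is a subgroup containing `C_G(t)`, `t ∈ Q` with label in `R`.
* `Geo L`: the transitivity facts on the 126 points of `R` which are needed;
* `cent_le`: `C_G(z) ≤ K`;
* `mem_of_conj`: if `z ^ g ∈ Q` then `g ∈ K`;
* `fus`: every involution of `C_G(z)` is `K`-conjugate to `z` or `t`;
* `eq_top`: `K = G`.
-/

set_option autoImplicit false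

namespace Cfsg.Agent.R08.CloseLab

open Cfsg.Agent.R08.Iface

variable {F : Type*} [Field F] {G : Type*} [Group G] {Q M : Subgroup G} {z : G}

/-- Facts about the action of `M` on the points of `R`. -/
structure Geo (L : Lab F Q M z) : Prop where
  orth : ∀ r r1 r2 : Fin 6 → F, IsR r → IsR r1 → IsR r2 → H r1 r = 0 → H r2 r = 0 →
    (∀ a : F, r1 ≠ a • r) → (∀ a : F, r2 ≠ a • r) →
    ∃ m ∈ M, ∃ a b : F, L.ρ m r = a • r ∧ L.ρ m r1 = b • r2
  swap : ∀ r r1 : Fin 6 → F, IsR r → IsR r1 → H r1 r = 0 → (∀ a : F, r1 ≠ a • r) →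
    ∃ m ∈ M, ∃ a b : F, L.ρ m r = a • r1 ∧ L.ρ m r1 = b • r
  conn : ∀ r w : Fin 6 → F, IsR r → IsR w → H w r ≠ 0 →
    ∃ w1 : Fin 6 → F, IsR w1 ∧ H w1 r = 0 ∧ H w1 w = 0

theorem isR_ne_zero {w : Fin 6 → F} (hw : IsR w) : w ≠ 0 := by
  rintro rfl
  have h0 : wt (0 : Fin 6 → F) = 0 := by simp [wt]
  rcases hw with h | h
  · omega
  · omega

section Basic

variable (L : Lab F Q M z)
include L

/-- conjugating by an element of `Q` multiplies a non-commuting element by `z`. -/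
theorem exists_conj_z {x : G} (hx : x ∈ Q) (hv : L.v x ≠ 0) : ∃ q ∈ Q, q * x * q⁻¹ = x * z := by
  by_contra hcon
  push Not at hcon
  have hc : ∀ q ∈ Q, q * x = x * q := by
    intro q hq
    rcases L.large.comm q hq x hx with h | h
    · exact h
    · exfalso
      apply hcon q hq
      rw [h, mul_assoc _ z, ← (L.large.commz hq).inv_left.eq]
      group
  apply hv
  rw [L.v_eq_zero x hx]
  exact L.large.cent x hx fun y hy => (hc y hy).symm

/-- Two elements of `Q` with the same nonzero label are `Q`-conjugate. -/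
theorem exists_conj_of_v_eq {x y : G} (hx : x ∈ Q) (hy : y ∈ Q) (hv : L.v x ≠ 0)
    (h : L.v y = L.v x) : ∃ q ∈ Q, q * x * q⁻¹ = y := by
  rcases (L.v_eq hy hx).1 h with h1 | h1
  · exact ⟨1, Q.one_mem, by rw [h1]; group⟩
  · obtain ⟨q, hq, h2⟩ := exists_conj_z L hx hv
    exact ⟨q, hq, by rw [h2, h1]⟩

/-- If some element of `C_G(z)` moves the label of `x` to the label of `y`, then some
element of `C_G(z)` (the same modulo `Q`) conjugates `x` to `y`. -/
theorem exists_conj_of_ρ {x y c : G} (hx : x ∈ Q) (hy : y ∈ Q) (hv : L.v y ≠ 0)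
    (hc : c * z = z * c) (h : L.ρ c (L.v x) = L.v y) :
    ∃ q ∈ Q, (q * c) * x * (q * c)⁻¹ = y := by
  have h1 := L.v_conj c hc x hx
  rw [h] at h1
  obtain ⟨q, hq, h2⟩ := exists_conj_of_v_eq L (L.ρ_surj_aux hc hx) hy (by rw [h1]; exact hv) h1.symm
  refine ⟨q, hq, ?_⟩
  rw [← h2]
  group

end Basic

section Form

variable (L : Lab F Q M z)
include L

theorem pow_four (a : F) : a ^ 4 = a := by
  have hfin : Finite F := Nat.finite_of_card_ne_zero (by rw [L.card]; norm_num)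
  have : Fintype F := Fintype.ofFinite F
  have h4 : Fintype.card F = 4 := by rw [← Nat.card_eq_fintype_card]; exact L.card
  rw [← h4]; exact FiniteField.pow_card a

theorem pow_three {a : F} (ha : a ≠ 0) : a ^ 3 = 1 := by
  have h := pow_four L a
  have : a * a ^ 3 = a * 1 := by rw [mul_one, ← pow_succ']; exact h
  exact mul_left_cancel₀ ha this

theorem sq_add (a b : F) : (a + b) ^ 2 = a ^ 2 + b ^ 2 := by
  have : (a + b) ^ 2 = a ^ 2 + b ^ 2 + 2 * (a * b) := by ring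
  rw [this, L.char_two, zero_mul, add_zero]

omit [Group G] L in
theorem H_add_left (u u' w : Fin 6 → F) : H (u + u') w = H u w + H u' w := by
  rw [H_def, H_def, H_def, ← Finset.sum_add_distrib]
  exact Finset.sum_congr rfl fun i _ => by rw [Pi.add_apply]; ring

omit [Group G] L in
theorem H_smul_left (a : F) (u w : Fin 6 → F) : H (a • u) w = a * H u w := by
  rw [H_def, H_def, Finset.mul_sum]
  exact Finset.sum_congr rfl fun i _ => by rw [Pi.smul_apply, smul_eq_mul]; ring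

theorem H_add_right (u w w' : Fin 6 → F) : H u (w + w') = H u w + H u w' := by
  rw [H_def, H_def, H_def, ← Finset.sum_add_distrib]
  exact Finset.sum_congr rfl fun i _ => by rw [Pi.add_apply, sq_add L]; ring

omit [Group G] L in
theorem H_smul_right (a : F) (u w : Fin 6 → F) : H u (a • w) = a ^ 2 * H u w := by
  rw [H_def, H_def, Finset.mul_sum]
  exact Finset.sum_congr rfl fun i _ => by rw [Pi.smul_apply, smul_eq_mul]; ring

theorem H_symm (u w : Fin 6 → F) : H w u = (H u w) ^ 2 := by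
  have hsum : ∀ (f : Fin 6 → F), (∑ i, f i) ^ 2 = ∑ i, (f i) ^ 2 := by
    intro f
    rw [Fin.sum_univ_six, Fin.sum_univ_six, sq_add L, sq_add L, sq_add L, sq_add L, sq_add L]
  rw [H_def, H_def, hsum]
  refine Finset.sum_congr rfl fun i _ => ?_
  rw [mul_pow, ← pow_mul, pow_four L]
  ring

theorem H_eq_zero_symm {u w : Fin 6 → F} (h : H u w = 0) : H w u = 0 := by
  rw [H_symm L, h, zero_pow two_ne_zero]

omit [Group G] L in
theorem tr_tr (r s w : Fin 6 → F) (h : H s r = 0) :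
    tr r (tr s w) = w + H w s • s + H w r • r := by
  unfold tr
  rw [H_add_left, H_smul_left, h, mul_zero, add_zero]

omit [Group G] L in
theorem exists_H (u : Fin 6 → F) (hu : u ≠ 0) (c : F) : ∃ w : Fin 6 → F, H w u = c := by
  obtain ⟨i, hi⟩ : ∃ i, u i ≠ 0 := by
    by_contra hh
    push Not at hh
    exact hu (funext hh)
  refine ⟨Pi.single i (c * ((u i) ^ 2)⁻¹), ?_⟩
  rw [H_def, Finset.sum_eq_single i]
  · rw [Pi.single_eq_same, mul_assoc, inv_mul_cancel₀ (pow_ne_zero 2 hi), mul_one]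
  · intro j _ hj
    rw [Pi.single_eq_of_ne hj, zero_mul]
  · intro hj; exact absurd (Finset.mem_univ i) hj

end Form

section Star

variable {K : Subgroup G} {t : G}

/-- the principle (★) -/
theorem mem_of_conj_t (hCt : Subgroup.centralizer ({t} : Set G) ≤ K) {c : G}
    (h : ∃ k ∈ K, k * t * k⁻¹ = c * t * c⁻¹) : c ∈ K := by
  obtain ⟨k, hk, h⟩ := h
  have h1 : k⁻¹ * c ∈ K := by
    apply hCt
    rw [Subgroup.mem_centralizer_singleton_iff]
    calc k⁻¹ * c * t = k⁻¹ * (c * t * c⁻¹) * c := by group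
      _ = k⁻¹ * (k * t * k⁻¹) * c := by rw [h]
      _ = t * (k⁻¹ * c) := by group
  have h2 := K.mul_mem hk h1
  rwa [mul_inv_cancel_left] at h2

end Star

/-- The hypotheses on `K`, `t`, `r`, `h` (with `V4 = ⟨t, r⟩`). -/
structure Hyp (L : Lab F Q M z) (K : Subgroup G) (t r : G) : Prop where
  tQ : t ∈ Q
  tR : IsR (L.v t)
  cent : Subgroup.centralizer ({t} : Set G) ≤ K
  rQ : r ∈ Q
  rv : ∃ a : F, L.v r = a • L.v t
  rv1 : L.v r ≠ L.v t
  rv0 : L.v r ≠ 0
  rK : ∃ k ∈ K, k * t * k⁻¹ = r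
  trK : ∃ k ∈ K, k * t * k⁻¹ = t * r
  /-- some `C_G(t)`-conjugate of `z` lies in `M` and acts as a product of two transvections -/
  hz : ∃ h r1, h * t = t * h ∧ h * z * h⁻¹ ∈ M ∧ IsR r1 ∧ H r1 (L.v t) = 0 ∧
    (∀ a : F, r1 ≠ a • L.v t) ∧ ∀ w, L.ρ (h * z * h⁻¹) w = tr (L.v t) (tr r1 w)

namespace Hyp

variable {L : Lab F Q M z} {K : Subgroup G} {t r : G}

/-- `K`-conjugates of `t`. -/
def T (K : Subgroup G) (t x : G) : Prop := ∃ k ∈ K, k * t * k⁻¹ = x

theorem T_conj {x k : G} (hk : k ∈ K) (hx : T K t x) : T K t (k * x * k⁻¹) := by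
  obtain ⟨l, hl, rfl⟩ := hx
  exact ⟨k * l, K.mul_mem hk hl, by group⟩

theorem T_self : T K t t := ⟨1, K.one_mem, by group⟩

theorem cent_of_T (h : Hyp L K t r) {x : G} (hx : T K t x) :
    Subgroup.centralizer ({x} : Set G) ≤ K := by
  obtain ⟨k, hk, rfl⟩ := hx
  refine CloseAbs.centralizer_conj_le (K.inv_mem hk) h.cent ?_
  group

theorem star (h : Hyp L K t r) {c : G} (hc : T K t (c * t * c⁻¹)) : c ∈ K :=
  mem_of_conj_t h.cent hc

theorem two_ne (L : Lab F Q M z) : (2 : F) = 0 := L.char_two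

theorem tz (h : Hyp L K t r) : T K t (t * z) := by
  -- an element of `C_Q(r)` not commuting with `t`
  obtain ⟨a, ha⟩ := h.rv
  by_contra hcon
  -- every element of `Q` commuting with `r` commutes with `t`
  have key : ∀ q ∈ Q, q * r = r * q → q * t = t * q := by
    intro q hq hqr
    rcases L.large.comm q hq t h.tQ with h1 | h1
    · exact h1
    · exfalso
      apply hcon
      have hqK : q ∈ K := h.cent_of_T h.rK (Subgroup.mem_centralizer_singleton_iff.2 hqr)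
      have : q * t * q⁻¹ = t * z := by
        rw [h1, mul_assoc _ z, ← (L.large.commz hq).inv_left.eq]
        group
      rw [← this]
      exact T_conj hqK T_self
  -- in terms of labels: `H w (v r) ∈ {0,1} → H w (v t) ∈ {0,1}`
  have key2 : ∀ w : Fin 6 → F, H w (L.v r) = 0 ∨ H w (L.v r) = 1 →
      H w (L.v t) = 0 ∨ H w (L.v t) = 1 := by
    intro w hw
    obtain ⟨q, hq, rfl⟩ := L.v_surj w
    rw [← L.comm_iff q hq r h.rQ] at hw
    rw [← L.comm_iff q hq t h.tQ]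
    exact key q hq hw
  -- choose `w` with `H w (v t) = c` arbitrary
  have hvt : L.v t ≠ 0 := isR_ne_zero h.tR
  obtain ⟨i, hi⟩ : ∃ i, L.v t i ≠ 0 := by
    by_contra hh
    push Not at hh
    exact hvt (funext hh)
  have hsurj : ∀ c : F, ∃ w : Fin 6 → F, H w (L.v t) = c ∧ H w (L.v r) = a ^ 2 * c := by
    intro c
    have h1 : H (Pi.single i (c * ((L.v t i) ^ 2)⁻¹)) (L.v t) = c := by
      rw [H_def, Finset.sum_eq_single i]
      · rw [Pi.single_eq_same, mul_assoc, inv_mul_cancel₀ (pow_ne_zero 2 hi), mul_one]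
      · intro j _ hj
        rw [Pi.single_eq_of_ne hj, zero_mul]
      · intro hj; exact absurd (Finset.mem_univ i) hj
    refine ⟨_, h1, ?_⟩
    have h2 : ∀ w : Fin 6 → F, H w (L.v r) = a ^ 2 * H w (L.v t) := by
      intro w
      rw [H_def, H_def, Finset.mul_sum, ha]
      refine Finset.sum_congr rfl fun j _ => ?_
      rw [Pi.smul_apply, smul_eq_mul]
      ring
    rw [h2, h1]
  have ha0 : a ≠ 0 := by
    rintro rfl
    apply h.rv0
    rw [ha, zero_smul]
  have ha1 : a ^ 2 ≠ 1 := by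
    intro h1
    have h2 : (a - 1) * (a - 1) = 0 := by
      have : (a - 1) * (a - 1) = a ^ 2 - 2 * a + 1 := by ring
      rw [this, h1, two_ne L]
      have h3 : (1 : F) - 0 * a + 1 = 2 := by ring
      rw [h3, two_ne L]
    have h3 : a = 1 := sub_eq_zero.1 (mul_self_eq_zero.1 h2)
    apply h.rv1
    rw [ha, h3, one_smul]
  -- take `c = (a ^ 2)⁻¹`
  obtain ⟨w, hw1, hw2⟩ := hsurj ((a ^ 2)⁻¹)
  rw [mul_inv_cancel₀ (pow_ne_zero 2 ha0)] at hw2
  rcases key2 w (Or.inr hw2) with h1 | h1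
  · rw [hw1] at h1
    exact inv_ne_zero (pow_ne_zero 2 ha0) h1
  · rw [hw1, inv_eq_one] at h1
    exact ha1 h1

theorem mul_z (L : Lab F Q M z) {x : G} (hx : x ∈ Q) (hv : L.v x ≠ 0)
    (hK : Subgroup.centralizer ({t} : Set G) ≤ K) (htQ : t ∈ Q)
    (hne : ¬ (L.v x = L.v t)) (hT : T K t x) : T K t (x * z) := by
  -- an element of `Q` commuting with `t` and not with `x`
  by_contra hcon
  have key : ∀ q ∈ Q, q * t = t * q → q * x = x * q := by
    intro q hq hqt
    rcases L.large.comm q hq x hx with h1 | h1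
    · exact h1
    · exfalso
      apply hcon
      have hqK : q ∈ K := hK (Subgroup.mem_centralizer_singleton_iff.2 hqt)
      have : q * x * q⁻¹ = x * z := by
        rw [h1, mul_assoc _ z, ← (L.large.commz hq).inv_left.eq]
        group
      rw [← this]
      exact T_conj hqK hT
  -- then every `q ∈ Q` commutes with `x` or with `t * x`
  have key3 : ∀ q ∈ Q, q * x = x * q ∨ q * (t * x) = (t * x) * q := by
    intro q hq
    rcases L.large.comm q hq t htQ with h1 | h1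
    · exact Or.inl (key q hq h1)
    · rcases L.large.comm q hq x hx with h2 | h2
      · exact Or.inl h2
      · right
        have hz2 := L.large.z_sq
        calc q * (t * x) = (q * t) * x := by group
          _ = t * q * z * x := by rw [h1]
          _ = t * q * (z * x) := by group
          _ = t * q * (x * z) := by rw [(L.large.comm_z x hx).symm]
          _ = t * (q * x) * z := by group
          _ = t * (x * q * z) * z := by rw [h2]
          _ = t * x * q * (z * z) := by group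
          _ = (t * x) * q := by rw [hz2, mul_one]
  -- a group is not the union of two proper subgroups
  have hxc : ∃ q ∈ Q, ¬ q * x = x * q := by
    by_contra hh
    push Not at hh
    exact hv ((L.v_eq_zero x hx).2 (L.large.cent x hx fun y hy => (hh y hy).symm))
  have htx : ∃ q ∈ Q, ¬ q * (t * x) = (t * x) * q := by
    by_contra hh
    push Not at hh
    apply hne
    have h0 := (L.v_eq_zero (t * x) (Q.mul_mem htQ hx)).2
      (L.large.cent (t * x) (Q.mul_mem htQ hx) fun y hy => (hh y hy).symm)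
    rw [L.v_mul t htQ x hx, add_eq_zero_iff_eq_neg, L.neg_eq] at h0
    exact h0.symm
  obtain ⟨q1, hq1, h1⟩ := hxc
  obtain ⟨q2, hq2, h2⟩ := htx
  have h3 := (key3 q1 hq1).resolve_left h1
  have h4 := (key3 q2 hq2).resolve_right h2
  rcases key3 (q1 * q2) (Q.mul_mem hq1 hq2) with h5 | h5
  · apply h1
    have : q1 * (q2 * x) = x * (q1 * q2) := by rw [← mul_assoc]; exact h5
    rw [h4] at this
    have h6 : (q1 * x) * q2 = (x * q1) * q2 := by rw [mul_assoc, this, mul_assoc]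
    exact mul_right_cancel h6
  · apply h2
    have h6 : q1 * (q2 * (t * x)) = q1 * ((t * x) * q2) := by
      calc q1 * (q2 * (t * x)) = q1 * q2 * (t * x) := by group
        _ = (t * x) * (q1 * q2) := h5
        _ = ((t * x) * q1) * q2 := by group
        _ = (q1 * (t * x)) * q2 := by rw [h3]
        _ = q1 * ((t * x) * q2) := by group
    exact mul_left_cancel h6

/-- All elements of `Q` whose label is a nonzero multiple of the label of `t` are
`K`-conjugate to `t`. -/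
theorem point (h : Hyp L K t r) {y : G} (hy : y ∈ Q) (hv : L.v y ≠ 0)
    (ha : ∃ a : F, L.v y = a • L.v t) : T K t y := by
  obtain ⟨b, hb⟩ := ha
  obtain ⟨a, ha⟩ := h.rv
  have hvt : L.v t ≠ 0 := isR_ne_zero h.tR
  have ha0 : a ≠ 0 := by
    rintro rfl
    exact h.rv0 (by rw [ha, zero_smul])
  have ha1 : a ≠ 1 := by
    rintro rfl
    exact h.rv1 (by rw [ha, one_smul])
  have hb0 : b ≠ 0 := by
    rintro rfl
    exact hv (by rw [hb, zero_smul])
  have hfin : Finite F := Nat.finite_of_card_ne_zero (by rw [L.card]; norm_num)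
  -- `b ∈ {1, a, 1 + a}`
  have hcases : b = 1 ∨ b = a ∨ b = 1 + a := by
    classical
    have : Fintype F := Fintype.ofFinite F
    have h4 : Fintype.card F = 4 := by rw [← Nat.card_eq_fintype_card]; exact L.card
    by_contra hcon
    push Not at hcon
    have h10 : (1 : F) + a ≠ 0 := by
      intro h1
      apply ha1
      have h2 : a = -1 := by rw [eq_neg_iff_add_eq_zero, add_comm]; exact h1
      have h3 : (-1 : F) = 1 := by
        rw [neg_eq_iff_add_eq_zero, one_add_one_eq_two]; exact L.char_two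
      rw [h2, h3]
    have h11 : (1 : F) + a ≠ 1 := by
      intro h1
      exact ha0 (left_eq_add.1 h1.symm)
    have h12 : (1 : F) + a ≠ a := by
      intro h1
      exact one_ne_zero (right_eq_add.1 h1.symm)
    have hsub : ({0, 1, a, 1 + a, b} : Finset F).card ≤ 4 := by
      rw [← h4]; exact Finset.card_le_univ _
    rw [Finset.card_insert_of_notMem, Finset.card_insert_of_notMem, Finset.card_insert_of_notMem,
      Finset.card_insert_of_notMem, Finset.card_singleton] at hsub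
    · omega
    · simp only [Finset.mem_singleton]; exact hcon.2.2.symm
    · simp only [Finset.mem_insert, Finset.mem_singleton, not_or]
      exact ⟨h12.symm, hcon.2.1.symm⟩
    · simp only [Finset.mem_insert, Finset.mem_singleton, not_or]
      exact ⟨ha1.symm, h11.symm, hcon.1.symm⟩
    · simp only [Finset.mem_insert, Finset.mem_singleton, not_or]
      exact ⟨zero_ne_one, ha0.symm, h10.symm, hb0.symm⟩
  have hfinish : ∀ x ∈ Q, L.v y = L.v x → T K t x → T K t (x * z) → T K t y := by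
    intro x hx hvx h1 h2
    rcases (L.v_eq hy hx).1 hvx with h3 | h3
    · rw [h3]; exact h1
    · rw [h3]; exact h2
  have htr : L.v (t * r) = (1 + a) • L.v t := by
    rw [L.v_mul t h.tQ r h.rQ, ha, add_smul, one_smul]
  have htrne0 : L.v (t * r) ≠ 0 := by
    rw [L.v_mul t h.tQ r h.rQ]
    intro h0
    rw [add_eq_zero_iff_eq_neg, L.neg_eq] at h0
    exact h.rv1 h0.symm
  rcases hcases with hb1 | hb1 | hb1
  · refine hfinish t h.tQ ?_ T_self h.tz
    rw [hb, hb1, one_smul]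
  · refine hfinish r h.rQ ?_ h.rK (mul_z L h.rQ h.rv0 h.cent h.tQ h.rv1 h.rK)
    rw [hb, hb1, ha]
  · refine hfinish (t * r) (Q.mul_mem h.tQ h.rQ) ?_ h.trK
      (mul_z L (Q.mul_mem h.tQ h.rQ) htrne0 h.cent h.tQ ?_ h.trK)
    · rw [hb, hb1, htr]
    · rw [L.v_mul t h.tQ r h.rQ]
      intro h0
      exact h.rv0 (left_eq_add.1 h0.symm)

/-- The stabiliser of the point of `t` in `C_G(z)` lies in `K`. -/
theorem stab (h : Hyp L K t r) {c : G} (hc : c * z = z * c)
    (ha : ∃ a : F, L.ρ c (L.v t) = a • L.v t) : c ∈ K := by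
  apply h.star
  have hv := L.v_conj c hc t h.tQ
  refine h.point (L.ρ_surj_aux hc h.tQ) ?_ ?_
  · rw [hv]
    intro h0
    apply isR_ne_zero h.tR
    apply L.ρ_inj hc
    rw [h0, L.ρ_zero hc]
  · rw [hv]; exact ha

/-- an element `b` of `M \ Q`, conjugate to `t` in `K`, acting as a product of two transvections -/
theorem exists_b (h : Hyp L K t r) : ∃ b r1, b ∈ M ∧ T K t b ∧ IsR r1 ∧ H r1 (L.v t) = 0 ∧
    (∀ a : F, r1 ≠ a • L.v t) ∧ ∀ w, L.ρ b w = tr (L.v t) (tr r1 w) := by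
  obtain ⟨g, r1, hg, hM, hr1, ho, hne, hρ⟩ := h.hz
  refine ⟨g * z * g⁻¹ * t, r1, M.mul_mem hM (L.Q_le h.tQ), ?_, hr1, ho, hne, ?_⟩
  · have hgK : g ∈ K := h.cent (Subgroup.mem_centralizer_singleton_iff.2 hg)
    have e : g * z * g⁻¹ * t = g * (t * z) * g⁻¹ := by
      have h1 : g⁻¹ * t = t * g⁻¹ := by
        rw [inv_mul_eq_iff_eq_mul, ← mul_assoc, hg, mul_assoc, mul_inv_cancel, mul_one]
      calc g * z * g⁻¹ * t = g * z * (g⁻¹ * t) := by group
        _ = g * z * (t * g⁻¹) := by rw [h1]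
        _ = g * (z * t) * g⁻¹ := by group
        _ = _ := by rw [(L.large.comm_z t h.tQ).symm]
    rw [e]
    exact T_conj hgK h.tz
  · intro w
    rw [L.ρ_mul (L.M_comm _ hM) (L.large.comm_z t h.tQ), L.ρ_mem_Q h.tQ]
    exact hρ w

section WithGood

/-- (4b): two elements of `TwoA` in the same coset of `Q` in `M \ Q` are `Q`-conjugate. -/
def Good (L : Lab F Q M z) : Prop := ∀ x y : G, x ∈ M → x ∉ Q → x⁻¹ * y ∈ Q → L.TwoA x →
  L.TwoA y → ∃ q ∈ Q, q * x * q⁻¹ = y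

theorem twoA_of_T (h : Hyp L K t r) {x : G} (hx : T K t x) : L.TwoA x := by
  obtain ⟨k, -, rfl⟩ := hx
  exact L.twoA_conj k (L.twoA_of_isR h.tQ h.tR)

/-- An element of `K ∩ C_G(z)` moving the point of `t` to an orthogonal one. -/
theorem exists_move (h : Hyp L K t r) (hg : Geo L) (hgood : Good L) :
    ∃ c ∈ K, c * z = z * c ∧ ∃ r1 : Fin 6 → F, IsR r1 ∧ H r1 (L.v t) = 0 ∧
      (∀ a : F, r1 ≠ a • L.v t) ∧ ∃ a : F, L.ρ c (L.v t) = a • r1 := by
  obtain ⟨b, r1, hbM, hbT, hr1, ho, hne, hρ⟩ := h.exists_b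
  obtain ⟨m, hm, a, a', h1, h2⟩ := hg.swap (L.v t) r1 h.tR hr1 ho hne
  have hmz := L.M_comm m hm
  have hbz := L.M_comm b hbM
  have hlin := L.isLin hm
  have hvt : L.v t ≠ 0 := isR_ne_zero h.tR
  have ho' : H (L.v t) r1 = 0 := H_eq_zero_symm L ho
  have hr10 : r1 ≠ 0 := isR_ne_zero hr1
  have ha0 : a ≠ 0 := by
    rintro rfl
    rw [zero_smul] at h1
    apply hvt
    apply L.ρ_inj hmz
    rw [h1, L.ρ_zero hmz]
  have ha'0 : a' ≠ 0 := by
    rintro rfl
    rw [zero_smul] at h2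
    apply hr10
    apply L.ρ_inj hmz
    rw [h2, L.ρ_zero hmz]
  -- `m b m⁻¹` acts as `b`
  have hact : ∀ w, L.ρ (m * b * m⁻¹) w = L.ρ b w := by
    intro w
    rw [L.ρ_mul (Lab.mul_comm' hmz hbz) (Lab.inv_comm hmz), L.ρ_mul hmz hbz]
    obtain ⟨u, rfl⟩ : ∃ u, w = L.ρ m u := ⟨L.ρ m⁻¹ w, (L.ρ_inv' hmz w).symm⟩
    rw [L.ρ_inv hmz, hρ, hρ, tr_tr _ _ _ ho, tr_tr _ _ _ ho, L.ρ_add hmz, L.ρ_add hmz, hlin.smul,
      hlin.smul, h1, h2]
    have e1 : H (L.ρ m u) r1 = a * H u (L.v t) := by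
      have h3 : H (L.ρ m u) (a • r1) = H u (L.v t) := by rw [← h1, hlin.form]
      rw [H_smul_right] at h3
      rw [← h3, ← mul_assoc, ← pow_succ', pow_three L ha0, one_mul]
    have e2 : H (L.ρ m u) (L.v t) = a' * H u r1 := by
      have h3 : H (L.ρ m u) (a' • L.v t) = H u r1 := by rw [← h2, hlin.form]
      rw [H_smul_right] at h3
      rw [← h3, ← mul_assoc, ← pow_succ', pow_three L ha'0, one_mul]
    rw [e1, e2, smul_smul, smul_smul, mul_comm (H u r1), mul_comm (H u (L.v t)), add_right_comm]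
  have hcoset : b⁻¹ * (m * b * m⁻¹) ∈ Q := by
    have hz1 : m * b * m⁻¹ * z = z * (m * b * m⁻¹) :=
      Lab.mul_comm' (Lab.mul_comm' hmz hbz) (Lab.inv_comm hmz)
    refine L.mem_Q _ (Lab.mul_comm' (Lab.inv_comm hbz) hz1) fun w => ?_
    rw [L.ρ_mul (Lab.inv_comm hbz) hz1, hact, L.ρ_inv hbz]
  have hbQ : b ∉ Q := by
    intro hb
    obtain ⟨w, hw⟩ := exists_H (L.v t) hvt 1
    have h3 := L.ρ_mem_Q hb w
    rw [hρ, tr_tr _ _ _ ho, hw, one_smul, add_assoc, add_eq_left] at h3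
    have h4 : L.v t = H w r1 • r1 := by
      rw [add_comm, add_eq_zero_iff_eq_neg, L.neg_eq] at h3
      exact h3
    by_cases h5 : H w r1 = 0
    · rw [h5, zero_smul] at h4
      exact hvt h4
    · apply hne ((H w r1)⁻¹)
      rw [h4, smul_smul, inv_mul_cancel₀ h5, one_smul]
  obtain ⟨q, hq, hqb⟩ := hgood b (m * b * m⁻¹) hbM hbQ hcoset (h.twoA_of_T hbT)
    (L.twoA_conj m (h.twoA_of_T hbT))
  refine ⟨q⁻¹ * m, ?_, ?_, r1, hr1, ho, hne, a, ?_⟩
  · apply h.cent_of_T hbT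
    rw [Subgroup.mem_centralizer_singleton_iff]
    calc q⁻¹ * m * b = q⁻¹ * (m * b * m⁻¹) * m := by group
      _ = q⁻¹ * (q * b * q⁻¹) * m := by rw [hqb]
      _ = b * (q⁻¹ * m) := by group
  · exact Lab.mul_comm' (Lab.inv_comm (L.large.comm_z q hq)) hmz
  · rw [L.ρ_mul (Lab.inv_comm (L.large.comm_z q hq)) hmz, L.ρ_mem_Q (Q.inv_mem hq)]
    exact h1

/-- `K ∩ C_G(z)` is transitive on the vectors of `R`. -/
theorem exists_R (h : Hyp L K t r) (hg : Geo L) (hgood : Good L) {w : Fin 6 → F} (hw : IsR w) :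
    ∃ c ∈ K, c * z = z * c ∧ L.ρ c (L.v t) = w := by
  classical
  obtain ⟨c1, hc1K, hc1z, r1, hr1, ho1, hne1, a1, hρ1⟩ := h.exists_move hg hgood
  have hvt : L.v t ≠ 0 := isR_ne_zero h.tR
  have hr10 : r1 ≠ 0 := isR_ne_zero hr1
  have ha1 : a1 ≠ 0 := by
    rintro rfl
    rw [zero_smul] at hρ1
    apply hvt
    apply L.ρ_inj hc1z
    rw [hρ1, L.ρ_zero hc1z]
  -- closure under scalars
  have hscal : ∀ {c : G} {u : Fin 6 → F} {a : F}, c ∈ K → c * z = z * c → a ≠ 0 →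
      L.ρ c (L.v t) = a • u → ∃ c' ∈ K, c' * z = z * c' ∧ L.ρ c' (L.v t) = u := by
    intro c u a hcK hcz ha hcu
    have key : ∀ b : F, b ≠ 0 → ∃ m ∈ K, m * z = z * m ∧ L.ρ m (L.v t) = b • L.v t := by
      intro b hb
      obtain ⟨m, hm, hρ⟩ := L.scal b hb
      exact ⟨m, h.stab (L.M_comm m hm) ⟨b, hρ _⟩, L.M_comm m hm, hρ _⟩
    rcases L.semi c hcz with hs | hs
    · obtain ⟨m, hmK, hmz, hρm⟩ := key a⁻¹ (inv_ne_zero ha)
      refine ⟨c * m, K.mul_mem hcK hmK, Lab.mul_comm' hcz hmz, ?_⟩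
      rw [L.ρ_mul hcz hmz, hρm, hs.smul, hcu, smul_smul, inv_mul_cancel₀ ha, one_smul]
    · obtain ⟨m, hmK, hmz, hρm⟩ := key a ha
      refine ⟨c * m, K.mul_mem hcK hmK, Lab.mul_comm' hcz hmz, ?_⟩
      rw [L.ρ_mul hcz hmz, hρm, hs.smul, hcu, smul_smul, ← pow_succ, pow_three L ha, one_smul]
  -- one step
  have hstep0 : ∀ {w' : Fin 6 → F}, IsR w' → H w' (L.v t) = 0 → (∀ a : F, w' ≠ a • L.v t) →
      ∃ c ∈ K, c * z = z * c ∧ L.ρ c (L.v t) = w' := by
    intro w' hw' ho' hne'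
    obtain ⟨m, hm, a, b, h1, h2⟩ := hg.orth (L.v t) r1 w' h.tR hr1 hw' ho1 ho' hne1 hne'
    have hmz := L.M_comm m hm
    have hb : b ≠ 0 := by
      rintro rfl
      rw [zero_smul] at h2
      apply hr10
      apply L.ρ_inj hmz
      rw [h2, L.ρ_zero hmz]
    have hmK : m ∈ K := h.stab hmz ⟨a, h1⟩
    apply hscal (K.mul_mem hmK hc1K) (Lab.mul_comm' hmz hc1z) (a := a1 * b) (mul_ne_zero ha1 hb)
    rw [L.ρ_mul hmz hc1z, hρ1, (L.isLin hm).smul, h2, smul_smul]
  have hstep : ∀ {u w' : Fin 6 → F}, (∃ c ∈ K, c * z = z * c ∧ L.ρ c (L.v t) = u) → IsR w' →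
      H w' u = 0 → (∀ a : F, w' ≠ a • u) → ∃ c ∈ K, c * z = z * c ∧ L.ρ c (L.v t) = w' := by
    rintro u w' ⟨c, hcK, hcz, rfl⟩ hw' ho' hne'
    have hciz := Lab.inv_comm hcz
    have hback : L.ρ c (L.ρ c⁻¹ w') = w' := L.ρ_inv' hcz w'
    have ho2 : H (L.ρ c⁻¹ w') (L.v t) = 0 := by
      rw [← hback] at ho'
      rcases L.semi c hcz with hs | hs
      · rwa [hs.form] at ho'
      · rw [hs.form] at ho'
        exact pow_eq_zero_iff two_ne_zero |>.1 ho'
    have hne2 : ∀ a : F, L.ρ c⁻¹ w' ≠ a • L.v t := by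
      intro a h1
      have h2 : w' = L.ρ c (a • L.v t) := by rw [← h1, hback]
      rcases L.semi c hcz with hs | hs
      · rw [hs.smul] at h2; exact hne' _ h2
      · rw [hs.smul] at h2; exact hne' _ h2
    obtain ⟨d, hdK, hdz, hd⟩ := hstep0 (L.pres _ hciz _ hw') ho2 hne2
    exact ⟨c * d, K.mul_mem hcK hdK, Lab.mul_comm' hcz hdz, by rw [L.ρ_mul hcz hdz, hd, hback]⟩
  -- the three cases
  have hself : ∃ c ∈ K, c * z = z * c ∧ L.ρ c (L.v t) = L.v t :=
    ⟨1, K.one_mem, by group, L.ρ_one _⟩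
  by_cases h1 : ∃ a : F, w = a • L.v t
  · obtain ⟨a, ha⟩ := h1
    have ha0 : a ≠ 0 := by
      rintro rfl
      exact isR_ne_zero hw (by rw [ha, zero_smul])
    obtain ⟨c, hcK, hcz, hc⟩ := hscal (c := 1) (u := w) (a := a⁻¹) K.one_mem (by group)
      (inv_ne_zero ha0) (by rw [L.ρ_one, ha, smul_smul, inv_mul_cancel₀ ha0, one_smul])
    exact ⟨c, hcK, hcz, hc⟩
  · push Not at h1
    by_cases h2 : H w (L.v t) = 0
    · exact hstep0 hw h2 h1
    · obtain ⟨w1, hw1, h3, h4⟩ := hg.conn (L.v t) w h.tR hw h2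
      have hne3 : ∀ a : F, w1 ≠ a • L.v t := by
        intro a ha
        have ha0 : a ≠ 0 := by
          rintro rfl
          exact isR_ne_zero hw1 (by rw [ha, zero_smul])
        rw [ha, H_smul_left, mul_eq_zero] at h4
        exact h2 (H_eq_zero_symm L (h4.resolve_left ha0))
      have hne4 : ∀ a : F, w ≠ a • w1 := by
        intro a ha
        apply h2
        rw [ha, H_smul_left, h3, mul_zero]
      exact hstep (hstep0 hw1 h3 hne3) hw (H_eq_zero_symm L h4) hne4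

/-- `C_G(z) ≤ K`. -/
theorem cent_le (h : Hyp L K t r) (hg : Geo L) (hgood : Good L) :
    Subgroup.centralizer ({z} : Set G) ≤ K := by
  intro c hc
  rw [Subgroup.mem_centralizer_singleton_iff] at hc
  obtain ⟨d, hdK, hdz, hd⟩ := h.exists_R hg hgood (L.pres c hc _ h.tR)
  have h1 : d⁻¹ * c ∈ K := by
    apply h.stab (Lab.mul_comm' (Lab.inv_comm hdz) hc)
    refine ⟨1, ?_⟩
    rw [L.ρ_mul (Lab.inv_comm hdz) hc, ← hd, L.ρ_inv hdz, one_smul]
  have h2 := K.mul_mem hdK h1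
  rwa [mul_inv_cancel_left] at h2

/-- all `R`-elements of `Q` are `K`-conjugate to `t` -/
theorem T_of_isR (h : Hyp L K t r) (hg : Geo L) (hgood : Good L) {y : G} (hy : y ∈ Q)
    (hR : IsR (L.v y)) : T K t y := by
  obtain ⟨c, hcK, hcz, hc⟩ := h.exists_R hg hgood hR
  obtain ⟨q, hq, hqc⟩ := exists_conj_of_ρ L h.tQ hy (isR_ne_zero hR) hcz hc
  refine ⟨q * c, K.mul_mem ?_ hcK, hqc⟩
  exact h.cent_le hg hgood (Subgroup.mem_centralizer_singleton_iff.2 (L.large.comm_z q hq))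

/-- (8h): if `z ^ g ∈ Q` then `Q` and `Q ^ g` have a common `R`-element (with respect to both). -/
def Common (L : Lab F Q M z) : Prop := ∀ g : G, g * z * g⁻¹ ∈ Q → g * z * g⁻¹ ≠ z →
  ∃ y ∈ Q, IsR (L.v y) ∧ g⁻¹ * y * g ∈ Q ∧ IsR (L.v (g⁻¹ * y * g))

theorem mem_of_conj (h : Hyp L K t r) (hg : Geo L) (hgood : Good L) (hcom : Common L) {g : G}
    (hgQ : g * z * g⁻¹ ∈ Q) : g ∈ K := by
  by_cases hgz : g * z * g⁻¹ = z
  · apply h.cent_le hg hgood
    rw [Subgroup.mem_centralizer_singleton_iff]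
    exact mul_inv_eq_iff_eq_mul.1 hgz
  · obtain ⟨y, hy, hyR, hy2, hyR2⟩ := hcom g hgQ hgz
    obtain ⟨k, hk, hkt⟩ := h.T_of_isR hg hgood hy hyR
    obtain ⟨l, hl, hlt⟩ := h.T_of_isR hg hgood hy2 hyR2
    have h1 : g * l ∈ K := by
      apply h.star
      refine ⟨k, hk, ?_⟩
      rw [hkt]
      calc y = g * (g⁻¹ * y * g) * g⁻¹ := by group
        _ = g * (l * t * l⁻¹) * g⁻¹ := by rw [hlt]
        _ = g * l * t * (g * l)⁻¹ := by group
    have h2 := K.mul_mem h1 (K.inv_mem hl)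
    rwa [mul_inv_cancel_right] at h2

/-- All involutions of `Q` are `K`-conjugate to `z` or `t`. -/
theorem fus_Q (h : Hyp L K t r) (hg : Geo L) (hgood : Good L) (hcom : Common L)
    (hS : ∀ x ∈ Q, x * x = 1 → IsS (L.v x) → L.TwoB x)
    (hRS : ∀ w : Fin 6 → F, w ≠ 0 → H w w = 0 → IsR w ∨ IsS w) {v : G} (hv : v ∈ Q)
    (hv1 : v ≠ 1) (hv2 : v * v = 1) : ∃ g ∈ K, g * v * g⁻¹ = z ∨ g * v * g⁻¹ = t := by
  by_cases h0 : L.v v = 0
  · rcases (L.v_eq_zero v hv).1 h0 with h1 | h1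
    · exact absurd h1 hv1
    · exact ⟨1, K.one_mem, Or.inl (by rw [h1]; group)⟩
  · rcases hRS _ h0 ((L.sq_iff v hv).1 hv2) with h1 | h1
    · obtain ⟨k, hk, hkt⟩ := h.T_of_isR hg hgood hv h1
      refine ⟨k⁻¹, K.inv_mem hk, Or.inr ?_⟩
      rw [← hkt]; group
    · obtain ⟨g, hgv⟩ := hS v hv hv2 h1
      have hgK : g ∈ K := h.mem_of_conj hg hgood hcom (by rw [← hgv]; exact hv)
      refine ⟨g⁻¹, K.inv_mem hgK, Or.inl ?_⟩
      rw [hgv]; group

/-- (8f) -/
def InM (L : Lab F Q M z) : Prop := ∀ v ∈ M, v ∉ Q → v * v = 1 →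
  ∃ g : G, g * z * g⁻¹ ∈ Q ∧ g⁻¹ * v * g ∈ Q

/-- (8g) -/
def OutM (L : Lab F Q M z) : Prop := ∀ v, v * z = z * v → v ∉ M → v * v = 1 →
  ∃ g : G, g * z * g⁻¹ ∈ Q ∧ g⁻¹ * v * g ∈ M

theorem conj_sq {g v : G} (hv2 : v * v = 1) : g⁻¹ * v * g * (g⁻¹ * v * g) = 1 := by
  calc g⁻¹ * v * g * (g⁻¹ * v * g) = g⁻¹ * (v * v) * g := by group
    _ = 1 := by rw [hv2]; group

theorem conj_ne {g v : G} (hv1 : v ≠ 1) : g⁻¹ * v * g ≠ 1 := by
  intro h
  apply hv1
  calc v = g * (g⁻¹ * v * g) * g⁻¹ := by group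
    _ = 1 := by rw [h]; group

theorem fus_M (h : Hyp L K t r) (hg : Geo L) (hgood : Good L) (hcom : Common L)
    (hS : ∀ x ∈ Q, x * x = 1 → IsS (L.v x) → L.TwoB x)
    (hRS : ∀ w : Fin 6 → F, w ≠ 0 → H w w = 0 → IsR w ∨ IsS w) (hin : InM L) {v : G}
    (hv : v ∈ M) (hv1 : v ≠ 1) (hv2 : v * v = 1) :
    ∃ g ∈ K, g * v * g⁻¹ = z ∨ g * v * g⁻¹ = t := by
  by_cases hvQ : v ∈ Q
  · exact h.fus_Q hg hgood hcom hS hRS hvQ hv1 hv2
  · obtain ⟨g, hgz, hgv⟩ := hin v hv hvQ hv2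
    have hgK := h.mem_of_conj hg hgood hcom hgz
    obtain ⟨k, hk, hkv⟩ := h.fus_Q hg hgood hcom hS hRS hgv (conj_ne hv1) (conj_sq hv2)
    refine ⟨k * g⁻¹, K.mul_mem hk (K.inv_mem hgK), ?_⟩
    have e : k * g⁻¹ * v * (k * g⁻¹)⁻¹ = k * (g⁻¹ * v * g) * k⁻¹ := by group
    rw [e]; exact hkv

theorem fus (h : Hyp L K t r) (hg : Geo L) (hgood : Good L) (hcom : Common L)
    (hS : ∀ x ∈ Q, x * x = 1 → IsS (L.v x) → L.TwoB x)
    (hRS : ∀ w : Fin 6 → F, w ≠ 0 → H w w = 0 → IsR w ∨ IsS w) (hin : InM L) (hout : OutM L)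
    {v : G} (hv : v ∈ Subgroup.centralizer ({z} : Set G)) (hv1 : v ≠ 1) (hv2 : v * v = 1) :
    ∃ g ∈ K, g * v * g⁻¹ = z ∨ g * v * g⁻¹ = t := by
  rw [Subgroup.mem_centralizer_singleton_iff] at hv
  by_cases hvM : v ∈ M
  · exact h.fus_M hg hgood hcom hS hRS hin hvM hv1 hv2
  · obtain ⟨g, hgz, hgv⟩ := hout v hv hvM hv2
    have hgK := h.mem_of_conj hg hgood hcom hgz
    obtain ⟨k, hk, hkv⟩ := h.fus_M hg hgood hcom hS hRS hin hgv (conj_ne hv1) (conj_sq hv2)
    refine ⟨k * g⁻¹, K.mul_mem hk (K.inv_mem hgK), ?_⟩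
    have e : k * g⁻¹ * v * (k * g⁻¹)⁻¹ = k * (g⁻¹ * v * g) * k⁻¹ := by group
    rw [e]; exact hkv

/-- A Sylow 2-subgroup of `G` lies in `C_G(z)`. -/
theorem exists_sylow [Finite G] (L : Lab F Q M z) :
    ∃ S : Sylow 2 G, (S : Subgroup G) ≤ Subgroup.centralizer ({z} : Set G) := by
  classical
  have hQp : IsPGroup 2 Q := by
    have hq4 : ∀ x ∈ Q, x ^ 4 = 1 := by
      intro x hx
      have e : x ^ 4 = (x * x) * (x * x) := by
        have h3 : (x * x) * (x * x) = x * x * x * x := by rw [← mul_assoc]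
        rw [h3, pow_succ, pow_succ, pow_succ, pow_one]
      rcases L.large.sq x hx with h1 | h1
      · rw [e, h1, one_mul]
      · rw [e, h1, L.large.z_sq]
    rintro ⟨x, hx⟩
    refine ⟨2, Subtype.ext ?_⟩
    exact hq4 _ hx
  obtain ⟨S, hS⟩ := hQp.exists_le_sylow
  refine ⟨S, ?_⟩
  have hzS : z ∈ (S : Subgroup G) := hS L.large.z_mem
  have hnt : Nontrivial S := by
    refine ⟨⟨1, (S : Subgroup G).one_mem⟩, ⟨z, hzS⟩, fun h => L.large.z_ne ?_⟩
    exact (congrArg Subtype.val h).symm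
  have hfact : Fact (Nat.Prime 2) := ⟨Nat.prime_two⟩
  have hcen : Nontrivial (Subgroup.center S) := S.isPGroup'.center_nontrivial
  obtain ⟨x, hx⟩ := exists_ne (1 : Subgroup.center S)
  have hxc : ∀ s ∈ (S : Subgroup G), s * ((x : S) : G) = ((x : S) : G) * s := by
    intro s hs
    have := Subgroup.mem_center_iff.1 x.2 ⟨s, hs⟩
    exact congrArg Subtype.val this
  have hxQ : ((x : S) : G) ∈ Q := L.large.self _ (hxc z hzS).symm fun y hy => (hxc y (hS hy)).symm
  have hxz : ((x : S) : G) = z := by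
    rcases L.large.cent _ hxQ fun y hy => (hxc y (hS hy)).symm with h1 | h1
    · exfalso
      apply hx
      exact Subtype.ext (Subtype.ext h1)
    · exact h1
  intro s hs
  rw [Subgroup.mem_centralizer_singleton_iff, ← hxz]
  exact hxc s hs

/-- The closing theorem. -/
theorem eq_top [Finite G] (h : Hyp L K t r) (hg : Geo L) (hgood : Good L) (hcom : Common L)
    (hS : ∀ x ∈ Q, x * x = 1 → IsS (L.v x) → L.TwoB x)
    (hRS : ∀ w : Fin 6 → F, w ≠ 0 → H w w = 0 → IsR w ∨ IsS w) (hin : InM L) (hout : OutM L)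
    (hnc : ¬ L.TwoB t) (hRR : ∀ w : Fin 6 → F, IsR w → H w w = 0) : K = ⊤ := by
  have ht1 : t ≠ 1 := by
    intro h1
    apply isR_ne_zero h.tR
    rw [h1, L.v_one]
  have ht2 : t * t = 1 := (L.sq_iff t h.tQ).2 (hRR _ h.tR)
  obtain ⟨S, hSC⟩ := exists_sylow L
  refine CloseAbs.eq_top K L.large.z_ne L.large.z_sq ht1 ht2 (h.cent_le hg hgood) h.cent ?_
    (CloseAbs.fus_of_cent K (h.cent_le hg hgood) S hSC fun v hv hv1 hv2 =>
      h.fus hg hgood hcom hS hRS hin hout hv hv1 hv2)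
  rw [isConj_iff]
  rintro ⟨g, hgt⟩
  exact hnc ⟨g, hgt.symm⟩

end WithGood

end Hyp

end Cfsg.Agent.R08.CloseLab
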