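import Cfsg.Agent.R01.FiLocal

/-!
Two facts on the labelled group `C = 2.PSU 6 F 2`, `|F| = 4`: an involution all of whose products with
conjugates have order at most three or commute is up to the centre a transvection, and five different
commuting transvections whose product is central are the points of a line.
-/

set_option autoImplicit false
set_option linter.unusedSectionVars false

namespace Cfsg.Agent.R08.CohLab

open Cfsg Cfsg.Agent.LieClassical.HermBasic Cfsg.Agent.ClassicalGeometry.UnitTransv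
open Cfsg.Agent.SporadicStructure.UnitTwo
open Cfsg.Agent.R01.Lifts Cfsg.Agent.R01.PSUSix Cfsg.Agent.R01.Label Cfsg.Agent.R01.InvForm
open Cfsg.Agent.R01.FiLocal
open Cfsg.Agent.ClassicalGeometry.UnitAutBasic (tau pr pr_surjective)

/-- The abstract computation. -/
theorem abs_six {C : Type*} [Group C] {A A' B B' : C} (hA : A * A' ≠ A' * A)
    (h3 : (A * A') ^ 3 = 1) (c1 : Commute A B) (c2 : Commute A B') (c3 : Commute A' B)
    (c4 : Commute A' B') (c5 : Commute B B') (s : B * B = 1) (s' : B' * B' = 1) (hB : B ≠ B') :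
    A * B * (A' * B') ≠ A' * B' * (A * B) ∧ (A * B * (A' * B')) ^ 3 ≠ 1 := by
  have e1 : A * B * (A' * B') = (A * A') * (B * B') := by
    calc A * B * (A' * B') = A * (B * A') * B' := by group
      _ = A * (A' * B) * B' := by rw [c3.eq]
      _ = _ := by group
  have e2 : A' * B' * (A * B) = (A' * A) * (B * B') := by
    calc A' * B' * (A * B) = A' * (B' * A) * B := by group
      _ = A' * (A * B') * B := by rw [c2.eq]
      _ = A' * A * (B' * B) := by group
      _ = _ := by rw [c5.eq]
  refine ⟨?_, ?_⟩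
  · intro h
    rw [e1, e2] at h
    exact hA (mul_right_cancel h)
  · intro h
    have c6 : Commute (A * A') (B * B') :=
      (c1.mul_right c2).mul_left (c3.mul_right c4)
    rw [e1, c6.mul_pow, h3, one_mul] at h
    have e3 : (B * B') * (B * B') = 1 := by
      calc (B * B') * (B * B') = B * (B' * B) * B' := by group
        _ = B * (B * B') * B' := by rw [c5.eq]
        _ = (B * B) * (B' * B') := by group
        _ = 1 := by rw [s, s', one_mul]
    rw [pow_succ, pow_two, e3, one_mul] at h
    apply hB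
    calc B = B * (B' * B') := by rw [s', mul_one]
      _ = (B * B') * B' := by group
      _ = B' := by rw [h, one_mul]

variable {C : Type*} [Group C] {F : Type*} [Field F] [Fintype F] {hF : Fintype.card F = 2 ^ 2}
  {π : C →* PSU 6 F 2} {z ε : C} {lift : (Fin 6 → F) → C}

/-- Conjugates of a product with a central factor. -/
theorem conj_central {c₀ c b : C} (h0 : c₀ = 1 ∨ c₀ = z) (hz : ∀ c : C, c * z = z * c) :
    c * (c₀ * b) * c⁻¹ = c₀ * (c * b * c⁻¹) := by
  rcases h0 with rfl | rfl
  · group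
  · calc c * (c₀ * b) * c⁻¹ = (c * c₀) * b * c⁻¹ := by group
      _ = (c₀ * c) * b * c⁻¹ := by rw [hz]
      _ = _ := by group

theorem central_mul_central {c₀ a b : C} (h0 : c₀ = 1 ∨ c₀ = z) (hz : ∀ c : C, c * z = z * c)
    (hzz : z * z = 1) : (c₀ * a) * (c₀ * b) = a * b := by
  rcases h0 with rfl | rfl
  · group
  · calc (c₀ * a) * (c₀ * b) = c₀ * (a * c₀) * b := by group
      _ = c₀ * (c₀ * a) * b := by rw [hz]
      _ = (c₀ * c₀) * (a * b) := by group
      _ = a * b := by rw [hzz, one_mul]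

/-- **Rank one.** -/
theorem rank_of_three (L : Lab hF π z ε lift) {β : C} (hβ : β * β = 1)
    (hd : ∀ c₁ c₂ : C, (c₁ * β * c₁⁻¹) * (c₂ * β * c₂⁻¹) = (c₂ * β * c₂⁻¹) * (c₁ * β * c₁⁻¹) ∨
      ((c₁ * β * c₁⁻¹) * (c₂ * β * c₂⁻¹)) ^ 3 = 1) :
    ∃ c₀ : C, (c₀ = 1 ∨ c₀ = z) ∧
      (β = c₀ ∨ ∃ u : Fin 6 → F, u ≠ 0 ∧ hermForm 6 F 2 u u = 0 ∧ β = c₀ * lift u) := by
  obtain ⟨c₀, h0, h⟩ := inv_form L (Or.inl hβ)
  refine ⟨c₀, h0, ?_⟩
  obtain ⟨ω, hω⟩ := exists_omega hF
  have h21 := two_eq_zero hF
  have hz : ∀ c : C, c * z = z * c := L.ext.comm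
  have hω3 : ω ^ 3 = 1 := omega_cubed hω
  have hω0 : ω ≠ 0 := by
    rintro rfl
    simp at hω
  -- the standard vectors
  obtain ⟨e, he⟩ : ∃ e : Fin 6 → F, e = ![1, 1, 0, 0, 0, 0] := ⟨_, rfl⟩
  obtain ⟨f, hf⟩ : ∃ f : Fin 6 → F, f = ![1, ω, 0, 0, 0, 0] := ⟨_, rfl⟩
  obtain ⟨b, hb⟩ : ∃ b : Fin 6 → F, b = ![0, 0, 1, 1, 0, 0] := ⟨_, rfl⟩
  obtain ⟨d, hdd⟩ : ∃ d : Fin 6 → F, d = ![0, 0, 0, 0, 1, 1] := ⟨_, rfl⟩
  have F1 : Fr3 e b d := by rw [he, hb, hdd]; exact fr3_std hF
  have ff : hermForm 6 F 2 f f = 0 := by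
    rw [hf, herm_def]
    simp [Fin.sum_univ_succ]
    linear_combination h21 + hω3
  have fe : hermForm 6 F 2 e f ≠ 0 := by
    rw [hf, he, herm_def]
    simp [Fin.sum_univ_succ]
    intro h
    apply hω0
    linear_combination hω - h
  have fb : hermForm 6 F 2 f b = 0 := by
    rw [hf, hb, herm_def]
    simp [Fin.sum_univ_succ]
  have fd : hermForm 6 F 2 f d = 0 := by
    rw [hf, hdd, herm_def]
    simp [Fin.sum_univ_succ]
  have db : hermForm 6 F 2 d b = 0 := herm_eq_zero_swap hF F1.vw
  have b'b' : hermForm 6 F 2 (b + d) (b + d) = 0 := by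
    rw [herm_add_left, herm_add_right hF, herm_add_right hF, F1.vv, F1.ww, F1.vw, db]
    ring
  have fb' : hermForm 6 F 2 f (b + d) = 0 := by
    rw [herm_add_right hF, fb, fd, add_zero]
  have b'd : hermForm 6 F 2 (b + d) d = 0 := by
    rw [herm_add_left, F1.vw, F1.ww, add_zero]
  have F2 : Fr3 f (b + d) d := by
    refine ⟨ff, b'b', F1.ww, fb', fd, b'd, ?_⟩
    intro x y w h
    have e0 := congrFun h 0
    have e2 := congrFun h 2
    have e4 := congrFun h 4
    simp [hf, hb, hdd] at e0 e2 e4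
    rw [e2, zero_add] at e4
    exact ⟨e0, e2, e4⟩
  have eb' : hermForm 6 F 2 e (b + d) = 0 := by
    rw [herm_add_right hF, F1.uv, F1.uw, add_zero]
  have bb' : hermForm 6 F 2 b (b + d) = 0 := by
    rw [herm_add_right hF, F1.vv, F1.vw, add_zero]
  have hne : lift b ≠ lift (b + d) := by
    intro h
    obtain ⟨c, -, hc⟩ := (L.lift_eq_iff F1.vv b'b' F1.v_ne F2.v_ne).1 h
    have := (F1.ind 0 (c - 1) (-1) (by
      rw [zero_smul, zero_add, sub_smul, one_smul, ← hc, neg_smul, one_smul]
      abel)).2.2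
    exact one_ne_zero (neg_eq_zero.1 this)
  -- the commuting elements
  have k1 : ¬ Commute (lift e) (lift f) := fun h =>
    fe ((L.commute_iff F1.uu ff F1.u_ne F2.u_ne).1 h)
  have k3 : (lift e * lift f) ^ 3 = 1 := by
    have := (L.isThreeTranspositionClass).1.2 _ (Lab.mem_D F1.u_ne F1.uu) _ (Lab.mem_D F2.u_ne ff)
    rcases this with h | h
    · exfalso
      apply k1
      have h' : lift e * lift f * (lift e * lift f) = 1 := by rw [← pow_two]; exact h
      show lift e * lift f = lift f * lift e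
      calc lift e * lift f = (lift e * lift f) * (lift e * lift f) * (lift f * lift e) := by
            have s1 := L.sq e F1.u_ne F1.uu
            have s2 := L.sq f F2.u_ne ff
            calc lift e * lift f = lift e * lift f * (lift e * (lift e)) := by rw [s1, mul_one]
              _ = lift e * lift f * (lift e * (lift f * lift f) * lift e) := by
                rw [s2, mul_one]
              _ = _ := by group
        _ = lift f * lift e := by rw [h', one_mul]
    · exact h
  have cb : Commute (lift e) (lift b) := lift_comm L F1.uu F1.vv F1.u_ne F1.v_ne F1.uv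
  have cb' : Commute (lift e) (lift (b + d)) := lift_comm L F1.uu b'b' F1.u_ne F2.v_ne eb'
  have cd : Commute (lift e) (lift d) := lift_comm L F1.uu F1.ww F1.u_ne F1.w_ne F1.uw
  have fb_ : Commute (lift f) (lift b) := lift_comm L ff F1.vv F2.u_ne F1.v_ne fb
  have fb'_ : Commute (lift f) (lift (b + d)) := lift_comm L ff b'b' F2.u_ne F2.v_ne fb'
  have fd_ : Commute (lift f) (lift d) := lift_comm L ff F1.ww F2.u_ne F1.w_ne fd
  have bb'_ : Commute (lift b) (lift (b + d)) := lift_comm L F1.vv b'b' F1.v_ne F2.v_ne bb'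
  have bd_ : Commute (lift b) (lift d) := lift_comm L F1.vv F1.ww F1.v_ne F1.w_ne F1.vw
  have b'd_ : Commute (lift (b + d)) (lift d) := lift_comm L b'b' F1.ww F2.v_ne F1.w_ne b'd
  have sb := L.sq b F1.v_ne F1.vv
  have sb' := L.sq (b + d) F2.v_ne b'b'
  have sd := L.sq d F1.w_ne F1.ww
  rcases h with h | ⟨u, hu0, hu, h⟩ | ⟨u, v, hfr, h⟩ | ⟨u, v, w, hfr, h⟩
  · exact Or.inl h
  · exact Or.inr ⟨u, hu0, hu, h⟩
  · exfalso
    obtain ⟨c₁, p1, p2⟩ := trans_pairs L hfr F1.fr2
    obtain ⟨c₂, q1, q2⟩ := trans_pairs L hfr F2.fr2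
    have E1 : c₁ * β * c₁⁻¹ = c₀ * (lift e * lift b) := by
      rw [h, conj_central h0 hz, ← p1, ← p2]
      group
    have E2 : c₂ * β * c₂⁻¹ = c₀ * (lift f * lift (b + d)) := by
      rw [h, conj_central h0 hz, ← q1, ← q2]
      group
    have := abs_six (A := lift e) (A' := lift f) (B := lift b) (B' := lift (b + d)) k1 k3 cb cb'
      fb_ fb'_ bb'_ sb sb' hne
    have hd' := hd c₁ c₂
    rw [E1, E2, central_mul_central h0 hz L.ext.zz, central_mul_central h0 hz L.ext.zz] at hd'
    rcases hd' with h5 | h5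
    · exact this.1 h5
    · exact this.2 h5
  · exfalso
    obtain ⟨c₁, p1, p2, p3⟩ := trans_frames L hfr F1
    obtain ⟨c₂, q1, q2, q3⟩ := trans_frames L hfr F2
    have E1 : c₁ * β * c₁⁻¹ = c₀ * (lift e * (lift b * lift d)) := by
      rw [h, conj_central h0 hz, ← p1, ← p2, ← p3]
      group
    have E2 : c₂ * β * c₂⁻¹ = c₀ * (lift f * (lift (b + d) * lift d)) := by
      rw [h, conj_central h0 hz, ← q1, ← q2, ← q3]
      group
    have := abs_six (A := lift e) (A' := lift f) (B := lift b * lift d)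
      (B' := lift (b + d) * lift d) k1 k3 (cb.mul_right cd) (cb'.mul_right cd)
      (fb_.mul_right fd_) (fb'_.mul_right fd_)
      ((bb'_.mul_right bd_).mul_left (b'd_.symm.mul_right (Commute.refl _)))
      (by
        calc lift b * lift d * (lift b * lift d) = lift b * (lift d * lift b) * lift d := by group
          _ = lift b * (lift b * lift d) * lift d := by rw [bd_.eq]
          _ = (lift b * lift b) * (lift d * lift d) := by group
          _ = 1 := by rw [sb, sd, mul_one])
      (by
        calc lift (b + d) * lift d * (lift (b + d) * lift d) =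
              lift (b + d) * (lift d * lift (b + d)) * lift d := by group
          _ = lift (b + d) * (lift (b + d) * lift d) * lift d := by rw [b'd_.eq]
          _ = (lift (b + d) * lift (b + d)) * (lift d * lift d) := by group
          _ = 1 := by rw [sb', sd, mul_one])
      (fun h => hne (mul_right_cancel h))
    have hd' := hd c₁ c₂
    rw [E1, E2, central_mul_central h0 hz L.ext.zz, central_mul_central h0 hz L.ext.zz] at hd'
    rcases hd' with h5 | h5
    · exact this.1 h5
    · exact this.2 h5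

/-- **Five members with product in the centre are the points of a line.** -/
theorem five_prod (L : Lab hF π z ε lift) {u v p q r : Fin 6 → F} (hu0 : u ≠ 0) (hv0 : v ≠ 0)
    (hp0 : p ≠ 0) (hq0 : q ≠ 0) (hr0 : r ≠ 0)
    (hu : hermForm 6 F 2 u u = 0) (hv : hermForm 6 F 2 v v = 0) (hp : hermForm 6 F 2 p p = 0)
    (hq : hermForm 6 F 2 q q = 0) (hr : hermForm 6 F 2 r r = 0)
    (cuv : Commute (lift u) (lift v)) (cup : Commute (lift u) (lift p))
    (cuq : Commute (lift u) (lift q)) (cur : Commute (lift u) (lift r))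
    (cvp : Commute (lift v) (lift p)) (cvq : Commute (lift v) (lift q))
    (cvr : Commute (lift v) (lift r)) (cpq : Commute (lift p) (lift q))
    (cpr : Commute (lift p) (lift r)) (cqr : Commute (lift q) (lift r))
    (nuv : lift u ≠ lift v) (nup : lift u ≠ lift p) (nuq : lift u ≠ lift q)
    (nur : lift u ≠ lift r) (nvp : lift v ≠ lift p) (nvq : lift v ≠ lift q)
    (nvr : lift v ≠ lift r) (npq : lift p ≠ lift q) (npr : lift p ≠ lift r)
    (nqr : lift q ≠ lift r)
    (h : π (lift u * lift v * (lift p * lift q * lift r)) = 1) :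
    lift u * lift v * (lift p * lift q * lift r) = ε := by
  obtain ⟨ω, hω⟩ := exists_omega hF
  have huv := (L.commute_iff hu hv hu0 hv0).1 cuv
  have hup := (L.commute_iff hu hp hu0 hp0).1 cup
  have huq := (L.commute_iff hu hq hu0 hq0).1 cuq
  have hur := (L.commute_iff hu hr hu0 hr0).1 cur
  have hvp := (L.commute_iff hv hp hv0 hp0).1 cvp
  have hvq := (L.commute_iff hv hq hv0 hq0).1 cvq
  have hvr := (L.commute_iff hv hr hv0 hr0).1 cvr
  have hpq := (L.commute_iff hp hq hp0 hq0).1 cpq
  have hpr := (L.commute_iff hp hr hp0 hr0).1 cpr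
  have hqr := (L.commute_iff hq hr hq0 hr0).1 cqr
  have htau : tau hF u * tau hF v * tau hF p * tau hF q * tau hF r = 1 := by
    rw [map_mul, map_mul, map_mul, map_mul, L.map u hu0 hu,
      L.map v hv0 hv, L.map p hp0 hp, L.map q hq0 hq, L.map r hr0 hr] at h
    rw [← h]
    group
  have rel := five_rel hF hu0 hu hv hp hq hr huv hup huq hur hvp hvq hvr hpq hpr hqr htau
  have hne : ∀ {x y : Fin 6 → F}, x ≠ 0 → hermForm 6 F 2 y y = 0 →
      lift x ≠ lift y → ¬ ∃ c : F, x = c • y := by
    rintro x y hx0 hy h ⟨c, rfl⟩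
    apply h
    have hc0 : c ≠ 0 := by
      rintro rfl
      exact hx0 (zero_smul _ _)
    rw [L.smul y c hy hc0]
  have hvu' := hne hv0 hu nuv.symm
  obtain ⟨a1, b1, e1⟩ := line_of_rel hF hu0 hv0 hvu' (hne hp0 hq npq) (hne hp0 hr npr) rel
  obtain ⟨a2, b2, e2⟩ := line_of_rel hF hu0 hv0 hvu' (hne hq0 hp npq.symm) (hne hq0 hr nqr)
    (fun y => by rw [← rel y]; abel)
  obtain ⟨a3, b3, e3⟩ := line_of_rel hF hu0 hv0 hvu' (hne hr0 hp npr.symm) (hne hr0 hq nqr.symm)
    (fun y => by rw [← rel y]; abel)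
  have g1 := pt_cases L hω hp0 hu hv huv nup.symm nvp.symm e1
  have g2 := pt_cases L hω hq0 hu hv huv nuq.symm nvq.symm e2
  have g3 := pt_cases L hω hr0 hu hv huv nur.symm nvr.symm e3
  have hline := L.line u v hu0 hv0 hu hv huv hvu' ω hω
  have assoc5 : ∀ x y w : C, lift u * lift v * (x * y * w) = lift u * lift v * x * y * w := by
    intro x y w; group
  rcases g1 with g1 | g1 | g1 <;> rcases g2 with g2 | g2 | g2 <;>
    rcases g3 with g3 | g3 | g3
  · exact absurd (g1.trans g2.symm) npq
  · exact absurd (g1.trans g2.symm) npq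
  · exact absurd (g1.trans g2.symm) npq
  · exact absurd (g1.trans g3.symm) npr
  · exact absurd (g2.trans g3.symm) nqr
  · rw [g1, g2, g3, assoc5, hline]
  · exact absurd (g1.trans g3.symm) npr
  · rw [mul_assoc (lift p), cqr.eq, ← mul_assoc (lift p), g1, g2, g3, assoc5, hline]
  · exact absurd (g2.trans g3.symm) nqr
  · exact absurd (g2.trans g3.symm) nqr
  · exact absurd (g1.trans g3.symm) npr
  · rw [cpq.eq, g1, g2, g3, assoc5, hline]
  · exact absurd (g1.trans g2.symm) npq
  · exact absurd (g1.trans g2.symm) npq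
  · exact absurd (g1.trans g2.symm) npq
  · -- p = ω, q = ω², r = 1
    have : lift p * lift q * lift r = lift r * lift p * lift q := by
      rw [(cpr.mul_left cqr).eq]; group
    rw [this, g1, g2, g3, assoc5, hline]
  · exact absurd (g1.trans g3.symm) npr
  · exact absurd (g2.trans g3.symm) nqr
  · exact absurd (g2.trans g3.symm) nqr
  · -- p = ω², q = 1, r = ω
    have : lift p * lift q * lift r = lift q * lift r * lift p := by
      rw [mul_assoc, (cpq.mul_right cpr).eq]
    rw [this, g1, g2, g3, assoc5, hline]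
  · exact absurd (g1.trans g3.symm) npr
  · -- p = ω², q = ω, r = 1
    have : lift p * lift q * lift r = lift r * lift q * lift p := by
      rw [cpq.eq, (cqr.mul_left cpr).eq]; group
    rw [this, g1, g2, g3, assoc5, hline]
  · exact absurd (g2.trans g3.symm) nqr
  · exact absurd (g1.trans g3.symm) npr
  · exact absurd (g1.trans g2.symm) npq
  · exact absurd (g1.trans g2.symm) npq
  · exact absurd (g1.trans g2.symm) npq

end Cfsg.Agent.R08.CohLab
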