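import Cfsg.Agent.R08.CohRank
import Cfsg.Agent.R08.CohLab

/-!
Coherence, part 2: an element interchanging `u` and `r` maps the members of `D₀` commuting with `r` to
members of `D₀`.
-/

set_option autoImplicit false
set_option linter.unusedSectionVars false

namespace Cfsg.Agent.R08.CohMain

open Cfsg Cfsg.Agent.LieClassical.HermBasic
open Cfsg.Agent.R01.Lifts Cfsg.Agent.R01.FiFusion Cfsg.Agent.R01.FiFacts
  Cfsg.Agent.R01.FiHexad Cfsg.Agent.R01.FiMain Cfsg.Agent.R08.CohUniq Cfsg.Agent.R08.CohRank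
  Cfsg.Agent.R08.CohLab Cfsg.Agent.R01.Label
open Cfsg.Agent.R01.Start (zel)
open Cfsg.Agent.R01.Closing (mem_cent)
open Cfsg.Agent.R01.Loc (Loc)

variable {G Φ : Type*} [Group G] [Group Φ]

variable {L : Subgroup G} {π : L →* Φ} {u : L} {T : Set Φ} {D : Set L}

/-- The members of `D` commuting with `r` and different from `r`. -/
def Pi (D : Set L) (r : L) : Set L := {x | x ∈ D ∧ x ≠ r ∧ x * r = r * x}

/-- The elements `1, u, r, ur`. -/
def V1 (u r v : L) : Prop := v = 1 ∨ v = u ∨ v = r ∨ v = u * r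

theorem V1.comm (h : Ctx L π u T D) {r v k : L} (hv : V1 u r v) (hk : k * r = r * k) :
    k * v = v * k := by
  have hu := h.lift.ext.comm k
  rcases hv with rfl | rfl | rfl | rfl
  · group
  · exact hu
  · exact hk
  · calc k * (u * r) = (k * u) * r := by group
      _ = u * (k * r) := by rw [hu]; group
      _ = u * r * k := by rw [hk]; group

theorem V1.sq (h : Ctx L π u T D) {r v : L} (hr : r ∈ D) (hv : V1 u r v) : v * v = 1 := by
  have h1 := h.lift.ext.zz
  have h2 := h.lift.sq r hr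
  have h3 := h.lift.ext.comm r
  rcases hv with rfl | rfl | rfl | rfl
  · group
  · exact h1
  · exact h2
  · calc u * r * (u * r) = u * (r * u) * r := by group
      _ = u * (u * r) * r := by rw [h3]
      _ = (u * u) * (r * r) := by group
      _ = 1 := by rw [h1, h2, mul_one]

/-- Elements of the centraliser of `π r` lift to the centraliser of `r`. -/
theorem exists_lift_cent (h : Ctx L π u T D) {r : L} (hr : r ∈ D) {c : Φ}
    (hc : c * π r = π r * c) : ∃ k : L, π k = c ∧ k * r = r * k := by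
  obtain ⟨k, rfl⟩ := h.lift.ext.surj c
  refine ⟨k, rfl, ?_⟩
  have := conj_eq h.lift hr hr (k := k) (by rw [hc, mul_inv_cancel_right])
  calc k * r = (k * r * k⁻¹) * k := by group
    _ = r * k := by rw [this]

theorem Pi.conj (h : Ctx L π u T D) {r x k : L} (hx : x ∈ Pi D r) (hk : k * r = r * k) :
    k * x * k⁻¹ ∈ Pi D r := by
  obtain ⟨h1, h2, h3⟩ := hx
  have hkr : k⁻¹ * r = r * k⁻¹ := by
    calc k⁻¹ * r = k⁻¹ * (r * k) * k⁻¹ := by group
      _ = k⁻¹ * (k * r) * k⁻¹ := by rw [hk]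
      _ = r * k⁻¹ := by group
  refine ⟨h.lift.conj k x h1, ?_, ?_⟩
  · intro e
    apply h2
    calc x = k⁻¹ * (k * x * k⁻¹) * k := by group
      _ = k⁻¹ * r * k := by rw [e]
      _ = r := by rw [hkr]; group
  · calc k * x * k⁻¹ * r = k * x * (k⁻¹ * r) := by group
      _ = k * (x * r) * k⁻¹ := by rw [hkr]; group
      _ = k * (r * x) * k⁻¹ := by rw [h3]
      _ = (k * r) * x * k⁻¹ := by group
      _ = r * (k * x * k⁻¹) := by rw [hk]; group

section main

variable {F : Type*} [Field F] [Fintype F] {hF : Fintype.card F = 2 ^ 2}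

/-- Transitivity on `Pi`. -/
theorem Pi.trans (h : Ctx L π u T D) (hL : Loc hF T) {r x y : L} (hr : r ∈ D) (hx : x ∈ Pi D r)
    (hy : y ∈ Pi D r) : ∃ k : L, k * r = r * k ∧ k * x * k⁻¹ = y := by
  obtain ⟨x1, x2, x3⟩ := hx
  obtain ⟨y1, y2, y3⟩ := hy
  obtain ⟨g, g1, g2⟩ := R01.KeyFi22.trans_pairs h.facts.conj hL h.facts.trans (π r) (h.lift.map _ hr)
    (π x) (h.lift.map _ x1) (π r) (h.lift.map _ hr) (π y) (h.lift.map _ y1)
    (fun e => x2 (h.lift.inj _ x1 _ hr e.symm)) (fun e => y2 (h.lift.inj _ y1 _ hr e.symm))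
    (by rw [← map_mul, ← map_mul, x3]) (by rw [← map_mul, ← map_mul, y3])
  obtain ⟨k, rfl⟩ := h.lift.ext.surj g
  refine ⟨k, ?_, conj_eq h.lift x1 y1 g2⟩
  have := conj_eq h.lift hr hr g1
  calc k * r = (k * r * k⁻¹) * k := by group
    _ = r * k := by rw [this]

/-- The element `n` interchanges `u` and `r`. -/
structure Swap (u r : L) (n : G) : Prop where
  ur : n * (u : G) * n⁻¹ = r
  ru : n * (r : G) * n⁻¹ = u

theorem Swap.inv {r : L} {n : G} (s : Swap u r n) : Swap u r n⁻¹ := by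
  refine ⟨?_, ?_⟩
  · rw [← s.ru]; group
  · rw [← s.ur]; group

/-- The conjugate under `n` of an element of `L` commuting with `r`. -/
theorem Swap.mem (h : Ctx L π u T D) {r : L} (hr : r ∈ D) {n : G} (s : Swap u r n) {x : L}
    (hx : x * r = r * x) : ∃ y : L, (y : G) = n * x * n⁻¹ ∧ y * r = r * y := by
  have e1 : (x : G) * r = r * x := by exact_mod_cast congrArg Subtype.val hx
  have e2 : (x : G) * u = u * x := by exact_mod_cast congrArg Subtype.val (h.lift.ext.comm x)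
  have e3 : (n * x * n⁻¹) * (u : G) = u * (n * x * n⁻¹) := by
    rw [← s.ru]
    calc n * x * n⁻¹ * (n * r * n⁻¹) = n * ((x : G) * r) * n⁻¹ := by group
      _ = n * (r * (x : G)) * n⁻¹ := by rw [e1]
      _ = _ := by group
  have e4 : (n * x * n⁻¹) * (r : G) = r * (n * x * n⁻¹) := by
    rw [← s.ur]
    calc n * x * n⁻¹ * (n * u * n⁻¹) = n * ((x : G) * u) * n⁻¹ := by group
      _ = n * (u * (x : G)) * n⁻¹ := by rw [e2]
      _ = _ := by group
  exact ⟨⟨_, h.cent _ e3 r hr e4⟩, rfl, Subtype.ext e4⟩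

/-- **The rank is one.** -/
theorem Swap.rank (h : Ctx L π u T D) (hL : Loc hF T) {r : L} (hr : r ∈ D) {n : G}
    (s : Swap u r n) {x : L} (hx : x ∈ Pi D r) :
    ∃ v y : L, V1 u r v ∧ y ∈ Pi D r ∧ n * x * n⁻¹ = v * y := by
  obtain ⟨x', hx', hxr⟩ := s.mem h hr hx.2.2
  obtain ⟨πt, lift, Lb, hiff⟩ := hL _ (h.lift.map _ hr)
  have hx1 := h.lift.sq x hx.1
  have hx's : x' * x' = 1 := by
    apply Subtype.ext
    have : (x : G) * x = 1 := by exact_mod_cast congrArg Subtype.val hx1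
    show (x' : G) * x' = 1
    rw [hx']
    calc n * x * n⁻¹ * (n * x * n⁻¹) = n * ((x : G) * x) * n⁻¹ := by group
      _ = 1 := by rw [this]; group
  obtain ⟨β, hβ⟩ : ∃ β : Subgroup.centralizer ({π r} : Set Φ), (β : Φ) = π x' :=
    ⟨⟨π x', mem_cent.mpr (by rw [← map_mul, ← map_mul, hxr])⟩, rfl⟩
  have hββ : β * β = 1 := Subtype.ext (by
    show (β : Φ) * β = 1
    rw [hβ, ← map_mul, hx's, map_one])
  have hd : ∀ c₁ c₂ : Subgroup.centralizer ({π r} : Set Φ),
      (c₁ * β * c₁⁻¹) * (c₂ * β * c₂⁻¹) = (c₂ * β * c₂⁻¹) * (c₁ * β * c₁⁻¹) ∨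
      ((c₁ * β * c₁⁻¹) * (c₂ * β * c₂⁻¹)) ^ 3 = 1 := by
    have key : ∀ c : Subgroup.centralizer ({π r} : Set Φ), ∃ w ∈ D, ∃ w' : L,
        (w' : G) = n * w * n⁻¹ ∧ π w' = ((c * β * c⁻¹ : Subgroup.centralizer ({π r} : Set Φ)) : Φ)
        := by
      intro c
      obtain ⟨k, hk, hkr⟩ := exists_lift_cent h hr (mem_cent.mp c.2)
      obtain ⟨k', hk', hkr'⟩ := s.inv.mem h hr hkr
      refine ⟨k' * x * k'⁻¹, h.lift.conj _ _ hx.1, k * x' * k⁻¹, ?_, ?_⟩
      · push_cast
        rw [hx', hk', inv_inv]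
        group
      · rw [map_mul, map_mul, map_inv, hk, ← hβ]
        rfl
    intro c₁ c₂
    obtain ⟨w₁, m1, w₁', e1, f1⟩ := key c₁
    obtain ⟨w₂, m2, w₂', e2, f2⟩ := key c₂
    rcases h.lift.three w₁ m1 w₂ m2 with h3 | h3
    · left
      have h4 : w₁' * w₂' = w₂' * w₁' := by
        apply Subtype.ext
        show (w₁' : G) * w₂' = w₂' * w₁'
        have h5 : (w₁ : G) * w₂ = w₂ * w₁ := by exact_mod_cast congrArg Subtype.val h3
        rw [e1, e2]
        calc n * w₁ * n⁻¹ * (n * w₂ * n⁻¹) = n * ((w₁ : G) * w₂) * n⁻¹ := by group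
          _ = n * ((w₂ : G) * w₁) * n⁻¹ := by rw [h5]
          _ = _ := by group
      apply Subtype.ext
      show ((c₁ * β * c₁⁻¹ : Subgroup.centralizer ({π r} : Set Φ)) : Φ) *
        ((c₂ * β * c₂⁻¹ : Subgroup.centralizer ({π r} : Set Φ)) : Φ) =
        ((c₂ * β * c₂⁻¹ : Subgroup.centralizer ({π r} : Set Φ)) : Φ) *
        ((c₁ * β * c₁⁻¹ : Subgroup.centralizer ({π r} : Set Φ)) : Φ)
      rw [← f1, ← f2, ← map_mul, ← map_mul, h4]
    · right
      have h4 : (w₁' * w₂') ^ 3 = 1 := by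
        apply Subtype.ext
        show ((w₁' : G) * w₂') ^ 3 = 1
        have h5 : ((w₁ : G) * w₂) ^ 3 = 1 := by exact_mod_cast congrArg Subtype.val h3
        have h6 : (w₁' : G) * w₂' = n * ((w₁ : G) * w₂) * n⁻¹ := by rw [e1, e2]; group
        rw [h6, conj_pow, h5]
        group
      apply Subtype.ext
      show (((c₁ * β * c₁⁻¹ : Subgroup.centralizer ({π r} : Set Φ)) : Φ) *
        ((c₂ * β * c₂⁻¹ : Subgroup.centralizer ({π r} : Set Φ)) : Φ)) ^ 3 = 1
      rw [← f1, ← f2, ← map_mul, ← map_pow, h4, map_one]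
  obtain ⟨c₀, h0, hc⟩ := rank_of_three Lb hββ hd
  -- the lift of `c₀`
  obtain ⟨v₀, hv₀, hv₀'⟩ : ∃ v₀ : L, V1 u r v₀ ∧ π v₀ = (c₀ : Φ) := by
    rcases h0 with rfl | rfl
    · exact ⟨1, Or.inl rfl, by rw [map_one]; rfl⟩
    · exact ⟨r, Or.inr (Or.inr (Or.inl rfl)), rfl⟩
  have hv₁ : V1 u r (v₀ * u) := by
    have huu := h.lift.ext.zz
    rcases hv₀ with rfl | rfl | rfl | rfl
    · right; left; rw [one_mul]
    · left; exact huu
    · right; right; right; rw [h.lift.ext.comm]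
    · right; right; left
      rw [mul_assoc, h.lift.ext.comm, ← mul_assoc, huu, one_mul]
  rcases hc with hc | ⟨w, hw0, hw, hc⟩
  · exfalso
    have h1 : π x' = π v₀ := by rw [hv₀', ← hc, hβ]
    have h2 : V1 u r x' := by
      rcases h.lift.ext.map_eq.1 h1 with h2 | h2
      · rw [h2]; exact hv₀
      · rw [h2]; exact hv₁
    have h3 : (x : G) = n⁻¹ * x' * n := by rw [hx']; group
    rcases h2 with rfl | rfl | rfl | rfl
    · apply h.r_ne hx.1
      apply Subtype.ext
      rw [h3]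
      show n⁻¹ * (1 : G) * n = 1
      group
    · apply hx.2.1
      apply Subtype.ext
      rw [h3, ← s.ru]
      group
    · apply h.u_ne hx.1
      apply Subtype.ext
      rw [h3, ← s.ur]
      group
    · apply h.lift.nz r hr
      have h4 : x = r * u := by
        apply Subtype.ext
        rw [h3]
        show n⁻¹ * ((u : G) * r) * n = r * u
        calc n⁻¹ * ((u : G) * r) * n = (n⁻¹ * u * n) * (n⁻¹ * r * n) := by group
          _ = r * u := by
            nth_rw 1 [← s.ru]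
            nth_rw 2 [← s.ur]
            group
      rw [← h4]
      exact hx.1
  · have hwT : (lift w : Φ) ∈ T := (hiff _).2 (Or.inr (Lab.mem_D hw0 hw))
    obtain ⟨y, hy, hyw⟩ := h.lift.surj _ hwT
    have hyr : y * r = r * y := h.lift.comm _ hy _ hr (by
      rw [hyw]; exact (R01.AllOfLab.zel_comm (lift w)).symm)
    have hyn : y ≠ r := by
      intro e
      apply Lb.z_notMem
      have : zel (π r) = lift w := Subtype.ext (by rw [← hyw, e]; rfl)
      rw [this]
      exact Lab.mem_D hw0 hw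
    have h1 : π x' = π (v₀ * y) := by
      rw [map_mul, hv₀', hyw, ← hβ, hc]
      rfl
    rcases h.lift.ext.map_eq.1 h1 with h2 | h2
    · exact ⟨v₀, y, hv₀, ⟨hy, hyn, hyr⟩, by rw [← hx', h2]; rfl⟩
    · refine ⟨v₀ * u, y, hv₁, ⟨hy, hyn, hyr⟩, ?_⟩
      rw [← hx', h2]
      have h3 := h.lift.ext.comm y
      have : v₀ * y * u = v₀ * u * y := by
        rw [mul_assoc, h3, mul_assoc]
      rw [this]
      rfl

/-- The factor is the same for all members. -/
theorem Swap.factor (h : Ctx L π u T D) (hL : Loc hF T) {r : L} (hr : r ∈ D) {n : G}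
    (s : Swap u r n) : ∃ v : L, V1 u r v ∧ ∀ x ∈ Pi D r, ∃ y ∈ Pi D r, n * x * n⁻¹ = v * y := by
  by_cases hne : ∃ x, x ∈ Pi D r
  · obtain ⟨x₀, hx₀⟩ := hne
    obtain ⟨v, y₀, hv, hy₀, e₀⟩ := s.rank h hL hr hx₀
    refine ⟨v, hv, ?_⟩
    intro x hx
    obtain ⟨k, hkr, hk⟩ := Pi.trans h hL hr hx₀ hx
    obtain ⟨k', hk', hkr'⟩ := s.mem h hr hkr
    refine ⟨k' * y₀ * k'⁻¹, Pi.conj h hy₀ hkr', ?_⟩
    have h1 := hv.comm h hkr'
    have h1' : (k' : G) * v = v * k' := by exact_mod_cast congrArg Subtype.val h1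
    have h2 : (x : G) = k * x₀ * (k : G)⁻¹ := by rw [← hk]; rfl
    push_cast
    calc n * x * n⁻¹ = (n * k * n⁻¹) * (n * x₀ * n⁻¹) * (n * k * n⁻¹)⁻¹ := by rw [h2]; group
      _ = (k' * v) * y₀ * (k' : G)⁻¹ := by rw [← hk', e₀]; group
      _ = v * (k' * y₀ * (k' : G)⁻¹) := by rw [h1']; group
  · exact ⟨1, Or.inl rfl, fun x hx => absurd ⟨x, hx⟩ hne⟩

/-- **Coherence.** -/
theorem coherent (h : Ctx L π u T D) (hL : Loc hF T) {r : L} (hr : r ∈ D) {n : G}
    (s : Swap u r n) : ∀ x ∈ Pi D r, ∃ y ∈ Pi D r, n * x * n⁻¹ = y := by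
  obtain ⟨v, hv, hvf⟩ := s.factor h hL hr
  have huu : u * u = 1 := h.lift.ext.zz
  have hrr : r * r = 1 := h.lift.sq r hr
  have hur : u * r = r * u := (h.lift.ext.comm r).symm
  -- the conjugate of an element of `V1`
  by_cases hne : ∃ x, x ∈ Pi D r
  swap
  · exact fun x hx => absurd ⟨x, hx⟩ hne
  obtain ⟨x₀, hx₀⟩ := hne
  -- `v ∈ {1, ur}`
  have hv' : v = 1 ∨ v = u * r := by
    have main : n * (v : G) * n⁻¹ * v = u * r → False := by
      intro hm
      obtain ⟨y, hy, e1⟩ := hvf x₀ hx₀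
      obtain ⟨w, hw, e2⟩ := hvf y hy
      have e3 : n * (n * x₀ * n⁻¹) * n⁻¹ = u * r * w := by
        rw [e1]
        calc n * (v * y) * n⁻¹ = (n * v * n⁻¹) * (n * y * n⁻¹) := by group
          _ = (n * v * n⁻¹ * v) * w := by rw [e2]; group
          _ = u * r * w := by rw [hm]
      -- `n ^ 2 ∈ L`
      have c1 : n * n * (u : G) = u * (n * n) := by
        calc n * n * (u : G) = n * (n * u * n⁻¹) * n := by group
          _ = (n * r * n⁻¹) * (n * n) := by rw [s.ur]; group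
          _ = u * (n * n) := by rw [s.ru]
      have c2 : n * n * (r : G) = r * (n * n) := by
        calc n * n * (r : G) = n * (n * r * n⁻¹) * n := by group
          _ = (n * u * n⁻¹) * (n * n) := by rw [s.ru]; group
          _ = r * (n * n) := by rw [s.ur]
      have hm2 := h.cent _ c1 r hr c2
      obtain ⟨m, hm3⟩ : ∃ m : L, (m : G) = n * n := ⟨⟨_, hm2⟩, rfl⟩
      have e4 : m * x₀ * m⁻¹ = u * r * w := by
        apply Subtype.ext
        push_cast
        rw [hm3, ← e3]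
        group
      have h5 : m * x₀ * m⁻¹ ∈ D := h.lift.conj m x₀ hx₀.1
      have h6 := h.lift.map _ h5
      rw [e4, map_mul, map_mul, h.lift.ext.mapz, one_mul] at h6
      exact h.facts.two _ (h.lift.map _ hr) _ (h.lift.map _ hw.1)
        (fun e => hw.2.1 (h.lift.inj _ hw.1 _ hr e.symm))
        (by rw [← map_mul, ← map_mul, hw.2.2]) h6
    rcases hv with hv | hv | hv | hv
    · exact Or.inl hv
    · exfalso
      apply main
      rw [hv, s.ur]
      exact_mod_cast (congrArg Subtype.val hur).symm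
    · exfalso
      apply main
      rw [hv, s.ru]
    · exact Or.inr hv
  rcases hv' with rfl | rfl
  · intro x hx
    obtain ⟨y, hy, e⟩ := hvf x hx
    exact ⟨y, hy, by rw [e]; show (1 : G) * y = y; rw [one_mul]⟩
  -- the case `v = ur`
  exfalso
  obtain ⟨w, tr⟩ := h.exists_third hr hx₀.1 hx₀.2.1.symm hx₀.2.2.symm
  obtain ⟨a', b', c', H⟩ := h.facts.hex _ _ _ (tri_map h.lift tr)
  obtain ⟨a, ha, rfl⟩ := h.lift.surj _ H.t'.mx
  obtain ⟨b, hb, rfl⟩ := h.lift.surj _ H.t'.my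
  obtain ⟨c, hc, rfl⟩ := h.lift.surj _ H.t'.mw
  have hsign := h.sign r hr x₀ hx₀.1 w tr.mw a ha b hb c hc H
  have pw : w ∈ Pi D r := ⟨tr.mw, tr.xw.symm, tr.cxw.symm⟩
  have pa : a ∈ Pi D r := ⟨ha, fun e => H.aa (by rw [e]), h.lift.comm _ ha _ hr H.caa.symm⟩
  have pb : b ∈ Pi D r := ⟨hb, fun e => H.ab (by rw [e]), h.lift.comm _ hb _ hr H.cab.symm⟩
  have pc : c ∈ Pi D r := ⟨hc, fun e => H.ac (by rw [e]), h.lift.comm _ hc _ hr H.cac.symm⟩
  obtain ⟨X, pX, eX⟩ := hvf _ hx₀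
  obtain ⟨W, pW, eW⟩ := hvf _ pw
  obtain ⟨A, pA, eA⟩ := hvf _ pa
  obtain ⟨B, pB, eB⟩ := hvf _ pb
  obtain ⟨E, pE, eE⟩ := hvf _ pc
  have hVc : ∀ y ∈ Pi D r, y * (u * r) = u * r * y := fun y hy => hv.comm h hy.2.2
  have hVs : (u * r) * (u * r) = 1 := hv.sq h hr
  -- the product
  have hprod : X * W * (A * B * E) = 1 := by
    have h1 : (u : G) * (((u * r * X : L) : G) * ((u * r * W : L) : G) *
        (((u * r * A : L) : G) * ((u * r * B : L) : G) * ((u * r * E : L) : G))) = r := by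
      have h2 : (r : G) * x₀ * w * (a * b * c) = u := by exact_mod_cast congrArg Subtype.val hsign
      have h3 : n * ((r : G) * x₀ * w * (a * b * c)) * n⁻¹ = r := by rw [h2, s.ur]
      rw [← h3, ← s.ru]
      push_cast
      push_cast at eX eW eA eB eE
      rw [← eX, ← eW, ← eA, ← eB, ← eE]
      group
    have h4 : u * ((u * r * X) * (u * r * W) * ((u * r * A) * (u * r * B) * (u * r * E))) = r :=
      Subtype.ext (by push_cast; push_cast at h1; exact h1)
    have cX := hVc X pX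
    have cW := hVc W pW
    have cA := hVc A pA
    have cB := hVc B pB
    obtain ⟨q, hq⟩ : ∃ q : L, q = u * r := ⟨_, rfl⟩
    rw [← hq] at h4 cX cW cA cB hVs
    have h5 : q * X * (q * W) * (q * A * (q * B) * (q * E)) = q * (X * W * (A * B * E)) := by
      calc q * X * (q * W) * (q * A * (q * B) * (q * E))
          = q * (X * q) * W * q * A * q * B * q * E := by group
        _ = (q * q) * X * (W * q) * A * q * B * q * E := by rw [cX]; group
        _ = X * q * (W * (A * q)) * B * q * E := by rw [hVs, cW]; group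
        _ = X * q * (W * q) * A * B * q * E := by rw [cA]; group
        _ = X * (q * q) * W * A * B * q * E := by rw [cW]; group
        _ = X * W * A * (B * q) * E := by rw [hVs]; group
        _ = X * W * (A * q) * B * E := by rw [cB]; group
        _ = X * (W * q) * A * B * E := by rw [cA]; group
        _ = (X * q) * W * A * B * E := by rw [cW]; group
        _ = q * (X * W * (A * B * E)) := by rw [cX]; group
    rw [h5, hq] at h4
    have h6 : r * (X * W * (A * B * E)) = r := by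
      calc r * (X * W * (A * B * E)) = (u * u) * r * (X * W * (A * B * E)) := by
            rw [huu, one_mul]
        _ = u * (u * r * (X * W * (A * B * E))) := by group
        _ = r := h4
    exact mul_eq_left.mp h6
  -- the members are different and commute
  have hcommn : ∀ {x y x' y' : L}, (n * x * n⁻¹ : G) = (u * r : L) * x' →
      (n * y * n⁻¹ : G) = (u * r : L) * y' → x' ∈ Pi D r → y' ∈ Pi D r → x * y = y * x →
      x' * y' = y' * x' := by
    intro x y x' y' e1 e2 m1 m2 hxy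
    have h1 := hVc x' m1
    have h2 := hVc y' m2
    have h3 : (u * r * x') * (u * r * y') = (u * r * y') * (u * r * x') := by
      apply Subtype.ext
      have h4 : (x : G) * y = y * x := by exact_mod_cast congrArg Subtype.val hxy
      show (((u * r : L) : G) * x') * (((u * r : L) : G) * y') =
        (((u * r : L) : G) * y') * (((u * r : L) : G) * x')
      rw [← e1, ← e2]
      calc n * x * n⁻¹ * (n * y * n⁻¹) = n * ((x : G) * y) * n⁻¹ := by group
        _ = n * ((y : G) * x) * n⁻¹ := by rw [h4]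
        _ = _ := by group
    calc x' * y' = (u * r * (u * r)) * (x' * y') := by rw [hVs, one_mul]
      _ = u * r * (u * r * x') * y' := by group
      _ = u * r * (x' * (u * r)) * y' := by rw [h1]
      _ = (u * r * x') * (u * r * y') := by group
      _ = (u * r * y') * (u * r * x') := h3
      _ = u * r * (y' * (u * r)) * x' := by group
      _ = u * r * (u * r * y') * x' := by rw [h2]
      _ = (u * r * (u * r)) * (y' * x') := by group
      _ = y' * x' := by rw [hVs, one_mul]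
  have hnen : ∀ {x y x' y' : L}, (n * x * n⁻¹ : G) = (u * r : L) * x' →
      (n * y * n⁻¹ : G) = (u * r : L) * y' → x ≠ y → x' ≠ y' := by
    rintro x y x' y' e1 e2 hxy rfl
    apply hxy
    apply Subtype.ext
    calc (x : G) = n⁻¹ * (n * x * n⁻¹) * n := by group
      _ = n⁻¹ * (n * y * n⁻¹) * n := by rw [e1, e2]
      _ = y := by group
  have hpi : ∀ {x y : L}, x ∈ D → y ∈ D → π x ≠ π y → x ≠ y := fun _ _ h e => h (by rw [e])
  have nxw : x₀ ≠ w := tr.yw
  have nxa : x₀ ≠ a := fun e => H.ba (by rw [e])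
  have nxb : x₀ ≠ b := fun e => H.bb (by rw [e])
  have nxc : x₀ ≠ c := fun e => H.bc (by rw [e])
  have nwa : w ≠ a := fun e => H.ca (by rw [e])
  have nwb : w ≠ b := fun e => H.cb (by rw [e])
  have nwc : w ≠ c := fun e => H.cc (by rw [e])
  have nab : a ≠ b := fun e => H.t'.xy (by rw [e])
  have nac : a ≠ c := fun e => H.t'.xw (by rw [e])
  have nbc : b ≠ c := fun e => H.t'.yw (by rw [e])
  have cxw := tr.cyw
  have cxa := h.lift.comm _ hx₀.1 _ ha H.cba
  have cxb := h.lift.comm _ hx₀.1 _ hb H.cbb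
  have cxc := h.lift.comm _ hx₀.1 _ hc H.cbc
  have cwa := h.lift.comm _ tr.mw _ ha H.cca
  have cwb := h.lift.comm _ tr.mw _ hb H.ccb
  have cwc := h.lift.comm _ tr.mw _ hc H.ccc
  have cab := h.lift.comm _ ha _ hb H.t'.cxy
  have cac := h.lift.comm _ ha _ hc H.t'.cxw
  have cbc := h.lift.comm _ hb _ hc H.t'.cyw
  -- the labels
  obtain ⟨πt, lift, Lb, hiff⟩ := hL _ (h.lift.map _ hr)
  have hlab : ∀ {y : L}, y ∈ Pi D r → ∃ p : Fin 6 → F, p ≠ 0 ∧ hermForm 6 F 2 p p = 0 ∧
      π y = (lift p : Φ) := by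
    intro y hy
    obtain ⟨p, hp0, hp, e⟩ := R01.AllOfLab.mem_Dset_of hiff (h.lift.map _ hy.1)
      (by rw [← map_mul, ← map_mul, hy.2.2])
      (fun e => hy.2.1 (h.lift.inj _ hy.1 _ hr e))
    exact ⟨p, hp0, hp, congrArg Subtype.val e⟩
  obtain ⟨p1, p10, p11, l1⟩ := hlab pX
  obtain ⟨p2, p20, p21, l2⟩ := hlab pW
  obtain ⟨p3, p30, p31, l3⟩ := hlab pA
  obtain ⟨p4, p40, p41, l4⟩ := hlab pB
  obtain ⟨p5, p50, p51, l5⟩ := hlab pE
  have toC : ∀ {y y' : L} {p p' : Fin 6 → F}, π y = (lift p : Φ) → π y' = (lift p' : Φ) →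
      y * y' = y' * y → Commute (lift p) (lift p') := by
    intro y y' p p' e e' hc
    rw [R01.AllOfLab.comm_coe, ← e, ← e', ← map_mul, ← map_mul, hc]
  have toN : ∀ {y y' : L} {p p' : Fin 6 → F}, π y = (lift p : Φ) → π y' = (lift p' : Φ) →
      y ∈ D → y' ∈ D → y ≠ y' → lift p ≠ lift p' := by
    intro y y' p p' e e' m m' hn hl
    exact hn (h.lift.inj _ m _ m' (by rw [e, e', hl]))
  have hone : lift p1 * lift p2 * (lift p3 * lift p4 * lift p5) = 1 := by
    apply Subtype.ext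
    show (lift p1 : Φ) * lift p2 * (lift p3 * lift p4 * lift p5) = 1
    rw [← l1, ← l2, ← l3, ← l4, ← l5]
    simp only [← map_mul]
    rw [hprod, map_one]
  have := five_prod Lb p10 p20 p30 p40 p50 p11 p21 p31 p41 p51
    (toC l1 l2 (hcommn eX eW pX pW cxw)) (toC l1 l3 (hcommn eX eA pX pA cxa))
    (toC l1 l4 (hcommn eX eB pX pB cxb)) (toC l1 l5 (hcommn eX eE pX pE cxc))
    (toC l2 l3 (hcommn eW eA pW pA cwa)) (toC l2 l4 (hcommn eW eB pW pB cwb))
    (toC l2 l5 (hcommn eW eE pW pE cwc)) (toC l3 l4 (hcommn eA eB pA pB cab))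
    (toC l3 l5 (hcommn eA eE pA pE cac)) (toC l4 l5 (hcommn eB eE pB pE cbc))
    (toN l1 l2 pX.1 pW.1 (hnen eX eW nxw)) (toN l1 l3 pX.1 pA.1 (hnen eX eA nxa))
    (toN l1 l4 pX.1 pB.1 (hnen eX eB nxb)) (toN l1 l5 pX.1 pE.1 (hnen eX eE nxc))
    (toN l2 l3 pW.1 pA.1 (hnen eW eA nwa)) (toN l2 l4 pW.1 pB.1 (hnen eW eB nwb))
    (toN l2 l5 pW.1 pE.1 (hnen eW eE nwc)) (toN l3 l4 pA.1 pB.1 (hnen eA eB nab))
    (toN l3 l5 pA.1 pE.1 (hnen eA eE nac)) (toN l4 l5 pB.1 pE.1 (hnen eB eE nbc))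
    (by rw [hone, map_one])
  rw [hone] at this
  exact Lb.ext.zne this.symm

/-- Coherence, combined with the interchanging element: the form used for the gluing. -/
theorem exists_coherent (h : Ctx L π u T D) (hL : Loc hF T) {r : L} (hr : r ∈ D) {g : G}
    (hg : g * (u : G) * g⁻¹ = r) : ∃ n : G, n * (u : G) * n⁻¹ = r ∧ n * (r : G) * n⁻¹ = u ∧
      ∀ x ∈ D, x ≠ r → x * r = r * x → ∃ y ∈ D, y ≠ r ∧ y * r = r * y ∧ (y : G) = n * x * n⁻¹ := by
  obtain ⟨n, n1, n2⟩ := h.exists_interchange hr hg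
  refine ⟨n, n1, n2, ?_⟩
  intro x hx hxr hxc
  obtain ⟨y, hy, e⟩ := coherent h hL hr ⟨n1, n2⟩ x ⟨hx, hxr, hxc⟩
  exact ⟨y, hy.1, hy.2.1, hy.2.2, e.symm⟩

end main

end Cfsg.Agent.R08.CohMain
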