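import Cfsg.Agent.R08.ThreeDuo

/-!
# R08 (S1715): existence of the swapping element (helper878)

`exists_duo`: for `a ∈ Q b` of type `S` there is `w ∈ Q (b a)` which swaps `a` and `b` and has the
properties `ThreeDuo.Duo`.
-/

set_option autoImplicit false

namespace Cfsg.Agent.R08.DuoExists

open Cfsg.Agent.R08.Iface Cfsg.Agent.R08.InvHerm

section Lab

variable {F : Type*} [Field F] {G : Type*} [Group G] {Q M : Subgroup G} {z : G}

/-- `y ⊥ a` iff `y` commutes with all elements over the `F`-point of `a`. -/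
theorem perp_iff (L : Lab F Q M z) {y a : G} (hy : y ∈ Q) :
    H (L.v y) (L.v a) = 0 ↔ ∀ u ∈ Q, (∃ k : F, L.v u = k • L.v a) → y * u = u * y := by
  have hF := L.card
  constructor
  · rintro h u hu ⟨k, hk⟩
    apply (L.comm_iff y hy u hu).2
    left
    rw [hk, H_smul_right hF, h, mul_zero]
  · intro h
    have key : ∀ k : F, k ^ 2 * H (L.v y) (L.v a) = 0 ∨ k ^ 2 * H (L.v y) (L.v a) = 1 := by
      intro k
      obtain ⟨u, hu, hv⟩ := L.v_surj (k • L.v a)
      have h1 := (L.comm_iff y hy u hu).1 (h u hu ⟨k, hv⟩)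
      rwa [hv, H_smul_right hF] at h1
    by_contra h0
    rcases key 1 with h1 | h1
    · rw [one_pow, one_mul] at h1; exact h0 h1
    · rw [one_pow, one_mul] at h1
      obtain ⟨ω, hω⟩ := exists_omega hF
      rcases key ω with h2 | h2
      · rw [h1, mul_one] at h2
        have h3 : ω = 0 := by
          by_contra h3
          exact pow_ne_zero 2 h3 h2
        rw [h3] at hω
        norm_num at hω
      · rw [h1, mul_one] at h2
        have h3 : ω = 0 := by
          have := two_eq hF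
          linear_combination hω - h2 - this
        rw [h3] at h2
        norm_num at h2

end Lab

variable {F : Type*} [Field F] {G : Type*} [Group G]

theorem exists_duo (S : Sys.Sys F G) (g : InvHerm.Geo F) {b a : G} (hb : b ∈ S.Z)
    (ha : a ∈ S.Q b) (haS : IsS ((S.lab b hb).v a)) :
    ∃ w, w ∈ S.Q (b * a) ∧ ThreeDuo.Duo (S.lab b hb) a w := by
  set L := S.lab b hb with hL
  have hF := L.card
  have hbQ : b ∈ S.Q b := L.large.z_mem
  have hbb : b * b = 1 := L.large.z_sq
  have haa : a * a = 1 := (L.sq_iff a ha).2 ((g.S_iff _).1 haS).2.1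
  have hv0 : L.v a ≠ 0 := ((g.S_iff _).1 haS).1
  have ha1 : a ≠ 1 := fun h => hv0 (by rw [h, L.v_one])
  have hab : a ≠ b := fun h => hv0 (by rw [h, L.v_z])
  have hcomm : a * b = b * a := L.large.comm_z a ha
  -- `c = b a`
  have hcQ : b * a ∈ S.Q b := (S.Q b).mul_mem hbQ ha
  have hcv : L.v (b * a) = L.v a := by rw [L.v_mul b hbQ a ha, L.v_z, zero_add]
  have hcZ : b * a ∈ S.Z := S.tS b hb _ hcQ (by rw [← hL, hcv]; exact haS)
  have haZ : a ∈ S.Z := S.tS b hb _ ha haS
  have hcb : b * a ≠ b := fun h => ha1 (mul_eq_left.1 h)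
  have hbc : b ∈ S.Q (b * a) := S.sym b hb _ hcZ hcQ hcb
  set Lc := S.lab (b * a) hcZ with hLc
  have hccc : b * a * (b * a) = 1 := Lc.large.z_sq
  -- `w`
  obtain ⟨w, hw, hwb⟩ : ∃ w ∈ S.Q (b * a), w * b = b * w * (b * a) := by
    have h0 : Lc.v b ≠ 0 := by
      intro h
      rcases (Lc.v_eq_zero b hbc).1 h with h | h
      · rw [h] at hbb
        have : L.v a = 0 := by
          have h1 : b ∈ S.Q b := hbQ
          exact absurd h L.large.z_ne
        exact hv0 this
      · exact hcb h.symm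
    obtain ⟨y0, hy0⟩ := exists_dual hF h0
    obtain ⟨ω, hω⟩ := exists_omega hF
    obtain ⟨w, hw, hwv⟩ := Lc.v_surj (ω • y0)
    refine ⟨w, hw, (Lc.comm_z_iff hw hbc).2 ?_⟩
    rw [hwv, H_smul_left hF, hy0, mul_one]
    rintro (h | h)
    · rw [h] at hω; norm_num at hω
    · rw [h] at hω
      have := two_eq hF
      have h3 : (1 : F) = 0 := by linear_combination hω - this
      exact one_ne_zero h3
  have hwc : w * (b * a) = b * a * w := Lc.large.comm_z w hw
  have hba : b * (b * a) = a := by rw [← mul_assoc, hbb, one_mul]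
  have hwz : w * b * w⁻¹ = a := by
    rw [hwb, mul_assoc b w, hwc, ← mul_assoc, hba]
    group
  have hwa : w * a * w⁻¹ = b := by
    calc w * a * w⁻¹ = w * (b * (b * a)) * w⁻¹ := by rw [hba]
      _ = (w * b * w⁻¹) * (w * (b * a) * w⁻¹) := by group
      _ = a * (b * a) := by rw [hwz, hwc, mul_inv_cancel_right]
      _ = (a * b) * a := by group
      _ = b * (a * a) := by rw [hcomm]; group
      _ = b := by rw [haa, mul_one]
  have hwinvc : w⁻¹ ∈ S.Q (b * a) := (S.Q (b * a)).inv_mem hw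
  have hbQa : b ∈ S.Q a := S.sym b hb a haZ ha hab
  have hba' : b ≠ a := fun h => hab h.symm
  set La := S.lab a haZ with hLa
  -- the set `B`
  have hB : ∀ u, (u ∈ S.Q b ∧ ∃ k : F, L.v u = k • L.v a) ↔
      (u ∈ S.Q a ∧ ∃ k : F, La.v u = k • La.v b) := by
    intro u
    constructor
    · rintro ⟨hu, h⟩
      exact S.p4 b hb a haZ ha hab u hu h
    · rintro ⟨hu, h⟩
      exact S.p4 a haZ b hb hbQa hba' u hu h
  have hBconj : ∀ x ∈ S.Q (b * a), ∀ u, (u ∈ S.Q b ∧ ∃ k : F, L.v u = k • L.v a) →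
      (x * u * x⁻¹ ∈ S.Q b ∧ ∃ k : F, L.v (x * u * x⁻¹) = k • L.v a) := by
    rintro x hx u ⟨hu, k, hk⟩
    have huc : u ∈ S.Q (b * a) :=
      (S.p4 b hb (b * a) hcZ hcQ hcb u hu ⟨k, by rw [← hL, hcv]; exact hk⟩).1
    rcases Lc.large.comm x hx u huc with h | h
    · rw [h, mul_inv_cancel_right]; exact ⟨hu, k, hk⟩
    · have hxc : x * (b * a) = b * a * x := Lc.large.comm_z x hx
      have e : x * u * x⁻¹ = u * (b * a) := by
        rw [h, mul_assoc u x, hxc, ← mul_assoc, mul_inv_cancel_right]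
      rw [e]
      refine ⟨(S.Q b).mul_mem hu hcQ, k + 1, ?_⟩
      rw [L.v_mul u hu _ hcQ, hcv, hk, add_smul, one_smul]
  refine ⟨w, hw, ha, haS, hwz, hwa, ?_, ?_, ?_⟩
  · rcases Lc.large.sq w hw with h | h
    · rw [h]; exact (S.Q b).one_mem
    · rw [h]; exact hcQ
  · intro y hy hyR hya hyS
    have hyc : y ∈ S.Q (b * a) := by
      refine S.p2 b hb (b * a) hcZ hcQ hcb y hy hyR ?_ ?_
      · rw [← hL, hcv]; exact hya
      · rw [← hL, hcv]; exact hyS
    rcases Lc.large.comm w hw y hyc with h | h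
    · left; rw [h, mul_inv_cancel_right]
    · right
      rw [h, mul_assoc y w, hwc, ← mul_assoc, mul_inv_cancel_right]
  · intro y hy hya
    have hxQ : w * y * w⁻¹ ∈ S.Q a := by
      have := S.Q_conj b hb w y hy
      rwa [hwz] at this
    have hxb : (w * y * w⁻¹) * b = b * (w * y * w⁻¹) := by
      calc (w * y * w⁻¹) * b = (w * y * w⁻¹) * (w * a * w⁻¹) := by rw [hwa]
        _ = w * (y * a) * w⁻¹ := by group
        _ = w * (a * y) * w⁻¹ := by rw [hya]
        _ = (w * a * w⁻¹) * (w * y * w⁻¹) := by group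
        _ = b * (w * y * w⁻¹) := by rw [hwa]
    rw [S.p5 b hb a haZ ha hab _ hxQ hxb, ← hLa, perp_iff La hxQ, perp_iff L hy]
    constructor
    · intro h u hu hk
      obtain ⟨h1, h2⟩ := (hB _).1 (hBconj w hw u ⟨hu, hk⟩)
      have h3 := h _ h1 h2
      calc y * u = w⁻¹ * ((w * y * w⁻¹) * (w * u * w⁻¹)) * w := by group
        _ = w⁻¹ * ((w * u * w⁻¹) * (w * y * w⁻¹)) * w := by rw [h3]
        _ = u * y := by group
    · intro h u hu hk
      obtain ⟨h1, h2⟩ := hBconj w⁻¹ hwinvc u ((hB u).2 ⟨hu, hk⟩)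
      rw [inv_inv] at h1 h2
      have h3 := h _ h1 h2
      calc (w * y * w⁻¹) * u = w * (y * (w⁻¹ * u * w)) * w⁻¹ := by group
        _ = w * ((w⁻¹ * u * w) * y) * w⁻¹ := by rw [h3]
        _ = u * (w * y * w⁻¹) := by group

end Cfsg.Agent.R08.DuoExists
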