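import Mathlib.GroupTheory.SemidirectProduct
import Mathlib.GroupTheory.Abelianization.Defs
import Cfsg.Prelude.Def_Spor_Fi24
import Cfsg.Prelude.Def_Spor_Fi23

/-!
The even part of the presented group `Fi24` maps to every group containing elements `x s` (`s` a generator of `Fi23`)
and `w` with the relations of `l * s` and `l * k`: use the wreath product `(G × G) ⋊ C2`.
-/

set_option autoImplicit false
set_option linter.constructorNameAsVariable false

namespace Cfsg.Agent.R08.Even

open Cfsg.Spor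

universe u

/-- The swap action of `ℤˣ` on `G × G`. -/
def swapHom (G : Type u) [Group G] : ℤˣ →* MulAut (G × G) where
  toFun e := if e = 1 then 1 else MulEquiv.prodComm
  map_one' := by simp
  map_mul' := by
    intro a b
    rcases Int.units_eq_one_or a with rfl | rfl <;> rcases Int.units_eq_one_or b with rfl | rfl
    · simp
    · simp
    · simp
    · have h : ((-1 : ℤˣ) * -1) = 1 := by decide
      rw [h, if_pos rfl, if_neg (by decide)]
      ext x <;> rfl

/-- The wreath product. -/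
abbrev Wr (G : Type u) [Group G] : Type u := (G × G) ⋊[swapHom G] ℤˣ

variable {G : Type u} [Group G]

/-- The involution attached to `u`. -/
def F (u : G) : Wr G := ⟨(u, u⁻¹), -1⟩

/-- Pairs. -/
def D (p q : G) : Wr G := ⟨(p, q), 1⟩

theorem F_mul_F (u v : G) : F u * F v = D (u * v⁻¹) (u⁻¹ * v) := by
  apply SemidirectProduct.ext
  · show (u, u⁻¹) * (swapHom G (-1)) (v, v⁻¹) = _
    have h : (swapHom G (-1)) (v, v⁻¹) = (v⁻¹, v) := by
      show (if (-1 : ℤˣ) = 1 then (1 : MulAut (G × G)) else MulEquiv.prodComm) (v, v⁻¹) = _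
      rw [if_neg (by decide)]
      rfl
    rw [h]
    rfl
  · show (-1 : ℤˣ) * -1 = 1
    decide

theorem D_mul_D (p q p' q' : G) : D p q * D p' q' = D (p * p') (q * q') := by
  apply SemidirectProduct.ext
  · show (p, q) * (swapHom G 1) (p', q') = _
    rw [map_one]
    rfl
  · rfl

theorem D_one : D (1 : G) 1 = 1 := rfl

theorem D_pow (p q : G) (n : ℕ) : D p q ^ n = D (p ^ n) (q ^ n) := by
  induction n with
  | zero => rw [pow_zero, pow_zero, pow_zero, D_one]
  | succ n ih => rw [pow_succ, ih, D_mul_D, pow_succ, pow_succ]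

theorem F_sq (u : G) : F u * F u = 1 := by
  rw [F_mul_F, mul_inv_cancel, inv_mul_cancel, D_one]

theorem D_eq_one {p q : G} (hp : p = 1) (hq : q = 1) : D p q = 1 := by rw [hp, hq, D_one]

/-- The relations. -/
structure Rel (x : Fi23.Gen → G) (w : G) : Prop where
  cox : ∀ s t, (x s * x t) ^ coxLabel Fi23.edges s t = 1
  seven : (x .a * x .b * x .c * x .d * x .e * x .f * x .h) ^ 9 = 1
  w3 : w ^ 3 = 1
  inv : ∀ s, s ≠ .a → (x s * w) ^ 2 = 1
  wa : (x .a * w) ^ 3 = 1
  wa' : (x .a * w⁻¹) ^ 3 = 1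

/-- The elements of `G` attached to the generators. -/
def U (x : Fi23.Gen → G) (w : G) : Fi24.Gen → G
  | .l => 1 | .k => w | .a => x .a | .b => x .b | .c => x .c | .d => x .d | .e => x .e | .f => x .f | .g => x .g
  | .j => x .j | .h => x .h | .i => x .i

/-- The generators of `Fi23` among those of `Fi24`. -/
def up : Fi23.Gen → Fi24.Gen
  | .a => .a | .b => .b | .c => .c | .d => .d | .e => .e | .f => .f | .g => .g | .j => .j | .h => .h | .i => .i

variable {x : Fi23.Gen → G} {w : G}

theorem U_up (s : Fi23.Gen) : U x w (up s) = x s := by cases s <;> rfl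

theorem gen_cases (z : Fi24.Gen) : z = .l ∨ z = .k ∨ ∃ s, z = up s := by
  cases z
  · exact Or.inl rfl
  · exact Or.inr (Or.inl rfl)
  · exact Or.inr (Or.inr ⟨.a, rfl⟩)
  · exact Or.inr (Or.inr ⟨.b, rfl⟩)
  · exact Or.inr (Or.inr ⟨.c, rfl⟩)
  · exact Or.inr (Or.inr ⟨.d, rfl⟩)
  · exact Or.inr (Or.inr ⟨.e, rfl⟩)
  · exact Or.inr (Or.inr ⟨.f, rfl⟩)
  · exact Or.inr (Or.inr ⟨.g, rfl⟩)
  · exact Or.inr (Or.inr ⟨.j, rfl⟩)
  · exact Or.inr (Or.inr ⟨.h, rfl⟩)
  · exact Or.inr (Or.inr ⟨.i, rfl⟩)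

theorem Rel.sq (h : Rel x w) (s : Fi23.Gen) : x s * x s = 1 := by
  have h1 := h.cox s s
  have hl : coxLabel Fi23.edges s s = 1 := by cases s <;> decide
  rwa [hl, pow_one] at h1

theorem Rel.inv_x (h : Rel x w) (s : Fi23.Gen) : (x s)⁻¹ = x s := inv_eq_of_mul_eq_one_left (h.sq s)

theorem pow_swap {a b : G} {n : ℕ} (h : (a * b) ^ n = 1) : (b * a) ^ n = 1 := by
  have h1 : b * a = a⁻¹ * (a * b) * a := by group
  have h2 : (a⁻¹ * (a * b) * a) ^ n = a⁻¹ * (a * b) ^ n * a := by
    have := conj_pow (i := n) (a := a⁻¹) (b := a * b)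
    simpa using this
  rw [h1, h2, h, mul_one, inv_mul_cancel]

/-- Twisted form of the Coxeter relations. -/
theorem Rel.coxU (h : Rel x w) (s t : Fi24.Gen) :
    ((U x w s)⁻¹ * U x w t) ^ coxLabel Fi24.edges s t = 1 := by
  have hinv := h.inv_x
  have one23 : ∀ s, (x s) ^ 2 = 1 := fun s => by rw [pow_two, h.sq]
  have key : ∀ s, s ≠ .a → (x s * w) ^ 2 = 1 ∧ (w⁻¹ * x s) ^ 2 = 1 := by
    intro s hs
    have h1 := h.inv s hs
    refine ⟨h1, ?_⟩
    have h2 : (w⁻¹ * x s) ^ 2 = ((x s * w) ^ 2)⁻¹ := by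
      rw [← inv_pow, mul_inv_rev, hinv]
    rw [h2, h1, inv_one]
  rcases gen_cases s with rfl | rfl | ⟨s, rfl⟩ <;> rcases gen_cases t with rfl | rfl | ⟨t, rfl⟩
  · show ((1 : G)⁻¹ * 1) ^ _ = 1
    simp
  · show ((1 : G)⁻¹ * w) ^ _ = 1
    have hl : coxLabel Fi24.edges .l .k = 3 := by decide
    rw [hl, inv_one, one_mul, h.w3]
  · rw [U_up]
    show ((1 : G)⁻¹ * x t) ^ _ = 1
    have hl : coxLabel Fi24.edges .l (up t) = 2 := by cases t <;> decide
    rw [hl, inv_one, one_mul, one23]
  · show (w⁻¹ * 1) ^ _ = 1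
    have hl : coxLabel Fi24.edges .k .l = 3 := by decide
    rw [hl, mul_one, inv_pow, h.w3, inv_one]
  · show (w⁻¹ * w) ^ _ = 1
    simp
  · rw [U_up]
    show (w⁻¹ * x t) ^ _ = 1
    by_cases ht : t = .a
    · subst ht
      have hl : coxLabel Fi24.edges .k (up .a) = 3 := by decide
      rw [hl]
      exact pow_swap h.wa'
    · have hl : coxLabel Fi24.edges .k (up t) = 2 := by
        revert ht
        cases t <;> decide
      rw [hl]
      exact (key t ht).2
  · rw [U_up]
    show ((x s)⁻¹ * 1) ^ _ = 1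
    have hl : coxLabel Fi24.edges (up s) .l = 2 := by cases s <;> decide
    rw [hl, hinv, mul_one, one23]
  · rw [U_up]
    show ((x s)⁻¹ * w) ^ _ = 1
    rw [hinv]
    by_cases hs : s = .a
    · subst hs
      have hl : coxLabel Fi24.edges (up .a) .k = 3 := by decide
      rw [hl]
      exact h.wa
    · have hl : coxLabel Fi24.edges (up s) .k = 2 := by
        revert hs
        cases s <;> decide
      rw [hl]
      exact (key s hs).1
  · rw [U_up, U_up, hinv]
    have hl : coxLabel Fi24.edges (up s) (up t) = coxLabel Fi23.edges s t := by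
      cases s <;> cases t <;> decide
    rw [hl]
    exact h.cox s t

theorem Rel.symm (h : Rel x w) : Rel x w⁻¹ where
  cox := h.cox
  seven := h.seven
  w3 := by rw [inv_pow, h.w3, inv_one]
  inv := by
    intro s hs
    have h1 := h.inv s hs
    have h2 : (x s * w⁻¹) ^ 2 = ((w * x s) ^ 2)⁻¹ := by
      rw [← inv_pow, mul_inv_rev, h.inv_x]
    rw [h2, pow_swap h1, inv_one]
  wa := h.wa'
  wa' := by rw [inv_inv]; exact h.wa

theorem Rel.coxU' (h : Rel x w) (s t : Fi24.Gen) :
    (U x w s * (U x w t)⁻¹) ^ coxLabel Fi24.edges s t = 1 := by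
  have h1 := h.symm.coxU s t
  have e : ∀ z, U x w⁻¹ z = (U x w z)⁻¹ := by
    intro z
    rcases gen_cases z with rfl | rfl | ⟨s, rfl⟩
    · show (1 : G) = 1⁻¹
      simp
    · rfl
    · rw [U_up, U_up, h.inv_x]
  rwa [e, e, inv_inv] at h1

theorem Rel.coxF (h : Rel x w) (s t : Fi24.Gen) :
    (F (U x w s) * F (U x w t)) ^ coxLabel Fi24.edges s t = 1 := by
  rw [F_mul_F, D_pow, h.coxU, h.coxU', D_one]

/-- The product of `F` over a word. -/
theorem Rel.sevenF (h : Rel x w) :
    (F (x .a) * F (x .b) * F (x .c) * F (x .d) * F (x .e) * F (x .f) * F (x .h)) ^ 9 = F (1 : G) := by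
  have hinv := h.inv_x
  have hF : ∀ s, F (x s) = F (1 : G) * D (x s) (x s) := by
    intro s
    apply SemidirectProduct.ext
    · show (x s, (x s)⁻¹) = ((1 : G), (1 : G)⁻¹) * (swapHom G (-1)) (x s, x s)
      have hh : (swapHom G (-1)) (x s, x s) = (x s, x s) := by
        show (if (-1 : ℤˣ) = 1 then (1 : MulAut (G × G)) else MulEquiv.prodComm) (x s, x s) = _
        rw [if_neg (by decide)]
        rfl
      rw [hh, hinv, inv_one]
      simp
    · rfl
  have hc : ∀ p : G, D p p * F (1 : G) = F 1 * D p p := by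
    intro p
    apply SemidirectProduct.ext
    · show (p, p) * (swapHom G 1) (1, (1 : G)⁻¹) = ((1 : G), (1 : G)⁻¹) * (swapHom G (-1)) (p, p)
      have hh : (swapHom G (-1)) (p, p) = (p, p) := by
        show (if (-1 : ℤˣ) = 1 then (1 : MulAut (G × G)) else MulEquiv.prodComm) (p, p) = _
        rw [if_neg (by decide)]
        rfl
      rw [hh, map_one]
      simp
    · rfl
  have hcomm : ∀ p : G, Commute (F (1 : G)) (D p p) := fun p => (hc p).symm
  have h7 : F (x .a) * F (x .b) * F (x .c) * F (x .d) * F (x .e) * F (x .f) * F (x .h) =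
      F 1 ^ 7 * D (x .a * x .b * x .c * x .d * x .e * x .f * x .h)
        (x .a * x .b * x .c * x .d * x .e * x .f * x .h) := by
    have step : ∀ (n : ℕ) (p : G) (s : Fi23.Gen), F 1 ^ n * D p p * F (x s) =
        F 1 ^ (n + 1) * D (p * x s) (p * x s) := by
      intro n p s
      rw [hF s, ← D_mul_D, pow_succ]
      calc F 1 ^ n * D p p * (F 1 * D (x s) (x s)) = F 1 ^ n * (D p p * F 1) * D (x s) (x s) := by
            simp only [mul_assoc]
        _ = F 1 ^ n * (F 1 * D p p) * D (x s) (x s) := by rw [hc]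
        _ = _ := by simp only [mul_assoc]
    have h1 : F (x .a) = F (1 : G) ^ 1 * D (x .a) (x .a) := by rw [pow_one, ← hF]
    rw [h1, step, step, step, step, step, step]
  rw [h7]
  have h8 : Commute (F (1 : G) ^ 7) (D (x .a * x .b * x .c * x .d * x .e * x .f * x .h)
        (x .a * x .b * x .c * x .d * x .e * x .f * x .h)) := (hcomm _).pow_left 7
  rw [h8.mul_pow, D_pow, h.seven, D_one, mul_one, ← pow_mul]
  show F 1 ^ 63 = F 1
  rw [show (63 : ℕ) = 2 * 31 + 1 from rfl, pow_succ, pow_mul, pow_two, F_sq, one_pow, one_mul]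

/-! ### Words -/

/-- The product of `F` over a word. -/
def wF (x : Fi23.Gen → G) (w : G) (v : List Fi24.Gen) : Wr G := (v.map fun s => F (U x w s)).prod

/-- Alternating product `u₁⁻¹ u₂ u₃⁻¹ u₄ …` (`false`) or `u₁ u₂⁻¹ u₃ u₄⁻¹ …` (`true`). -/
def alt (x : Fi23.Gen → G) (w : G) : Bool → List Fi24.Gen → G
  | _, [] => 1
  | false, s :: v => (U x w s)⁻¹ * alt x w true v
  | true, s :: v => U x w s * alt x w false v

theorem wF_eq (v : List Fi24.Gen) :
    wF x w v = ⟨(alt x w true v, alt x w false v), (-1) ^ v.length⟩ := by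
  unfold wF
  induction v with
  | nil => rfl
  | cons s v ih =>
    rw [List.map_cons, List.prod_cons, ih]
    apply SemidirectProduct.ext
    · show (U x w s, (U x w s)⁻¹) * (swapHom G (-1)) (alt x w true v, alt x w false v) = _
      have h : (swapHom G (-1)) (alt x w true v, alt x w false v) = (alt x w false v, alt x w true v) := by
        show (if (-1 : ℤˣ) = 1 then (1 : MulAut (G × G)) else MulEquiv.prodComm) _ = _
        rw [if_neg (by decide)]
        rfl
      rw [h]
      rfl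
    · show (-1 : ℤˣ) * (-1) ^ v.length = (-1) ^ (s :: v).length
      rw [List.length_cons, pow_succ, mul_comm]

theorem wF_even {v : List Fi24.Gen} (hv : (-1 : ℤˣ) ^ v.length = 1) :
    wF x w v = D (alt x w true v) (alt x w false v) := by
  rw [wF_eq, hv]
  rfl

/-- The word of the second relator. -/
def w17 : List Fi24.Gen := [.d, .c, .b, .a, .k, .l, .d, .e, .f, .g, .j, .d, .h, .i]

theorem relators_hold (h : Rel x w) (h17 : wF x w w17 ^ 17 = 1) :
    ∀ r ∈ coxRelators Fi24.edges ∪ {r | r ∈ Fi24.extra}, FreeGroup.lift (fun s => F (U x w s)) r = 1 := by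
  rintro r (⟨s, -, t, -, rfl⟩ | hr)
  · rw [map_pow, map_mul, FreeGroup.lift_apply_of, FreeGroup.lift_apply_of]
    exact h.coxF s t
  · have hr' : r = Fi24.l * (((Fi24.a * Fi24.b * Fi24.c * Fi24.d * Fi24.e * Fi24.f * Fi24.h) ^ 9)⁻¹) ∨
        r = (Fi24.d * Fi24.c * Fi24.b * Fi24.a * Fi24.k * Fi24.l * Fi24.d * Fi24.e * Fi24.f *
          Fi24.g * Fi24.j * Fi24.d * Fi24.h * Fi24.i) ^ 17 := by
      simpa [Fi24.extra] using hr
    rcases hr' with rfl | rfl
    · rw [map_mul, map_inv, mul_inv_eq_one]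
      simp only [map_pow, map_mul, FreeGroup.lift_apply_of]
      exact h.sevenF.symm
    · simp only [map_pow, map_mul, FreeGroup.lift_apply_of]
      have h1 : wF x w w17 = F (U x w .d) * F (U x w .c) * F (U x w .b) * F (U x w .a) * F (U x w .k) *
          F (U x w .l) * F (U x w .d) * F (U x w .e) * F (U x w .f) * F (U x w .g) * F (U x w .j) *
          F (U x w .d) * F (U x w .h) * F (U x w .i) := by
        unfold wF w17
        simp only [List.map_cons, List.map_nil, List.prod_cons, List.prod_nil, mul_one, mul_assoc]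
      rw [← h1]
      exact h17

/-- The homomorphism of the presented group to the wreath product. -/
def Φ (h : Rel x w) (h17 : wF x w w17 ^ 17 = 1) : Fi24 →* Wr G :=
  PresentedGroup.toGroup (relators_hold h h17)

theorem Φ_of (h : Rel x w) (h17 : wF x w w17 ^ 17 = 1) (s : Fi24.Gen) :
    Φ h h17 (PresentedGroup.of s) = F (U x w s) := PresentedGroup.toGroup.of _

theorem right_eq_one (h : Rel x w) (h17 : wF x w w17 ^ 17 = 1) (g : Fi24) (hg : g ∈ commutator Fi24) :
    (Φ h h17 g).right = 1 := by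
  have h1 : commutator Fi24 ≤ ((SemidirectProduct.rightHom (φ := swapHom G)).comp (Φ h h17)).ker :=
    Abelianization.commutator_subset_ker _
  exact MonoidHom.mem_ker.1 (h1 hg)

/-- The homomorphism of the commutator subgroup of the presented group. -/
def φ (h : Rel x w) (h17 : wF x w w17 ^ 17 = 1) : Fi24' →* G where
  toFun g := (Φ h h17 g.1).left.2
  map_one' := by
    show (Φ h h17 1).left.2 = 1
    rw [map_one]
    rfl
  map_mul' := by
    intro a b
    show (Φ h h17 (a.1 * b.1)).left.2 = (Φ h h17 a.1).left.2 * (Φ h h17 b.1).left.2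
    rw [map_mul, SemidirectProduct.mul_left, right_eq_one h h17 a.1 a.2, map_one]
    rfl

theorem φ_apply (h : Rel x w) (h17 : wF x w w17 ^ 17 = 1) (g : Fi24) (hg : g ∈ commutator Fi24) {p q : G}
    (hpq : Φ h h17 g = D p q) : φ h h17 ⟨g, hg⟩ = q := by
  show (Φ h h17 g).left.2 = q
  rw [hpq]
  rfl

/-- The value on products of two generators. -/
theorem φ_mul (h : Rel x w) (h17 : wF x w w17 ^ 17 = 1) (s t : Fi24.Gen)
    (hst : (PresentedGroup.of s * PresentedGroup.of t : Fi24) ∈ commutator Fi24) :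
    φ h h17 ⟨PresentedGroup.of s * PresentedGroup.of t, hst⟩ = (U x w s)⁻¹ * U x w t := by
  apply φ_apply (p := U x w s * (U x w t)⁻¹)
  rw [map_mul, Φ_of, Φ_of, F_mul_F]

end Cfsg.Agent.R08.Even
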