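import Cfsg.Agent.Fischer.Fi24Real
import Cfsg.Agent.Fischer.Fi24Spider
import Cfsg.Agent.R08.FiTwentyThree
import Cfsg.Agent.S1697

/-!
The local structure of the presented group `Fi24`, given the facts about the index and the order of
`H = ⟨a, …, j, l⟩`: for two commuting transpositions `a ≠ b` the centraliser of `{a, b}` in the commutator subgroup is
a double cover of `Fi22` with kernel `⟨ab⟩`, the products `ac`, `c` a transposition commuting with `a`, `b`,
`c ≠ a, b`, are the lifts of a class of the transpositions of `Fi22`.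
-/

set_option autoImplicit false
set_option linter.constructorNameAsVariable false
set_option maxRecDepth 10000

namespace Cfsg.Agent.R08.FiTwentyFour

open Cfsg Cfsg.Spor Cfsg.Agent.Fischer Cfsg.Agent.Fischer.Abstract
open Cfsg.Agent.R01 Cfsg.Agent.R01.Lifts
open Cfsg.Agent.Fischer.Fi24Class (gen gen_sq comm_l emb emb_ne_k)
open Cfsg.Agent.Fischer.Fi24Final (sgn sgn_gen)
open Cfsg.Agent.Fischer.Fi23Class (K)
open Cfsg.Agent.Fischer.Fi23Z (z0)

/-! ### Transport of `Lifted` -/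

theorem ext_transport {C C' Φ : Type*} [Group C] [Group C'] [Group Φ] {π : C →* Φ} {z : C} (h : Ext π z)
    (e : C ≃* C') : Ext (π.comp e.symm.toMonoidHom) (e z) where
  surj y := by
    obtain ⟨x, hx⟩ := h.surj y
    refine ⟨e x, ?_⟩
    show π (e.symm (e x)) = y
    rw [e.symm_apply_apply, hx]
  zz := by rw [← map_mul, h.zz, map_one]
  zne h1 := h.zne (by rw [← e.symm_apply_apply z, h1, map_one])
  ker c := by
    show π (e.symm c) = 1 ↔ _
    rw [h.ker]
    constructor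
    · rintro (h1 | h1)
      · left; rw [← e.apply_symm_apply c, h1, map_one]
      · right; rw [← e.apply_symm_apply c, h1]
    · rintro (rfl | rfl)
      · left; exact map_one _
      · right; exact e.symm_apply_apply z
  comm c := by
    rw [← e.apply_symm_apply c, ← map_mul, ← map_mul, h.comm]

theorem lifted_transport {C C' Φ : Type*} [Group C] [Group C'] [Group Φ] {π : C →* Φ} {z : C} {T : Set Φ}
    {D₀ : Set C} (h : FiHexad.Lifted π z T D₀) (e : C ≃* C') :
    FiHexad.Lifted (π.comp e.symm.toMonoidHom) (e z) T (e '' D₀) where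
  ext := ext_transport h.ext e
  sq := by
    rintro _ ⟨x, hx, rfl⟩
    rw [← map_mul, h.sq x hx, map_one]
  conj := by
    rintro c _ ⟨x, hx, rfl⟩
    refine ⟨e.symm c * x * (e.symm c)⁻¹, h.conj _ x hx, ?_⟩
    rw [map_mul, map_mul, map_inv, e.apply_symm_apply]
  map := by
    rintro _ ⟨x, hx, rfl⟩
    show π (e.symm (e x)) ∈ T
    rw [e.symm_apply_apply]
    exact h.map x hx
  inj := by
    rintro _ ⟨x, hx, rfl⟩ _ ⟨y, hy, rfl⟩ h1
    have h2 : π (e.symm (e x)) = π (e.symm (e y)) := h1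
    rw [e.symm_apply_apply, e.symm_apply_apply] at h2
    rw [h.inj x hx y hy h2]
  surj := by
    intro u hu
    obtain ⟨x, hx, hxu⟩ := h.surj u hu
    refine ⟨e x, ⟨x, hx, rfl⟩, ?_⟩
    show π (e.symm (e x)) = u
    rw [e.symm_apply_apply, hxu]
  nz := by
    rintro _ ⟨x, hx, rfl⟩ ⟨y, hy, hxy⟩
    apply h.nz x hx
    rw [← map_mul] at hxy
    rw [← e.injective hxy]
    exact hy
  comm := by
    rintro _ ⟨x, hx, rfl⟩ _ ⟨y, hy, rfl⟩ h1
    have h2 : π (e.symm (e x)) * π (e.symm (e y)) = π (e.symm (e y)) * π (e.symm (e x)) := h1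
    rw [e.symm_apply_apply, e.symm_apply_apply] at h2
    rw [← map_mul, ← map_mul, h.comm x hx y hy h2]
  three := by
    rintro _ ⟨x, hx, rfl⟩ _ ⟨y, hy, rfl⟩
    rcases h.three x hx y hy with h1 | h1
    · left; rw [← map_mul, ← map_mul, h1]
    · right; rw [← map_mul, ← map_pow, h1, map_one]

/-! ### The class of transpositions of `Fi24` -/

/-- The facts about the subgroup `H = ⟨a, …, j, l⟩`. -/
structure Facts : Prop where
  hub : Fi24RepOrb.H.index ≤ 306936
  hne : Fi24RepOrb.H.index ≠ 0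
  hfin : Finite Fi24RepOrb.H
  hH : Nat.card Fi24RepOrb.H ≤ 8178940946586009600

/-- The class of transpositions. -/
def L : Set Fi24 := conjugatesOf (gen .l)

theorem gen_mem_L (x : Fi24.Gen) : gen x ∈ L := Fi24Class.isConj_gen x

theorem conj_mem_L {d : Fi24} (hd : d ∈ L) (g : Fi24) : g * d * g⁻¹ ∈ L :=
  IsConj.trans hd (isConj_iff.2 ⟨g, rfl⟩)

theorem sgn_L {d : Fi24} (hd : d ∈ L) : sgn d = -1 := by
  obtain ⟨c, rfl⟩ := isConj_iff.1 (show IsConj (gen .l) d from hd)
  rw [map_mul, map_mul, map_inv, mul_comm (sgn c), mul_assoc, mul_inv_cancel, mul_one]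
  exact sgn_gen .l

theorem sq_L {d : Fi24} (hd : d ∈ L) : d * d = 1 := by
  obtain ⟨c, rfl⟩ := isConj_iff.1 (show IsConj (gen .l) d from hd)
  calc c * gen .l * c⁻¹ * (c * gen .l * c⁻¹) = c * (gen .l * gen .l) * c⁻¹ := by group
    _ = 1 := by rw [gen_sq]; group

theorem ne_one_L {d : Fi24} (hd : d ∈ L) : d ≠ 1 := by
  rintro rfl
  have h := sgn_L hd
  rw [map_one] at h
  exact absurd h (by decide)

theorem mem_commutator_iff {g : Fi24} : g ∈ commutator Fi24 ↔ sgn g = 1 := by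
  rw [← Fi24Final.ker_sgn, MonoidHom.mem_ker]

theorem mul_mem_commutator {a b : Fi24} (ha : a ∈ L) (hb : b ∈ L) : a * b ∈ commutator Fi24 := by
  rw [mem_commutator_iff, map_mul, sgn_L ha, sgn_L hb]
  decide

theorem closure_gen23 : Subgroup.closure (Set.range Fi23Hom.gen) = ⊤ := PresentedGroup.closure_range_of _

section facts

variable (F : Facts)
include F

theorem Facts.isFi24' : Cfsg.IsFi24' Spor.Fi24' := Fi24Final.isFi24prime_of F.hub F.hne F.hfin F.hH

theorem Facts.card_ne : Nat.card (commutator Fi24) ≠ 1 := by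
  have h : Nat.card (commutator Fi24) = 1255205709190661721292800 := F.isFi24'.2
  rw [h]
  norm_num

theorem Facts.finite : Finite Fi24 := Fi24RepRes.finite_Fi24 F.hne F.hfin

theorem Facts.exists_rank3 : ∃ R : Rank3 Fi24 (Fi24 ⧸ Fi24RepOrb.H), R.t R.x0 = gen .l ∧
    R.x0 = ((1 : Fi24) : Fi24 ⧸ Fi24RepOrb.H) ∧ Set.range R.t = L := by
  obtain ⟨hidx, _, q₁, q₂, ho1, ho2⟩ := Fi24RepOrb.index_and_suborbits F.hub F.hne
  obtain ⟨R, h1, h2⟩ := Fi24Class.exists_rank3 F.card_ne Fi24RepOrb.H Fi24Final.h_comm hidx q₁ q₂ ho1 ho2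
  refine ⟨R, h1, h2, ?_⟩
  ext g
  constructor
  · rintro ⟨x, rfl⟩
    obtain ⟨h, rfl⟩ := R.trans x
    rw [R.map_smul, h1]
    exact isConj_iff.2 ⟨h, rfl⟩
  · intro h
    obtain ⟨c, rfl⟩ := isConj_iff.1 (show IsConj (gen .l) g from h)
    exact ⟨c • R.x0, by rw [R.map_smul, h1]⟩

theorem Facts.isThreeTranspositionClass : IsThreeTranspositionClass L := by
  obtain ⟨R, _, _, h⟩ := F.exists_rank3
  rw [← h]
  exact R.isThreeTranspositionClass

theorem Facts.ncard_L : L.ncard = 306936 := by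
  obtain ⟨R, _, _, h⟩ := F.exists_rank3
  obtain ⟨hidx, _⟩ := Fi24RepOrb.index_and_suborbits F.hub F.hne
  rw [← h, ← Nat.card_coe_set_eq, R.card_range, ← Subgroup.index_eq_card]
  exact hidx

theorem Facts.mem_H_iff (g : Fi24) : g ∈ Fi24RepOrb.H ↔ g * gen .l = gen .l * g := by
  obtain ⟨R, h1, h2, _⟩ := F.exists_rank3
  rw [← Subgroup.mem_centralizer_singleton_iff, ← h1, R.mem_centralizer_iff, h2]
  constructor
  · intro h
    show ((g * 1 : Fi24) : Fi24 ⧸ Fi24RepOrb.H) = _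
    rw [QuotientGroup.eq, mul_one, mul_one]
    exact Subgroup.inv_mem _ h
  · intro h
    have h3 : ((g * 1 : Fi24) : Fi24 ⧸ Fi24RepOrb.H) = ((1 : Fi24) : Fi24 ⧸ Fi24RepOrb.H) := h
    rw [QuotientGroup.eq, mul_one, mul_one] at h3
    exact (Subgroup.inv_mem_iff _).1 h3

/-! ### The subgroup `Fi23` -/

theorem Facts.exists_phi : ∃ φ : Fi23 →* Fi24, ∀ x, φ (Fi23Hom.gen x) = gen (emb x) * gen .l :=
  Fi24Class.exists_fi23_hom (Fi24Real.spider F.hfin F.hH)

/-- The embedding of `Fi23`. -/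
noncomputable def Facts.phi : Fi23 →* Fi24 := F.exists_phi.choose

theorem Facts.phi_gen (x : Fi23.Gen) : F.phi (Fi23Hom.gen x) = gen (emb x) * gen .l :=
  F.exists_phi.choose_spec x

theorem Facts.phi_injective : Function.Injective F.phi := by
  apply Fi24Class.injective_of_simple Cfsg.Agent.S1697.result.1
  refine ⟨Fi23Hom.gen .a, ?_⟩
  rw [F.phi_gen]
  intro h
  apply Fi24Class.a_ne_l F.card_ne
  have h2 : gen .a * gen .l = 1 := h
  rw [mul_eq_one_iff_eq_inv, Fi24Class.gen_inv] at h2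
  exact h2

theorem Facts.sgn_phi (k : Fi23) : sgn (F.phi k) = 1 := by
  have h : (⊤ : Subgroup Fi23) ≤ (sgn.comp F.phi).ker := by
    rw [← closure_gen23, Subgroup.closure_le]
    rintro _ ⟨x, rfl⟩
    show sgn (F.phi (Fi23Hom.gen x)) = 1
    rw [F.phi_gen, map_mul]
    have h1 : sgn (gen (emb x)) = -1 := sgn_gen _
    have h2 : sgn (gen .l) = -1 := sgn_gen _
    rw [h1, h2]
    decide
  exact h (Subgroup.mem_top k)

theorem Facts.phi_comm (k : Fi23) : F.phi k * gen .l = gen .l * F.phi k := by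
  have h : (⊤ : Subgroup Fi23) ≤ (Subgroup.centralizer {gen .l}).comap F.phi := by
    rw [← closure_gen23, Subgroup.closure_le]
    rintro _ ⟨x, rfl⟩
    rw [SetLike.mem_coe, Subgroup.mem_comap, Subgroup.mem_centralizer_singleton_iff, F.phi_gen]
    rw [mul_assoc, ← mul_assoc (gen .l), ← comm_l _ (emb_ne_k x), mul_assoc]
  have h1 := h (Subgroup.mem_top k)
  rw [Subgroup.mem_comap, Subgroup.mem_centralizer_singleton_iff] at h1
  exact h1

/-- The elements of `H`. -/
theorem Facts.mem_H_cases {h : Fi24} (hh : h ∈ Fi24RepOrb.H) : ∃ k, h = F.phi k ∨ h = F.phi k * gen .l := by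
  unfold Fi24RepOrb.H at hh
  rw [Fi24RepOrb.S1_eq] at hh
  have hll : gen .l * gen .l = (1 : Fi24) := gen_sq _
  induction hh using Subgroup.closure_induction with
  | mem x hx =>
    obtain ⟨x, hx, rfl⟩ := hx
    have hx' : x ≠ .k := hx
    by_cases hl : x = .l
    · subst hl
      exact ⟨1, Or.inr (by rw [map_one, one_mul]; rfl)⟩
    · obtain ⟨y, rfl⟩ : ∃ y, emb y = x := by
        cases x
        case k => exact absurd rfl hx'
        case l => exact absurd rfl hl
        case a => exact ⟨.a, rfl⟩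
        case b => exact ⟨.b, rfl⟩
        case c => exact ⟨.c, rfl⟩
        case d => exact ⟨.d, rfl⟩
        case e => exact ⟨.e, rfl⟩
        case f => exact ⟨.f, rfl⟩
        case g => exact ⟨.g, rfl⟩
        case j => exact ⟨.j, rfl⟩
        case h => exact ⟨.h, rfl⟩
        case i => exact ⟨.i, rfl⟩
      refine ⟨Fi23Hom.gen y, Or.inr ?_⟩
      rw [F.phi_gen, mul_assoc, hll, mul_one]
      rfl
  | one => exact ⟨1, Or.inl (map_one _).symm⟩
  | mul x y _ _ hx hy =>
    obtain ⟨k, rfl | rfl⟩ := hx <;> obtain ⟨k', rfl | rfl⟩ := hy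
    · exact ⟨k * k', Or.inl (map_mul _ _ _).symm⟩
    · exact ⟨k * k', Or.inr (by rw [map_mul, mul_assoc])⟩
    · exact ⟨k * k', Or.inr (by rw [map_mul, mul_assoc, ← F.phi_comm, mul_assoc])⟩
    · refine ⟨k * k', Or.inl ?_⟩
      rw [map_mul]
      calc F.phi k * gen .l * (F.phi k' * gen .l) = F.phi k * (gen .l * F.phi k') * gen .l := by
            simp only [mul_assoc]
        _ = F.phi k * (F.phi k' * gen .l) * gen .l := by rw [F.phi_comm]
        _ = F.phi k * F.phi k' * (gen .l * gen .l) := by simp only [mul_assoc]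
        _ = F.phi k * F.phi k' := by rw [hll, mul_one]
  | inv x _ hx =>
    obtain ⟨k, rfl | rfl⟩ := hx
    · exact ⟨k⁻¹, Or.inl (map_inv _ _).symm⟩
    · refine ⟨k⁻¹, Or.inr ?_⟩
      rw [mul_inv_rev, map_inv, inv_eq_of_mul_eq_one_left hll, ← map_inv, F.phi_comm]

/-- The centraliser of `l` in the commutator subgroup is `Fi23`. -/
theorem Facts.mem_range_iff (g : Fi24) : (∃ k, F.phi k = g) ↔ g * gen .l = gen .l * g ∧ sgn g = 1 := by
  constructor
  · rintro ⟨k, rfl⟩
    exact ⟨F.phi_comm k, F.sgn_phi k⟩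
  · rintro ⟨h1, h2⟩
    obtain ⟨k, rfl | rfl⟩ := F.mem_H_cases ((F.mem_H_iff g).2 h1)
    · exact ⟨k, rfl⟩
    · exfalso
      have h3 : sgn (gen .l) = -1 := sgn_gen _
      rw [map_mul, F.sgn_phi, h3] at h2
      exact absurd h2 (by decide)

/-- The transpositions commuting with `l`. -/
theorem Facts.commuting_iff {e : Fi24} : e ∈ L ∧ e ≠ gen .l ∧ e * gen .l = gen .l * e ↔
    ∃ d ∈ FiTwentyThree.D, e = gen .l * F.phi d := by
  obtain ⟨R, h1, h2, h3⟩ := F.exists_rank3
  have hll : gen .l * gen .l = (1 : Fi24) := gen_sq _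
  have fixH : ∀ k : Fi24, k • R.x0 = R.x0 ↔ k ∈ Fi24RepOrb.H := by
    intro k
    rw [← R.mem_centralizer_iff, h1, Subgroup.mem_centralizer_singleton_iff, F.mem_H_iff]
  have key : ∀ e : Fi24, e ∈ L → e ≠ gen .l → e * gen .l = gen .l * e →
      ∃ k ∈ Fi24RepOrb.H, k * R.t R.c * k⁻¹ = e := by
    intro e he hne hc
    rw [← h3] at he
    obtain ⟨x, rfl⟩ := he
    have hcom : R.Com R.x0 x := by
      rw [R.com_def, h1]
      exact hc.symm
    rcases R.com_x0_iff.1 hcom with rfl | ⟨h, hh, rfl⟩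
    · exact absurd h1 hne
    · exact ⟨h, (fixH h).1 hh, (R.map_smul h R.c).symm⟩
  have hal : gen .a * gen .l = gen .l * gen .a := comm_l _ (by decide)
  have ha : gen .l * F.phi (Fi23Hom.gen .a) = gen .a := by
    rw [F.phi_gen]
    show gen .l * (gen .a * gen .l) = gen .a
    rw [hal, ← mul_assoc, hll, one_mul]
  obtain ⟨k0, hk0, e0⟩ := key _ (gen_mem_L .a) (Fi24Class.a_ne_l F.card_ne) hal
  have key2 : ∀ k : Fi23, F.phi k * gen .a * (F.phi k)⁻¹ = gen .l * F.phi (k * Fi23Hom.gen .a * k⁻¹) := by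
    intro k
    rw [map_mul, map_mul, map_inv, ← mul_assoc, ← mul_assoc, ← F.phi_comm, mul_assoc (F.phi k) (gen .l), ha]
  constructor
  · rintro ⟨he, hne, hc⟩
    obtain ⟨k, hk, e1⟩ := key e he hne hc
    have hk1 : k * k0⁻¹ ∈ Fi24RepOrb.H := Subgroup.mul_mem _ hk (Subgroup.inv_mem _ hk0)
    have e2 : (k * k0⁻¹) * gen .a * (k * k0⁻¹)⁻¹ = e := by
      rw [← e1, ← e0]
      group
    obtain ⟨m, hm⟩ := F.mem_H_cases hk1
    refine ⟨m * Fi23Hom.gen .a * m⁻¹, FiTwentyThree.conj_mem_D (FiTwentyThree.gen_mem_D .a) m, ?_⟩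
    rw [← key2, ← e2]
    rcases hm with hm | hm
    · rw [hm]
    · rw [hm]
      calc F.phi m * gen .l * gen .a * (F.phi m * gen .l)⁻¹
          = F.phi m * (gen .l * gen .a) * (gen .l)⁻¹ * (F.phi m)⁻¹ := by group
        _ = F.phi m * (gen .a * gen .l) * (gen .l)⁻¹ * (F.phi m)⁻¹ := by rw [hal]
        _ = F.phi m * gen .a * (F.phi m)⁻¹ := by group
  · rintro ⟨d, hd, rfl⟩
    have hd' : IsConj (Fi23Hom.gen .a) d := (FiTwentyThree.gen_mem_D .a).symm.trans hd
    obtain ⟨m, rfl⟩ := isConj_iff.1 hd'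
    refine ⟨?_, ?_, ?_⟩
    · rw [← key2]
      exact conj_mem_L (gen_mem_L .a) _
    · intro h
      have h4 : F.phi (m * Fi23Hom.gen .a * m⁻¹) = 1 := by
        have := congrArg (fun x => (gen .l)⁻¹ * x) h
        simpa using this
      rw [map_eq_one_iff _ F.phi_injective] at h4
      exact FiTwentyThree.ne_one_D hd h4
    · rw [mul_assoc, F.phi_comm]

/-- The second transposition of the base pair. -/
noncomputable def Facts.b0 : Fi24 := gen .l * F.phi z0

theorem Facts.b0_spec : F.b0 ∈ L ∧ F.b0 ≠ gen .l ∧ F.b0 * gen .l = gen .l * F.b0 :=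
  F.commuting_iff.2 ⟨z0, FiTwentyThree.z0_mem_D, rfl⟩

end facts

/-! ### The centraliser of two commuting transpositions in the commutator subgroup -/

/-- The centraliser of `a`, `b` in the commutator subgroup. -/
abbrev Cab (a b : Fi24) : Subgroup Fi24 := commutator Fi24 ⊓ Subgroup.centralizer {a, b}

theorem mem_Cab {a b x : Fi24} : x ∈ Cab a b ↔ sgn x = 1 ∧ x * a = a * x ∧ x * b = b * x := by
  unfold Cab
  rw [Subgroup.mem_inf, mem_commutator_iff, Subgroup.mem_centralizer_iff]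
  constructor
  · rintro ⟨h1, h2⟩
    exact ⟨h1, (h2 a (by simp)).symm, (h2 b (by simp)).symm⟩
  · rintro ⟨h1, h2, h3⟩
    refine ⟨h1, ?_⟩
    rintro y hy
    rcases hy with rfl | hy
    · exact h2.symm
    · rw [Set.mem_singleton_iff.1 hy]
      exact h3.symm

/-- The products of `a` with the transpositions commuting with `a` and `b`. -/
def Eab (a b : Fi24) : Set (Cab a b) :=
  {x | ∃ c ∈ L, c ≠ a ∧ c ≠ b ∧ c * a = a * c ∧ c * b = b * c ∧ (x : Fi24) = a * c}

section facts2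

variable (F : Facts)
include F

theorem Facts.mem_base (k : K) : F.phi (k : Fi23) ∈ Cab (gen .l) F.b0 := by
  rw [mem_Cab]
  refine ⟨F.sgn_phi _, F.phi_comm _, ?_⟩
  unfold Facts.b0
  have h : (k : Fi23) * z0 = z0 * k := (FiTwentyThree.mem_K_iff _).1 k.2
  rw [← mul_assoc, F.phi_comm, mul_assoc, ← map_mul, h, map_mul, mul_assoc]

theorem Facts.exists_base (x : Cab (gen .l) F.b0) : ∃ k : K, F.phi (k : Fi23) = x := by
  obtain ⟨h1, h2, h3⟩ := mem_Cab.1 x.2
  obtain ⟨k, hk⟩ := (F.mem_range_iff _).2 ⟨h2, h1⟩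
  refine ⟨⟨k, (FiTwentyThree.mem_K_iff _).2 ?_⟩, hk⟩
  apply F.phi_injective
  rw [map_mul, map_mul]
  unfold Facts.b0 at h3
  rw [← hk, ← mul_assoc, F.phi_comm, mul_assoc, mul_assoc] at h3
  exact mul_left_cancel h3

/-- The isomorphism of `K` with the centraliser of the base pair. -/
noncomputable def Facts.e0 : K ≃* Cab (gen .l) F.b0 :=
  MulEquiv.ofBijective ((F.phi.comp K.subtype).codRestrict (Cab (gen .l) F.b0) fun k => F.mem_base k)
    ⟨fun x y h => by
      apply Subtype.ext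
      apply F.phi_injective
      exact congrArg Subtype.val h, fun x => by
      obtain ⟨k, hk⟩ := F.exists_base x
      exact ⟨k, Subtype.ext hk⟩⟩

theorem Facts.coe_e0 (k : K) : (F.e0 k : Fi24) = F.phi (k : Fi23) := rfl

theorem Facts.e0_image : F.e0 '' FiTwentyThree.S = Eab (gen .l) F.b0 := by
  have hll : gen .l * gen .l = (1 : Fi24) := gen_sq _
  ext x
  constructor
  · rintro ⟨k, hk, rfl⟩
    obtain ⟨h1, h2, h3⟩ := F.commuting_iff.2 ⟨(k : Fi23), hk.1, rfl⟩
    refine ⟨gen .l * F.phi (k : Fi23), h1, h2, ?_, h3, ?_, ?_⟩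
    · intro h
      unfold Facts.b0 at h
      exact hk.2 (F.phi_injective (mul_left_cancel h))
    · have h4 := (mem_Cab.1 (F.mem_base k)).2.2
      have h5 := F.b0_spec.2.2
      rw [mul_assoc, h4, ← mul_assoc, ← h5, mul_assoc]
    · rw [F.coe_e0, ← mul_assoc, hll, one_mul]
  · rintro ⟨c, hc, h1, h2, h3, h4, h5⟩
    obtain ⟨d, hd, rfl⟩ := F.commuting_iff.1 ⟨hc, h1, h3⟩
    obtain ⟨k, hk⟩ := F.exists_base x
    have h6 : F.phi (k : Fi23) = F.phi d := by
      rw [hk, h5, ← mul_assoc, hll, one_mul]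
    have h7 : (k : Fi23) = d := F.phi_injective h6
    refine ⟨k, ⟨by rw [h7]; exact hd, ?_⟩, ?_⟩
    · rintro h8
      apply h2
      unfold Facts.b0
      rw [← h7, h8]
    · apply Subtype.ext
      rw [F.coe_e0, hk]

/-- The base pair. -/
theorem Facts.lifted_base : ∃ (π : Cab (gen .l) F.b0 →* Fi22) (z : Cab (gen .l) F.b0),
    (z : Fi24) = gen .l * F.b0 ∧ FiHexad.Lifted π z Fi22Facts.T (Eab (gen .l) F.b0) := by
  refine ⟨FiTwentyThree.pi.comp F.e0.symm.toMonoidHom, F.e0 FiTwentyThree.zK, ?_, ?_⟩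
  · rw [F.coe_e0, FiTwentyThree.coe_zK]
    unfold Facts.b0
    rw [← mul_assoc, gen_sq, one_mul]
  · rw [← F.e0_image]
    exact lifted_transport FiTwentyThree.lifted F.e0

end facts2

/-! ### Conjugation -/

theorem conj_Cab {a b g x : Fi24} (hx : x ∈ Cab a b) : g * x * g⁻¹ ∈ Cab (g * a * g⁻¹) (g * b * g⁻¹) := by
  obtain ⟨h1, h2, h3⟩ := mem_Cab.1 hx
  rw [mem_Cab]
  refine ⟨?_, ?_, ?_⟩
  · rw [map_mul, map_mul, map_inv, mul_comm (sgn g), mul_assoc, mul_inv_cancel, mul_one, h1]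
  · calc g * x * g⁻¹ * (g * a * g⁻¹) = g * (x * a) * g⁻¹ := by group
      _ = g * (a * x) * g⁻¹ := by rw [h2]
      _ = g * a * g⁻¹ * (g * x * g⁻¹) := by group
  · calc g * x * g⁻¹ * (g * b * g⁻¹) = g * (x * b) * g⁻¹ := by group
      _ = g * (b * x) * g⁻¹ := by rw [h3]
      _ = g * b * g⁻¹ * (g * x * g⁻¹) := by group

theorem mem_of_conj {a b g x : Fi24} (hx : g * x * g⁻¹ ∈ Cab (g * a * g⁻¹) (g * b * g⁻¹)) : x ∈ Cab a b := by
  have h := conj_Cab (g := g⁻¹) hx
  have e : ∀ y : Fi24, g⁻¹ * (g * y * g⁻¹) * g⁻¹⁻¹ = y := fun y => by group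
  rw [e, e, e] at h
  exact h

/-- The isomorphism of the centralisers of conjugate pairs. -/
noncomputable def conjE {a b : Fi24} (g : Fi24) : Cab a b ≃* Cab (g * a * g⁻¹) (g * b * g⁻¹) :=
  MulEquiv.ofBijective (((MulAut.conj g).toMonoidHom.comp (Cab a b).subtype).codRestrict _
    fun k => conj_Cab k.2)
    ⟨fun x y h => by
      apply Subtype.ext
      have h1 : g * (x : Fi24) * g⁻¹ = g * (y : Fi24) * g⁻¹ := congrArg Subtype.val h
      exact mul_left_cancel (mul_right_cancel h1), fun x => by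
      have e : g * (g⁻¹ * (x : Fi24) * g) * g⁻¹ = x := by group
      refine ⟨⟨g⁻¹ * (x : Fi24) * g, mem_of_conj (g := g) (by rw [e]; exact x.2)⟩, Subtype.ext e⟩⟩

theorem coe_conjE {a b : Fi24} (g : Fi24) (x : Cab a b) : (conjE g x : Fi24) = g * (x : Fi24) * g⁻¹ := rfl

theorem conjE_image_sub {a b : Fi24} (g : Fi24) {x : Cab a b} (hx : x ∈ Eab a b) :
    conjE g x ∈ Eab (g * a * g⁻¹) (g * b * g⁻¹) := by
  obtain ⟨c, hc, h1, h2, h3, h4, h5⟩ := hx
  have inj : ∀ {u v : Fi24}, g * u * g⁻¹ = g * v * g⁻¹ → u = v := fun h =>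
    mul_left_cancel (mul_right_cancel h)
  refine ⟨g * c * g⁻¹, conj_mem_L hc g, fun h => h1 (inj h), fun h => h2 (inj h), ?_, ?_, ?_⟩
  · calc g * c * g⁻¹ * (g * a * g⁻¹) = g * (c * a) * g⁻¹ := by group
      _ = g * (a * c) * g⁻¹ := by rw [h3]
      _ = g * a * g⁻¹ * (g * c * g⁻¹) := by group
  · calc g * c * g⁻¹ * (g * b * g⁻¹) = g * (c * b) * g⁻¹ := by group
      _ = g * (b * c) * g⁻¹ := by rw [h4]
      _ = g * b * g⁻¹ * (g * c * g⁻¹) := by group
  · rw [coe_conjE, h5]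
    group

theorem conjE_image {a b : Fi24} (g : Fi24) : conjE g '' Eab a b = Eab (g * a * g⁻¹) (g * b * g⁻¹) := by
  ext x
  constructor
  · rintro ⟨y, hy, rfl⟩
    exact conjE_image_sub g hy
  · intro hx
    obtain ⟨y, rfl⟩ := (conjE g).surjective x
    refine ⟨y, ?_, rfl⟩
    obtain ⟨c, hc, h1, h2, h3, h4, h5⟩ := hx
    rw [coe_conjE] at h5
    have e : ∀ u : Fi24, g⁻¹ * (g * u * g⁻¹) * g = u := fun u => by group
    have e' : ∀ u : Fi24, g * (g⁻¹ * u * g) * g⁻¹ = u := fun u => by group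
    refine ⟨g⁻¹ * c * g, ?_, ?_, ?_, ?_, ?_, ?_⟩
    · have := conj_mem_L hc g⁻¹
      rwa [inv_inv] at this
    · intro h; apply h1; rw [← h, e']
    · intro h; apply h2; rw [← h, e']
    · calc g⁻¹ * c * g * a = g⁻¹ * (c * (g * a * g⁻¹)) * g := by group
        _ = g⁻¹ * ((g * a * g⁻¹) * c) * g := by rw [h3]
        _ = a * (g⁻¹ * c * g) := by group
    · calc g⁻¹ * c * g * b = g⁻¹ * (c * (g * b * g⁻¹)) * g := by group
        _ = g⁻¹ * ((g * b * g⁻¹) * c) * g := by rw [h4]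
        _ = b * (g⁻¹ * c * g) := by group
    · calc (y : Fi24) = g⁻¹ * (g * y * g⁻¹) * g := (e _).symm
        _ = g⁻¹ * (g * a * g⁻¹ * c) * g := by rw [h5]
        _ = a * (g⁻¹ * c * g) := by group

section facts3

variable (F : Facts)
include F

/-- All pairs of commuting transpositions are conjugate to the base pair in the commutator subgroup. -/
theorem Facts.exists_conj {a b : Fi24} (ha : a ∈ L) (hb : b ∈ L) (hne : a ≠ b) (hab : a * b = b * a) :
    ∃ g, sgn g = 1 ∧ g * gen .l * g⁻¹ = a ∧ g * F.b0 * g⁻¹ = b := by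
  obtain ⟨h, rfl⟩ := isConj_iff.1 (show IsConj (gen .l) a from ha)
  have e : ∀ u : Fi24, h * (h⁻¹ * u * h) * h⁻¹ = u := fun u => by group
  have h1 : h⁻¹ * b * h ∈ L := by
    have := conj_mem_L hb h⁻¹
    rwa [inv_inv] at this
  obtain ⟨d, hd, h2⟩ := F.commuting_iff.1 ⟨h1, fun h3 => hne (by rw [← h3, e]), by
    calc h⁻¹ * b * h * gen .l = h⁻¹ * (b * (h * gen .l * h⁻¹)) * h := by group
      _ = h⁻¹ * ((h * gen .l * h⁻¹) * b) * h := by rw [hab]
      _ = gen .l * (h⁻¹ * b * h) := by group⟩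
  obtain ⟨k, rfl⟩ := isConj_iff.1 (show IsConj z0 d from hd)
  have h3 : F.phi k * gen .l * (F.phi k)⁻¹ = gen .l := by
    rw [F.phi_comm, mul_inv_cancel_right]
  have h4 : F.phi k * F.b0 * (F.phi k)⁻¹ = h⁻¹ * b * h := by
    rw [h2]
    unfold Facts.b0
    rw [map_mul, map_mul, map_inv, ← mul_assoc, F.phi_comm]
    simp only [mul_assoc]
  have h5 : h * F.phi k * gen .l * (h * F.phi k)⁻¹ = h * gen .l * h⁻¹ := by
    calc h * F.phi k * gen .l * (h * F.phi k)⁻¹ = h * (F.phi k * gen .l * (F.phi k)⁻¹) * h⁻¹ := by group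
      _ = h * gen .l * h⁻¹ := by rw [h3]
  have h6 : h * F.phi k * F.b0 * (h * F.phi k)⁻¹ = b := by
    calc h * F.phi k * F.b0 * (h * F.phi k)⁻¹ = h * (F.phi k * F.b0 * (F.phi k)⁻¹) * h⁻¹ := by group
      _ = b := by rw [h4, e]
  rcases Int.units_eq_one_or (sgn (h * F.phi k)) with h7 | h7
  · exact ⟨h * F.phi k, h7, h5, h6⟩
  · have hs : sgn (gen .l) = -1 := sgn_gen _
    refine ⟨h * F.phi k * gen .l, ?_, ?_, ?_⟩
    · rw [map_mul, h7, hs]
      decide
    · calc h * F.phi k * gen .l * gen .l * (h * F.phi k * gen .l)⁻¹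
          = h * F.phi k * gen .l * (h * F.phi k)⁻¹ := by group
        _ = _ := h5
    · calc h * F.phi k * gen .l * F.b0 * (h * F.phi k * gen .l)⁻¹
          = h * F.phi k * (gen .l * F.b0) * (gen .l)⁻¹ * (h * F.phi k)⁻¹ := by group
        _ = h * F.phi k * (F.b0 * gen .l) * (gen .l)⁻¹ * (h * F.phi k)⁻¹ := by rw [F.b0_spec.2.2]
        _ = h * F.phi k * F.b0 * (h * F.phi k)⁻¹ := by group
        _ = b := h6

/-- **Transitivity on commuting pairs.** -/
theorem Facts.trans2 {a b a' b' : Fi24} (ha : a ∈ L) (hb : b ∈ L) (hne : a ≠ b) (hab : a * b = b * a)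
    (ha' : a' ∈ L) (hb' : b' ∈ L) (hne' : a' ≠ b') (hab' : a' * b' = b' * a') :
    ∃ g ∈ commutator Fi24, g * a * g⁻¹ = a' ∧ g * b * g⁻¹ = b' := by
  obtain ⟨g, hg, rfl, rfl⟩ := F.exists_conj ha hb hne hab
  obtain ⟨k, hk, rfl, rfl⟩ := F.exists_conj ha' hb' hne' hab'
  refine ⟨k * g⁻¹, ?_, by group, by group⟩
  rw [mem_commutator_iff, map_mul, map_inv, hg, hk]
  decide

/-- **The centraliser of two commuting transpositions.** -/
theorem Facts.lifted {a b : Fi24} (ha : a ∈ L) (hb : b ∈ L) (hne : a ≠ b) (hab : a * b = b * a) :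
    ∃ (π : Cab a b →* Fi22) (z : Cab a b), (z : Fi24) = a * b ∧
      FiHexad.Lifted π z Fi22Facts.T (Eab a b) := by
  obtain ⟨g, _, rfl, rfl⟩ := F.exists_conj ha hb hne hab
  obtain ⟨π, z, hz, hL⟩ := F.lifted_base
  refine ⟨π.comp (conjE g).symm.toMonoidHom, conjE g z, ?_, ?_⟩
  · rw [coe_conjE, hz]
    group
  · rw [← conjE_image]
    exact lifted_transport hL (conjE g)

theorem Facts.perfect_base : commutator (Cab (gen .l) F.b0) = ⊤ := by
  have h := FiTwentyThree.perfect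
  have h1 := congrArg (Subgroup.map F.e0.toMonoidHom) h
  rw [commutator_def, Subgroup.map_commutator] at h1
  have h2 : Subgroup.map F.e0.toMonoidHom (⊤ : Subgroup K) = ⊤ :=
    Subgroup.map_top_of_surjective _ F.e0.surjective
  rw [h2] at h1
  exact h1

theorem Facts.perfect {a b : Fi24} (ha : a ∈ L) (hb : b ∈ L) (hne : a ≠ b) (hab : a * b = b * a) :
    commutator (Cab a b) = ⊤ := by
  obtain ⟨g, _, rfl, rfl⟩ := F.exists_conj ha hb hne hab
  have h1 := congrArg (Subgroup.map (conjE (a := gen .l) (b := F.b0) g).toMonoidHom) F.perfect_base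
  rw [commutator_def, Subgroup.map_commutator] at h1
  have h2 : Subgroup.map (conjE (a := gen .l) (b := F.b0) g).toMonoidHom
      (⊤ : Subgroup (Cab (gen .l) F.b0)) = ⊤ :=
    Subgroup.map_top_of_surjective _ (conjE g).surjective
  rw [h2] at h1
  exact h1

/-- The number of the transpositions commuting with `a`. -/
theorem Facts.ncard_commuting {a : Fi24} (ha : a ∈ L) :
    {c | c ∈ L ∧ c ≠ a ∧ Commute c a}.ncard = 31671 := by
  obtain ⟨h, rfl⟩ := isConj_iff.1 (show IsConj (gen .l) a from ha)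
  have e : ∀ u : Fi24, h * (h⁻¹ * u * h) * h⁻¹ = u := fun u => by group
  have key : {c | c ∈ L ∧ c ≠ h * gen .l * h⁻¹ ∧ Commute c (h * gen .l * h⁻¹)} =
      (fun d => h * (gen .l * F.phi d) * h⁻¹) '' FiTwentyThree.D := by
    ext c
    constructor
    · rintro ⟨h1, h2, h3⟩
      obtain ⟨d, hd, h4⟩ := (F.commuting_iff (e := h⁻¹ * c * h)).1 ⟨by
        have := conj_mem_L h1 h⁻¹
        rwa [inv_inv] at this, fun h5 => h2 (by rw [← h5, e]), by
        have h3' : c * (h * gen .l * h⁻¹) = (h * gen .l * h⁻¹) * c := h3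
        calc h⁻¹ * c * h * gen .l = h⁻¹ * (c * (h * gen .l * h⁻¹)) * h := by group
          _ = h⁻¹ * ((h * gen .l * h⁻¹) * c) * h := by rw [h3']
          _ = gen .l * (h⁻¹ * c * h) := by group⟩
      exact ⟨d, hd, by
        show h * (gen .l * F.phi d) * h⁻¹ = c
        rw [← h4, e]⟩
    · rintro ⟨d, hd, rfl⟩
      obtain ⟨h1, h2, h3⟩ := F.commuting_iff.2 ⟨d, hd, rfl⟩
      refine ⟨conj_mem_L h1 h, fun h4 => h2 (mul_left_cancel (mul_right_cancel h4)), ?_⟩
      show h * (gen .l * F.phi d) * h⁻¹ * (h * gen .l * h⁻¹) =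
        (h * gen .l * h⁻¹) * (h * (gen .l * F.phi d) * h⁻¹)
      calc h * (gen .l * F.phi d) * h⁻¹ * (h * gen .l * h⁻¹) = h * (gen .l * F.phi d * gen .l) * h⁻¹ := by
            group
        _ = h * (gen .l * (gen .l * F.phi d)) * h⁻¹ := by rw [h3]
        _ = _ := by group
  rw [key, Set.ncard_image_of_injective]
  · exact FiTwentyThree.ncard_D
  · intro x y hxy
    exact F.phi_injective (mul_left_cancel (mul_left_cancel (mul_right_cancel hxy)))

end facts3

end Cfsg.Agent.R08.FiTwentyFour
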