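import Cfsg.Agent.R01.GlueFull

/-!
Gluing of two isomorphisms of subgroups of index two in centralisers ("flags"): the version of `R01.Glue` and
`R01.GlueFull` where the centraliser of `z` is replaced by a subgroup `L` of it.
-/

set_option autoImplicit false
set_option linter.unusedSectionVars false

namespace Cfsg.Agent.R08.FlagGlue

open Cfsg Cfsg.Agent.LieClassical.HermBasic Cfsg.Agent.R01.HermRigid Cfsg.Agent.R01.HermPlane
  Cfsg.Agent.R01.InvForm Cfsg.Agent.R01.GlueFull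

variable {G H : Type*} [Group G] [Group H]

/-- `α` restricts to an isomorphism from the subgroup `L` onto the centraliser of `z'`. -/
structure LIso (L : Subgroup G) (z' : H) (α : G → H) : Prop where
  map : ∀ x ∈ L, Commute (α x) z'
  mul : ∀ x ∈ L, ∀ y ∈ L, α (x * y) = α x * α y
  inj : ∀ x ∈ L, ∀ y ∈ L, α x = α y → x = y
  surj : ∀ y, Commute y z' → ∃ x ∈ L, α x = y

/-- The conjugate subgroup `n L n⁻¹`. -/
def cj (n : G) (L : Subgroup G) : Subgroup G := L.map (MulAut.conj n).toMonoidHom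

theorem mem_cj {n : G} {L : Subgroup G} {x : G} : x ∈ cj n L ↔ n⁻¹ * x * n ∈ L := by
  unfold cj
  rw [Subgroup.mem_map]
  constructor
  · rintro ⟨y, hy, rfl⟩
    have : n⁻¹ * ((MulAut.conj n).toMonoidHom y) * n = y := by
      change n⁻¹ * (n * y * n⁻¹) * n = y
      group
    rwa [this]
  · intro h
    refine ⟨_, h, ?_⟩
    change n * (n⁻¹ * x * n) * n⁻¹ = x
    group

theorem conj_mem_cj {n : G} {L : Subgroup G} {x : G} (h : x ∈ L) : n * x * n⁻¹ ∈ cj n L := by
  rw [mem_cj]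
  have : n⁻¹ * (n * x * n⁻¹) * n = x := by group
  rwa [this]

theorem comm_conj {x z n a : G} (h : Commute x z) (hn : n * z * n⁻¹ = a) : Commute (n * x * n⁻¹) a := by
  have h2 := h.map (MulAut.conj n)
  rwa [MulAut.conj_apply, MulAut.conj_apply, hn] at h2

theorem comm_conj' {x z n a : G} (h : Commute x a) (hn : n * z * n⁻¹ = a) : Commute (n⁻¹ * x * n) z := by
  have h2 := h.map (MulAut.conj n⁻¹)
  rw [MulAut.conj_apply, MulAut.conj_apply, inv_inv, ← hn] at h2
  have h3 : n⁻¹ * (n * z * n⁻¹) * n = z := by group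
  rwa [h3] at h2

namespace LIso

variable {L : Subgroup G} {z' : H} {α : G → H} (hα : LIso L z' α)
include hα

theorem one : α 1 = 1 := by
  have h := hα.mul 1 (one_mem _) 1 (one_mem _)
  rw [mul_one] at h
  exact (left_eq_mul.1 h)

theorem inv (x : G) (hx : x ∈ L) : α x⁻¹ = (α x)⁻¹ := by
  have h := hα.mul x⁻¹ (inv_mem hx) x hx
  rw [inv_mul_cancel, hα.one] at h
  exact eq_inv_of_mul_eq_one_left h.symm

theorem pow (x : G) (hx : x ∈ L) (n : ℕ) : α (x ^ n) = α x ^ n := by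
  induction n with
  | zero => rw [pow_zero, pow_zero, hα.one]
  | succ n ih => rw [pow_succ, pow_succ, hα.mul _ (pow_mem hx n) _ hx, ih]

theorem commute_iff (x y : G) (hx : x ∈ L) (hy : y ∈ L) :
    Commute (α x) (α y) ↔ Commute x y := by
  constructor
  · intro h
    refine hα.inj _ (mul_mem hx hy) _ (mul_mem hy hx) ?_
    rw [hα.mul _ hx _ hy, hα.mul _ hy _ hx]
    exact h
  · intro h
    have : α (x * y) = α (y * x) := by rw [h.eq]
    rwa [hα.mul _ hx _ hy, hα.mul _ hy _ hx] at this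

theorem conj_mul (k x : G) (hk : k ∈ L) (hx : x ∈ L) :
    α (k * x * k⁻¹) = α k * α x * (α k)⁻¹ := by
  rw [hα.mul _ (mul_mem hk hx) _ (inv_mem hk), hα.mul _ hk _ hx, hα.inv _ hk]

theorem inv_conj_mul (k x : G) (hk : k ∈ L) (hx : x ∈ L) :
    α (k⁻¹ * x * k) = (α k)⁻¹ * α x * α k := by
  rw [hα.mul _ (mul_mem (inv_mem hk) hx) _ hk, hα.mul _ (inv_mem hk) _ hx, hα.inv _ hk]

/-- Transport by conjugations. -/
theorem conj {n : G} {a' n' : H} (hn' : n' * z' * n'⁻¹ = a') :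
    LIso (cj n L) a' (fun x => n' * α (n⁻¹ * x * n) * n'⁻¹) := by
  refine ⟨fun x hx => comm_conj (hα.map _ (mem_cj.1 hx)) hn', ?_, ?_, ?_⟩
  · intro x hx y hy
    have h6 : n⁻¹ * (x * y) * n = (n⁻¹ * x * n) * (n⁻¹ * y * n) := by group
    change n' * α (n⁻¹ * (x * y) * n) * n'⁻¹ = _
    rw [h6, hα.mul _ (mem_cj.1 hx) _ (mem_cj.1 hy)]
    group
  · intro x hx y hy hxy
    have h7 : α (n⁻¹ * x * n) = α (n⁻¹ * y * n) := mul_left_cancel (mul_right_cancel hxy)
    have h8 := hα.inj _ (mem_cj.1 hx) _ (mem_cj.1 hy) h7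
    exact mul_left_cancel (mul_right_cancel h8)
  · intro y hy
    obtain ⟨x, hx, hxy⟩ := hα.surj _ (comm_conj' hy hn')
    refine ⟨n * x * n⁻¹, conj_mem_cj hx, ?_⟩
    have h9 : n⁻¹ * (n * x * n⁻¹) * n = x := by group
    rw [h9, hxy]
    group

end LIso

/-- An isomorphism as a `LIso`. -/
theorem LIso.of_mulEquiv {L : Subgroup G} {z' : H}
    (e : L ≃* Subgroup.centralizer ({z'} : Set H)) :
    ∃ α : G → H, LIso L z' α ∧ ∀ x : L, α (x : G) = (e x : H) := by
  classical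
  refine ⟨fun x => if h : x ∈ L then (e ⟨x, h⟩ : H) else 1, ⟨?_, ?_, ?_, ?_⟩, ?_⟩
  · intro x hx
    rw [dif_pos hx]
    exact Subgroup.mem_centralizer_singleton_iff.1 (e ⟨x, hx⟩).2
  · intro x hx y hy
    rw [dif_pos hx, dif_pos hy, dif_pos (mul_mem hx hy), ← Subgroup.coe_mul, ← map_mul]
    rfl
  · intro x hx y hy hxy
    change (dite _ _ _ : H) = (dite _ _ _ : H) at hxy
    rw [dif_pos hx, dif_pos hy] at hxy
    have := e.injective (Subtype.ext hxy)
    exact congrArg (fun t : L => (t : G)) this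
  · intro y hy
    obtain ⟨x, hx⟩ := e.surjective ⟨y, Subgroup.mem_centralizer_singleton_iff.2 hy⟩
    refine ⟨x, x.2, ?_⟩
    rw [dif_pos x.2]
    rw [Subtype.coe_eta, hx]
  · intro x
    change (dite _ _ _ : H) = _
    rw [dif_pos x.2]

/-- (B2) for flags: the swaps `n`, `n'` of `z, a` and `z', a'` become compatible with `α` on `L ∩ C(a)` after
a correction of `n'`. -/
theorem exists_gp {F : Type*} [Field F] [Fintype F] (hF : Fintype.card F = 2 ^ 2)
    {L : Subgroup G} {z a n : G} {z' a' n' : H} {α : G → H} (hα : LIso L z' α)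
    {D0 : Set G} {D' : Set H} (hDc' : ∀ g : H, ∀ x ∈ D', g * x * g⁻¹ ∈ D')
    (hLz : ∀ x ∈ L, Commute x z) (hzL : z ∈ L) (haL : a ∈ L)
    (hE : ∀ x, Commute x z → Commute x a → x ∈ L)
    (hαD : ∀ x ∈ L, (x ∈ D0 ↔ α x ∈ D' ∧ α x ≠ z'))
    (hn : ∀ x ∈ D0, Commute x a → x ≠ a → n * x * n⁻¹ ∈ D0)
    (hn' : ∀ x ∈ D0, Commute x a → x ≠ a → n⁻¹ * x * n ∈ D0)
    (hαz : α z = z') (hαa : α a = a')
    (hn1 : n * z * n⁻¹ = a) (hn2 : n * a * n⁻¹ = z)
    (hn1' : n' * z' * n'⁻¹ = a') (hn2' : n' * a' * n'⁻¹ = z')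
    {lab : (Fin 6 → F) → H} (hL : Labels (Sset D' z' a') 6 F lab)
    {u v w : Fin 6 → F} (hfr : Fr3 u v w)
    (hoZ : ∀ t : Fˣ, ((ovalList u v w t).map lab).prod ∈ Subgroup.closure ({z', a'} : Set H))
    (hinj : ∀ t t' : Fˣ, ((ovalList u v w t).map lab).prod =
      ((ovalList u v w t').map lab).prod → t = t')
    (hgen : ∀ y, Commute y z' → Commute y a' →
      y ∈ Subgroup.closure {d | d ∈ D' ∧ Commute d z' ∧ Commute d a'}) :
    ∃ n1 : H, n1 * z' * n1⁻¹ = a' ∧ n1 * a' * n1⁻¹ = z' ∧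
      ∀ x ∈ L, Commute x a → α (n⁻¹ * x * n) = n1⁻¹ * α x * n1 := by
  classical
  have hn1i : n⁻¹ * a * n = z := by rw [← hn1]; group
  have hn2i : n⁻¹ * z * n = a := by rw [← hn2]; group
  have hn1i' : n'⁻¹ * a' * n' = z' := by rw [← hn1']; group
  have hn2i' : n'⁻¹ * z' * n' = a' := by rw [← hn2']; group
  have hza : Commute a z := hLz a haL
  have haz' : Commute a' z' := by rw [← hαa]; exact hα.map a haL
  have hαC : ∀ x ∈ L, Commute x a → Commute (α x) a' := by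
    intro x hx hxa
    rw [← hαa, hα.commute_iff x a hx haL]
    exact hxa
  -- conjugation by `n` on the common centraliser
  have hEn : ∀ x ∈ L, Commute x a → n⁻¹ * x * n ∈ L ∧ Commute (n⁻¹ * x * n) a := by
    intro x hx hxa
    have h1 : Commute (n⁻¹ * x * n) z := comm_conj' hxa hn1
    have h2 : Commute (n⁻¹ * x * n) a := comm_conj' (hLz x hx) hn2
    exact ⟨hE _ h1 h2, h2⟩
  have hEn2 : ∀ x ∈ L, Commute x a → n * x * n⁻¹ ∈ L ∧ Commute (n * x * n⁻¹) a := by
    intro x hx hxa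
    have h1 : Commute (n * x * n⁻¹) a := comm_conj (hLz x hx) hn1
    have h2 : Commute (n * x * n⁻¹) z := comm_conj hxa hn2
    exact ⟨hE _ h2 h1, h1⟩
  -- the transported isomorphism
  set γ : G → H := fun x => n' * α (n⁻¹ * x * n) * n'⁻¹ with hγ
  have hγmap : ∀ x ∈ L, Commute x a → Commute (γ x) z' ∧ Commute (γ x) a' := by
    intro x hx hxa
    obtain ⟨h1, h2⟩ := hEn x hx hxa
    exact ⟨comm_conj (hαC _ h1 h2) hn2', comm_conj (hα.map _ h1) hn1'⟩
  have hγmul : ∀ x ∈ L, Commute x a → ∀ y ∈ L, Commute y a → γ (x * y) = γ x * γ y := by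
    intro x hx hxa y hy hya
    obtain ⟨h1, h2⟩ := hEn x hx hxa
    obtain ⟨h3, h4⟩ := hEn y hy hya
    have h6 : n⁻¹ * (x * y) * n = (n⁻¹ * x * n) * (n⁻¹ * y * n) := by group
    change n' * α (n⁻¹ * (x * y) * n) * n'⁻¹ =
      (n' * α (n⁻¹ * x * n) * n'⁻¹) * (n' * α (n⁻¹ * y * n) * n'⁻¹)
    rw [h6, hα.mul _ h1 _ h3]
    group
  have hγinj : ∀ x ∈ L, Commute x a → ∀ y ∈ L, Commute y a → γ x = γ y → x = y := by
    intro x hx hxa y hy hya hxy
    have h7 : α (n⁻¹ * x * n) = α (n⁻¹ * y * n) := mul_left_cancel (mul_right_cancel hxy)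
    have h8 := hα.inj _ (hEn x hx hxa).1 _ (hEn y hy hya).1 h7
    exact mul_left_cancel (mul_right_cancel h8)
  have hγ1 : γ 1 = 1 := by
    change n' * α (n⁻¹ * 1 * n) * n'⁻¹ = 1
    rw [mul_one, inv_mul_cancel, hα.one, mul_one, mul_inv_cancel]
  have hγz : γ z = z' := by
    change n' * α (n⁻¹ * z * n) * n'⁻¹ = z'
    rw [hn2i, hαa, hn2']
  have hγa : γ a = a' := by
    change n' * α (n⁻¹ * a * n) * n'⁻¹ = a'
    rw [hn1i, hαz, hn1']
  have hγsurj : ∀ y, Commute y z' → Commute y a' → ∃ x ∈ L, Commute x a ∧ γ x = y := by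
    intro y hyz hya
    have h1 : Commute (n'⁻¹ * y * n') z' := comm_conj' hya hn1'
    have h2 : Commute (n'⁻¹ * y * n') a' := comm_conj' hyz hn2'
    obtain ⟨w, hwL, hw⟩ := hα.surj _ h1
    have h3 : Commute w a := by
      rw [← hα.commute_iff w a hwL haL, hw, hαa]
      exact h2
    obtain ⟨h4, h5⟩ := hEn2 w hwL h3
    refine ⟨_, h4, h5, ?_⟩
    change n' * α (n⁻¹ * (n * w * n⁻¹) * n) * n'⁻¹ = y
    have h6 : n⁻¹ * (n * w * n⁻¹) * n = w := by group
    rw [h6, hw]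
    group
  -- the inverse `β` of `α`
  have hinv : ∀ y : H, ∃ x : G, Commute y z' → (x ∈ L ∧ α x = y) := by
    intro y
    by_cases hy : Commute y z'
    · obtain ⟨x, hx⟩ := hα.surj y hy
      exact ⟨x, fun _ => hx⟩
    · exact ⟨1, fun h => absurd h hy⟩
  choose β hβ using hinv
  have hβα : ∀ x ∈ L, β (α x) = x := by
    intro x hx
    obtain ⟨h1, h2⟩ := hβ (α x) (hα.map x hx)
    exact hα.inj _ h1 _ hx h2
  have hβa : ∀ y, Commute y z' → Commute y a' → Commute (β y) a := by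
    intro y hy hya
    obtain ⟨h1, h2⟩ := hβ y hy
    rw [← hα.commute_iff _ _ h1 haL, h2, hαa]
    exact hya
  have hβz : β z' = z := by rw [← hαz, hβα z hzL]
  have hβa' : β a' = a := by rw [← hαa, hβα a haL]
  have hβmul : ∀ y y', Commute y z' → Commute y' z' → β (y * y') = β y * β y' := by
    intro y y' hy hy'
    obtain ⟨h1, h2⟩ := hβ y hy
    obtain ⟨h3, h4⟩ := hβ y' hy'
    rw [← h2, ← h4, ← hα.mul _ h1 _ h3, hβα _ (mul_mem h1 h3), h2, h4]
  have hβ1 : β 1 = 1 := by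
    have := hβα 1 (one_mem _)
    rwa [hα.one] at this
  -- `γ ∘ β` on the common centraliser
  have hφmul : ∀ y y', Commute y z' → Commute y a' → Commute y' z' → Commute y' a' →
      γ (β (y * y')) = γ (β y) * γ (β y') := by
    intro y y' h1 h2 h3 h4
    rw [hβmul y y' h1 h3, hγmul _ (hβ y h1).1 (hβa y h1 h2) _ (hβ y' h3).1 (hβa y' h3 h4)]
  have hφZ : ∀ y ∈ Subgroup.closure ({z', a'} : Set H), (Commute y z' ∧ Commute y a') ∧
      γ (β y) = y := by
    intro y hy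
    induction hy using Subgroup.closure_induction with
    | mem y hy =>
      simp only [Set.mem_insert_iff, Set.mem_singleton_iff] at hy
      rcases hy with rfl | rfl
      · refine ⟨⟨Commute.refl _, haz'.symm⟩, ?_⟩
        rw [hβz, hγz]
      · refine ⟨⟨haz', Commute.refl _⟩, ?_⟩
        rw [hβa', hγa]
    | one => exact ⟨⟨Commute.one_left _, Commute.one_left _⟩, by rw [hβ1, hγ1]⟩
    | mul x y _ _ ihx ihy =>
      obtain ⟨⟨h1, h2⟩, h3⟩ := ihx
      obtain ⟨⟨h4, h5⟩, h6⟩ := ihy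
      exact ⟨⟨h1.mul_left h4, h2.mul_left h5⟩, by rw [hφmul x y h1 h2 h4 h5, h3, h6]⟩
    | inv x _ ih =>
      obtain ⟨⟨h1, h2⟩, h3⟩ := ih
      refine ⟨⟨h1.inv_left, h2.inv_left⟩, ?_⟩
      have h4 := hφmul x⁻¹ x h1.inv_left h2.inv_left h1 h2
      rw [inv_mul_cancel, hβ1, hγ1, h3] at h4
      exact (inv_eq_of_mul_eq_one_left h4.symm).symm
  -- the set of points
  have hαS : ∀ x ∈ L, ((x ∈ D0 ∧ Commute x a ∧ x ≠ a) ↔ α x ∈ Sset D' z' a') := by
    intro x hx
    constructor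
    · rintro ⟨h1, h2, h3⟩
      obtain ⟨h4, h5⟩ := (hαD x hx).1 h1
      refine ⟨h4, hα.map x hx, hαC x hx h2, h5, ?_⟩
      intro h6
      rw [← hαa] at h6
      exact h3 (hα.inj _ hx _ haL h6)
    · rintro ⟨h1, h2, h3, h4, h5⟩
      refine ⟨(hαD x hx).2 ⟨h1, h4⟩, ?_, ?_⟩
      · rwa [← hαa, hα.commute_iff _ _ hx haL] at h3
      · rintro rfl
        exact h5 hαa
  have hSconj : ∀ y, y ∈ Sset D' z' a' ↔ n' * y * n'⁻¹ ∈ Sset D' z' a' := by
    intro y
    constructor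
    · rintro ⟨h1, h2, h3, h4, h5⟩
      refine ⟨hDc' _ _ h1, comm_conj h3 hn2', comm_conj h2 hn1', ?_, ?_⟩
      · intro h6
        apply h5
        have : y = n'⁻¹ * (n' * y * n'⁻¹) * n' := by group
        rw [this, h6, hn2i']
      · intro h6
        apply h4
        have : y = n'⁻¹ * (n' * y * n'⁻¹) * n' := by group
        rw [this, h6, hn1i']
    · rintro ⟨h1, h2, h3, h4, h5⟩
      have h0 : y = n'⁻¹ * (n' * y * n'⁻¹) * n' := by group
      refine ⟨?_, ?_, ?_, ?_, ?_⟩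
      · have := hDc' n'⁻¹ _ h1
        rw [inv_inv, ← h0] at this
        exact this
      · rw [h0]; exact comm_conj' h3 hn1'
      · rw [h0]; exact comm_conj' h2 hn2'
      · rintro rfl
        exact h5 hn1'
      · rintro rfl
        exact h4 hn2'
  have hγS : ∀ x ∈ L, Commute x a → ((x ∈ D0 ∧ Commute x a ∧ x ≠ a) ↔ γ x ∈ Sset D' z' a') := by
    intro x hx hxa
    obtain ⟨h1, h2⟩ := hEn x hx hxa
    change _ ↔ n' * α (n⁻¹ * x * n) * n'⁻¹ ∈ _
    rw [← hSconj, ← hαS _ h1]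
    constructor
    · rintro ⟨h3, h4, h5⟩
      refine ⟨hn' x h3 h4 h5, h2, ?_⟩
      intro h6
      -- `n⁻¹ x n = a` gives `x = z`, but `z ∉ D0`
      have h7 : x = z := by
        have : x = n * (n⁻¹ * x * n) * n⁻¹ := by group
        rw [this, h6, hn2]
      rw [h7] at h3
      exact ((hαD z hzL).1 h3).2 hαz
    · rintro ⟨h3, h4, h5⟩
      have h0 : n * (n⁻¹ * x * n) * n⁻¹ = x := by group
      have h8 := hn _ h3 h4 h5
      rw [h0] at h8
      refine ⟨h8, hxa, ?_⟩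
      rintro rfl
      rw [hn1i] at h3
      exact ((hαD z hzL).1 h3).2 hαz
  have hauto : Auto (Sset D' z' a') lab (fun v => γ (β (lab v))) := by
    refine ⟨?_, ?_, ?_, ?_⟩
    · intro v hv0 hv
      have hm := hL.mem v hv0 hv
      obtain ⟨hyD, hyz, hya, hyz', hya'⟩ := hm
      obtain ⟨h1, h2⟩ := hβ (lab v) hyz
      have h3 := hβa _ hyz hya
      change γ (β (lab v)) ∈ _
      rw [← hγS _ h1 h3, hαS _ h1, h2]
      exact hL.mem v hv0 hv
    · intro s hs
      have hs' := hs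
      obtain ⟨hsD, hsz, hsa, hsz', hsa'⟩ := hs
      obtain ⟨x, hxL, hxa, hxs⟩ := hγsurj s hsz hsa
      have hxS : α x ∈ Sset D' z' a' := by
        rw [← hαS x hxL, hγS x hxL hxa, hxs]
        exact hs'
      obtain ⟨v, hv0, hv, hvx⟩ := hL.surj _ hxS
      refine ⟨v, hv0, hv, ?_⟩
      rw [← hvx, hβα x hxL, hxs]
    · intro v w hv0 hw0 hv hw
      obtain ⟨hyD, hyz, hya, hyz', hya'⟩ := hL.mem v hv0 hv
      obtain ⟨hyD2, hyz2, hya2, hyz2', hya2'⟩ := hL.mem w hw0 hw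
      obtain ⟨h1, h2⟩ := hβ (lab v) hyz
      obtain ⟨h1', h2'⟩ := hβ (lab w) hyz2
      have h3 := hβa _ hyz hya
      have h3' := hβa _ hyz2 hya2
      rw [← hL.comm v w hv0 hw0 hv hw]
      have h5 : Commute (γ (β (lab v))) (γ (β (lab w))) ↔ Commute (β (lab v)) (β (lab w)) := by
        constructor
        · intro h
          refine hγinj _ (mul_mem h1 h1') (h3.mul_left h3') _ (mul_mem h1' h1) (h3'.mul_left h3) ?_
          rw [hγmul _ h1 h3 _ h1' h3', hγmul _ h1' h3' _ h1 h3]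
          exact h
        · intro h
          have : γ (β (lab v) * β (lab w)) = γ (β (lab w) * β (lab v)) := by rw [h.eq]
          rwa [hγmul _ h1 h3 _ h1' h3', hγmul _ h1' h3' _ h1 h3] at this
      rw [h5, ← hα.commute_iff _ _ h1 h1', h2, h2']
    · intro v hv0 hv c hc
      rw [hL.smul v hv0 hv c hc]
  have hlist : ∀ l : List (Fin 6 → F), (∀ v ∈ l, v ≠ 0 ∧ hermForm 6 F 2 v v = 0) →
      (Commute ((l.map lab).prod) z' ∧ Commute ((l.map lab).prod) a') ∧
      (l.map (fun v => γ (β (lab v)))).prod = γ (β ((l.map lab).prod)) := by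
    intro l
    induction l with
    | nil =>
      intro _
      simp only [List.map_nil, List.prod_nil]
      rw [hβ1, hγ1]
      exact ⟨⟨Commute.one_left _, Commute.one_left _⟩, rfl⟩
    | cons x l ih =>
      intro hl
      obtain ⟨⟨h1, h2⟩, h3⟩ := ih fun v hv => hl v (List.mem_cons_of_mem _ hv)
      obtain ⟨hx0, hx⟩ := hl x List.mem_cons_self
      obtain ⟨-, hyz, hya, -, -⟩ := hL.mem x hx0 hx
      rw [List.map_cons, List.prod_cons, List.map_cons, List.prod_cons, h3,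
        hφmul _ _ hyz hya h1 h2]
      exact ⟨⟨hyz.mul_left h1, hya.mul_left h2⟩, rfl⟩
  obtain ⟨g, hg, hgv⟩ := exists_conj_full hF hL hauto
    (Z := (Subgroup.closure ({z', a'} : Set H) : Set H)) (by
      intro y hy s hs
      obtain ⟨-, hsz, hsa, -, -⟩ := hs
      have h1 : Subgroup.closure ({z', a'} : Set H) ≤ Subgroup.centralizer ({s} : Set H) := by
        rw [Subgroup.closure_le]
        rintro x hx
        simp only [Set.mem_insert_iff, Set.mem_singleton_iff] at hx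
        rcases hx with rfl | rfl
        · exact Subgroup.mem_centralizer_singleton_iff.2 hsz.symm
        · exact Subgroup.mem_centralizer_singleton_iff.2 hsa.symm
      exact Subgroup.mem_centralizer_singleton_iff.1 (h1 hy)) (by
      intro l hl hlZ
      obtain ⟨-, h3⟩ := hlist l hl
      rw [h3]
      exact (hφZ _ hlZ).2) hfr hoZ hinj
  have hgz : Commute g z' ∧ Commute g a' := by
    have h1 : Subgroup.closure (Sset D' z' a') ≤
        Subgroup.centralizer ({z'} : Set H) ⊓ Subgroup.centralizer ({a'} : Set H) := by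
      rw [Subgroup.closure_le]
      rintro s ⟨-, h2, h3, -, -⟩
      exact ⟨Subgroup.mem_centralizer_singleton_iff.2 h2,
        Subgroup.mem_centralizer_singleton_iff.2 h3⟩
    obtain ⟨h2, h3⟩ := h1 hg
    exact ⟨Subgroup.mem_centralizer_singleton_iff.1 h2, Subgroup.mem_centralizer_singleton_iff.1 h3⟩
  have hgz' : g * z' * g⁻¹ = z' := by rw [hgz.1.eq, mul_inv_cancel_right]
  have hga' : g * a' * g⁻¹ = a' := by rw [hgz.2.eq, mul_inv_cancel_right]
  have hally : ∀ y, y ∈ Subgroup.closure {d | d ∈ D' ∧ Commute d z' ∧ Commute d a'} →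
      (Commute y z' ∧ Commute y a') ∧ γ (β y) = g * y * g⁻¹ := by
    intro y hy
    induction hy using Subgroup.closure_induction with
    | mem d hd =>
      obtain ⟨hdD, hdz, hda⟩ := hd
      refine ⟨⟨hdz, hda⟩, ?_⟩
      by_cases h1 : d = z'
      · rw [h1, hβz, hγz, hgz']
      by_cases h2 : d = a'
      · rw [h2, hβa', hγa, hga']
      obtain ⟨v, hv0, hv, hvd⟩ := hL.surj d ⟨hdD, hdz, hda, h1, h2⟩
      have h4 := hgv v hv0 hv
      rw [← hvd] at h4
      exact h4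
    | one => exact ⟨⟨Commute.one_left _, Commute.one_left _⟩, by rw [hβ1, hγ1]; group⟩
    | mul x y hx hy ihx ihy =>
      obtain ⟨⟨h1, h2⟩, h3⟩ := ihx
      obtain ⟨⟨h4, h5⟩, h6⟩ := ihy
      refine ⟨⟨h1.mul_left h4, h2.mul_left h5⟩, ?_⟩
      rw [hφmul x y h1 h2 h4 h5, h3, h6]
      group
    | inv x hx ih =>
      obtain ⟨⟨h1, h2⟩, h3⟩ := ih
      refine ⟨⟨h1.inv_left, h2.inv_left⟩, ?_⟩
      have h4 := hφmul x⁻¹ x h1.inv_left h2.inv_left h1 h2
      rw [inv_mul_cancel, hβ1, hγ1, h3] at h4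
      have h5 := eq_inv_of_mul_eq_one_left h4.symm
      rw [h5]
      group
  have hall : ∀ x ∈ L, Commute x a → γ x = g * α x * g⁻¹ := by
    intro x hx hxa
    have h1 := (hally (α x) (hgen _ (hα.map x hx) (hαC x hx hxa))).2
    rwa [hβα x hx] at h1
  refine ⟨g⁻¹ * n', ?_, ?_, ?_⟩
  · calc g⁻¹ * n' * z' * (g⁻¹ * n')⁻¹ = g⁻¹ * (n' * z' * n'⁻¹) * g := by group
      _ = g⁻¹ * (g * a' * g⁻¹) * g := by rw [hn1', hga']
      _ = a' := by group
  · calc g⁻¹ * n' * a' * (g⁻¹ * n')⁻¹ = g⁻¹ * (n' * a' * n'⁻¹) * g := by group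
      _ = g⁻¹ * (g * z' * g⁻¹) * g := by rw [hn2', hgz']
      _ = z' := by group
  · intro x hx hxa
    have h1 := hall x hx hxa
    calc α (n⁻¹ * x * n) = n'⁻¹ * (n' * α (n⁻¹ * x * n) * n'⁻¹) * n' := by group
      _ = n'⁻¹ * (g * α x * g⁻¹) * n' := by rw [← h1]
      _ = (g⁻¹ * n')⁻¹ * α x * (g⁻¹ * n') := by group

/-- (B3) for flags: `b ∈ L` and `j ∈ L_a` commute if their images do. -/
theorem commute_of_commute {F : Type*} [Field F] [Fintype F] (hF : Fintype.card F = 2 ^ 2)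
    {L La : Subgroup G} {z a i k : G} {z' a' i' : H} {α β : G → H} (hα : LIso L z' α)
    (hβ : LIso La a' β) {Da : Set G} {D' : Set H} (hDc' : ∀ g : H, ∀ x ∈ D', g * x * g⁻¹ ∈ D')
    (hβD : ∀ x ∈ La, (x ∈ Da ↔ β x ∈ D' ∧ β x ≠ a'))
    (hLz : ∀ x ∈ L, Commute x z) (hLaa : ∀ x ∈ La, Commute x a)
    (hzL : z ∈ L) (haL : a ∈ L) (hiL : i ∈ L) (haLa : a ∈ La)
    (hEa : ∀ x ∈ L, Commute x a → x ∈ La) (hEa' : ∀ x ∈ La, Commute x z → x ∈ L)
    (hαβ : ∀ x ∈ L, Commute x a → β x = α x)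
    (hz' : z' ∈ D') (hαz : α z = z') (hαa : α a = a')
    (hia : Commute i a) (hαi : α i = i') (hzi : z ≠ i) (hza' : z ≠ a)
    (hkL : k ∈ L) (hk : k * a * k⁻¹ = i)
    (hco : ∀ x ∈ La, Commute x i → k⁻¹ * x * k ∈ La)
    (hcoD : ∀ x ∈ Da, Commute x i → x ≠ i → k⁻¹ * x * k ∈ Da)
    {lab : (Fin 6 → F) → H} (hL : Labels (Sset D' a' i') 6 F lab)
    {j : G} {j' : H} (hj' : j' ∈ D') (hja : j ∈ La) (hjj : β j = j') (hji : Commute j' i')
    {b : G} (hbz : b ∈ L) (hbi : Commute b i) (hbj : Commute (α b) j') : Commute b j := by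
  classical
  -- the isomorphism at `i`
  set δ : G → H := fun x => α k * β (k⁻¹ * x * k) * (α k)⁻¹ with hδ
  set Li : Subgroup G := cj k La with hLi
  have hαk : α k * a' * (α k)⁻¹ = i' := by
    rw [← hαa, ← hα.conj_mul k a hkL haL, hk, hαi]
  have hδI : LIso Li i' δ := hβ.conj hαk
  have hkz : Commute k z := hLz k hkL
  have hkzi : k⁻¹ * z * k = z := by rw [mul_assoc, ← hkz.eq, inv_mul_cancel_left]
  have hki : k⁻¹ * i * k = a := by rw [← hk]; group
  have hza : Commute a z := hLz a haL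
  have hiz : Commute i z := hLz i hiL
  have hCk : ∀ x ∈ L, k⁻¹ * x * k ∈ L := fun x hx => mul_mem (mul_mem (inv_mem hkL) hx) hkL
  have hCki : ∀ x, Commute x i → Commute (k⁻¹ * x * k) a := by
    intro x hx
    have h1 := hx.map (MulAut.conj k⁻¹)
    rwa [MulAut.conj_apply, MulAut.conj_apply, inv_inv, hki] at h1
  have hLLi : ∀ x ∈ L, Commute x i → x ∈ Li := by
    intro x hx hxi
    rw [hLi, mem_cj]
    exact hEa _ (hCk x hx) (hCki x hxi)
  have hδα : ∀ x ∈ L, Commute x i → δ x = α x := by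
    intro x hxz hxi
    change α k * β (k⁻¹ * x * k) * (α k)⁻¹ = α x
    rw [hαβ _ (hCk x hxz) (hCki x hxi), hα.inv_conj_mul k x hkL hxz]
    group
  -- basic facts
  have hiLa : i ∈ La := hEa i hiL hia
  have hzLa : z ∈ La := hEa z hzL hza.symm
  have haLi : a ∈ Li := hLLi a haL hia.symm
  have hzLi : z ∈ Li := hLLi z hzL hiz.symm
  have hiLi : i ∈ Li := hLLi i hiL (Commute.refl i)
  have hβi : β i = i' := by rw [hαβ i hiL hia, hαi]
  have hβz : β z = z' := by rw [hαβ z hzL hza.symm, hαz]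
  have hβa : β a = a' := by rw [hαβ a haL (Commute.refl a), hαa]
  have hδz : δ z = z' := by rw [hδα z hzL hiz.symm, hαz]
  have hδa : δ a = a' := by rw [hδα a haL hia.symm, hαa]
  have hδi : δ i = i' := by rw [hδα i hiL (Commute.refl i), hαi]
  have hji0 : Commute j i := by
    rw [← hβ.commute_iff _ _ hja hiLa, hjj, hβi]
    exact hji
  have hjLi : j ∈ Li := by rw [hLi, mem_cj]; exact hco j hja hji0
  have hjca : Commute j a := hLaa j hja
  have hbz' : Commute (α b) z' := hα.map b hbz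
  have hbLi : b ∈ Li := hLLi b hbz hbi
  have hδb : δ b = α b := hδα b hbz hbi
  -- it is enough that `α b` commutes with `δ j`
  suffices h : Commute (α b) (δ j) by
    rw [← hδI.commute_iff _ _ hbLi hjLi, hδb]
    exact h
  by_cases hjz : Commute j z
  · -- everything happens in `L`
    have hjL : j ∈ L := hEa' j hja hjz
    rw [hδα j hjL hji0, ← hαβ j hjL hjca, hjj]
    exact hbj
  have hj'z : ¬ Commute j' z' := by
    rw [← hjj, ← hβz, hβ.commute_iff _ _ hja hzLa]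
    exact hjz
  have hja0 : j ≠ a := by
    rintro rfl
    exact hjz hza
  have hji1 : j ≠ i := by
    rintro rfl
    exact hjz hiz
  have hjD : j ∈ Da := (hβD j hja).2 (by
    refine ⟨by rw [hjj]; exact hj', ?_⟩
    intro h1
    rw [← hβa] at h1
    exact hja0 (hβ.inj _ hja _ haLa h1))
  have hδjD : δ j ∈ D' := by
    change α k * β (k⁻¹ * j * k) * (α k)⁻¹ ∈ D'
    exact hDc' _ _ ((hβD _ (hco j hja hji0)).1 (hcoD j hjD hji0 hji1)).1
  have hδj : δ j ∈ Sset D' a' i' := by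
    refine ⟨hδjD, ?_, hδI.map j hjLi, ?_, ?_⟩
    · rw [← hδa, hδI.commute_iff _ _ hjLi haLi]
      exact hjca
    · intro h1
      rw [← hδa] at h1
      exact hja0 (hδI.inj _ hjLi _ haLi h1)
    · intro h1
      rw [← hδi] at h1
      exact hji1 (hδI.inj _ hjLi _ hiLi h1)
  have hj'S : j' ∈ Sset D' a' i' := by
    refine ⟨hj', ?_, hji, ?_, ?_⟩
    · rw [← hjj]; exact hβ.map j hja
    · intro h1
      rw [← hjj, ← hβa] at h1
      exact hja0 (hβ.inj _ hja _ haLa h1)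
    · intro h1
      rw [← hjj, ← hβi] at h1
      exact hji1 (hβ.inj _ hja _ hiLa h1)
  have hz'S : z' ∈ Sset D' a' i' := by
    refine ⟨hz', ?_, ?_, ?_, ?_⟩
    · rw [← hβz]; exact hβ.map z hzLa
    · rw [← hδz]; exact hδI.map z hzLi
    · intro h1
      rw [← hβz, ← hβa] at h1
      exact hza' (hβ.inj _ hzLa _ haLa h1)
    · intro h1
      rw [← hδz, ← hδi] at h1
      exact hzi (hδI.inj _ hzLi _ hiLi h1)
  obtain ⟨p, hp0, hp, hpj⟩ := hL.surj _ hj'S
  obtain ⟨q, hq0, hq, hqj⟩ := hL.surj _ hδj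
  obtain ⟨w, hw0, hw, hwz⟩ := hL.surj _ hz'S
  have hδjz : ¬ Commute (δ j) z' := by
    rw [← hδz, hδI.commute_iff _ _ hjLi hzLi]
    exact hjz
  have key := eq_or_eq_conj hF hL hw0 hp0 hq0 hw hp hq
    (by
      rw [Ne, ← hL.comm w p hw0 hp0 hw hp, ← hwz, ← hpj]
      exact fun h1 => hj'z h1.symm)
    (by
      rw [Ne, ← hL.comm w q hw0 hq0 hw hq, ← hwz, ← hqj]
      exact fun h1 => hδjz h1.symm)
    (by
      intro x hx0 hx hxw hxp
      obtain ⟨hxD, hxa, hxi, -, -⟩ := hL.mem x hx0 hx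
      rw [← hL.comm x w hx0 hw0 hx hw, ← hwz] at hxw
      rw [← hL.comm x p hx0 hp0 hx hp, ← hpj] at hxp
      rw [← hL.comm x q hx0 hq0 hx hq, ← hqj]
      obtain ⟨y, hyz, hyx⟩ := hα.surj _ hxw
      have hya : Commute y a := by
        rw [← hα.commute_iff _ _ hyz haL, hyx, hαa]
        exact hxa
      have hyi : Commute y i := by
        rw [← hα.commute_iff _ _ hyz hiL, hyx, hαi]
        exact hxi
      have hyLa : y ∈ La := hEa y hyz hya
      have hyLi : y ∈ Li := hLLi y hyz hyi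
      have h1 : Commute y j := by
        rw [← hβ.commute_iff _ _ hyLa hja, hαβ y hyz hya, hyx, hjj]
        exact hxp
      rw [← hyx, ← hδα y hyz hyi, hδI.commute_iff _ _ hyLi hjLi]
      exact h1)
  rw [← hpj, ← hwz, ← hqj] at key
  rcases key with h1 | h1
  · rw [h1]; exact hbj
  · rw [h1]
    exact (hbz'.mul_right hbj).mul_right hbz'

end Cfsg.Agent.R08.FlagGlue
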