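import Cfsg.Agent.R08.FlagMain

/-!
Facts on the presented `Fi23`: the centraliser of `z0`, transitivity on commuting pairs of transpositions.
-/

set_option autoImplicit false

namespace Cfsg.Agent.R08.FlagH

open Cfsg Cfsg.Spor Cfsg.Agent.LieClassical.HermBasic Cfsg.Agent.R01.HermRigid
  Cfsg.Agent.R01.HermPlane Cfsg.Agent.R01.InvForm Cfsg.Agent.R01.GlueFull Cfsg.Agent.R08.FlagGlue
  Cfsg.Agent.R08.FlagMain Cfsg.Agent.Fischer.Abstract
open Cfsg.Agent.R01.AlphaFi23 (finite_fi23 card_fi23)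
open Cfsg.Agent.Fischer.Fi23Hom (gen)
open Cfsg.Agent.Fischer.Fi23Class (K)
open Cfsg.Agent.Fischer.Fi23Z (z0)

theorem exists_R : ∃ R : Rank3 Fi23 (Fi23 ⧸ K), R.t R.x0 = z0 ∧ R.x0 = ((1 : Fi23) : Fi23 ⧸ K) :=
  haveI := finite_fi23
  Cfsg.Agent.Fischer.Fi23Class.exists_rank3 card_fi23.le

theorem cen (y : Fi23) (hy : Commute y z0) : y ∈ K := by
  obtain ⟨R, hR, hx⟩ := exists_R
  have h1 : y • R.x0 = R.x0 := by
    rw [R.smul_eq_iff_comm, hR]
    exact hy
  rw [hx] at h1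
  have h2 : ((y * 1 : Fi23) : Fi23 ⧸ K) = ((1 : Fi23) : Fi23 ⧸ K) := h1
  rw [mul_one, QuotientGroup.eq, mul_one] at h2
  exact (Subgroup.inv_mem_iff K).1 h2

theorem cls (y : Fi23) (hy : Commute y z0) (hc : y ∈ conjugatesOf z0) (hne : y ≠ z0) :
    ∃ k ∈ K, k * gen .a * k⁻¹ = y := by
  obtain ⟨R, hR, hx⟩ := exists_R
  have hform : ∀ w : Fi23, Commute w z0 → w ∈ conjugatesOf z0 → w ≠ z0 →
      ∃ h : Fi23, h • R.x0 = R.x0 ∧ R.t (h • R.c) = w := by
    intro w hw hwc hwne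
    obtain ⟨g, hg⟩ := isConj_iff.1 (show IsConj z0 w from hwc)
    have h1 : R.t (g • R.x0) = w := by rw [R.map_smul, hR, hg]
    have h2 : R.Com R.x0 (g • R.x0) := by
      rw [R.com_def, hR, h1]
      exact hw.symm
    rcases R.com_x0_iff.1 h2 with h3 | ⟨h, hh, hc⟩
    · exfalso
      apply hwne
      rw [← h1, h3, hR]
    · exact ⟨h, hh, by rw [hc, h1]⟩
  obtain ⟨h, hh, hhy⟩ := hform y hy hc hne
  obtain ⟨h', hh', hha⟩ := hform (gen .a)
    (comm_z0 _ (Cfsg.Agent.Fischer.Fi23Class.gen_mem_K .a (by decide))) (isConj_gen .a) gen_a_ne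
  refine ⟨h * h'⁻¹, ?_, ?_⟩
  · apply cen
    have h1 : (h * h'⁻¹) • R.x0 = R.x0 := by
      rw [mul_smul, inv_smul_eq_iff.2 hh'.symm, hh]
    rw [R.smul_eq_iff_comm, hR] at h1
    exact h1
  · rw [← hhy, ← hha, ← R.map_smul, mul_smul, inv_smul_smul]

/-- Every commuting pair of different transpositions is conjugate to `z0, a`. -/
theorem pair (x y : Fi23) (hx : x ∈ conjugatesOf z0) (hy : y ∈ conjugatesOf z0) (hxy : Commute x y)
    (hne : x ≠ y) : ∃ g : Fi23, g * z0 * g⁻¹ = x ∧ g * gen .a * g⁻¹ = y := by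
  obtain ⟨g, hg⟩ := isConj_iff.1 (show IsConj z0 x from hx)
  have h1 : g⁻¹ * x * g = z0 := by rw [← hg]; group
  have h2 : Commute (g⁻¹ * y * g) z0 := comm_conj' hxy.symm hg
  have h3 : g⁻¹ * y * g ≠ z0 := by
    intro h
    apply hne
    rw [← hg, ← h]
    group
  have h4 : g⁻¹ * y * g ∈ conjugatesOf z0 := by
    have := mem_conj g⁻¹ y hy
    rwa [inv_inv] at this
  obtain ⟨k, hk, hky⟩ := cls _ h2 h4 h3
  have hkz : k * z0 * k⁻¹ = z0 := by rw [comm_z0 k hk, mul_inv_cancel_right]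
  refine ⟨g * k, ?_, ?_⟩
  · calc g * k * z0 * (g * k)⁻¹ = g * (k * z0 * k⁻¹) * g⁻¹ := by group
      _ = x := by rw [hkz, hg]
  · calc g * k * gen .a * (g * k)⁻¹ = g * (k * gen .a * k⁻¹) * g⁻¹ := by group
      _ = y := by rw [hky]; group

theorem swap : ∃ n' : Fi23, n' * z0 * n'⁻¹ = gen .a ∧ n' * gen .a * n'⁻¹ = z0 :=
  pair _ _ (isConj_gen .a) mem_conjugatesOf_self
    (comm_z0 _ (Cfsg.Agent.Fischer.Fi23Class.gen_mem_K .a (by decide))) gen_a_ne

theorem gen_i_ne_a : (gen .i : Fi23) ≠ gen .a := by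
  intro h
  apply not_comm_ab
  rw [← h]
  exact (Cfsg.Agent.Fischer.Fi23Class.gen_comm .b .i (by decide)).symm

/-- Transport of labels by conjugation. -/
theorem labels_conj {M : Type*} [Group M] {D : Set M} (hD : ∀ g : M, ∀ x ∈ D, g * x * g⁻¹ ∈ D)
    {F : Type*} [Field F] [Fintype F] {z a : M} {lab : (Fin 6 → F) → M}
    (hL : Labels (Sset D z a) 6 F lab) (g : M) :
    Labels (Sset D (g * z * g⁻¹) (g * a * g⁻¹)) 6 F (fun v => g * lab v * g⁻¹) := by
  have hcomm : ∀ x y : M, Commute (g * x * g⁻¹) (g * y * g⁻¹) ↔ Commute x y := by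
    intro x y
    constructor
    · intro h
      have := comm_conj' h (n := g) (z := y) rfl
      have h1 : g⁻¹ * (g * x * g⁻¹) * g = x := by group
      rwa [h1] at this
    · intro h
      exact comm_conj h rfl
  have hinj : ∀ x y : M, g * x * g⁻¹ = g * y * g⁻¹ → x = y := fun x y h =>
    mul_left_cancel (mul_right_cancel h)
  have hback : ∀ x : M, g * (g⁻¹ * x * g) * g⁻¹ = x := fun x => by group
  refine ⟨?_, ?_, ?_, ?_, ?_, ?_, ?_⟩
  · intro v hv0 hv
    obtain ⟨h1, h2, h3, h4, h5⟩ := hL.mem v hv0 hv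
    exact ⟨hD g _ h1, (hcomm _ _).2 h2, (hcomm _ _).2 h3, fun h => h4 (hinj _ _ h),
      fun h => h5 (hinj _ _ h)⟩
  · rintro s ⟨h1, h2, h3, h4, h5⟩
    have e := hback s
    obtain ⟨v, hv0, hv, hvs⟩ := hL.surj (g⁻¹ * s * g) ⟨by
        have := hD g⁻¹ s h1
        rwa [inv_inv] at this, by
        rw [← hcomm, e]; exact h2, by
        rw [← hcomm, e]; exact h3, by
        intro h; apply h4; rw [← h, e], by
        intro h; apply h5; rw [← h, e]⟩
    exact ⟨v, hv0, hv, by rw [← hvs, e]⟩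
  · intro v hv0 hv c hc
    change g * lab (c • v) * g⁻¹ = g * lab v * g⁻¹
    rw [hL.smul v hv0 hv c hc]
  · intro v w hv0 hw0 hv hw h
    exact hL.inj v w hv0 hw0 hv hw (hinj _ _ h)
  · intro v w hv0 hw0 hv hw
    rw [hcomm]
    exact hL.comm v w hv0 hw0 hv hw
  · intro v hv0 hv
    calc g * lab v * g⁻¹ * (g * lab v * g⁻¹) = g * (lab v * lab v) * g⁻¹ := by group
      _ = 1 := by rw [hL.sq v hv0 hv]; group
  · intro v w hv0 hw0 hv hw
    calc g * lab v * g⁻¹ * (g * lab w * g⁻¹) * (g * lab v * g⁻¹)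
        = g * (lab v * lab w * lab v) * g⁻¹ := by group
      _ = _ := by rw [hL.conj v w hv0 hw0 hv hw]

/-- The reduction of `HData` to the labels at `z0, a`. -/
theorem hdata {F : Type*} [Field F] [Fintype F]
    (hlab : ∃ lab : (Fin 6 → F) → Fi23, Labels (Sset (conjugatesOf z0) z0 (gen .a)) 6 F lab ∧
      ∃ u v w : Fin 6 → F, Fr3 u v w ∧
        (∀ t : Fˣ, ((ovalList u v w t).map lab).prod ∈ Subgroup.closure ({z0, gen .a} : Set Fi23)) ∧
        (∀ t t' : Fˣ, ((ovalList u v w t).map lab).prod = ((ovalList u v w t').map lab).prod → t = t'))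
    (hgens : ∀ y : Fi23, Commute y z0 → Commute y (gen .a) →
      y ∈ Subgroup.closure {d | d ∈ conjugatesOf z0 ∧ Commute d z0 ∧ Commute d (gen .a)}) :
    HData F := by
  refine ⟨cen, fun y hy hc hne => cls y (comm_z0 y hy) hc hne, swap, hlab, ?_, hgens⟩
  obtain ⟨lab, hL, -⟩ := hlab
  obtain ⟨g, hg1, hg2⟩ := pair (gen .a) (gen .i) (isConj_gen .a) (isConj_gen .i)
    (Cfsg.Agent.Fischer.Fi23Class.gen_comm .a .i (by decide)) (fun h => gen_i_ne_a h.symm)
  have h1 := labels_conj (D := conjugatesOf z0) mem_conj hL g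
  rw [hg1, hg2] at h1
  exact ⟨_, h1⟩

end Cfsg.Agent.R08.FlagH
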