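import Cfsg.Agent.R08.FlagGlue
import Cfsg.Agent.R01.AlphaFi23
import Cfsg.Agent.Fischer.Fi23Simple

/-!
Flagged gluing: `L ≤ C_G(u)` with `α : L ≃* K = C_{Fi23}(z0)`, one class `D0` of lifts, a coherent swap `n` of `u`
and a member of `D0`; then `α⁻¹` extends to an embedding of `Fi23`.
-/

set_option autoImplicit false
set_option linter.unusedSectionVars false

namespace Cfsg.Agent.R08.FlagMain

open Cfsg Cfsg.Spor Cfsg.Agent.LieClassical.HermBasic Cfsg.Agent.R01.HermRigid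
  Cfsg.Agent.R01.HermPlane Cfsg.Agent.R01.InvForm Cfsg.Agent.R01.GlueFull Cfsg.Agent.R08.FlagGlue
open Cfsg.Agent.R01.AlphaFi23 (emb t zrels t_coe emb_ne exists_emb closure_t finite_fi23 card_fi23)
open Cfsg.Agent.R01.AlphaGeneric (ZRels)
open Cfsg.Agent.Fischer.Fi23Hom (gen)
open Cfsg.Agent.Fischer.Fi23Class (K)
open Cfsg.Agent.Fischer.Fi23Z (z0)

/-- The facts on `Fi23` used: everything about the commuting pairs `z0, a` and `a, i`. -/
structure HData (F : Type*) [Field F] [Fintype F] : Prop where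
  cen : ∀ y : Fi23, Commute y z0 → y ∈ K
  cls : ∀ y ∈ K, y ∈ conjugatesOf z0 → y ≠ z0 → ∃ k ∈ K, k * gen .a * k⁻¹ = y
  swap : ∃ n' : Fi23, n' * z0 * n'⁻¹ = gen .a ∧ n' * gen .a * n'⁻¹ = z0
  lab : ∃ lab : (Fin 6 → F) → Fi23, Labels (Sset (conjugatesOf z0) z0 (gen .a)) 6 F lab ∧
    ∃ u v w : Fin 6 → F, Fr3 u v w ∧
      (∀ t : Fˣ, ((ovalList u v w t).map lab).prod ∈ Subgroup.closure ({z0, gen .a} : Set Fi23)) ∧
      (∀ t t' : Fˣ, ((ovalList u v w t).map lab).prod = ((ovalList u v w t').map lab).prod → t = t')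
  lab' : ∃ lab : (Fin 6 → F) → Fi23, Labels (Sset (conjugatesOf z0) (gen .a) (gen .i)) 6 F lab
  gens : ∀ y : Fi23, Commute y z0 → Commute y (gen .a) →
    y ∈ Subgroup.closure {d | d ∈ conjugatesOf z0 ∧ Commute d z0 ∧ Commute d (gen .a)}

theorem isConj_gen (x : Fi23.Gen) : IsConj z0 (gen x) :=
  haveI := finite_fi23
  Cfsg.Agent.Fischer.Fi23Class.isConj_gen card_fi23.le x

theorem comm_z0 : ∀ h ∈ K, h * z0 = z0 * h :=
  haveI := finite_fi23
  Cfsg.Agent.Fischer.Fi23Class.comm_z0 card_fi23.le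

theorem z0_sq : z0 * z0 = 1 :=
  haveI := finite_fi23
  Cfsg.Agent.Fischer.Fi23Class.z0_sq card_fi23.le

theorem mem_conj (g : Fi23) : ∀ x ∈ conjugatesOf z0, g * x * g⁻¹ ∈ conjugatesOf z0 := by
  intro x hx
  have h1 : IsConj z0 x := hx
  exact (show IsConj z0 (g * x * g⁻¹) from h1.trans (isConj_iff.2 ⟨g, rfl⟩))

theorem gen_j_not_mem : (gen .j : Fi23) ∉ K := by
  intro h
  exact Cfsg.Agent.Fischer.Fi23Class.z0_ncomm (comm_z0 _ h).symm

theorem gen_a_ne : (gen .a : Fi23) ≠ z0 := by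
  intro h
  apply Cfsg.Agent.Fischer.Fi23Class.z0_ncomm
  rw [← h]
  exact Cfsg.Agent.Fischer.Fi23Class.gen_comm .a .j (by decide)

theorem z0_ne_one : z0 ≠ 1 := by
  intro h
  apply Cfsg.Agent.Fischer.Fi23Class.z0_ncomm
  rw [h, one_mul, mul_one]

theorem eq_of_comm (x y : Fi23.Gen) (hl : coxLabel Fi23.edges x y = 3)
    (hxy : (gen x : Fi23) * gen y = gen y * gen x) : (gen x : Fi23) = gen y := by
  have h1 := Cfsg.Agent.Fischer.Fi23Final.gen_rel x y
  rw [hl] at h1
  have hx := Cfsg.Agent.Fischer.Fi23Final.gen_sq x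
  have hy := Cfsg.Agent.Fischer.Fi23Final.gen_sq y
  have h2 : (gen x : Fi23) * gen y * (gen x * gen y) = 1 := by
    calc (gen x : Fi23) * gen y * (gen x * gen y) = gen x * gen y * (gen y * gen x) := by rw [hxy]
      _ = gen x * (gen y * gen y) * gen x := by simp only [mul_assoc]
      _ = 1 := by rw [hy, mul_one, hx]
  have h3 : (gen x : Fi23) * gen y = 1 := by
    calc (gen x : Fi23) * gen y = (gen x * gen y * (gen x * gen y)) * (gen x * gen y) := by
          rw [h2, one_mul]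
      _ = (gen x * gen y) ^ 3 := by simp only [pow_succ, pow_zero, one_mul, mul_assoc]
      _ = 1 := h1
  calc (gen x : Fi23) = gen x * gen y * gen y := by rw [mul_assoc, hy, mul_one]
    _ = gen y := by rw [h3, one_mul]

/-- The two generators `a`, `b` do not commute. -/
theorem not_comm_ab : (gen .a : Fi23) * gen .b ≠ gen .b * gen .a := by
  intro h
  have step : ∀ x y w : Fi23.Gen, coxLabel Fi23.edges y w = 3 → coxLabel Fi23.edges x w = 2 →
      (gen x : Fi23) = gen y → (gen y : Fi23) = gen w := by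
    intro x y w hyw hxw hxy
    refine eq_of_comm y w hyw ?_
    rw [← hxy]
    exact Cfsg.Agent.Fischer.Fi23Class.gen_comm x w hxw
  have hab := eq_of_comm .a .b (by decide) h
  have hbc := step .a .b .c (by decide) (by decide) hab
  have hcd := step .b .c .d (by decide) (by decide) hbc
  have hde := step .c .d .e (by decide) (by decide) hcd
  have hef := step .d .e .f (by decide) (by decide) hde
  have hfg := step .e .f .g (by decide) (by decide) hef
  have hgj := step .f .g .j (by decide) (by decide) hfg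
  apply Cfsg.Agent.Fischer.Fi23Class.z0_ncomm
  rw [← hgj]
  exact (comm_z0 _ (Cfsg.Agent.Fischer.Fi23Class.gen_mem_K .g (by decide))).symm

section Hom

variable {G : Type*} [Group G]

/-- The tuple `a, …, i, j` of `G`. -/
def tup (s : Fi22.Gen → G) (j : G) : Fi23.Gen → G
  | .a => s .a
  | .b => s .b
  | .c => s .c
  | .d => s .d
  | .e => s .e
  | .f => s .f
  | .g => s .g
  | .h => s .h
  | .i => s .i
  | .j => j

theorem tup_emb (s : Fi22.Gen → G) (j : G) (x : Fi22.Gen) : tup s j (emb x) = s x := by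
  cases x <;> rfl

theorem pow_swap {x y : G} {n : ℕ} (h : (x * y) ^ n = 1) : (y * x) ^ n = 1 := by
  have h1 : y * x = y * (x * y) * y⁻¹ := by group
  rw [h1, conj_pow, h, mul_one, mul_inv_cancel]

/-- The homomorphism from the presentation. -/
theorem exists_hom {s : Fi22.Gen → G} {z j : G} (hs : ZRels s z)
    (hj1 : j * j = 1) (hj : ∀ x : Fi22.Gen, (s x * j) ^ coxLabel Fi23.edges (emb x) .j = 1) :
    ∃ θ : Fi23 →* G, (∀ x, θ (gen (emb x)) = s x) ∧ θ (gen .j) = j := by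
  have hrel : ∀ r ∈ coxRelators Fi23.edges ∪ {r | r ∈ Fi23.extra}, FreeGroup.lift (tup s j) r = 1 := by
    rintro r (⟨x, _, y, _, rfl⟩ | hr)
    · rw [map_pow, map_mul, FreeGroup.lift_apply_of, FreeGroup.lift_apply_of]
      by_cases hx : x = .j
      · subst hx
        by_cases hy : y = .j
        · subst hy
          have h1 : coxLabel Fi23.edges Fi23.Gen.j .j = 1 := by decide
          rw [h1, pow_one]
          exact hj1
        · obtain ⟨y, rfl⟩ := exists_emb hy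
          rw [tup_emb]
          have h2 : coxLabel Fi23.edges Fi23.Gen.j (emb y) = coxLabel Fi23.edges (emb y) .j := by
            cases y <;> decide
          rw [h2]
          exact pow_swap (hj y)
      · obtain ⟨x, rfl⟩ := exists_emb hx
        rw [tup_emb]
        by_cases hy : y = .j
        · subst hy
          exact hj x
        · obtain ⟨y, rfl⟩ := exists_emb hy
          rw [tup_emb, Cfsg.Agent.R01.AlphaFi23.lab_emb]
          exact hs.cox x y
    · simp only [Fi23.extra, Set.mem_ofPred_eq, List.mem_cons, List.not_mem_nil, or_false] at hr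
      rcases hr with rfl | rfl
      · simp only [map_pow, map_mul, FreeGroup.lift_apply_of]
        exact hs.spider
      · simp only [map_pow, map_mul, FreeGroup.lift_apply_of]
        exact hs.e7a
  refine ⟨PresentedGroup.toGroup hrel, fun x => ?_, ?_⟩
  · have : PresentedGroup.toGroup hrel (gen (emb x)) = tup s j (emb x) := PresentedGroup.toGroup.of hrel
    rw [this, tup_emb]
  · have : PresentedGroup.toGroup hrel (gen .j) = tup s j .j := PresentedGroup.toGroup.of hrel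
    rw [this]
    rfl

/-- A nontrivial homomorphism out of `Fi23` is injective. -/
theorem injective_of_ne (θ : Fi23 →* G) (h : θ z0 ≠ 1) : Function.Injective θ := by
  have hs : IsSimpleGroup Fi23 := Cfsg.Agent.Fischer.Fi23Simple.isFi23.1
  rw [← MonoidHom.ker_eq_bot_iff]
  rcases hs.eq_bot_or_eq_top_of_normal θ.ker inferInstance with h1 | h1
  · exact h1
  · exfalso
    apply h
    have : z0 ∈ θ.ker := by rw [h1]; trivial
    exact this

end Hom

section Main

variable {G : Type*} [Group G]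

/-- **Flagged gluing (X3).** -/
theorem main {F : Type*} [Field F] [Fintype F] (hF : Fintype.card F = 2 ^ 2) (hd : HData F)
    {u : G} {L : Subgroup G} (hLu : ∀ x ∈ L, Commute x u) (huL : u ∈ L)
    (hnorm : ∀ g : G, Commute g u → ∀ x ∈ L, g * x * g⁻¹ ∈ L)
    (e : L ≃* K) (heu : (e ⟨u, huL⟩ : Fi23) = z0)
    {D0 : Set G} (hD0 : D0 ⊆ L) (heD : ∀ x : L, (x : G) ∈ D0 ↔ IsConj (t .a) (e x))
    (hE : ∀ d ∈ D0, ∀ x, Commute x u → Commute x d → x ∈ L)
    {d n0 : G} (hdD : d ∈ D0) (hn01 : n0 * u * n0⁻¹ = d) (hn02 : n0 * d * n0⁻¹ = u)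
    (hn0 : ∀ x ∈ D0, Commute x d → x ≠ d → n0 * x * n0⁻¹ ∈ D0) :
    ∃ θ : Fi23 →* G, Function.Injective θ ∧ θ z0 = u ∧ ∀ x : L, θ (e x : Fi23) = x := by
  classical
  -- `α` as a total function
  have hKc : (K : Subgroup Fi23) = Subgroup.centralizer ({z0} : Set Fi23) := by
    ext y
    rw [Subgroup.mem_centralizer_singleton_iff]
    exact ⟨fun h => comm_z0 y h, fun h => hd.cen y h⟩
  obtain ⟨α, hα, hαe⟩ := LIso.of_mulEquiv (e.trans (MulEquiv.subgroupCongr hKc))
  have hαe' : ∀ x : L, α (x : G) = (e x : Fi23) := fun x => by rw [hαe]; rfl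
  have hαK : ∀ x ∈ L, α x ∈ K := fun x hx => hd.cen _ (hα.map x hx)
  have hαu : α u = z0 := by rw [← heu, ← hαe']
  set D' : Set Fi23 := conjugatesOf z0 with hD'
  -- the class `D0`
  have hαD0 : ∀ x ∈ L, (x ∈ D0 ↔ ∃ k ∈ K, k * gen .a * k⁻¹ = α x) := by
    intro x hx
    rw [heD ⟨x, hx⟩, isConj_iff]
    constructor
    · rintro ⟨c, hc⟩
      refine ⟨c, c.2, ?_⟩
      have := congrArg (fun y : K => (y : Fi23)) hc
      rw [hαe' ⟨x, hx⟩]
      exact this
    · rintro ⟨k, hk, hkx⟩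
      refine ⟨⟨k, hk⟩, Subtype.ext ?_⟩
      rw [hαe' ⟨x, hx⟩] at hkx
      exact hkx
  have hza : ∀ k ∈ K, k * gen .a * k⁻¹ ≠ z0 := by
    intro k hk h
    apply gen_a_ne
    have h1 : k⁻¹ * z0 * k = z0 := by
      rw [mul_assoc, ← comm_z0 k hk, inv_mul_cancel_left]
    rw [← h1, ← h]
    group
  have hαD : ∀ x ∈ L, (x ∈ D0 ↔ α x ∈ D' ∧ α x ≠ z0) := by
    intro x hx
    rw [hαD0 x hx]
    constructor
    · rintro ⟨k, hk, hkx⟩
      refine ⟨?_, ?_⟩
      · rw [← hkx]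
        exact mem_conj k _ (isConj_gen .a)
      · rw [← hkx]
        exact hza k hk
    · rintro ⟨h1, h2⟩
      exact hd.cls _ (hαK x hx) h1 h2
  have hDconj : ∀ l ∈ L, ∀ x ∈ D0, l * x * l⁻¹ ∈ D0 := by
    intro l hl x hx
    have hxL := hD0 hx
    have hx2 := hx
    rw [hαD0 x hxL] at hx2
    obtain ⟨k, hk, hkx⟩ := hx2
    rw [hαD0 _ (mul_mem (mul_mem hl hxL) (inv_mem hl)), hα.conj_mul l x hl hxL, ← hkx]
    exact ⟨α l * k, mul_mem (hαK l hl) hk, by group⟩
  have hDtrans : ∀ x ∈ D0, ∀ y ∈ D0, ∃ l ∈ L, l * x * l⁻¹ = y := by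
    intro x hx y hy
    have hxL := hD0 hx
    have hyL := hD0 hy
    obtain ⟨k, hk, hkx⟩ := (hαD0 x hxL).1 hx
    obtain ⟨k', hk', hkx'⟩ := (hαD0 y hyL).1 hy
    obtain ⟨l, hl, hlk⟩ := hα.surj (k' * k⁻¹) (comm_z0 _ (mul_mem hk' (inv_mem hk)))
    refine ⟨l, hl, hα.inj _ (mul_mem (mul_mem hl hxL) (inv_mem hl)) _ hyL ?_⟩
    rw [hα.conj_mul l x hl hxL, hlk, ← hkx, ← hkx']
    group
  have huD : u ∉ D0 := by
    intro h
    exact ((hαD u huL).1 h).2 hαu
  -- blocks
  have hblock : ∀ g : G, Commute g u → ∀ w ∈ D0, g * w * g⁻¹ ∈ D0 → ∀ x ∈ D0, g * x * g⁻¹ ∈ D0 := by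
    intro g hg w hw hgw x hx
    obtain ⟨l, hl, rfl⟩ := hDtrans w hw x hx
    have h1 : g * (l * w * l⁻¹) * g⁻¹ = (g * l * g⁻¹) * (g * w * g⁻¹) * (g * l * g⁻¹)⁻¹ := by group
    rw [h1]
    exact hDconj _ (hnorm g hg l hl) _ hgw
  -- a coherent swap for every member
  have hsw : ∀ y ∈ D0, ∃ m : G, m * u * m⁻¹ = y ∧ m * y * m⁻¹ = u ∧
      (∀ x ∈ D0, Commute x y → x ≠ y → m * x * m⁻¹ ∈ D0) ∧
      (∀ x ∈ D0, Commute x y → x ≠ y → m⁻¹ * x * m ∈ D0) := by
    intro y hy
    obtain ⟨l, hl, rfl⟩ := hDtrans d hdD y hy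
    have hlu : Commute l u := hLu l hl
    have hlu1 : l⁻¹ * u * l = u := by rw [mul_assoc, ← hlu.eq, inv_mul_cancel_left]
    have hlu2 : l * u * l⁻¹ = u := by rw [hlu.eq, mul_inv_cancel_right]
    set m := l * n0 * l⁻¹ with hm
    have hm1 : m * u * m⁻¹ = l * d * l⁻¹ := by
      calc m * u * m⁻¹ = l * (n0 * (l⁻¹ * u * l) * n0⁻¹) * l⁻¹ := by rw [hm]; group
        _ = l * d * l⁻¹ := by rw [hlu1, hn01]
    have hm2 : m * (l * d * l⁻¹) * m⁻¹ = u := by
      calc m * (l * d * l⁻¹) * m⁻¹ = l * (n0 * d * n0⁻¹) * l⁻¹ := by rw [hm]; group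
        _ = u := by rw [hn02, hlu2]
    have hm3 : ∀ x ∈ D0, Commute x (l * d * l⁻¹) → x ≠ l * d * l⁻¹ → m * x * m⁻¹ ∈ D0 := by
      intro x hx hxc hxne
      have h1 : l⁻¹ * x * l ∈ D0 := by
        have := hDconj l⁻¹ (inv_mem hl) x hx
        rwa [inv_inv] at this
      have h2 : Commute (l⁻¹ * x * l) d := comm_conj' hxc rfl
      have h3 : l⁻¹ * x * l ≠ d := by
        intro h
        apply hxne
        rw [← h]; group
      have h4 := hDconj l hl _ (hn0 _ h1 h2 h3)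
      have h5 : l * (n0 * (l⁻¹ * x * l) * n0⁻¹) * l⁻¹ = m * x * m⁻¹ := by rw [hm]; group
      rwa [h5] at h4
    refine ⟨m, hm1, hm2, hm3, ?_⟩
    intro x hx hxc hxne
    have hxL := hD0 hx
    -- `m²` lies in `L`
    have hmm : (m * m)⁻¹ ∈ L := by
      refine inv_mem (hE _ hy _ ?_ ?_)
      · have h1 : m * m * u * (m * m)⁻¹ = m * (m * u * m⁻¹) * m⁻¹ := by group
        have h2 : m * m * u * (m * m)⁻¹ = u := by rw [h1, hm1, hm2]
        exact (eq_mul_inv_iff_mul_eq.1 h2.symm).symm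
      · have h1 : m * m * (l * d * l⁻¹) * (m * m)⁻¹ = m * (m * (l * d * l⁻¹) * m⁻¹) * m⁻¹ := by group
        have h2 : m * m * (l * d * l⁻¹) * (m * m)⁻¹ = l * d * l⁻¹ := by rw [h1, hm2, hm1]
        exact (eq_mul_inv_iff_mul_eq.1 h2.symm).symm
    have h3 := hDconj _ hmm _ (hm3 x hx hxc hxne)
    have h4 : (m * m)⁻¹ * (m * x * m⁻¹) * (m * m)⁻¹⁻¹ = m⁻¹ * x * m := by group
    rwa [h4] at h3
  -- the generators
  obtain ⟨a, haL, hαa⟩ := hα.surj (gen .a) (comm_z0 _ (Fischer.Fi23Class.gen_mem_K .a (by decide)))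
  obtain ⟨i, hiL, hαi⟩ := hα.surj (gen .i) (comm_z0 _ (Fischer.Fi23Class.gen_mem_K .i (by decide)))
  have hgz : ∀ x : Fi23.Gen, (gen x : Fi23) ∈ D' := fun x => isConj_gen x
  have haD : a ∈ D0 := (hαD a haL).2 ⟨by rw [hαa]; exact hgz .a, by rw [hαa]; exact gen_a_ne⟩
  have hgi_ne : (gen .i : Fi23) ≠ z0 := by
    intro h
    apply Cfsg.Agent.Fischer.Fi23Class.z0_ncomm
    rw [← h]
    exact Cfsg.Agent.Fischer.Fi23Class.gen_comm .i .j (by decide)
  have hiD : i ∈ D0 := (hαD i hiL).2 ⟨by rw [hαi]; exact hgz .i, by rw [hαi]; exact hgi_ne⟩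
  have hia' : Commute (gen .i : Fi23) (gen .a) := Cfsg.Agent.Fischer.Fi23Class.gen_comm .i .a (by decide)
  have hia : Commute i a := by
    rw [← hα.commute_iff i a hiL haL, hαi, hαa]
    exact hia'
  have hau : Commute a u := hLu a haL
  have hiu : Commute i u := hLu i hiL
  have hiane : i ≠ a := by
    intro h
    have h1 : (gen .i : Fi23) = gen .a := by rw [← hαi, ← hαa, h]
    apply not_comm_ab
    rw [← h1]
    exact (Cfsg.Agent.Fischer.Fi23Class.gen_comm .b .i (by decide)).symm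
  have hui : u ≠ i := by
    rintro rfl
    exact huD hiD
  have hua : u ≠ a := by
    rintro rfl
    exact huD haD
  -- (B2)
  obtain ⟨n, hn1, hn2, hn3, hn4⟩ := hsw a haD
  obtain ⟨n', hn1', hn2'⟩ := hd.swap
  obtain ⟨lab, hlab, p, q, r, hfr, hoZ, hinj⟩ := hd.lab
  obtain ⟨lab2, hlab2⟩ := hd.lab'
  obtain ⟨n1, hm1, hm2, hm3⟩ := exists_gp hF hα mem_conj hLu huL haL (fun x h1 h2 => hE a haD x h1 h2)
    hαD hn3 hn4 hαu hαa hn1 hn2 hn1' hn2' hlab hfr hoZ hinj hd.gens
  set La : Subgroup G := cj n L with hLa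
  set β : G → Fi23 := fun x => n1 * α (n⁻¹ * x * n) * n1⁻¹ with hβdef
  have hβ : LIso La (gen .a) β := hα.conj hm1
  set Da : Set G := {x | n⁻¹ * x * n ∈ D0} with hDa
  have hmemDa : ∀ x, x ∈ Da ↔ n⁻¹ * x * n ∈ D0 := fun x => Iff.rfl
  have hLaa : ∀ x ∈ La, Commute x a := by
    intro x hx
    have h1 := comm_conj (hLu _ (mem_cj.1 hx)) hn1
    have h2 : n * (n⁻¹ * x * n) * n⁻¹ = x := by group
    rwa [h2] at h1
  have hβD : ∀ x ∈ La, (x ∈ Da ↔ β x ∈ D' ∧ β x ≠ gen .a) := by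
    intro x hx
    rw [hmemDa, hαD _ (mem_cj.1 hx)]
    constructor
    · rintro ⟨h1, h2⟩
      refine ⟨mem_conj n1 _ h1, ?_⟩
      intro h3
      apply h2
      have h4 : α (n⁻¹ * x * n) = n1⁻¹ * (n1 * α (n⁻¹ * x * n) * n1⁻¹) * n1 := by group
      have h5 : n1⁻¹ * gen .a * n1 = z0 := by rw [← hm1]; group
      rw [h4]
      change n1⁻¹ * β x * n1 = z0
      rw [h3, h5]
    · rintro ⟨h1, h2⟩
      refine ⟨?_, ?_⟩
      · have := mem_conj n1⁻¹ _ h1
        have h4 : n1⁻¹ * β x * n1⁻¹⁻¹ = α (n⁻¹ * x * n) := by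
          change n1⁻¹ * (n1 * α (n⁻¹ * x * n) * n1⁻¹) * n1⁻¹⁻¹ = _
          group
        rwa [h4] at this
      · intro h3
        apply h2
        change n1 * α (n⁻¹ * x * n) * n1⁻¹ = _
        rw [h3, hm1]
  have hn2i : n⁻¹ * a * n = u := by rw [← hn1]; group
  have hn1i : n⁻¹ * u * n = a := by
    have h1 : n⁻¹ * (n * a * n⁻¹) * n = a := by group
    rwa [hn2] at h1
  have haLa : a ∈ La := by
    rw [hLa, mem_cj, hn2i]
    exact huL
  have hEa : ∀ x ∈ L, Commute x a → x ∈ La := by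
    intro x hx hxa
    rw [hLa, mem_cj]
    exact hE a haD _ (comm_conj' hxa hn1) (comm_conj' (hLu x hx) hn2)
  have hEa' : ∀ x ∈ La, Commute x u → x ∈ L := fun x hx hxu => hE a haD x hxu (hLaa x hx)
  have hαβ : ∀ x ∈ L, Commute x a → β x = α x := by
    intro x hx hxa
    change n1 * α (n⁻¹ * x * n) * n1⁻¹ = α x
    rw [hm3 x hx hxa]
    group
  obtain ⟨k, hkL, hk⟩ := hDtrans a haD i hiD
  have hkcu : Commute k u := hLu k hkL
  have hki : k⁻¹ * i * k = a := by rw [← hk]; group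
  have hku : k⁻¹ * u * k = u := by rw [mul_assoc, ← hkcu.eq, inv_mul_cancel_left]
  have hco : ∀ x ∈ La, Commute x i → k⁻¹ * x * k ∈ La := by
    intro x hx hxi
    have h1 : k⁻¹ * a * k ∈ D0 := by
      have := hDconj k⁻¹ (inv_mem hkL) a haD
      rwa [inv_inv] at this
    have h2 : Commute (k⁻¹ * a * k) a := comm_conj' hia.symm hk
    have h3 : k⁻¹ * a * k ≠ a := by
      intro h
      apply hiane
      rw [← hk]
      calc k * a * k⁻¹ = k * (k⁻¹ * a * k) * k⁻¹ := by rw [h]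
        _ = a := by group
    have h4 : n⁻¹ * (k⁻¹ * a * k) * n ∈ D0 := hn4 _ h1 h2 h3
    rw [hLa, mem_cj]
    refine hE _ h4 _ (comm_conj' (comm_conj' hxi hk) hn1) ?_
    have h5 := (hLaa x hx).map (MulAut.conj (k * n)⁻¹)
    rw [MulAut.conj_apply, MulAut.conj_apply, inv_inv] at h5
    have h6 : ∀ y : G, (k * n)⁻¹ * y * (k * n) = n⁻¹ * (k⁻¹ * y * k) * n := fun y => by group
    rwa [h6, h6] at h5
  have hcoD : ∀ x ∈ Da, Commute x i → x ≠ i → k⁻¹ * x * k ∈ Da := by
    have hi1 : n⁻¹ * i * n ∈ D0 := hn4 i hiD hia hiane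
    obtain ⟨m, hmm1, hmm2, hmm3, hmm4⟩ := hsw _ hi1
    have hy : ∀ x ∈ Da, Commute x i → x ≠ i → m⁻¹ * (n⁻¹ * x * n) * m ∈ D0 := by
      intro x hx hxi hxne
      refine hmm4 _ hx ?_ ?_
      · have h5 := hxi.map (MulAut.conj n⁻¹)
        rwa [MulAut.conj_apply, MulAut.conj_apply, inv_inv] at h5
      · intro h
        apply hxne
        exact mul_left_cancel (mul_right_cancel h)
    set g := n⁻¹ * k⁻¹ * n * m with hg
    have hgu : Commute g u := by
      have h1 : g * u * g⁻¹ = u := by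
        calc g * u * g⁻¹ = n⁻¹ * (k⁻¹ * (n * (m * u * m⁻¹) * n⁻¹) * k) * n := by rw [hg]; group
          _ = n⁻¹ * (k⁻¹ * i * k) * n := by rw [hmm1]; group
          _ = u := by rw [hki, hn2i]
      exact (eq_mul_inv_iff_mul_eq.1 h1.symm).symm
    have hgx : ∀ x : G, g * (m⁻¹ * (n⁻¹ * x * n) * m) * g⁻¹ = n⁻¹ * (k⁻¹ * x * k) * n := by
      intro x
      rw [hg]
      group
    have huDa : u ∈ Da := by
      rw [hmemDa, hn1i]
      exact haD
    have hw := hy u huDa hiu.symm hui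
    have hgw : g * (m⁻¹ * (n⁻¹ * u * n) * m) * g⁻¹ ∈ D0 := by
      rw [hgx, hku, hn1i]
      exact haD
    intro x hx hxi hxne
    have h1 := hblock g hgu _ hw hgw _ (hy x hx hxi hxne)
    rw [hgx] at h1
    exact h1
  -- the generator `j`
  obtain ⟨j, hjLa, hβj⟩ := hβ.surj (gen .j) (Cfsg.Agent.Fischer.Fi23Class.gen_comm .j .a (by decide))
  obtain ⟨b, hbL, hαb⟩ := hα.surj (gen .b) (comm_z0 _ (Fischer.Fi23Class.gen_mem_K .b (by decide)))
  have hbi : Commute b i := by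
    rw [← hα.commute_iff b i hbL hiL, hαb, hαi]
    exact Cfsg.Agent.Fischer.Fi23Class.gen_comm .b .i (by decide)
  have hbj : Commute b j :=
    commute_of_commute hF hα hβ mem_conj hβD hLu hLaa huL haL hiL haLa hEa hEa' hαβ
      mem_conjugatesOf_self hαu hαa hia hαi hui hua hkL hk hco hcoD hlab2 (hgz .j) hjLa hβj
      (Cfsg.Agent.Fischer.Fi23Class.gen_comm .j .i (by decide)) hbL hbi
      (by rw [hαb]; exact Cfsg.Agent.Fischer.Fi23Class.gen_comm .b .j (by decide))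
  -- the relations
  set ψ : K →* G := L.subtype.comp e.symm.toMonoidHom with hψ
  have hψL : ∀ y : K, ψ y ∈ L := fun y => (e.symm y).2
  have hψα : ∀ y : K, α (ψ y) = y := by
    intro y
    change α (e.symm y : G) = y
    rw [hαe', MulEquiv.apply_symm_apply]
  have hψe : ∀ x : L, ψ (e x) = x := by
    intro x
    change ((e.symm (e x) : L) : G) = x
    rw [MulEquiv.symm_apply_apply]
  have hs : ZRels (fun x => ψ (t x)) (ψ ⟨z0, Cfsg.Agent.R01.AlphaFi23.z0_mem⟩) := by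
    have h := zrels
    refine ⟨fun x y => ?_, ?_, ?_, ?_⟩
    · have := congrArg ψ (h.cox x y)
      rwa [map_pow, map_mul, map_one] at this
    · have := congrArg ψ h.spider
      simpa only [map_pow, map_mul, map_one] using this
    · have := congrArg ψ h.e7a
      simpa only [map_pow, map_mul, map_one] using this
    · have := congrArg ψ h.e7b
      simpa only [map_pow, map_mul, map_one] using this
  have hjj : j * j = 1 := by
    refine hβ.inj _ (mul_mem hjLa hjLa) _ (one_mem _) ?_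
    rw [hβ.mul _ hjLa _ hjLa, hβj, hβ.one]
    exact Cfsg.Agent.Fischer.Fi23Final.gen_sq .j
  have hsb : ψ (t .b) = b := by
    refine hα.inj _ (hψL _) _ hbL ?_
    rw [hψα, hαb]
    rfl
  have hjr : ∀ x : Fi22.Gen, (ψ (t x) * j) ^ coxLabel Fi23.edges (emb x) .j = 1 := by
    intro x
    by_cases hx : x = .b
    · subst hx
      have h1 : coxLabel Fi23.edges (emb .b) Fi23.Gen.j = 2 := by decide
      have h2 : b * b = 1 := by
        refine hα.inj _ (mul_mem hbL hbL) _ (one_mem _) ?_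
        rw [hα.mul _ hbL _ hbL, hαb, hα.one]
        exact Cfsg.Agent.Fischer.Fi23Final.gen_sq .b
      rw [hsb, h1, pow_two]
      calc b * j * (b * j) = b * (j * b) * j := by group
        _ = b * (b * j) * j := by rw [hbj.eq]
        _ = (b * b) * (j * j) := by group
        _ = 1 := by rw [h2, hjj, mul_one]
    · have h1 : Commute (gen (emb x) : Fi23) (gen .a) := by
        cases x
        case b => exact absurd rfl hx
        case a => exact Commute.refl _
        all_goals exact Cfsg.Agent.Fischer.Fi23Class.gen_comm _ _ (by decide)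
      have h2 : Commute (ψ (t x)) a := by
        rw [← hα.commute_iff _ _ (hψL _) haL, hψα, hαa]
        exact h1
      have h3 : ψ (t x) ∈ La := hEa _ (hψL _) h2
      have h4 : β (ψ (t x)) = gen (emb x) := by
        rw [hαβ _ (hψL _) h2, hψα]
        rfl
      refine hβ.inj _ (pow_mem (mul_mem h3 hjLa) _) _ (one_mem _) ?_
      rw [hβ.pow _ (mul_mem h3 hjLa), hβ.mul _ h3 _ hjLa, h4, hβj, hβ.one]
      exact Cfsg.Agent.Fischer.Fi23Final.gen_rel _ _
  obtain ⟨θ, hθ, hθj⟩ := exists_hom hs hjj hjr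
  have hθψ : θ.comp (K : Subgroup Fi23).subtype = ψ := by
    refine MonoidHom.eq_of_eqOn_dense closure_t ?_
    rintro _ ⟨x, rfl⟩
    exact hθ x
  have hθe : ∀ x : L, θ (e x : Fi23) = x := by
    intro x
    have h1 := DFunLike.congr_fun hθψ (e x)
    rw [hψe] at h1
    exact h1
  have hθz : θ z0 = u := by
    have h1 := hθe ⟨u, huL⟩
    rwa [heu] at h1
  refine ⟨θ, injective_of_ne θ ?_, hθz, hθe⟩
  rw [hθz]
  rintro rfl
  apply z0_ne_one
  rw [← hαu, hα.one]

end Main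

end Cfsg.Agent.R08.FlagMain
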