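import Cfsg.Agent.R08.FlagMain

/-!
Flagged gluing in the form used by Theorem X: from the double cover `φ : L →* Fi22`, the class `D0` of lifts and a
coherent interchange of `u` and one member of `D0` to the embedding of `Fi23`.
-/

set_option autoImplicit false

namespace Cfsg.Agent.R08.FlagTheta

open Cfsg Cfsg.Spor Cfsg.Agent.Fischer Cfsg.Agent.R01.Lifts Cfsg.Agent.R08.FlagMain
open Cfsg.Agent.R01.AlphaFi23 (emb t zrels t_coe closure_t exists_alpha_class)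
open Cfsg.Agent.R01.AlphaGeneric (ZRels)
open Cfsg.Agent.Fischer.Fi23Hom (gen)
open Cfsg.Agent.Fischer.Fi23Class (K)
open Cfsg.Agent.Fischer.Fi23Z (z0)

variable {G : Type*} [Group G]

/-- Every isomorphism of `L` with `K` respecting the central involution and the class of lifts extends. -/
theorem extend {F : Type*} [Field F] [Fintype F] (hF : Fintype.card F = 2 ^ 2) (hd : HData F)
    {L : Subgroup G} {u : L} (hLu : ∀ x : L, x * u = u * x)
    (hnorm : ∀ g : G, g * u = u * g → ∀ x ∈ L, g * x * g⁻¹ ∈ L)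
    (e : L ≃* K) (heu : (e u : Fi23) = z0)
    {D0 : Set L} (heD : ∀ x : L, x ∈ D0 ↔ IsConj (t .a) (e x))
    (hcent : ∀ g : G, g * u = u * g → ∀ d ∈ D0, g * d = d * g → g ∈ L)
    {r : L} (hr : r ∈ D0) {n : G} (hn1 : n * u * n⁻¹ = r) (hn2 : n * r * n⁻¹ = u)
    (hcoh : ∀ x ∈ D0, x ≠ r → x * r = r * x → ∃ y ∈ D0, (y : G) = n * x * n⁻¹) :
    ∃ θ : Fi23 →* G, Function.Injective θ ∧ θ z0 = u ∧ ∀ x : L, θ (e x : Fi23) = x := by
  have hcoe : ∀ x : L, ((x : G) ∈ ((fun y : L => (y : G)) '' D0 : Set G)) ↔ x ∈ D0 := by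
    intro x
    constructor
    · rintro ⟨y, hy, hyx⟩
      rwa [← Subtype.ext hyx]
    · intro hx
      exact ⟨x, hx, rfl⟩
  refine FlagMain.main hF hd (u := (u : G)) (L := L) (D0 := (fun y : L => (y : G)) '' D0)
    (d := (r : G)) (n0 := n) ?_ u.2 hnorm e heu ?_ ?_ ?_ ⟨r, hr, rfl⟩ hn1 hn2 ?_
  · intro x hx
    exact congrArg (fun y : L => (y : G)) (hLu ⟨x, hx⟩)
  · rintro _ ⟨y, _, rfl⟩
    exact y.2
  · intro x
    rw [hcoe]
    exact heD x
  · rintro _ ⟨y, hy, rfl⟩ x hxu hxd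
    exact hcent x hxu y hy hxd
  · rintro _ ⟨y, hy, rfl⟩ hyc hyne
    obtain ⟨w, hw, hwy⟩ := hcoh y hy (fun h => hyne (by rw [h])) (Subtype.ext hyc)
    exact ⟨w, hw, hwy⟩

/-- **X3**: the embedding of `Fi23`. -/
theorem exists_theta {F : Type*} [Field F] [Fintype F] (hF : Fintype.card F = 2 ^ 2) (hd : HData F)
    {L : Subgroup G} {u : L} {φ : L →* Spor.Fi22} (hE : Ext φ u) (hperf : commutator L = ⊤)
    (hnorm : ∀ g : G, g * u = u * g → ∀ x ∈ L, g * x * g⁻¹ ∈ L)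
    {D0 : Set L} (hD : IsThreeTranspositionClass D0)
    (hb : Set.BijOn φ D0 (conjugatesOf (Fi22PtsRep.gen .a))) (hkey : ∀ c : L, c * c ≠ u)
    (hcent : ∀ g : G, g * u = u * g → ∀ d ∈ D0, g * d = d * g → g ∈ L)
    {r : L} (hr : r ∈ D0) {n : G} (hn1 : n * u * n⁻¹ = r) (hn2 : n * r * n⁻¹ = u)
    (hcoh : ∀ x ∈ D0, x ≠ r → x * r = r * x → ∃ y ∈ D0, (y : G) = n * x * n⁻¹) :
    ∃ (e : L ≃* K) (θ : Fi23 →* G), (e u : Fi23) = z0 ∧ (∀ x : L, x ∈ D0 ↔ IsConj (t .a) (e x)) ∧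
      Function.Injective θ ∧ θ z0 = u ∧ ∀ x : L, θ (e x : Fi23) = x := by
  obtain ⟨e, s, -, -, -, -, heu, heD⟩ := exists_alpha_class hE hperf hD hb hkey
  obtain ⟨θ, h1, h2, h3⟩ := extend hF hd (fun x => hE.comm x) hnorm e heu heD hcent hr hn1 hn2 hcoh
  exact ⟨e, θ, heu, heD, h1, h2, h3⟩

/-- The image of `K` is `L`, and the centraliser of `u` in the image of `Fi23` is `L`. -/
theorem image_K {L : Subgroup G} (e : L ≃* K) {θ : Fi23 →* G} (hθ : ∀ x : L, θ (e x : Fi23) = x) :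
    Subgroup.map θ K = L := by
  ext g
  constructor
  · rintro ⟨k, hk, rfl⟩
    have h1 := hθ (e.symm ⟨k, hk⟩)
    rw [MulEquiv.apply_symm_apply] at h1
    rw [h1]
    exact (e.symm ⟨k, hk⟩).2
  · intro hg
    exact ⟨e ⟨g, hg⟩, (e ⟨g, hg⟩).2, hθ ⟨g, hg⟩⟩

theorem range_inf {F : Type*} [Field F] [Fintype F] (hd : HData F)
    {L : Subgroup G} {u : L} (e : L ≃* K) {θ : Fi23 →* G} (hinj : Function.Injective θ)
    (hz : θ z0 = u) (hθ : ∀ x : L, θ (e x : Fi23) = x) (g : G) :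
    (∃ y, θ y = g) ∧ g * u = u * g ↔ g ∈ L := by
  constructor
  · rintro ⟨⟨y, rfl⟩, h⟩
    rw [← hz, ← map_mul, ← map_mul] at h
    have h1 : y ∈ K := hd.cen y (hinj h)
    rw [← image_K e hθ]
    exact ⟨y, h1, rfl⟩
  · intro hg
    have h1 := hθ ⟨g, hg⟩
    refine ⟨⟨_, h1⟩, ?_⟩
    have h2 := comm_z0 _ (e ⟨g, hg⟩).2
    have h3 := congrArg θ h2
    rw [map_mul, map_mul, h1, hz] at h3
    exact h3

end Cfsg.Agent.R08.FlagTheta
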