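import Mathlib
import Cfsg.Prelude.Def_Classical
import Cfsg.Agent.Co2Type.Quad

/-!
# R08 (S1715), piece (0): the interface between Part A and Part B (helper256 / helper877)

Part A (helper877): from the hypotheses of S1715 to `Nonempty (FrameData h N M F)`.
Part B (helper256): from `FrameData h N M F` to the labelling of helper778 (orbits, `R`, `S`, ...).
-/

set_option autoImplicit false

namespace Cfsg.Agent.R08.Frame

open Cfsg.Agent.Co2Type.Quad

/-- A group of matrices which consists of isometries of determinant one of the standard hermitian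
form, has the order of `3.U4(3)`, and contains all even monomial isometries of determinant one. -/
structure LinFrame (F : Type*) [Field F] (H : Subgroup (Matrix.SpecialLinearGroup (Fin 6) F)) :
    Prop where
  le : H ≤ Cfsg.SU 6 F 2
  mono : ∀ (s : Equiv.Perm (Fin 6)) (d : Fin 6 → Fˣ), Equiv.Perm.sign s = 1 → ∏ i, d i = 1 →
    ∃ A ∈ H, ∀ (v : Fin 6 → F) (i : Fin 6),
      (A : Matrix (Fin 6) (Fin 6) F).mulVec v i = (d i : F) * v (s⁻¹ i)
  card : Nat.card H = 9797760

/-- Coordinates on `V = Q / ⟨z⟩` in which `M` acts as a group of isometries of determinant one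
of the standard hermitian form on `F ^ 6` (`F` is a field with four elements), containing all even
monomial ones, and `N` acts as the group of scalars. -/
structure FrameData {G : Type*} [Group G] {Q : Subgroup G} {z : G} (h : Large Q z)
    (N M : Subgroup (Subgroup.centralizer ({z} : Set G))) (F : Type*) [Field F] where
  lab : h.V ≃+ (Fin 6 → F)
  q_lab : ∀ v, h.q v = 0 ↔ Cfsg.hermForm 6 F 2 (lab v) (lab v) = 0
  b_lab : ∀ v w, h.b v w = 0 ↔
    Cfsg.hermForm 6 F 2 (lab v) (lab w) = 0 ∨ Cfsg.hermForm 6 F 2 (lab v) (lab w) = 1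
  scal : ∀ n ∈ N, ∃ c : Fˣ, ∀ v, lab (h.act n v) = (c : F) • lab v
  scal' : ∀ c : Fˣ, ∃ n ∈ N, ∀ v, lab (h.act n v) = (c : F) • lab v
  lin : ∀ m ∈ M, ∃ A : Matrix.SpecialLinearGroup (Fin 6) F, A ∈ Cfsg.SU 6 F 2 ∧
    ∀ v, lab (h.act m v) = (A : Matrix (Fin 6) (Fin 6) F).mulVec (lab v)
  mono : ∀ (s : Equiv.Perm (Fin 6)) (d : Fin 6 → Fˣ), Equiv.Perm.sign s = 1 → ∏ i, d i = 1 →
    ∃ m ∈ M, ∀ (v : h.V) (i : Fin 6), lab (h.act m v) i = (d i : F) * lab v (s⁻¹ i)
  card_M : Nat.card M = 9797760 * Nat.card Q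

end Cfsg.Agent.R08.Frame
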