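import Cfsg.Agent.SporadicStructure.U43Herm
import Cfsg.Agent.SporadicStructure.PsuMatch

/-!
# R08, piece (0), Part A: an elementary abelian `3^4` in PSU(4, 3) with elements of its normaliser

`UData S`: a homomorphism `t : 3^4 → S`, injective, and elements `h, d, w, s₁, s₂` of `S` normalising the image, with
their explicit actions on `3^4`, and a few relations.  `uData : UData (PSU 4 K9 3)`.
-/

set_option autoImplicit false

namespace Cfsg.Agent.R08.FrameAData

/-- action of the element of order 5 -/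
def gh (a : Fin 4 → ZMod 3) : Fin 4 → ZMod 3 :=
  ![a 2, 2 * a 1 + 2 * a 2, a 0 + 2 * a 1 + 2 * a 2 + 2 * a 3, a 2 + a 3]
/-- action of the diagonal element (order 4) -/
def gd (a : Fin 4 → ZMod 3) : Fin 4 → ZMod 3 := ![2 * a 0, 2 * a 3, 2 * a 2, a 1]
/-- action of the Weyl element (order 2) -/
def gw (a : Fin 4 → ZMod 3) : Fin 4 → ZMod 3 := ![a 2, a 1, a 0, 2 * a 3]
/-- action of the first root element -/
def g1 (a : Fin 4 → ZMod 3) : Fin 4 → ZMod 3 := ![a 0 + a 2 + 2 * a 3, a 1, a 2, a 2 + a 3]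
/-- action of the second root element -/
def g2 (a : Fin 4 → ZMod 3) : Fin 4 → ZMod 3 := ![a 0 + a 1 + a 2, a 1 + 2 * a 2, a 2, a 3]

/-- An elementary abelian `3^4` with five elements normalising it. -/
structure UData (S : Type*) [Group S] where
  t : (Fin 4 → ZMod 3) → S
  t_add : ∀ a b, t (a + b) = t a * t b
  inj : ∀ a, t a = 1 → a = 0
  h : S
  d : S
  w : S
  s1 : S
  s2 : S
  ch : ∀ a, h * t a * h⁻¹ = t (gh a)
  cd : ∀ a, d * t a * d⁻¹ = t (gd a)
  cw : ∀ a, w * t a * w⁻¹ = t (gw a)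
  c1 : ∀ a, s1 * t a * s1⁻¹ = t (g1 a)
  c2 : ∀ a, s2 * t a * s2⁻¹ = t (g2 a)
  h5 : h ^ 5 = 1
  d4 : d ^ 4 = 1
  w2 : w ^ 2 = 1
  wd : w * d * w⁻¹ = d⁻¹
  s13 : s1 ^ 3 = 1
  s23 : s2 ^ 3 = 1
  s12 : s1 * s2 = s2 * s1

section build

variable {S : Type*} [Group S]

/-- `t ^ x` for `x : ZMod 3` and `t ^ 3 = 1` -/
def zp (t : S) (x : ZMod 3) : S := t ^ x.val

theorem zp_add {t : S} (ht : t ^ 3 = 1) (x y : ZMod 3) : zp t (x + y) = zp t x * zp t y := by
  unfold zp
  rw [← pow_add, ZMod.val_add]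
  conv_rhs => rw [← Nat.div_add_mod (x.val + y.val) 3, pow_add, pow_mul, ht, one_pow, one_mul]

theorem zp_zero (t : S) : zp t 0 = 1 := by simp [zp]

theorem zp_one (t : S) : zp t 1 = t := by simp [zp, ZMod.val_one]

theorem commute_zp {t u : S} (h : Commute t u) (x y : ZMod 3) : Commute (zp t x) (zp u y) :=
  h.pow_pow _ _

/-- the product of the four powers -/
def tt (T : Fin 4 → S) (a : Fin 4 → ZMod 3) : S :=
  zp (T 0) (a 0) * zp (T 1) (a 1) * zp (T 2) (a 2) * zp (T 3) (a 3)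

theorem tt_add {T : Fin 4 → S} (h3 : ∀ i, T i ^ 3 = 1) (hc : ∀ i j, T i * T j = T j * T i)
    (a b : Fin 4 → ZMod 3) : tt T (a + b) = tt T a * tt T b := by
  have e : ∀ i j x y, zp (T i) x * zp (T j) y = zp (T j) y * zp (T i) x := fun i j x y =>
    (commute_zp (hc i j) x y).eq
  unfold tt
  simp only [Pi.add_apply, zp_add (h3 _)]
  have e1 : Commute (zp (T 0) (a 0) * zp (T 1) (a 1) * zp (T 2) (a 2)) (zp (T 3) (b 3)) := by
    refine Commute.mul_left (Commute.mul_left ?_ ?_) ?_ <;> exact e _ _ _ _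
  calc zp (T 0) (a 0) * zp (T 0) (b 0) * (zp (T 1) (a 1) * zp (T 1) (b 1)) *
        (zp (T 2) (a 2) * zp (T 2) (b 2)) * (zp (T 3) (a 3) * zp (T 3) (b 3))
      = zp (T 0) (a 0) * (zp (T 0) (b 0) * zp (T 1) (a 1)) * (zp (T 1) (b 1) *
        zp (T 2) (a 2)) * (zp (T 2) (b 2) * zp (T 3) (a 3)) * zp (T 3) (b 3) := by
          simp only [mul_assoc]
    _ = zp (T 0) (a 0) * (zp (T 1) (a 1) * zp (T 0) (b 0)) * (zp (T 2) (a 2) *
        zp (T 1) (b 1)) * (zp (T 3) (a 3) * zp (T 2) (b 2)) * zp (T 3) (b 3) := by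
          rw [e 0 1, e 1 2, e 2 3]
    _ = zp (T 0) (a 0) * zp (T 1) (a 1) * (zp (T 0) (b 0) * zp (T 2) (a 2)) *
        (zp (T 1) (b 1) * zp (T 3) (a 3)) * zp (T 2) (b 2) * zp (T 3) (b 3) := by
          simp only [mul_assoc]
    _ = zp (T 0) (a 0) * zp (T 1) (a 1) * (zp (T 2) (a 2) * zp (T 0) (b 0)) *
        (zp (T 3) (a 3) * zp (T 1) (b 1)) * zp (T 2) (b 2) * zp (T 3) (b 3) := by
          rw [e 0 2, e 1 3]
    _ = zp (T 0) (a 0) * zp (T 1) (a 1) * zp (T 2) (a 2) * (zp (T 0) (b 0) *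
        zp (T 3) (a 3)) * zp (T 1) (b 1) * zp (T 2) (b 2) * zp (T 3) (b 3) := by
          simp only [mul_assoc]
    _ = zp (T 0) (a 0) * zp (T 1) (a 1) * zp (T 2) (a 2) * zp (T 3) (a 3) *
        (zp (T 0) (b 0) * zp (T 1) (b 1) * zp (T 2) (b 2) * zp (T 3) (b 3)) := by
          rw [e 0 3]; simp only [mul_assoc]

/-- conjugation of the product, from conjugation of the generators -/
theorem tt_conj {T : Fin 4 → S} (h3 : ∀ i, T i ^ 3 = 1) (hc : ∀ i j, T i * T j = T j * T i)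
    (x : S) (g : (Fin 4 → ZMod 3) → (Fin 4 → ZMod 3)) (hg : ∀ a b, g (a + b) = g a + g b)
    (hx : ∀ i, x * T i = tt T (g (Pi.single i 1)) * x) (a : Fin 4 → ZMod 3) :
    x * tt T a * x⁻¹ = tt T (g a) := by
  have g0 : g 0 = 0 := by
    have := hg 0 0
    rw [add_zero] at this
    exact left_eq_add.1 this
  have t0 : tt T 0 = 1 := by simp [tt, zp_zero]
  have hsub : ∀ a b : Fin 4 → ZMod 3, tt T (a + b) = tt T a * tt T b := tt_add h3 hc
  have key : ∀ i (n : ℕ), x * (T i) ^ n * x⁻¹ = tt T (g (n • Pi.single i 1)) := by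
    intro i n
    induction n with
    | zero => rw [pow_zero, zero_smul, g0, t0]; group
    | succ n ih =>
      have h1 : x * T i * x⁻¹ = tt T (g (Pi.single i 1)) := by rw [hx i]; group
      rw [succ_nsmul, hg, hsub, ← ih, ← h1, pow_succ]
      group
  have hz : ∀ i (y : ZMod 3), x * zp (T i) y * x⁻¹ = tt T (g (Pi.single i y)) := by
    intro i y
    unfold zp
    rw [key]
    congr 2
    ext j
    by_cases hj : j = i
    · subst hj
      simp
    · simp [Pi.single_eq_of_ne hj]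
  have ha : a = (Pi.single (M := fun _ : Fin 4 => ZMod 3) 0 (a 0) +
      Pi.single (M := fun _ : Fin 4 => ZMod 3) 1 (a 1) +
      Pi.single (M := fun _ : Fin 4 => ZMod 3) 2 (a 2) +
      Pi.single (M := fun _ : Fin 4 => ZMod 3) 3 (a 3)) := by
    ext j
    fin_cases j <;> simp [Pi.single_apply]
  calc x * tt T a * x⁻¹ = (x * zp (T 0) (a 0) * x⁻¹) * (x * zp (T 1) (a 1) * x⁻¹) *
        (x * zp (T 2) (a 2) * x⁻¹) * (x * zp (T 3) (a 3) * x⁻¹) := by unfold tt; group
    _ = tt T (g a) := by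
        rw [hz, hz, hz, hz, ← hsub, ← hsub, ← hsub, ← hg, ← hg, ← hg, ← ha]

end build

/-! ### the matrices -/

open Cfsg Matrix Cfsg.Agent.SporadicStructure.FieldNine Cfsg.Agent.SporadicStructure.U43Herm

def tabT : Fin 4 → ℕ := ![1152922604126142532, 1159678356351906049, 8430813269229305857, 1181351866224624385]
def tabH : ℕ := 9453099612011365221
def tabD : ℕ := 72110370596454416
def tabW : ℕ := 9007208113111296
def tab1 : ℕ := 1159678489563001345
def tab2 : ℕ := 1181352154020988417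

theorem detT : ∀ i, (matOf (tabT i)).det = 1 := by decide +kernel
theorem detH : (matOf tabH).det = 1 := by decide +kernel
theorem detD : (matOf tabD).det = 1 := by decide +kernel
theorem detW : (matOf tabW).det = 1 := by decide +kernel
theorem det1 : (matOf tab1).det = 1 := by decide +kernel
theorem det2 : (matOf tab2).det = 1 := by decide +kernel

theorem colsT : ∀ i, ∀ j k : Fin 4, ∑ l, matOf (tabT i) l j * (matOf (tabT i) l k) ^ 3
    = if j = k then 1 else 0 := by decide +kernel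
theorem colsH : ∀ j k : Fin 4, ∑ l, matOf tabH l j * (matOf tabH l k) ^ 3
    = if j = k then 1 else 0 := by decide +kernel
theorem colsD : ∀ j k : Fin 4, ∑ l, matOf tabD l j * (matOf tabD l k) ^ 3
    = if j = k then 1 else 0 := by decide +kernel
theorem colsW : ∀ j k : Fin 4, ∑ l, matOf tabW l j * (matOf tabW l k) ^ 3
    = if j = k then 1 else 0 := by decide +kernel
theorem cols1 : ∀ j k : Fin 4, ∑ l, matOf tab1 l j * (matOf tab1 l k) ^ 3
    = if j = k then 1 else 0 := by decide +kernel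
theorem cols2 : ∀ j k : Fin 4, ∑ l, matOf tab2 l j * (matOf tab2 l k) ^ 3
    = if j = k then 1 else 0 := by decide +kernel

def T (i : Fin 4) : Cfsg.SU 4 K9 3 := ⟨⟨matOf (tabT i), detT i⟩, mem_SU_of_cols K9.card_K9' _ (colsT i)⟩
def H : Cfsg.SU 4 K9 3 := ⟨⟨matOf tabH, detH⟩, mem_SU_of_cols K9.card_K9' _ colsH⟩
def D : Cfsg.SU 4 K9 3 := ⟨⟨matOf tabD, detD⟩, mem_SU_of_cols K9.card_K9' _ colsD⟩
def W : Cfsg.SU 4 K9 3 := ⟨⟨matOf tabW, detW⟩, mem_SU_of_cols K9.card_K9' _ colsW⟩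
def S1 : Cfsg.SU 4 K9 3 := ⟨⟨matOf tab1, det1⟩, mem_SU_of_cols K9.card_K9' _ cols1⟩
def S2 : Cfsg.SU 4 K9 3 := ⟨⟨matOf tab2, det2⟩, mem_SU_of_cols K9.card_K9' _ cols2⟩

/-- the underlying matrix -/
def mat (x : Cfsg.SU 4 K9 3) : Matrix (Fin 4) (Fin 4) K9 :=
  ((x : Matrix.SpecialLinearGroup (Fin 4) K9) : Matrix (Fin 4) (Fin 4) K9)

theorem ext_mat {x y : Cfsg.SU 4 K9 3} (h : mat x = mat y) : x = y :=
  Subtype.ext (Subtype.ext h)

theorem mat_mul (x y : Cfsg.SU 4 K9 3) : mat (x * y) = mat x * mat y := rfl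

theorem mat_one : mat 1 = 1 := rfl

theorem mat_pow (x : Cfsg.SU 4 K9 3) (n : ℕ) : mat (x ^ n) = mat x ^ n := by
  induction n with
  | zero => rfl
  | succ n ih => rw [pow_succ, pow_succ, mat_mul, ih]

theorem T3 (i : Fin 4) : T i ^ 3 = 1 := by
  apply ext_mat
  rw [mat_pow, mat_one]
  revert i
  have : ∀ i : Fin 4, matOf (tabT i) * matOf (tabT i) * matOf (tabT i) = 1 := by decide +kernel
  intro i
  rw [pow_succ, pow_two]
  exact this i

theorem Tc (i j : Fin 4) : T i * T j = T j * T i := by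
  apply ext_mat
  rw [mat_mul, mat_mul]
  have : ∀ i j : Fin 4, matOf (tabT i) * matOf (tabT j) = matOf (tabT j) * matOf (tabT i) := by
    decide +kernel
  exact this i j

/-- the product of the powers, as a matrix -/
def mt (a : Fin 4 → ZMod 3) : Matrix (Fin 4) (Fin 4) K9 :=
  matOf (tabT 0) ^ (a 0).val * matOf (tabT 1) ^ (a 1).val * matOf (tabT 2) ^ (a 2).val *
    matOf (tabT 3) ^ (a 3).val

theorem mat_tt (a : Fin 4 → ZMod 3) : mat (tt T a) = mt a := by
  unfold tt zp mt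
  rw [mat_mul, mat_mul, mat_mul, mat_pow, mat_pow, mat_pow, mat_pow]
  rfl

theorem relH : ∀ i : Fin 4, matOf tabH * matOf (tabT i) = mt (gh (Pi.single i 1)) * matOf tabH := by
  decide +kernel
theorem relD : ∀ i : Fin 4, matOf tabD * matOf (tabT i) = mt (gd (Pi.single i 1)) * matOf tabD := by
  decide +kernel
theorem relW : ∀ i : Fin 4, matOf tabW * matOf (tabT i) = mt (gw (Pi.single i 1)) * matOf tabW := by
  decide +kernel
theorem rel1 : ∀ i : Fin 4, matOf tab1 * matOf (tabT i) = mt (g1 (Pi.single i 1)) * matOf tab1 := by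
  decide +kernel
theorem rel2 : ∀ i : Fin 4, matOf tab2 * matOf (tabT i) = mt (g2 (Pi.single i 1)) * matOf tab2 := by
  decide +kernel

theorem cH (i : Fin 4) : H * T i = tt T (gh (Pi.single i 1)) * H := by
  apply ext_mat; rw [mat_mul, mat_mul, mat_tt]; exact relH i
theorem cD (i : Fin 4) : D * T i = tt T (gd (Pi.single i 1)) * D := by
  apply ext_mat; rw [mat_mul, mat_mul, mat_tt]; exact relD i
theorem cW (i : Fin 4) : W * T i = tt T (gw (Pi.single i 1)) * W := by
  apply ext_mat; rw [mat_mul, mat_mul, mat_tt]; exact relW i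
theorem c1 (i : Fin 4) : S1 * T i = tt T (g1 (Pi.single i 1)) * S1 := by
  apply ext_mat; rw [mat_mul, mat_mul, mat_tt]; exact rel1 i
theorem c2 (i : Fin 4) : S2 * T i = tt T (g2 (Pi.single i 1)) * S2 := by
  apply ext_mat; rw [mat_mul, mat_mul, mat_tt]; exact rel2 i

theorem gh_add (a b : Fin 4 → ZMod 3) : gh (a + b) = gh a + gh b := by
  ext i; fin_cases i <;> simp [gh] <;> ring
theorem gd_add (a b : Fin 4 → ZMod 3) : gd (a + b) = gd a + gd b := by
  ext i; fin_cases i <;> simp [gd] <;> ring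
theorem gw_add (a b : Fin 4 → ZMod 3) : gw (a + b) = gw a + gw b := by
  ext i; fin_cases i <;> simp [gw] <;> ring
theorem g1_add (a b : Fin 4 → ZMod 3) : g1 (a + b) = g1 a + g1 b := by
  ext i; fin_cases i <;> simp [g1] <;> ring
theorem g2_add (a b : Fin 4 → ZMod 3) : g2 (a + b) = g2 a + g2 b := by
  ext i; fin_cases i <;> simp [g2] <;> ring

theorem powH : matOf tabH * (matOf tabH * (matOf tabH * (matOf tabH * matOf tabH))) = 1 := by
  decide +kernel
theorem powD : matOf tabD * (matOf tabD * (matOf tabD * matOf tabD)) = -1 := by decide +kernel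
theorem powW : matOf tabW * matOf tabW = -1 := by decide +kernel
theorem relWD : matOf tabD * (matOf tabW * matOf tabD) = matOf tabW := by decide +kernel
theorem pow1 : matOf tab1 * (matOf tab1 * matOf tab1) = 1 := by decide +kernel
theorem pow2 : matOf tab2 * (matOf tab2 * matOf tab2) = 1 := by decide +kernel
theorem rel12 : matOf tab1 * matOf tab2 = matOf tab2 * matOf tab1 := by decide +kernel

theorem inj' : ∀ a : Fin 4 → ZMod 3, gh a = a → a = 0 := by decide +kernel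

theorem mt_inj : ∀ a : Fin 4 → ZMod 3, mt a = 1 → a = 0 := by decide +kernel

theorem tt_inj {a b : Fin 4 → ZMod 3} (h : tt T a = tt T b) : a = b := by
  have h0 : tt T 0 = 1 := by simp [tt, zp_zero]
  have h1 : tt T (a - b) = 1 := by
    have h2 : tt T (a - b) * tt T b = tt T b := by
      rw [← tt_add T3 Tc, sub_add_cancel, h]
    exact mul_eq_right.1 h2
  have h3 : mt (a - b) = 1 := by rw [← mat_tt, h1, mat_one]
  exact sub_eq_zero.1 (mt_inj _ h3)

theorem central_of_neg_one {x : Cfsg.SU 4 K9 3} (hx : mat x = -1) :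
    x ∈ Subgroup.center (Cfsg.SU 4 K9 3) := by
  rw [Subgroup.mem_center_iff]
  intro y
  apply ext_mat
  rw [mat_mul, mat_mul, hx]
  simp

/-- projection to `PSU` -/
def pj (x : Cfsg.SU 4 K9 3) : Cfsg.PSU 4 K9 3 := QuotientGroup.mk x

theorem pj_mul (x y : Cfsg.SU 4 K9 3) : pj (x * y) = pj x * pj y := rfl
theorem pj_inv (x : Cfsg.SU 4 K9 3) : pj x⁻¹ = (pj x)⁻¹ := rfl
theorem pj_pow (x : Cfsg.SU 4 K9 3) (n : ℕ) : pj (x ^ n) = pj x ^ n := rfl
theorem pj_one : pj 1 = 1 := rfl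
theorem pj_eq_one {x : Cfsg.SU 4 K9 3} : pj x = 1 ↔ x ∈ Subgroup.center (Cfsg.SU 4 K9 3) :=
  QuotientGroup.eq_one_iff x

theorem pj_conj {x : Cfsg.SU 4 K9 3} {g : (Fin 4 → ZMod 3) → (Fin 4 → ZMod 3)}
    (hg : ∀ a b, g (a + b) = g a + g b)
    (hx : ∀ i, x * T i = tt T (g (Pi.single i 1)) * x) (a : Fin 4 → ZMod 3) :
    pj x * pj (tt T a) * (pj x)⁻¹ = pj (tt T (g a)) := by
  rw [← tt_conj T3 Tc x g hg hx a]
  rfl

theorem H5 : H ^ 5 = 1 := by
  apply ext_mat
  rw [mat_pow, mat_one]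
  simp only [pow_succ', pow_zero, mul_one]
  exact powH

theorem S13 : S1 ^ 3 = 1 := by
  apply ext_mat
  rw [mat_pow, mat_one]
  simp only [pow_succ', pow_zero, mul_one]
  exact pow1

theorem S23 : S2 ^ 3 = 1 := by
  apply ext_mat
  rw [mat_pow, mat_one]
  simp only [pow_succ', pow_zero, mul_one]
  exact pow2

theorem D4 : mat (D ^ 4) = -1 := by
  rw [mat_pow]
  simp only [pow_succ', pow_zero, mul_one]
  exact powD

theorem W2 : mat (W ^ 2) = -1 := by
  rw [mat_pow]
  simp only [pow_succ', pow_zero, mul_one]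
  exact powW

theorem WD : W * D * W⁻¹ = D⁻¹ := by
  have h : D * (W * D) = W := by
    apply ext_mat
    rw [mat_mul, mat_mul]
    exact relWD
  calc W * D * W⁻¹ = D⁻¹ * (D * (W * D)) * W⁻¹ := by group
    _ = D⁻¹ := by rw [h]; group

/-- The data in `PSU(4, 3)`. -/
def uData : UData (Cfsg.PSU 4 K9 3) where
  t a := pj (tt T a)
  t_add a b := by rw [tt_add T3 Tc, pj_mul]
  inj a ha := by
    have h1 := pj_eq_one.1 ha
    have h2 : H * tt T a * H⁻¹ = tt T a := by
      rw [Subgroup.mem_center_iff] at h1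
      rw [h1 H]; group
    rw [tt_conj T3 Tc H gh gh_add cH] at h2
    exact inj' a (tt_inj h2)
  h := pj H
  d := pj D
  w := pj W
  s1 := pj S1
  s2 := pj S2
  ch := pj_conj gh_add cH
  cd := pj_conj gd_add cD
  cw := pj_conj gw_add cW
  c1 := pj_conj g1_add c1
  c2 := pj_conj g2_add c2
  h5 := by rw [← pj_pow, H5, pj_one]
  d4 := by rw [← pj_pow, pj_eq_one]; exact central_of_neg_one D4
  w2 := by rw [← pj_pow, pj_eq_one]; exact central_of_neg_one W2
  wd := by rw [← pj_inv, ← pj_mul, ← pj_mul, WD, pj_inv]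
  s13 := by rw [← pj_pow, S13, pj_one]
  s23 := by rw [← pj_pow, S23, pj_one]
  s12 := by
    rw [← pj_mul, ← pj_mul]
    congr 1
    apply ext_mat
    rw [mat_mul, mat_mul]
    exact rel12

end Cfsg.Agent.R08.FrameAData
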