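import Cfsg.Agent.R08.FrameAGroup
import Cfsg.Agent.R08.FrameAWeights

/-!
# R08, piece (0), Part A: the six weights of `P = 3^5` on `V = 2^12`

`H` acts faithfully on `V`, `|V| = 4096`.  `P ≤ H` is elementary abelian of exponent 3, `n₀ ∈ P` is central in `H` and
`N_H(P)` induces on `P` a group of order divisible by 360.  Then there are exactly six hyperplanes `W` of `P` with
`Comp V W ≠ 0`, none of them contains `n₀`.
-/

set_option autoImplicit false

namespace Cfsg.Agent.R08.FrameAWt

open Cfsg.Agent.R08.FrameAGroup Cfsg.Agent.R08.FrameAWeights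
open scoped IsMulCommutative Pointwise
open Finset

variable {H : Type*} [Group H] [Finite H] {V : Type*} [AddCommGroup V] [DistribMulAction H V]
variable {P : Subgroup H} [IsMulCommutative P]

omit [Finite H] [IsMulCommutative P] in
theorem coe_smul (y : Subgroup.normalizer (P : Set H)) (p : P) : ((y • p : P) : H) = y * p * y⁻¹ := rfl

omit [Finite H] [IsMulCommutative P] in
theorem sub_smul (p : P) (v : V) : p • v = (p : H) • v := rfl

omit [Finite H] in
theorem smul_Comp (y : Subgroup.normalizer (P : Set H)) {W : Subgroup P} {v : V} (hv : v ∈ Comp V W) :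
    (y : H) • v ∈ Comp V (y • W) := by
  refine ⟨fun w hw => ?_, fun p hp => ?_⟩
  · have h1 : y⁻¹ • w ∈ W := Subgroup.mem_pointwise_smul_iff_inv_smul_mem.1 hw
    have h2 := hv.1 _ h1
    rw [sub_smul, coe_smul] at h2
    rw [sub_smul]
    conv_rhs => rw [← h2]
    simp only [smul_smul]
    congr 1
    simp only [Subgroup.coe_inv]; group
  · have h1 : y⁻¹ • p ∉ W := fun h => hp (Subgroup.mem_pointwise_smul_iff_inv_smul_mem.2 h)
    have h2 := hv.2 _ h1
    have e : (y : H) • v + p • (y : H) • v + (p * p) • (y : H) • v =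
        (y : H) • (v + (y⁻¹ • p) • v + ((y⁻¹ • p) * (y⁻¹ • p)) • v) := by
      simp only [sub_smul, Subgroup.coe_mul, coe_smul, smul_add, smul_smul, Subgroup.coe_inv]
      congr 1
      · congr 2; group
      · congr 1; group
    rw [e, h2, smul_zero]

omit [IsMulCommutative P] in
theorem index_smul (y : Subgroup.normalizer (P : Set H)) (W : Subgroup P) : (y • W).index = W.index := by
  have h1 := W.card_mul_index
  have h2 := (y • W).card_mul_index
  have h3 : Nat.card (y • W : Subgroup P) = Nat.card W := (Nat.card_congr (Subgroup.equivSMul y W).toEquiv).symm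
  rw [h3] at h2
  have h4 : 0 < Nat.card W := Nat.card_pos
  exact Nat.eq_of_mul_eq_mul_left h4 (h2.trans h1.symm)

/-- weights -/
def IsWt (V : Type*) [AddCommGroup V] [DistribMulAction H V] {P : Subgroup H} [IsMulCommutative P]
    (W : Subgroup P) : Prop := W.index = 3 ∧ Comp V W ≠ ⊥

theorem IsWt.smul (y : Subgroup.normalizer (P : Set H)) {W : Subgroup P} (hW : IsWt V W) :
    IsWt V (y • W) := by
  refine ⟨by rw [index_smul, hW.1], fun h => hW.2 ?_⟩
  rw [AddSubgroup.eq_bot_iff_forall] at h ⊢
  intro v hv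
  exact (smul_eq_zero_iff_eq (y : H)).1 (h _ (smul_Comp y hv))

/-- permutation of the weights with a given invariant property -/
def toPerm (Pr : Subgroup P → Prop) (hPr : ∀ (y : Subgroup.normalizer (P : Set H)) W, Pr W → Pr (y • W)) :
    Subgroup.normalizer (P : Set H) →* Equiv.Perm {W // Pr W} where
  toFun y := ⟨fun W => ⟨y • W.1, hPr y _ W.2⟩, fun W => ⟨y⁻¹ • W.1, hPr _ _ W.2⟩,
    fun W => Subtype.ext (inv_smul_smul y W.1), fun W => Subtype.ext (smul_inv_smul y W.1)⟩
  map_one' := Equiv.ext fun W => Subtype.ext (one_smul _ W.1)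
  map_mul' x y := Equiv.ext fun W => Subtype.ext (mul_smul x y W.1)

omit [Finite H] in
theorem sq_mem (h3 : ∀ p : P, p ^ 3 = 1) {y : Subgroup.normalizer (P : Set H)} {W : Subgroup P}
    (hW : W.index = 3) (hy : y • W = W) (p : P) : p⁻¹ * (y • (y • p)) ∈ W := by
  have hs : ∀ q ∈ W, y • q ∈ W := fun q hq => by
    have := Subgroup.smul_mem_pointwise_smul q y W hq
    rwa [hy] at this
  by_cases hp : p ∈ W
  · exact W.mul_mem (W.inv_mem hp) (hs _ (hs _ hp))
  · rcases cosets hW hp (y • p) with h | h | h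
    · exfalso
      apply hp
      have h1 : y • p ∈ y • W := by rw [hy]; exact h
      exact Subgroup.smul_mem_pointwise_smul_iff.1 h1
    · have h2 : y • (p⁻¹ * y • p) = (y • p)⁻¹ * y • (y • p) := by
        rw [smul_mul', smul_inv']
      have h3 : p⁻¹ * (y • (y • p)) = (p⁻¹ * y • p) * ((y • p)⁻¹ * y • (y • p)) := by group
      rw [h3, ← h2]
      exact W.mul_mem h (hs _ h)
    · -- `y • p = p² q`
      have h2 := hs _ h
      obtain ⟨q, hq⟩ : ∃ q, q = p⁻¹ * (p⁻¹ * y • p) := ⟨_, rfl⟩
      rw [← hq] at h h2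
      have e1 : y • p = p * p * q := by rw [hq]; group
      have e2 : y • (y • p) = (p * p * q) * (p * p * q) * (y • q) := by
        conv_lhs => rw [e1]
        rw [smul_mul', smul_mul', e1]
      have e3 : p⁻¹ * ((p * p * q) * (p * p * q) * (y • q)) = (p ^ 3) * (q * q * (y • q)) := by
        calc p⁻¹ * ((p * p * q) * (p * p * q) * (y • q)) = p * (q * (p * p)) * q * (y • q) := by group
          _ = p * ((p * p) * q) * q * (y • q) := by rw [mul_comm q (p * p)]
          _ = (p ^ 3) * (q * q * (y • q)) := by rw [pow_succ, pow_two]; simp only [mul_assoc]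
      rw [e2, e3, h3, one_mul]
      exact W.mul_mem (W.mul_mem h h) h2

/-- an element of `P` lying in all weights is trivial -/
theorem eq_one_of_mem (hV : ∀ v : V, v + v = 0) (hf : ∀ g : H, (∀ v : V, g • v = v) → g = 1)
    (h3 : ∀ p : P, p ^ 3 = 1) {x : P} (hx : ∀ W : Subgroup P, IsWt V W → x ∈ W) : x = 1 := by
  have : Fintype P := Fintype.ofFinite _
  let X : AddSubgroup V :=
    { carrier := {v | x • v = v}
      zero_mem' := smul_zero x
      add_mem' := fun {u v} hu hv => by
        show x • (u + v) = u + v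
        rw [smul_add, show x • u = u from hu, show x • v = v from hv]
      neg_mem' := fun {u} hu => by
        show x • (-u) = -u
        rw [smul_neg, show x • u = u from hu] }
  have hX : X = ⊤ := by
    refine eq_top_of_comp h3 hV X (fun v hv => hv x) fun W hW v hv => ?_
    by_cases h0 : Comp V W = ⊥
    · rw [h0] at hv
      rw [AddSubgroup.mem_bot.1 hv]; exact X.zero_mem
    · exact hv.1 x (hx W ⟨hW, h0⟩)
  apply Subtype.ext
  apply hf
  intro v
  have : v ∈ X := by rw [hX]; trivial
  exact this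

theorem sq_centralizes (hV : ∀ v : V, v + v = 0) (hf : ∀ g : H, (∀ v : V, g • v = v) → g = 1)
    (h3 : ∀ p : P, p ^ 3 = 1) {y : Subgroup.normalizer (P : Set H)}
    (hy : ∀ W : Subgroup P, IsWt V W → y • W = W) (p : P) : y • (y • p) = p := by
  have : p⁻¹ * (y • (y • p)) = 1 :=
    eq_one_of_mem hV hf h3 fun W hW => sq_mem h3 hW.1 (hy W hW) p
  exact (inv_mul_eq_one.1 this).symm

omit [Finite H] in
/-- `4 ≤ |Comp V W|` -/
theorem four_le_card [Finite V] (hV : ∀ v : V, v + v = 0) (h3 : ∀ p : P, p ^ 3 = 1) {W : Subgroup P}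
    (hW : IsWt V W) : 4 ≤ Nat.card (Comp V W) := by
  obtain ⟨v, hv, hv0⟩ : ∃ v ∈ Comp V W, v ≠ 0 := by
    by_contra h
    push Not at h
    exact hW.2 ((AddSubgroup.eq_bot_iff_forall _).2 h)
  obtain ⟨b, hb⟩ : ∃ b : P, b ∉ W := by
    by_contra h
    push Not at h
    have : W = ⊤ := (Subgroup.eq_top_iff' W).2 h
    have h1 := hW.1
    rw [this, Subgroup.index_top] at h1
    norm_num at h1
  have h3' : b * b * b = 1 := by have := h3 b; rwa [pow_succ, pow_two] at this
  have hst : ∀ p : P, p • v ∈ Comp V W := by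
    intro p
    refine ⟨fun w hw => ?_, fun q hq => ?_⟩
    · rw [smul_smul, mul_comm, mul_smul, hv.1 w hw]
    · have : p • v + q • p • v + (q * q) • p • v = p • (v + q • v + (q * q) • v) := by
        simp only [smul_add, smul_smul]
        rw [mul_comm q p, mul_comm (q * q) p]
      rw [this, hv.2 q hq, smul_zero]
  have hne : ∀ p : P, p • v ≠ 0 := fun p h => hv0 ((smul_eq_zero_iff_eq p).1 h)
  have h0 := hv.2 b hb
  have hb1 : b • v ≠ v := by
    intro h
    rw [mul_smul, h, h, hV, zero_add] at h0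
    exact hv0 h0
  have hb2 : (b * b) • v ≠ v := by
    intro h
    apply hb1
    have : b • ((b * b) • v) = b • v := by rw [h]
    rw [smul_smul, ← mul_assoc, h3', one_smul] at this
    exact this.symm
  have hb3 : (b * b) • v ≠ b • v := by
    intro h
    rw [mul_smul] at h
    exact hb1 (MulAction.injective b h)
  let f : Fin 4 → Comp V W := ![0, ⟨v, hv⟩, ⟨b • v, hst b⟩, ⟨(b * b) • v, hst _⟩]
  have hinj : Function.Injective f := by
    have e0 : (f 0 : V) = 0 := rfl
    have e1 : (f 1 : V) = v := rfl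
    have e2 : (f 2 : V) = b • v := rfl
    have e3 : (f 3 : V) = (b * b) • v := rfl
    intro i j hij
    have hij' : (f i : V) = f j := congrArg Subtype.val hij
    fin_cases i <;> fin_cases j <;> first | rfl | exfalso
    · exact hv0 (e1.symm.trans (hij'.symm.trans e0))
    · exact hne b (e2.symm.trans (hij'.symm.trans e0))
    · exact hne _ (e3.symm.trans (hij'.symm.trans e0))
    · exact hv0 (e1.symm.trans (hij'.trans e0))
    · exact hb1 (e2.symm.trans (hij'.symm.trans e1))
    · exact hb2 (e3.symm.trans (hij'.symm.trans e1))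
    · exact hne b (e2.symm.trans (hij'.trans e0))
    · exact hb1 (e2.symm.trans (hij'.trans e1))
    · exact hb3 (e3.symm.trans (hij'.symm.trans e2))
    · exact hne _ (e3.symm.trans (hij'.trans e0))
    · exact hb2 (e3.symm.trans (hij'.trans e1))
    · exact hb3 (e3.symm.trans (hij'.trans e2))
  have := Nat.card_le_card_of_injective f hinj
  rwa [Nat.card_eq_fintype_card, Fintype.card_fin] at this

/-- injectivity of the sum map -/
theorem sum_injective (hV : ∀ v : V, v + v = 0) (h3 : ∀ p : P, p ^ 3 = 1) {ι : Type*} [Fintype ι]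
    (W : ι → Subgroup P) (hW : ∀ i, (W i).index = 3) (hinj : Function.Injective W) :
    Function.Injective (fun u : (i : ι) → Comp V (W i) => ∑ i, (u i : V)) := by
  have : Fintype P := Fintype.ofFinite _
  intro u v huv
  have huv' : ∑ i, (u i : V) = ∑ i, (v i : V) := huv
  have h1 : ∑ i, ((u i : V) - v i) = 0 := by
    rw [sum_sub_distrib, huv', sub_self]
  funext i
  apply Subtype.ext
  have := eq_zero_of_sum h3 hV W hW hinj (fun i => (u i : V) - v i)
    (fun i => (Comp V (W i)).sub_mem (u i).2 (v i).2) h1 i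
  exact sub_eq_zero.1 this

theorem card_le_six [Finite V] (hV : ∀ v : V, v + v = 0) (h3 : ∀ p : P, p ^ 3 = 1)
    (hc : Nat.card V = 4096) : Nat.card {W : Subgroup P // IsWt V W} ≤ 6 := by
  classical
  have : Fintype {W : Subgroup P // IsWt V W} := Fintype.ofFinite _
  have h1 := Nat.card_le_card_of_injective _ (sum_injective (V := V) hV h3
    (fun W : {W : Subgroup P // IsWt V W} => W.1) (fun W => W.2.1) Subtype.val_injective)
  rw [hc, Nat.card_pi] at h1
  have h2 : 4 ^ Nat.card {W : Subgroup P // IsWt V W} ≤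
      ∏ i : {W : Subgroup P // IsWt V W}, Nat.card (Comp V i.1) := by
    rw [Nat.card_eq_fintype_card, ← Finset.card_univ, ← Finset.prod_const]
    exact Finset.prod_le_prod' fun i _ => four_le_card hV h3 i.2
  have h4 : 4 ^ Nat.card {W : Subgroup P // IsWt V W} ≤ 4 ^ 6 := h2.trans h1
  exact (Nat.pow_le_pow_iff_right (by norm_num)).1 h4

theorem dvd_cases (a b : ℕ) (h : a + b ≤ 6) (hd : 45 ∣ a.factorial * b.factorial) :
    (a = 6 ∧ b = 0) ∨ (a = 0 ∧ b = 6) := by
  have ha : a ≤ 6 := by omega
  have hb : b ≤ 6 := by omega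
  revert h hd
  interval_cases a <;> interval_cases b <;> decide

/-- there are exactly six weights, and none of them contains `n₀` -/
theorem six [Finite V] (hV : ∀ v : V, v + v = 0) (hf : ∀ g : H, (∀ v : V, g • v = v) → g = 1)
    (hc : Nat.card V = 4096) {n0 : H} (I : Input P n0) :
    (∀ W : Subgroup P, IsWt V W → (⟨n0, I.mem⟩ : P) ∉ W) ∧ Nat.card {W : Subgroup P // IsWt V W} = 6 := by
  classical
  have h3 : ∀ p : P, p ^ 3 = 1 := fun p => Subtype.ext (I.cube p p.2)
  obtain ⟨n, hn⟩ : ∃ n : P, n = ⟨n0, I.mem⟩ := ⟨_, rfl⟩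
  rw [← hn]
  have hyn : ∀ y : Subgroup.normalizer (P : Set H), y • n = n := by
    intro y
    apply Subtype.ext
    rw [coe_smul, hn]
    show (y : H) * n0 * (y : H)⁻¹ = n0
    rw [I.cent]; group
  have hn1 : n ≠ 1 := fun h => I.ne (by
    have := congrArg Subtype.val h
    rw [hn] at this
    exact this)
  have hmem : ∀ (y : Subgroup.normalizer (P : Set H)) (W : Subgroup P), n ∈ y • W ↔ n ∈ W := by
    intro y W
    conv_lhs => rw [← hyn y]
    exact Subgroup.smul_mem_pointwise_smul_iff
  let A := {W : Subgroup P // IsWt V W ∧ n ∈ W}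
  let B := {W : Subgroup P // IsWt V W ∧ n ∉ W}
  have hsum : Nat.card A + Nat.card B ≤ Nat.card {W : Subgroup P // IsWt V W} := by
    rw [← Nat.card_sum]
    let f : A ⊕ B → {W : Subgroup P // IsWt V W} :=
      Sum.elim (fun W => ⟨W.1, W.2.1⟩) (fun W => ⟨W.1, W.2.1⟩)
    apply Nat.card_le_card_of_injective f
    rintro (W | W) (W' | W') h
    · have : W.1 = W'.1 := congrArg (fun x : {W : Subgroup P // IsWt V W} => x.1) h
      exact congrArg Sum.inl (Subtype.ext this)
    · exfalso
      have : W.1 = W'.1 := congrArg (fun x : {W : Subgroup P // IsWt V W} => x.1) h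
      exact W'.2.2 (this ▸ W.2.2)
    · exfalso
      have : W.1 = W'.1 := congrArg (fun x : {W : Subgroup P // IsWt V W} => x.1) h
      exact W.2.2 (this ▸ W'.2.2)
    · have : W.1 = W'.1 := congrArg (fun x : {W : Subgroup P // IsWt V W} => x.1) h
      exact congrArg Sum.inr (Subtype.ext this)
  have h6 : Nat.card {W : Subgroup P // IsWt V W} ≤ 6 := card_le_six hV h3 hc
  let fA : Subgroup.normalizer (P : Set H) →* Equiv.Perm A :=
    toPerm (fun W => IsWt V W ∧ n ∈ W) fun y W hW => ⟨hW.1.smul y, (hmem y W).2 hW.2⟩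
  let fB : Subgroup.normalizer (P : Set H) →* Equiv.Perm B :=
    toPerm (fun W => IsWt V W ∧ n ∉ W) fun y W hW => ⟨hW.1.smul y, fun h => hW.2 ((hmem y W).1 h)⟩
  let g := fA.prod fB
  let φ := P.normalizerMonoidHom.rangeRestrict
  have hφ : Function.Surjective φ := P.normalizerMonoidHom.rangeRestrict_surjective
  have hd1 : (g.ker.map φ).index ∣ (Nat.card A).factorial * (Nat.card B).factorial := by
    refine (Subgroup.index_map_dvd _ hφ).trans ?_
    rw [Subgroup.index_ker]
    have h1 : Nat.card (Equiv.Perm A × Equiv.Perm B) = (Nat.card A).factorial * (Nat.card B).factorial := by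
      rw [Nat.card_prod, Nat.card_perm, Nat.card_perm]
    rw [← h1]
    exact Subgroup.card_subgroup_dvd_card _
  have hp2 : Fact (Nat.Prime 2) := ⟨Nat.prime_two⟩
  have hK : IsPGroup 2 (g.ker.map φ) := by
    rintro ⟨x, y, hy, rfl⟩
    refine ⟨1, ?_⟩
    apply Subtype.ext
    rw [pow_one, Subgroup.coe_pow, Subgroup.coe_one]
    show φ y ^ 2 = 1
    have hy' : ∀ W : Subgroup P, IsWt V W → y • W = W := by
      intro W hW
      have hy2 : g y = 1 := hy
      by_cases hnW : n ∈ W
      · have h1 : fA y = 1 := congrArg Prod.fst hy2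
        have h2 := congrArg (fun f : Equiv.Perm A => (f ⟨W, hW, hnW⟩).1) h1
        exact h2
      · have h1 : fB y = 1 := congrArg Prod.snd hy2
        have h2 := congrArg (fun f : Equiv.Perm B => (f ⟨W, hW, hnW⟩).1) h1
        exact h2
    apply Subtype.ext
    ext p
    have := sq_centralizes hV hf h3 hy' p
    exact congrArg Subtype.val this
  obtain ⟨k, hk⟩ := IsPGroup.iff_card.1 hK
  have hd2 : 45 ∣ (g.ker.map φ).index := by
    have h1 : 45 ∣ Nat.card P.normalizerMonoidHom.range := (by norm_num : 45 ∣ 360).trans I.dvd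
    rw [← (g.ker.map φ).card_mul_index, hk] at h1
    exact Nat.Coprime.dvd_of_dvd_mul_left (Nat.Coprime.pow_right k (by norm_num)) h1
  rcases dvd_cases _ _ (hsum.trans h6) (hd2.trans hd1) with ⟨ha, hb⟩ | ⟨ha, hb⟩
  · exfalso
    apply hn1
    refine eq_one_of_mem hV hf h3 fun W hW => ?_
    by_contra h
    have : Finite B := inferInstance
    rw [Nat.card_eq_zero] at hb
    rcases hb with hb | hb
    · exact hb.elim ⟨W, hW, h⟩
    · exact hb.not_finite this
  · constructor
    · intro W hW h
      have : Finite A := inferInstance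
      rw [Nat.card_eq_zero] at ha
      rcases ha with ha | ha
      · exact ha.elim ⟨W, hW, h⟩
      · exact ha.not_finite this
    · omega

end Cfsg.Agent.R08.FrameAWt
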