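import Cfsg.Agent.R08.FrameAMod
import Cfsg.Agent.R08.FrameAWt

/-!
# R08, piece (0), Part A: coordinates over the field with four elements
-/

set_option autoImplicit false

namespace Cfsg.Agent.R08.FrameALin

open Cfsg.Agent.R08.FrameAGroup Cfsg.Agent.R08.FrameAWeights Cfsg.Agent.R08.FrameAWt
  Cfsg.Agent.R08.FrameAMod Cfsg.Agent.SporadicStructure.UnitTwo
open scoped IsMulCommutative Pointwise
open Finset

variable {H : Type*} [Group H] [Finite H] {V : Type*} [AddCommGroup V] [DistribMulAction H V]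
variable {P : Subgroup H} [IsMulCommutative P]

omit [Finite H] in
theorem smul_mem_Comp {W : Subgroup P} {v : V} (hv : v ∈ Comp V W) (p : P) : p • v ∈ Comp V W := by
  refine ⟨fun w hw => ?_, fun q hq => ?_⟩
  · rw [smul_smul, mul_comm, mul_smul, hv.1 w hw]
  · have : p • v + q • p • v + (q * q) • p • v = p • (v + q • v + (q * q) • v) := by
      simp only [smul_add, smul_smul]
      rw [mul_comm q p, mul_comm (q * q) p]
    rw [this, hv.2 q hq, smul_zero]

/-- enumeration of the weights -/
structure Six (V : Type*) [AddCommGroup V] [DistribMulAction H V] {P : Subgroup H} [IsMulCommutative P]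
    (W : Fin 6 → Subgroup P) (Θ : Subgroup.normalizer (P : Set H) →* Equiv.Perm (Fin 6)) : Prop where
  wt : ∀ i, IsWt V (W i)
  inj : Function.Injective W
  act : ∀ y i, W (Θ y i) = y • W i

theorem exists_six [Finite V] (hV : ∀ v : V, v + v = 0) (hf : ∀ g : H, (∀ v : V, g • v = v) → g = 1)
    (hc : Nat.card V = 4096) {n0 : H} (I : Input P n0) :
    ∃ (W : Fin 6 → Subgroup P) (Θ : Subgroup.normalizer (P : Set H) →* Equiv.Perm (Fin 6)),
      Six V W Θ ∧ ∀ i, (⟨n0, I.mem⟩ : P) ∉ W i := by
  obtain ⟨hn, h6⟩ := six hV hf hc I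
  let ε : {W : Subgroup P // IsWt V W} ≃ Fin 6 := Finite.equivFinOfCardEq h6
  let f : Subgroup.normalizer (P : Set H) →* Equiv.Perm {W : Subgroup P // IsWt V W} :=
    toPerm (fun W => IsWt V W) fun y W hW => hW.smul y
  refine ⟨fun i => (ε.symm i).1, ε.permCongrHom.toMonoidHom.comp f, ⟨fun i => (ε.symm i).2,
    fun i j h => ε.symm.injective (Subtype.ext h), fun y i => ?_⟩, fun i => hn _ (ε.symm i).2⟩
  show (ε.symm (ε (f y (ε.symm i)))).1 = y • (ε.symm i).1
  rw [Equiv.symm_apply_apply]
  rfl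

section sum

variable [Finite V] {W : Fin 6 → Subgroup P}
  {Θ : Subgroup.normalizer (P : Set H) →* Equiv.Perm (Fin 6)}

theorem Six.sum_bij (X : Six V W Θ) (hV : ∀ v : V, v + v = 0) (h3 : ∀ p : P, p ^ 3 = 1)
    (hc : Nat.card V = 4096) (v : V) : ∃ u : Fin 6 → V, (∀ i, u i ∈ Comp V (W i)) ∧ v = ∑ i, u i := by
  have h1 := sum_injective (V := V) hV h3 W (fun i => (X.wt i).1) X.inj
  have h2 : Nat.card V ≤ Nat.card ((i : Fin 6) → Comp V (W i)) := by
    rw [hc, Nat.card_pi]
    calc 4096 = ∏ _i : Fin 6, 4 := by simp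
      _ ≤ _ := Finset.prod_le_prod' fun i _ => four_le_card hV h3 (X.wt i)
  obtain ⟨u, hu⟩ := (h1.bijective_of_nat_card_le h2).2 v
  exact ⟨fun i => u i, fun i => (u i).2, hu.symm⟩

theorem Six.rel (X : Six V W Θ) (hV : ∀ v : V, v + v = 0) (h3 : ∀ p : P, p ^ 3 = 1)
    (hc : Nat.card V = 4096) {n : P} (hn : ∀ i, n ∉ W i) (v : V) :
    v + (n : H) • v + (n : H) • (n : H) • v = 0 := by
  obtain ⟨u, hu, rfl⟩ := X.sum_bij hV h3 hc v
  rw [smul_sum, smul_sum, ← sum_add_distrib, ← sum_add_distrib]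
  refine sum_eq_zero fun i _ => ?_
  have := (hu i).2 n (hn i)
  rw [mul_smul] at this
  exact this

end sum

/-! ### the linear structure -/

section lin

variable {F : Type} [Field F] [Fintype F] (hF : Fintype.card F = 2 ^ 2) {ω : F}
  (hω : ω ^ 2 + ω + 1 = 0) [Module F V] {n0 : H} (hn : ∀ v : V, ω • v = n0 • v)
  (hcent : ∀ g : H, g * n0 = n0 * g)

include hF hω hn hcent in
omit [Finite H] in
theorem smul_comm_F (g : H) (x : F) (v : V) : g • x • v = x • g • v := by
  have h1 : ∀ v : V, g • ω • v = ω • g • v := by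
    intro v
    rw [hn, hn, smul_smul, smul_smul, hcent]
  rcases cases4 hF hω x with h | h | h | h
  · rw [h, zero_smul, zero_smul, smul_zero]
  · rw [h, one_smul, one_smul]
  · rw [h, h1]
  · rw [h, pow_two, mul_smul, mul_smul, h1, h1]

include hF hω hn hcent in
/-- the representation over `F` -/
def toLin : H →* Module.End F V where
  toFun g :=
    { toFun := fun v => g • v
      map_add' := smul_add g
      map_smul' := fun x v => smul_comm_F hF hω hn hcent g x v }
  map_one' := LinearMap.ext fun v => one_smul H v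
  map_mul' g g' := LinearMap.ext fun v => mul_smul g g' v

omit [Finite H] in
theorem toLin_apply (g : H) (v : V) : toLin hF hω hn hcent g v = g • v := rfl

include hF hω hn in
omit [Finite H] in
theorem smul_F_mem {W : Subgroup P} (hmem : n0 ∈ P) {v : V} (hv : v ∈ Comp V W) (x : F) :
    x • v ∈ Comp V W := by
  have h1 : ∀ {v : V}, v ∈ Comp V W → ω • v ∈ Comp V W := by
    intro v hv
    rw [hn]
    exact smul_mem_Comp hv ⟨n0, hmem⟩
  rcases cases4 hF hω x with h | h | h | h
  · rw [h, zero_smul]; exact (Comp V W).zero_mem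
  · rw [h, one_smul]; exact hv
  · rw [h]; exact h1 hv
  · rw [h, pow_two, mul_smul]; exact h1 (h1 hv)

omit [Finite H] [DistribMulAction H V] in
include hF in
theorem finrank_eq [Finite V] (hc : Nat.card V = 4096) : Module.finrank F V = 6 := by
  have : Fintype V := Fintype.ofFinite _
  have h1 := Module.card_eq_pow_finrank (K := F) (V := V)
  rw [hF, ← Nat.card_eq_fintype_card, hc] at h1
  have h2 : (2 ^ 2) ^ 6 = (2 ^ 2) ^ Module.finrank F V := by rw [← h1]; norm_num
  exact (Nat.pow_right_injective (by norm_num) h2).symm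

variable {W : Fin 6 → Subgroup P} {Θ : Subgroup.normalizer (P : Set H) →* Equiv.Perm (Fin 6)}

include hF hω hn in
theorem Six.exists_basis [Finite V] (X : Six V W Θ) (hV : ∀ v : V, v + v = 0)
    (hc : Nat.card V = 4096) (I : Input P n0) :
    ∃ e : Module.Basis (Fin 6) F V, ∀ i, e i ∈ Comp V (W i) := by
  have : Fintype P := Fintype.ofFinite _
  have h3 : ∀ p : P, p ^ 3 = 1 := fun p => Subtype.ext (I.cube p p.2)
  have h1 : ∀ i, ∃ v ∈ Comp V (W i), v ≠ 0 := by
    intro i
    by_contra h
    push Not at h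
    exact (X.wt i).2 ((AddSubgroup.eq_bot_iff_forall _).2 h)
  choose e he he0 using h1
  have hli : LinearIndependent F e := by
    rw [Fintype.linearIndependent_iff]
    intro g hg i
    have := eq_zero_of_sum h3 hV W (fun i => (X.wt i).1) X.inj (fun i => g i • e i)
      (fun i => smul_F_mem hF hω hn I.mem (he i) (g i)) hg i
    exact (smul_eq_zero.1 this).resolve_right (he0 i)
  refine ⟨basisOfLinearIndependentOfCardEqFinrank hli ?_, fun i => ?_⟩
  · rw [Fintype.card_fin, finrank_eq hF hc]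
  · rw [coe_basisOfLinearIndependentOfCardEqFinrank]; exact he i

include hF hω hn in
theorem Six.mem_line (X : Six V W Θ) (hV : ∀ v : V, v + v = 0) (I : Input P n0)
    {e : Module.Basis (Fin 6) F V} (he : ∀ i, e i ∈ Comp V (W i)) {i : Fin 6} {v : V}
    (hv : v ∈ Comp V (W i)) : v = e.repr v i • e i := by
  classical
  have : Fintype P := Fintype.ofFinite _
  have h3 : ∀ p : P, p ^ 3 = 1 := fun p => Subtype.ext (I.cube p p.2)
  have h1 := e.sum_repr v
  have h2 : ∑ j, (e.repr v j • e j - if j = i then v else 0) = 0 := by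
    rw [sum_sub_distrib, h1, sum_ite_eq', if_pos (mem_univ _), sub_self]
  have := eq_zero_of_sum h3 hV W (fun i => (X.wt i).1) X.inj
    (fun j => e.repr v j • e j - if j = i then v else 0)
    (fun j => by
      refine (Comp V (W j)).sub_mem (smul_F_mem hF hω hn I.mem (he j) _) ?_
      split_ifs with hj
      · rw [hj]; exact hv
      · exact (Comp V (W j)).zero_mem) h2 i
  rw [if_pos rfl] at this
  exact (sub_eq_zero.1 this).symm

include hF hω hn in
/-- monomial elements -/
theorem Six.mono (X : Six V W Θ) (hV : ∀ v : V, v + v = 0) (I : Input P n0)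
    {e : Module.Basis (Fin 6) F V} (he : ∀ i, e i ∈ Comp V (W i)) {g : H} {σ : Fin 6 → Fin 6}
    (hg : ∀ i, g • e i ∈ Comp V (W (σ i))) : ∃ c : Fin 6 → Fˣ, ∀ i, g • e i = (c i : F) • e (σ i) := by
  have h1 : ∀ i, ∃ c : Fˣ, g • e i = (c : F) • e (σ i) := by
    intro i
    have h2 := X.mem_line hF hω hn hV I he (hg i)
    have h3 : e.repr (g • e i) (σ i) ≠ 0 := by
      intro h
      rw [h, zero_smul] at h2
      exact e.ne_zero i ((smul_eq_zero_iff_eq g).1 h2)
    exact ⟨Units.mk0 _ h3, h2⟩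
  choose c hc using h1
  exact ⟨c, hc⟩

include hF in
theorem sign_cast (s : ℤˣ) : ((s : ℤ) : F) = 1 := by
  rcases Int.units_eq_one_or s with h | h
  · rw [h]; simp
  · rw [h]
    have := two_eq_zero hF
    push_cast
    linear_combination -this

include hF in
/-- determinant of a monomial transformation -/
theorem det_mono (e : Module.Basis (Fin 6) F V) (f : Module.End F V) (σ : Equiv.Perm (Fin 6))
    (c : Fin 6 → Fˣ) (hf : ∀ i, f (e i) = (c i : F) • e (σ i)) :
    LinearMap.det f = ∏ i, (c i : F) := by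
  rw [← LinearMap.det_toMatrix e]
  have h1 : LinearMap.toMatrix e e f =
      (Matrix.diagonal (fun i => (c i : F))).submatrix (σ⁻¹ : Equiv.Perm (Fin 6)) id := by
    ext j i
    rw [LinearMap.toMatrix_apply, hf, map_smul, Module.Basis.repr_self, Matrix.submatrix_apply,
      Matrix.diagonal_apply, Finsupp.smul_apply, Finsupp.single_apply]
    by_cases h : σ i = j
    · have h' : σ⁻¹ j = i := by rw [← h]; simp
      rw [if_pos h, if_pos (by rw [h']; rfl), smul_eq_mul, mul_one, h']
    · have h' : ¬ σ⁻¹ j = i := by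
        intro h2; apply h; rw [← h2]; simp
      rw [if_neg h, if_neg (show ¬ σ⁻¹ j = id i from h'), smul_zero]
  rw [h1, Matrix.det_permute, Matrix.det_diagonal, sign_cast hF, one_mul]

omit [Finite H] [IsMulCommutative P] in
theorem det_one [Finite V] (hc : Nat.card V = 4096) (I : Input P n0) (g : H) :
    LinearMap.det (toLin hF hω hn hcent g : Module.End F V) = 1 := by
  let f : H →* Fˣ := (LinearMap.det.comp (toLin hF hω hn hcent) : H →* F).toHomUnits
  have h1 : f n0 = 1 := by
    apply Units.ext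
    show LinearMap.det (toLin hF hω hn hcent n0 : Module.End F V) = 1
    have h2 : (toLin hF hω hn hcent n0 : Module.End F V) = ω • LinearMap.id :=
      LinearMap.ext fun v => (hn v).symm
    rw [h2, LinearMap.det_smul, LinearMap.det_id, mul_one, finrank_eq hF hc]
    have o3 := om3 hω
    calc ω ^ 6 = (ω ^ 3) ^ 2 := by ring
      _ = 1 := by rw [o3, one_pow]
  have h3 := I.homs f h1 g
  exact congrArg Units.val h3

omit [Finite H] [Fintype F] in
/-- two elements agreeing on the basis are equal -/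
theorem eq_of_basis (hf : ∀ g : H, (∀ v : V, g • v = v) → g = 1)
    (hlin : ∀ (g : H) (x : F) (v : V), g • x • v = x • g • v) (e : Module.Basis (Fin 6) F V) {g g' : H}
    (h : ∀ i, g • e i = g' • e i) : g = g' := by
  have h1 : ∀ v : V, g • v = g' • v := by
    intro v
    rw [← e.sum_repr v, smul_sum, smul_sum]
    exact sum_congr rfl fun i _ => by rw [hlin, hlin, h]
  have h2 : g'⁻¹ * g = 1 := hf _ fun v => by rw [mul_smul, h1, inv_smul_smul]
  exact (inv_mul_eq_one.1 h2).symm

include hF in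
theorem card_prod_one : Nat.card {d : Fin 6 → Fˣ // ∏ i, d i = 1} ≤ 243 := by
  let f : {d : Fin 6 → Fˣ // ∏ i, d i = 1} → (Fin 5 → Fˣ) := fun d i => d.1 i.succ
  have hf : Function.Injective f := by
    rintro ⟨d, hd⟩ ⟨d', hd'⟩ h
    have h1 : ∀ i : Fin 5, d i.succ = d' i.succ := fun i => congrFun h i
    apply Subtype.ext
    show d = d'
    rw [Fin.prod_univ_succ] at hd hd'
    have h2 : ∏ i : Fin 5, d i.succ = ∏ i : Fin 5, d' i.succ := prod_congr rfl fun i _ => h1 i
    rw [← h2] at hd'
    have h0 : d 0 = d' 0 := mul_right_cancel (hd.trans hd'.symm)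
    funext i
    exact Fin.cases h0 h1 i
  have h1 := Nat.card_le_card_of_injective f hf
  have hu : Nat.card Fˣ = 3 := by
    classical
    rw [Nat.card_eq_fintype_card, Fintype.card_units, hF]; norm_num
  rw [Nat.card_pi] at h1
  simpa [hu] using h1

/-- coordinates -/
structure LabData (H V : Type*) [Group H] [AddCommGroup V] [DistribMulAction H V] (F : Type) [Field F]
    (n0 : H) where
  lab : V ≃+ (Fin 6 → F)
  om : F
  om_eq : om ^ 2 + om + 1 = 0
  scal : ∀ v, lab (n0 • v) = om • lab v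
  lin : ∀ g : H, ∃ A : Matrix.SpecialLinearGroup (Fin 6) F,
    ∀ v, lab (g • v) = (A : Matrix (Fin 6) (Fin 6) F).mulVec (lab v)
  mono : ∀ (s : Equiv.Perm (Fin 6)) (d : Fin 6 → Fˣ), Equiv.Perm.sign s = 1 → ∏ i, d i = 1 →
    ∃ g : H, ∀ (v : V) (i : Fin 6), lab (g • v) i = (d i : F) * lab v (s⁻¹ i)

include hF hω hn in
theorem Six.labData [Finite V] (X : Six V W Θ) (hV : ∀ v : V, v + v = 0)
    (hf : ∀ g : H, (∀ v : V, g • v = v) → g = 1) (hc : Nat.card V = 4096) (I : Input P n0) :
    Nonempty (LabData H V F n0) := by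
  classical
  have hcent := I.cent
  have hlin := fun (g : H) (x : F) (v : V) => smul_comm_F hF hω hn hcent g x v
  obtain ⟨e, he⟩ := X.exists_basis hF hω hn hV hc I
  -- monomial elements
  have hY : ∀ y : Subgroup.normalizer (P : Set H), ∃ c : Fin 6 → Fˣ,
      ∀ i, (y : H) • e i = (c i : F) • e (Θ y i) := by
    intro y
    refine X.mono hF hω hn hV I he fun i => ?_
    have := smul_Comp y (he i)
    rwa [← X.act] at this
  have hP : ∀ p : P, ∃ c : Fin 6 → Fˣ, ∀ i, (p : H) • e i = (c i : F) • e i := by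
    intro p
    exact X.mono hF hω hn hV I he (σ := id) fun i => smul_mem_Comp (he i) p
  choose D hD using hP
  have hdet : ∀ (g : H) (σ : Equiv.Perm (Fin 6)) (c : Fin 6 → Fˣ),
      (∀ i, g • e i = (c i : F) • e (σ i)) → ∏ i, c i = 1 := by
    intro g σ c hg
    have h1 := det_mono hF e (toLin hF hω hn hcent g) σ c hg
    rw [det_one hF hω hn hcent hc I g] at h1
    apply Units.ext
    rw [Units.coe_prod, ← h1]; rfl
  have hDinj : Function.Injective (fun p : P => (⟨D p, hdet p 1 (D p) (hD p)⟩ :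
      {d : Fin 6 → Fˣ // ∏ i, d i = 1})) := by
    intro p q h
    have h1 : D p = D q := congrArg Subtype.val h
    apply Subtype.ext
    exact eq_of_basis hf hlin e fun i => by rw [hD, hD, h1]
  have hDsurj : ∀ d : Fin 6 → Fˣ, ∏ i, d i = 1 → ∃ p : P, D p = d := by
    intro d hd
    have h1 := hDinj.bijective_of_nat_card_le ((card_prod_one hF).trans I.card)
    obtain ⟨p, hp⟩ := h1.2 ⟨d, hd⟩
    exact ⟨p, congrArg Subtype.val hp⟩
  -- the image of `Θ`
  have hker : Θ.ker ≤ P.normalizerMonoidHom.ker := by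
    intro y hy
    obtain ⟨c, hcy⟩ := hY y
    have hy1 : Θ y = 1 := hy
    rw [hy1] at hcy
    rw [MonoidHom.mem_ker]
    ext p
    show (y : H) * p * (y : H)⁻¹ = p
    rw [mul_inv_eq_iff_eq_mul]
    refine eq_of_basis hf hlin e fun i => ?_
    rw [mul_smul, mul_smul, hD, hcy, Equiv.Perm.one_apply, hlin, hlin, hcy, hD,
      Equiv.Perm.one_apply, smul_smul, smul_smul, mul_comm]
  have h360 : 360 ∣ Nat.card Θ.range := by
    rw [← Subgroup.index_ker]
    refine I.dvd.trans ?_
    rw [← Subgroup.index_ker]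
    exact Subgroup.index_dvd_of_le hker
  have hA : alternatingGroup (Fin 6) ≤ Θ.range := by
    apply Equiv.Perm.alternatingGroup_le_of_index_le_two
    have h1 := Θ.range.card_mul_index
    have h2 : (6).factorial = 720 := rfl
    rw [Nat.card_perm, Nat.card_fin, h2] at h1
    obtain ⟨k, hk⟩ := h360
    rw [hk] at h1
    have h3 : k * Θ.range.index = 2 := by
      have : 360 * (k * Θ.range.index) = 360 * 2 := by rw [← mul_assoc, h1]
      exact Nat.eq_of_mul_eq_mul_left (by norm_num) this
    exact Nat.le_of_dvd (by norm_num) ⟨k, by rw [← h3, mul_comm]⟩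
  refine ⟨⟨e.equivFun.toAddEquiv, ω, hω, fun v => ?_, fun g => ?_, fun s d hs hd => ?_⟩⟩
  · show e.equivFun (n0 • v) = ω • e.equivFun v
    rw [← hn, map_smul]
  · refine ⟨⟨LinearMap.toMatrix e e (toLin hF hω hn hcent g), ?_⟩, fun v => ?_⟩
    · rw [LinearMap.det_toMatrix, det_one hF hω hn hcent hc I g]
    · exact (LinearMap.toMatrix_mulVec_repr e e (toLin hF hω hn hcent g) v).symm
  · obtain ⟨y, hy⟩ := hA (Equiv.Perm.mem_alternatingGroup.2 hs)
    obtain ⟨c, hcy⟩ := hY y
    rw [hy] at hcy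
    have hc1 := hdet y s c hcy
    have hss : ∀ j, s⁻¹ (s j) = j := fun j => s.symm_apply_apply j
    obtain ⟨p, hp⟩ := hDsurj (fun i => d i * (c (s⁻¹ i))⁻¹) (by
      rw [prod_mul_distrib, hd, one_mul, prod_inv_distrib]
      rw [show ∏ i, c (s⁻¹ i) = ∏ i, c i from Equiv.prod_comp (s⁻¹ : Equiv.Perm (Fin 6)) c, hc1, inv_one])
    refine ⟨(p : H) * y, fun v i => ?_⟩
    show e.equivFun (((p : H) * y) • v) i = (d i : F) * e.equivFun v (s⁻¹ i)
    have h1 : ∀ j, ((p : H) * y) • e j = (d (s j) : F) • e (s j) := by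
      intro j
      rw [mul_smul, hcy, hlin, hD, hp, smul_smul]
      congr 1
      rw [← Units.val_mul]
      congr 1
      show c j * (d (s j) * (c (s⁻¹ (s j)))⁻¹) = d (s j)
      rw [hss, mul_comm, mul_assoc, inv_mul_cancel, mul_one]
    have h2 : ((p : H) * y) • v = ∑ j, (e.equivFun v j * (d (s j) : F)) • e (s j) := by
      conv_lhs => rw [← e.sum_equivFun v]
      rw [smul_sum]
      exact sum_congr rfl fun j _ => by rw [hlin, h1, smul_smul]
    have h3 : ∑ j, (e.equivFun v j * (d (s j) : F)) • e (s j) =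
        ∑ j, (e.equivFun v (s⁻¹ j) * (d j : F)) • e j := by
      rw [← Equiv.sum_comp s (fun j => (e.equivFun v (s⁻¹ j) * (d j : F)) • e j)]
      exact sum_congr rfl fun j _ => by rw [hss]
    rw [h2, h3, e.equivFun_apply, map_sum, Finsupp.finsetSum_apply]
    rw [sum_eq_single i]
    · rw [map_smul, Finsupp.smul_apply, e.repr_self, Finsupp.single_eq_same, smul_eq_mul, mul_one, mul_comm]
    · intro j _ hj
      rw [map_smul, Finsupp.smul_apply, e.repr_self, Finsupp.single_eq_of_ne (Ne.symm hj), smul_zero]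
    · intro h; exact absurd (mem_univ i) h

end lin

/-- **Coordinates.** -/
theorem exists_labData {H : Type*} [Group H] [Finite H] {V : Type*} [AddCommGroup V] [Finite V]
    [DistribMulAction H V] {P : Subgroup H} {F : Type} [Field F] [Fintype F]
    (hF : Fintype.card F = 2 ^ 2) (hV : ∀ v : V, v + v = 0)
    (hf : ∀ g : H, (∀ v : V, g • v = v) → g = 1) (hc : Nat.card V = 4096) {n0 : H} (I : Input P n0) :
    Nonempty (LabData H V F n0) := by
  have hcomm : IsMulCommutative P := ⟨⟨fun x y => Subtype.ext (I.comm x x.2 y y.2)⟩⟩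
  obtain ⟨W, Θ, X, hnW⟩ := exists_six hV hf hc I
  obtain ⟨ω, hω⟩ := exists_omega hF
  have h3 : ∀ p : P, p ^ 3 = 1 := fun p => Subtype.ext (I.cube p p.2)
  let T : V →+ V := DistribSMul.toAddMonoidHom V n0
  let _ : Module F V := mod hF hω hV T fun v => X.rel hV h3 hc hnW v
  exact X.labData hF hω (n0 := n0) (fun v => sm_om hF hω T v) hV hf hc I

end Cfsg.Agent.R08.FrameALin
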