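import Cfsg.Agent.SporadicStructure.UnitTwo

/-!
# R08, piece (0), Part A: an elementary abelian 2-group with a fixed-point-free automorphism of order 3 as a space
over the field with four elements
-/

set_option autoImplicit false

namespace Cfsg.Agent.R08.FrameAMod

open Cfsg.Agent.SporadicStructure.UnitTwo

variable {F : Type*} [Field F] [Fintype F] (hF : Fintype.card F = 2 ^ 2) {ω : F}
  (hω : ω ^ 2 + ω + 1 = 0)

section field

omit [Fintype F] in
include hω in
theorem om3 : ω ^ 3 = 1 := by linear_combination (ω - 1) * hω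

include hF hω in
theorem cases4 (x : F) : x = 0 ∨ x = 1 ∨ x = ω ∨ x = ω ^ 2 := by
  by_cases hx : x = 0
  · exact Or.inl hx
  right
  have h3 := pow_three hF hx
  have h4 : (x - 1) * ((x - ω) * (x - ω ^ 2)) = 0 := by
    have o3 := om3 hω
    linear_combination h3 - (x ^ 2 - x) * hω + (x - 1) * o3
  rcases mul_eq_zero.1 h4 with h | h
  · exact Or.inl (sub_eq_zero.1 h)
  · rcases mul_eq_zero.1 h with h | h
    · exact Or.inr (Or.inl (sub_eq_zero.1 h))
    · exact Or.inr (Or.inr (sub_eq_zero.1 h))

omit [Fintype F] in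
include hω in
theorem om_ne0 : ω ≠ 0 := by
  rintro rfl
  norm_num at hω

include hF hω in
theorem om_ne1 : ω ≠ 1 := by
  rintro rfl
  have h2 := two_eq_zero hF
  have : (1 : F) = 0 := by linear_combination hω - h2
  exact one_ne_zero this

include hF hω in
theorem om2_ne1 : ω ^ 2 ≠ 1 := by
  intro h
  have o3 := om3 hω
  apply om_ne1 hF hω
  have : ω * ω ^ 2 = 1 := by rw [← o3]; ring
  rwa [h, mul_one] at this

omit [Fintype F] in
include hω in
theorem om2_ne0 : ω ^ 2 ≠ 0 := pow_ne_zero 2 (om_ne0 hω)

include hF hω in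
theorem om2_ne : ω ^ 2 ≠ ω := by
  intro h
  apply om_ne1 hF hω
  have h1 : ω * ω = ω * 1 := by rw [mul_one, ← pow_two, h]
  exact mul_left_cancel₀ (om_ne0 hω) h1

end field

variable {V : Type*} [AddCommGroup V] (hV : ∀ v : V, v + v = 0) (T : V →+ V)
  (hT : ∀ v, v + T v + T (T v) = 0)

open Classical in
/-- scalar multiplication -/
noncomputable def sm (ω : F) (T : V →+ V) (x : F) (v : V) : V :=
  if x = 0 then 0 else if x = 1 then v else if x = ω then T v else T (T v)

omit [Fintype F] in
theorem sm_zero (v : V) : sm ω T 0 v = 0 := by simp [sm]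

omit [Fintype F] in
theorem sm_one (v : V) : sm ω T 1 v = v := by simp [sm]

include hF hω in
theorem sm_om (v : V) : sm ω T ω v = T v := by
  simp [sm, om_ne0 hω, om_ne1 hF hω]

include hF hω in
theorem sm_om2 (v : V) : sm ω T (ω ^ 2) v = T (T v) := by
  unfold sm
  rw [if_neg (om2_ne0 hω), if_neg (om2_ne1 hF hω), if_neg (om2_ne hF hω)]

include hV in
theorem neg_eqV (v : V) : -v = v := neg_eq_iff_add_eq_zero.2 (hV v)

include hT in
theorem T3 (v : V) : T (T (T v)) = v := by
  have h1 := hT v
  have h2 := hT (T v)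
  have h3 : v = - (T v + T (T v)) := by
    rw [eq_neg_iff_add_eq_zero, ← add_assoc]; exact h1
  have h4 : T (T (T v)) = - (T v + T (T v)) := by
    rw [eq_neg_iff_add_eq_zero, add_comm]; exact h2
  rw [h4, ← h3]

include hV hT in
theorem T12 (v : V) : v + T v = T (T v) := by
  rw [← neg_eqV hV (T (T v)), eq_neg_iff_add_eq_zero]; exact hT v

include hV hT in
theorem T23 (v : V) : T v + T (T v) = v := by
  conv_rhs => rw [← neg_eqV hV v]
  rw [eq_neg_iff_add_eq_zero, add_comm, ← add_assoc]; exact hT v

include hV hT in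
theorem T13 (v : V) : v + T (T v) = T v := by
  have h : v + T (T v) = - T v := by
    rw [eq_neg_iff_add_eq_zero, add_right_comm]; exact hT v
  rw [h, neg_eqV hV]

include hF hω hV hT in
/-- the module structure -/
@[reducible] noncomputable def mod : Module F V where
  smul x v := sm ω T x v
  one_smul v := sm_one T v
  zero_smul v := sm_zero T v
  smul_zero x := by
    show sm ω T x 0 = 0
    rcases cases4 hF hω x with rfl | rfl | rfl | rfl
    · exact sm_zero T _
    · exact sm_one T _
    · rw [sm_om hF hω, map_zero]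
    · rw [sm_om2 hF hω, map_zero, map_zero]
  smul_add x u v := by
    show sm ω T x (u + v) = sm ω T x u + sm ω T x v
    rcases cases4 hF hω x with rfl | rfl | rfl | rfl
    · simp only [sm_zero, add_zero]
    · simp only [sm_one]
    · simp only [sm_om hF hω, map_add]
    · simp only [sm_om2 hF hω, map_add]
  mul_smul x y v := by
    show sm ω T (x * y) v = sm ω T x (sm ω T y v)
    have o3 := om3 hω
    have e1 : ω * ω = ω ^ 2 := (pow_two ω).symm
    have e2 : ω * ω ^ 2 = 1 := by rw [← o3]; ring
    have e3 : ω ^ 2 * ω = 1 := by rw [← o3]; ring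
    have e4 : ω ^ 2 * ω ^ 2 = ω := by
      calc ω ^ 2 * ω ^ 2 = ω ^ 3 * ω := by ring
        _ = ω := by rw [o3, one_mul]
    rcases cases4 hF hω x with rfl | rfl | rfl | rfl
    · simp only [zero_mul, sm_zero]
    · simp only [one_mul, sm_one]
    · rcases cases4 hF hω y with rfl | rfl | rfl | rfl
      · simp only [mul_zero, sm_zero, sm_om hF hω, map_zero]
      · simp only [mul_one, sm_one]
      · rw [e1]; simp only [sm_om hF hω, sm_om2 hF hω]
      · rw [e2]; simp only [sm_om hF hω, sm_om2 hF hω, sm_one, T3 T hT]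
    · rcases cases4 hF hω y with rfl | rfl | rfl | rfl
      · simp only [mul_zero, sm_zero, sm_om2 hF hω, map_zero]
      · simp only [mul_one, sm_one]
      · rw [e3]; simp only [sm_om hF hω, sm_om2 hF hω, sm_one, T3 T hT]
      · rw [e4]; simp only [sm_om hF hω, sm_om2 hF hω, T3 T hT]
  add_smul x y v := by
    show sm ω T (x + y) v = sm ω T x v + sm ω T y v
    have h2 := two_eq_zero hF
    have hh : ∀ z : F, z + z = 0 := add_self hF
    have e1 : 1 + ω = ω ^ 2 := by linear_combination hω - ω ^ 2 * h2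
    have e2 : 1 + ω ^ 2 = ω := by linear_combination hω - ω * h2
    have e3 : ω + ω ^ 2 = 1 := by linear_combination hω - h2
    rcases cases4 hF hω x with h | h | h | h <;> rw [h]
    · rw [zero_add, sm_zero, zero_add]
    · rcases cases4 hF hω y with h | h | h | h <;> rw [h]
      · rw [add_zero, sm_zero, add_zero]
      · rw [hh, sm_zero, sm_one, hV]
      · rw [e1, sm_one, sm_om hF hω, sm_om2 hF hω, T12 hV T hT]
      · rw [e2, sm_one, sm_om hF hω, sm_om2 hF hω, T13 hV T hT]
    · rcases cases4 hF hω y with h | h | h | h <;> rw [h]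
      · rw [add_zero, sm_zero, add_zero]
      · rw [add_comm ω 1, e1, sm_one, sm_om hF hω, sm_om2 hF hω, add_comm, T12 hV T hT]
      · rw [hh, sm_zero, hV]
      · rw [e3, sm_one, sm_om hF hω, sm_om2 hF hω, T23 hV T hT]
    · rcases cases4 hF hω y with h | h | h | h <;> rw [h]
      · rw [add_zero, sm_zero, add_zero]
      · rw [add_comm (ω ^ 2) 1, e2, sm_one, sm_om hF hω, sm_om2 hF hω, add_comm, T13 hV T hT]
      · rw [add_comm (ω ^ 2) ω, e3, sm_one, sm_om hF hω, sm_om2 hF hω, add_comm, T23 hV T hT]
      · rw [hh, sm_zero, hV]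

end Cfsg.Agent.R08.FrameAMod
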