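import Cfsg.Agent.R08.CohRank

/-!
Fusion of the central involution `u` of the double cover `L`: if `u` is conjugate to an element
of `L` other than `u` then it is conjugate to a member of `D` or of `u D` (counting of centralisers).
-/

set_option autoImplicit false

namespace Cfsg.Agent.R08.FusAbs

open Cfsg Cfsg.Agent.R01.Lifts Cfsg.Agent.R01.FiFusion Cfsg.Agent.R01.FiFacts
  Cfsg.Agent.R01.FiHexad Cfsg.Agent.R01.FiMain Cfsg.Agent.R08.CohUniq Cfsg.Agent.R08.CohRank

/-! ### Counting -/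

section count

variable {G : Type*} [Group G]

/-- If the elements of `K` with the same value differ by an element of `H`, then `|K| ≤ |X| |H|`. -/
theorem card_le_of_fibre [Finite G] {X : Type*} [Finite X] (K : Set G) (H : Set G) (f : K → X)
    (hf : ∀ k k' : K, f k = f k' → (k : G)⁻¹ * k' ∈ H) : Nat.card K ≤ Nat.card X * Nat.card H := by
  classical
  rw [← Nat.card_prod]
  let rep : K → K := fun k => Function.surjInv (f := Set.rangeFactorization f)
    Set.rangeFactorization_surjective ⟨f k, k, rfl⟩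
  have hrep : ∀ k, f (rep k) = f k := fun k => congrArg Subtype.val
    (Function.surjInv_eq (f := Set.rangeFactorization f)
      Set.rangeFactorization_surjective ⟨f k, k, rfl⟩)
  have hrep' : ∀ k k', f k = f k' → rep k = rep k' := by
    intro k k' h
    show Function.surjInv _ _ = Function.surjInv _ _
    congr 1
    exact Subtype.ext h
  refine Nat.card_le_card_of_injective
    (fun k => (f k, (⟨(rep k : G)⁻¹ * k, hf _ _ (hrep k)⟩ : H))) ?_
  intro k k' h
  have h1 : f k = f k' := congrArg Prod.fst h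
  have h2 : (rep k : G)⁻¹ * k = (rep k' : G)⁻¹ * k' := congrArg (fun p => (p.2 : G)) h
  rw [hrep' k k' h1] at h2
  exact Subtype.ext (mul_left_cancel h2)

/-- `n` different cosets of `H` in `K`. -/
theorem card_ge_of_cosets [Finite G] {n : ℕ} {Y : Type*} (K : Set G) (H : Set G) (ks : Fin n → G)
    (hK : ∀ i, ∀ h ∈ H, ks i * h ∈ K) (φ : G → Y) (hφ : ∀ i, ∀ h ∈ H, φ (ks i * h) = φ (ks i))
    (hinj : Function.Injective fun i => φ (ks i)) : n * Nat.card H ≤ Nat.card K := by
  have h1 : n * Nat.card H = Nat.card (Fin n × H) := by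
    rw [Nat.card_prod, Nat.card_fin]
  rw [h1]
  refine Nat.card_le_card_of_injective
    (fun p => (⟨ks p.1 * p.2, hK p.1 p.2 p.2.2⟩ : K)) ?_
  rintro ⟨i, h, hh⟩ ⟨j, h', hh'⟩ e
  have e1 : ks i * h = ks j * h' := congrArg Subtype.val e
  have e2 : i = j := by
    apply hinj
    show φ (ks i) = φ (ks j)
    rw [← hφ i h hh, ← hφ j h' hh', e1]
  subst e2
  have e3 : h = h' := mul_left_cancel e1
  subst e3
  rfl

end count

variable {G Φ : Type*} [Group G] [Group Φ] {L : Subgroup G} {π : L →* Φ} {u : L} {T : Set Φ}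
  {D : Set L}

/-- The elements of `L` commuting with `a`, `b`, `c`. -/
def H3 (a b c : L) : Set L := {k | k * a = a * k ∧ k * b = b * k ∧ k * c = c * k}

/-- Rotation of a triple. -/
theorem tri_swap {C : Type*} [Group C] {D : Set C} {x y w : C} (t : Tri D x y w) : Tri D y x w :=
  ⟨t.my, t.mx, t.mw, t.xy.symm, t.yw, t.xw, t.cxy.symm, t.cyw, t.cxw⟩

theorem tri_rot {C : Type*} [Group C] {D : Set C} {x y w : C} (t : Tri D x y w) : Tri D y w x :=
  ⟨t.my, t.mw, t.mx, t.yw, t.xy.symm, t.xw.symm, t.cyw, t.cxy.symm, t.cxw.symm⟩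

section ctx

variable (h : Ctx L π u T D)
include h

/-- Transitivity on the triples. -/
theorem exists_tri {x y w x' y' w' : L} (t : Tri D x y w) (t' : Tri D x' y' w') :
    ∃ k : L, k * x * k⁻¹ = x' ∧ k * y * k⁻¹ = y' ∧ k * w * k⁻¹ = w' := by
  obtain ⟨g, g1, g2, g3⟩ := h.facts.tri _ _ _ _ _ _ (tri_map h.lift t) (tri_map h.lift t')
  obtain ⟨k, rfl⟩ := h.lift.ext.surj g
  exact ⟨k, conj_eq h.lift t.mx t'.mx g1, conj_eq h.lift t.my t'.my g2,
    conj_eq h.lift t.mw t'.mw g3⟩

omit [Group Φ] h in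
theorem comm_of_conj {k x x' y : L} (hk : k * x * k⁻¹ = x') (hy : y * x = x * y) :
    (k * y * k⁻¹) * x' = x' * (k * y * k⁻¹) := by
  rw [← hk]
  calc k * y * k⁻¹ * (k * x * k⁻¹) = k * (y * x) * k⁻¹ := by group
    _ = k * (x * y) * k⁻¹ := by rw [hy]
    _ = k * x * k⁻¹ * (k * y * k⁻¹) := by group

theorem card_H3_le [Finite G] {x y w x' y' w' : L} (t : Tri D x y w) (t' : Tri D x' y' w') :
    Nat.card (H3 x y w) ≤ Nat.card (H3 x' y' w') := by
  obtain ⟨k, k1, k2, k3⟩ := exists_tri h t t'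
  refine Nat.card_le_card_of_injective
    (fun y : H3 x y w => (⟨k * y * k⁻¹, comm_of_conj k1 y.2.1, comm_of_conj k2 y.2.2.1,
      comm_of_conj k3 y.2.2.2⟩ : H3 x' y' w')) ?_
  intro a b e
  have e1 : k * (a : L) * k⁻¹ = k * b * k⁻¹ := congrArg Subtype.val e
  exact Subtype.ext (mul_left_cancel (mul_right_cancel e1))

omit [Group Φ] h in
theorem card_H3_pos [Finite G] (x y w : L) : 0 < Nat.card (H3 x y w) := by
  have : Nonempty (H3 x y w) := ⟨⟨1, by simp, by simp, by simp⟩⟩
  exact Nat.card_pos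

/-- The elements of `L` commuting with `x` and `a b`. -/
theorem upper [Finite G] {x a b : L} (t : Tri D x a b) (K : Set L)
    (hK : ∀ k ∈ K, k * x = x * k ∧ k * (a * b) = a * b * k) :
    Nat.card K ≤ 2 * Nat.card (H3 x a b) := by
  classical
  have h2 : (2 : ℕ) = Nat.card Prop := by simp
  rw [h2]
  have key : ∀ k ∈ K, k * a * k⁻¹ = a ∨ k * a * k⁻¹ = b := by
    intro k hk
    have e : (k * a * k⁻¹) * (k * b * k⁻¹) = a * b := by
      calc (k * a * k⁻¹) * (k * b * k⁻¹) = k * (a * b) * k⁻¹ := by group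
        _ = a * b := by rw [(hK k hk).2, mul_inv_cancel_right]
    have e' : (k * b * k⁻¹) * (k * a * k⁻¹) = a * b := by
      calc (k * b * k⁻¹) * (k * a * k⁻¹) = k * (b * a) * k⁻¹ := by group
        _ = k * (a * b) * k⁻¹ := by rw [t.cyw]
        _ = a * b := by rw [(hK k hk).2, mul_inv_cancel_right]
    exact uniq_two h.lift h.facts t.my t.mw (h.lift.conj k _ t.my) (h.lift.conj k _ t.mw) t.yw t.cyw
      (by rw [e, e']) e
  refine card_le_of_fibre K (H3 x a b) (fun k => (k : L) * a * (k : L)⁻¹ = a) ?_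
  intro k k' e
  have e0 : (k : L) * a * (k : L)⁻¹ = k' * a * (k' : L)⁻¹ := by
    by_cases hk : (k : L) * a * (k : L)⁻¹ = a
    · have hk' : (k' : L) * a * (k' : L)⁻¹ = a := by
        have : ((k : L) * a * (k : L)⁻¹ = a) = ((k' : L) * a * (k' : L)⁻¹ = a) := e
        rw [← this]; exact hk
      rw [hk, hk']
    · have hk' : ¬ (k' : L) * a * (k' : L)⁻¹ = a := by
        have : ((k : L) * a * (k : L)⁻¹ = a) = ((k' : L) * a * (k' : L)⁻¹ = a) := e
        rw [← this]; exact hk
      rw [(key k k.2).resolve_left hk, (key k' k'.2).resolve_left hk']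
  have ca : ((k : L)⁻¹ * k') * a = a * ((k : L)⁻¹ * k') := by
    calc ((k : L)⁻¹ * k') * a = (k : L)⁻¹ * (k' * a * (k' : L)⁻¹) * k' := by group
      _ = (k : L)⁻¹ * (k * a * (k : L)⁻¹) * k' := by rw [e0]
      _ = a * ((k : L)⁻¹ * k') := by group
  have cx : ∀ {y : L}, k * y = y * k → k' * y = y * k' →
      ((k : L)⁻¹ * k') * y = y * ((k : L)⁻¹ * k') := by
    intro y h1 h2
    have h3 : (k : L)⁻¹ * y = y * (k : L)⁻¹ := by
      calc (k : L)⁻¹ * y = (k : L)⁻¹ * (y * k) * (k : L)⁻¹ := by group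
        _ = (k : L)⁻¹ * (k * y) * (k : L)⁻¹ := by rw [h1]
        _ = y * (k : L)⁻¹ := by group
    calc ((k : L)⁻¹ * k') * y = (k : L)⁻¹ * (k' * y) := by group
      _ = (k : L)⁻¹ * (y * k') := by rw [h2]
      _ = ((k : L)⁻¹ * y) * k' := by group
      _ = y * ((k : L)⁻¹ * k') := by rw [h3]; group
  refine ⟨cx (hK k k.2).1 (hK k' k'.2).1, ca, ?_⟩
  have cab := cx (hK k k.2).2 (hK k' k'.2).2
  apply mul_left_cancel (a := a)
  calc a * (((k : L)⁻¹ * k') * b) = (a * ((k : L)⁻¹ * k')) * b := by group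
    _ = ((k : L)⁻¹ * k') * (a * b) := by rw [← ca]; group
    _ = a * b * ((k : L)⁻¹ * k') := cab
    _ = a * (b * ((k : L)⁻¹ * k')) := by group

/-- Other members commuting with `a` and `b`. -/
theorem exists_three {a b c : L} (t : Tri D a b c) : ∃ c' c'' : L, Tri D a b c' ∧ Tri D a b c'' ∧
    c ≠ c' ∧ c ≠ c'' ∧ c' ≠ c'' := by
  obtain ⟨a', b', c', H⟩ := h.facts.hex _ _ _ (tri_map h.lift t)
  obtain ⟨x, hx, rfl⟩ := h.lift.surj _ H.t'.mx
  obtain ⟨y, hy, rfl⟩ := h.lift.surj _ H.t'.my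
  obtain ⟨w, hw, rfl⟩ := h.lift.surj _ H.t'.mw
  have cm := fun {x y : L} (hx : x ∈ D) (hy : y ∈ D) (e : π x * π y = π y * π x) =>
    h.lift.comm x hx y hy e
  have ne : ∀ {x y : L}, π x ≠ π y → x ≠ y := fun h1 h2 => h1 (by rw [h2])
  exact ⟨x, y, ⟨t.mx, t.my, hx, t.xy, ne H.aa, ne H.ba, t.cxy, cm t.mx hx H.caa, cm t.my hx H.cba⟩,
    ⟨t.mx, t.my, hy, t.xy, ne H.ab, ne H.bb, t.cxy, cm t.mx hy H.cab, cm t.my hy H.cbb⟩,
    ne H.ca, ne H.cb, ne H.t'.xy⟩

/-- The hexad through three members. -/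
theorem exists_hex {a b c : L} (t : Tri D a b c) : ∃ a' b' c' : L, Tri D a b a' ∧ Tri D a' b' c' ∧
    c ≠ a' ∧ c * a' = a' * c ∧ a * b * c = u * (a' * b' * c') := by
  obtain ⟨a', b', c', H⟩ := h.facts.hex _ _ _ (tri_map h.lift t)
  obtain ⟨x, hx, rfl⟩ := h.lift.surj _ H.t'.mx
  obtain ⟨y, hy, rfl⟩ := h.lift.surj _ H.t'.my
  obtain ⟨w, hw, rfl⟩ := h.lift.surj _ H.t'.mw
  have cm := fun {x y : L} (hx : x ∈ D) (hy : y ∈ D) (e : π x * π y = π y * π x) =>
    h.lift.comm x hx y hy e
  have ne : ∀ {x y : L}, π x ≠ π y → x ≠ y := fun h1 h2 => h1 (by rw [h2])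
  have t' : Tri D x y w := tri_lift h.lift hx hy hw H.t'
  refine ⟨x, y, w, ⟨t.mx, t.my, hx, t.xy, ne H.aa, ne H.ba, t.cxy, cm t.mx hx H.caa,
    cm t.my hx H.cba⟩, t', ne H.ca, cm t.mw hx H.cca, ?_⟩
  have h1 := h.sign a t.mx b t.my c t.mw x hx y hy w hw H
  have h2 := prod3_sq (h.lift.sq _ hx) (h.lift.sq _ hy) (h.lift.sq _ hw) t'.cxy t'.cxw t'.cyw
  calc a * b * c = a * b * c * (x * y * w * (x * y * w)) := by rw [h2, mul_one]
    _ = (a * b * c * (x * y * w)) * (x * y * w) := by group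
    _ = u * (x * y * w) := by rw [h1]

/-- At least three cosets of `H3 a b c` in the centraliser of `a b`. -/
theorem lower2 [Finite G] {a b c : L} (t : Tri D a b c) (K : Set L)
    (hK : ∀ k : L, k * (a * b) = a * b * k → k ∈ K) : 3 * Nat.card (H3 a b c) ≤ Nat.card K := by
  obtain ⟨c', c'', t', t'', n1, n2, n3⟩ := exists_three h t
  obtain ⟨k', k1, k2, k3⟩ := exists_tri h t t'
  obtain ⟨k'', l1, l2, l3⟩ := exists_tri h t t''
  have cab : ∀ {k : L}, k * a * k⁻¹ = a → k * b * k⁻¹ = b → k * (a * b) = a * b * k := by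
    intro k h1 h2
    calc k * (a * b) = (k * a * k⁻¹) * (k * b * k⁻¹) * k := by group
      _ = a * b * k := by rw [h1, h2]
  have hc : ∀ {k y : L}, k * y = y * k → k * y * k⁻¹ = y := fun h1 => by
    rw [h1, mul_inv_cancel_right]
  refine card_ge_of_cosets K (H3 a b c) ![1, k', k''] ?_ (fun k => k * c * k⁻¹) ?_ ?_
  · intro i y hy
    apply hK
    have y1 := cab (hc hy.1) (hc hy.2.1)
    have : (![1, k', k''] i) * (a * b) = a * b * (![1, k', k''] i) := by
      fin_cases i
      · show (1 : L) * (a * b) = a * b * 1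
        rw [one_mul, mul_one]
      · exact cab k1 k2
      · exact cab l1 l2
    calc (![1, k', k''] i) * y * (a * b) = (![1, k', k''] i) * (y * (a * b)) := by group
      _ = (![1, k', k''] i) * (a * b) * y := by rw [y1]; group
      _ = a * b * ((![1, k', k''] i) * y) := by rw [this]; group
  · intro i y hy
    show (![1, k', k''] i) * y * c * ((![1, k', k''] i) * y)⁻¹ =
      (![1, k', k''] i) * c * (![1, k', k''] i)⁻¹
    calc (![1, k', k''] i) * y * c * ((![1, k', k''] i) * y)⁻¹ =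
        (![1, k', k''] i) * (y * c * y⁻¹) * (![1, k', k''] i)⁻¹ := by group
      _ = _ := by rw [hc hy.2.2]
  · have e0 : (1 : L) * c * (1 : L)⁻¹ = c := by group
    intro i j e
    fin_cases i <;> fin_cases j <;>
      simp only [Fin.zero_eta, Fin.mk_one, Fin.reduceFinMk, Matrix.cons_val_zero,
        Matrix.cons_val_one, Matrix.cons_val, e0, k3, l3] at e ⊢
    · exact absurd e n1
    · exact absurd e n2
    · exact absurd e.symm n1
    · exact absurd e n3
    · exact absurd e.symm n2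
    · exact absurd e.symm n3

/-- At least three cosets of `H3 a b c` in the centraliser of `a b c`. -/
theorem lower3 [Finite G] {a b c : L} (t : Tri D a b c) (K : Set L)
    (hK : ∀ k : L, k * (a * b * c) = a * b * c * k → k ∈ K) :
    3 * Nat.card (H3 a b c) ≤ Nat.card K := by
  obtain ⟨k', k1, k2, k3⟩ := exists_tri h t (tri_rot t)
  obtain ⟨k'', l1, l2, l3⟩ := exists_tri h t (tri_rot (tri_rot t))
  have e1 : b * c * a = a * b * c := by
    calc b * c * a = b * (c * a) := by group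
      _ = b * (a * c) := by rw [t.cxw]
      _ = (b * a) * c := by group
      _ = a * b * c := by rw [t.cxy]
  have e2 : c * a * b = a * b * c := by
    calc c * a * b = (c * a) * b := by group
      _ = a * (c * b) := by rw [← t.cxw]; group
      _ = a * b * c := by rw [← t.cyw]; group
  have hc : ∀ {k y : L}, k * y = y * k → k * y * k⁻¹ = y := fun h1 => by
    rw [h1, mul_inv_cancel_right]
  have cab : ∀ {k : L}, (k * a * k⁻¹) * (k * b * k⁻¹) * (k * c * k⁻¹) = a * b * c →
      k * (a * b * c) = a * b * c * k := by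
    intro k h1
    calc k * (a * b * c) = (k * a * k⁻¹) * (k * b * k⁻¹) * (k * c * k⁻¹) * k := by group
      _ = a * b * c * k := by rw [h1]
  refine card_ge_of_cosets K (H3 a b c) ![1, k', k''] ?_ (fun k => k * a * k⁻¹) ?_ ?_
  · intro i y hy
    apply hK
    have y1 : y * (a * b * c) = a * b * c * y := cab (by rw [hc hy.1, hc hy.2.1, hc hy.2.2])
    have : (![1, k', k''] i) * (a * b * c) = a * b * c * (![1, k', k''] i) := by
      fin_cases i
      · show (1 : L) * (a * b * c) = a * b * c * 1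
        rw [one_mul, mul_one]
      · exact cab (by
          show (k' * a * k'⁻¹) * (k' * b * k'⁻¹) * (k' * c * k'⁻¹) = a * b * c
          rw [k1, k2, k3, e1])
      · exact cab (by
          show (k'' * a * k''⁻¹) * (k'' * b * k''⁻¹) * (k'' * c * k''⁻¹) = a * b * c
          rw [l1, l2, l3, e2])
    calc (![1, k', k''] i) * y * (a * b * c) = (![1, k', k''] i) * (y * (a * b * c)) := by group
      _ = (![1, k', k''] i) * (a * b * c) * y := by rw [y1]; group
      _ = a * b * c * ((![1, k', k''] i) * y) := by rw [this]; group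
  · intro i y hy
    show (![1, k', k''] i) * y * a * ((![1, k', k''] i) * y)⁻¹ =
      (![1, k', k''] i) * a * (![1, k', k''] i)⁻¹
    calc (![1, k', k''] i) * y * a * ((![1, k', k''] i) * y)⁻¹ =
        (![1, k', k''] i) * (y * a * y⁻¹) * (![1, k', k''] i)⁻¹ := by group
      _ = _ := by rw [hc hy.1]
  · have e0 : (1 : L) * a * (1 : L)⁻¹ = a := by group
    intro i j e
    fin_cases i <;> fin_cases j <;>
      simp only [Fin.zero_eta, Fin.mk_one, Fin.reduceFinMk, Matrix.cons_val_zero,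
        Matrix.cons_val_one, Matrix.cons_val, e0, k1, l1] at e ⊢
    · exact absurd e t.xy
    · exact absurd e t.xw
    · exact absurd e.symm t.xy
    · exact absurd e t.yw
    · exact absurd e.symm t.xw
    · exact absurd e.symm t.yw

end ctx

end Cfsg.Agent.R08.FusAbs
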