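import Cfsg.Agent.R08.KPerf

/-!
Relations between commuting transpositions of `Fi22` (used for the fusion of the central involution of
a perfect double cover).
-/

set_option autoImplicit false

namespace Cfsg.Agent.R08.FusFacts

open Cfsg Cfsg.Agent.LieClassical.HermBasic Cfsg.Agent.SporadicStructure.UnitTwo
open Cfsg.Agent.Fischer Cfsg.Agent.R01 Cfsg.Agent.R01.Lifts Cfsg.Agent.R01.FiFusion
  Cfsg.Agent.R01.FiFacts Cfsg.Agent.R01.FiHexad Cfsg.Agent.R01.FiMain Cfsg.Agent.R01.InvForm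
  Cfsg.Agent.R01.Label
open Cfsg.Agent.R01.Start (zel)
open Cfsg.Agent.R01.Loc (Loc)
open Cfsg.Agent.R01.AllOfLab (HasBaer Fr3.comb)
open Cfsg.Agent.R08.AutT (T tFacts hfix aut_mem)

universe u v

variable {P : Type u} [Group P] {F : Type v} [Field F]

/-- The members of `T` in a totally isotropic plane at `t`. -/
structure Plane (T : Set P) (t : P) (ω : F) (pt : F → F → F → P) : Prop where
  mt : t ∈ T
  om : ω ^ 2 + ω + 1 = 0
  mem : ∀ a b c, (a ≠ 0 ∨ b ≠ 0 ∨ c ≠ 0) → pt a b c ∈ T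
  ne : ∀ a b c, (a ≠ 0 ∨ b ≠ 0 ∨ c ≠ 0) → pt a b c ≠ t
  comt : ∀ a b c, (a ≠ 0 ∨ b ≠ 0 ∨ c ≠ 0) → pt a b c * t = t * pt a b c
  com : ∀ a b c a' b' c', (a ≠ 0 ∨ b ≠ 0 ∨ c ≠ 0) → (a' ≠ 0 ∨ b' ≠ 0 ∨ c' ≠ 0) →
    pt a b c * pt a' b' c' = pt a' b' c' * pt a b c
  inj : ∀ a b c a' b' c', (a ≠ 0 ∨ b ≠ 0 ∨ c ≠ 0) → (a' ≠ 0 ∨ b' ≠ 0 ∨ c' ≠ 0) →
    (∀ k : F, a' = k * a → b' = k * b → c' = k * c → False) → pt a b c ≠ pt a' b' c'
  line : pt 1 0 0 * pt 0 1 0 * pt 1 1 0 * pt ω 1 0 * pt (ω ^ 2) 1 0 = t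
  baer : pt 1 0 0 * pt 0 1 0 * pt 0 0 1 * pt 1 1 0 * pt 1 0 1 * pt 0 1 1 * pt 1 1 1 = 1
  /-- the elements of `C(t)` move independent points to independent points -/
  move : ∀ a b c, a ≠ 0 → ∃ g : P, g * t * g⁻¹ = t ∧ g * pt 0 1 0 * g⁻¹ = pt 0 1 0 ∧
    g * pt 0 0 1 * g⁻¹ = pt 0 0 1 ∧ g * pt 1 0 0 * g⁻¹ = pt a b c

theorem exists_plane [Finite P] [Fintype F] {hF : Fintype.card F = 2 ^ 2} {T : Set P}
    (hL : Loc hF T) {t : P} (ht : t ∈ T) :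
    ∃ (ω : F) (pt : F → F → F → P), Plane T t ω pt := by
  obtain ⟨π, lift, L, hiff⟩ := hL t ht
  obtain ⟨u, v, w, h, hB⟩ := Assembly2.hasBaer L
  obtain ⟨ω, hω⟩ := exists_omega hF
  set V : F → F → F → (Fin 6 → F) := fun a b c => a • u + b • v + c • w with hV
  have hherm : ∀ a b c a' b' c', hermForm 6 F 2 (V a b c) (V a' b' c') = 0 := fun a b c a' b' c' =>
    Fr3.comb hF h a b c a' b' c'
  have hV0 : ∀ a b c, (a ≠ 0 ∨ b ≠ 0 ∨ c ≠ 0) → V a b c ≠ 0 := by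
    intro a b c h0 h1
    obtain ⟨h2, h3, h4⟩ := h.ind a b c h1
    rcases h0 with h0 | h0 | h0
    · exact h0 h2
    · exact h0 h3
    · exact h0 h4
  have hD : ∀ a b c, (a ≠ 0 ∨ b ≠ 0 ∨ c ≠ 0) → lift (V a b c) ∈ Dset lift := fun a b c hh =>
    Lab.mem_D (hV0 a b c hh) (hherm a b c a b c)
  have hsub : ∀ {x y : Subgroup.centralizer ({t} : Set P)}, x ≠ y → (x : P) ≠ (y : P) :=
    fun h h' => h (Subtype.ext h')
  have nez : ∀ w ∈ Dset lift, (w : P) ≠ t := by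
    intro w hw h
    have : w = zel t := Subtype.ext h
    rw [this] at hw
    exact L.z_notMem hw
  have e1 : u = V 1 0 0 := by rw [hV]; module
  have e2 : v = V 0 1 0 := by rw [hV]; module
  have e3 : w = V 0 0 1 := by rw [hV]; module
  have hline := L.line u v h.u_ne h.v_ne h.uu h.vv h.uv (by
    rintro ⟨c, hc⟩
    have := (h.ind (-c) 1 0 (by rw [hc]; module)).2.1
    exact one_ne_zero this) ω hω
  refine ⟨ω, fun a b c => (lift (V a b c) : P), ?_⟩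
  refine
    { mt := ht
      om := hω
      mem := fun a b c hh => (hiff _).2 (Or.inr (hD a b c hh))
      ne := fun a b c hh => nez _ (hD a b c hh)
      comt := fun a b c _ => (AllOfLab.zel_comm _).symm
      com := ?_, inj := ?_, line := ?_, baer := ?_, move := ?_ }
  · intro a b c a' b' c' hh hh'
    exact AllOfLab.comm_coe.mp ((L.commute_iff (hherm _ _ _ _ _ _) (hherm _ _ _ _ _ _)
      (hV0 _ _ _ hh) (hV0 _ _ _ hh')).2 (hherm _ _ _ _ _ _))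
  · intro a b c a' b' c' n1 n2 h5 h6
    obtain ⟨k, -, hk⟩ := (L.lift_eq_iff (hherm _ _ _ _ _ _) (hherm _ _ _ _ _ _)
      (hV0 _ _ _ n1) (hV0 _ _ _ n2)).1 (Subtype.ext h6)
    have h7 : (a' - k * a) • u + (b' - k * b) • v + (c' - k * c) • w = 0 := by
      have : (a' - k * a) • u + (b' - k * b) • v + (c' - k * c) • w =
          V a' b' c' - k • V a b c := by
        rw [hV]; module
      rw [this, hk, sub_self]
    obtain ⟨h8, h9, h10⟩ := h.ind _ _ _ h7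
    exact h5 k (sub_eq_zero.1 h8) (sub_eq_zero.1 h9) (sub_eq_zero.1 h10)
  · have e4 : u + v = V 1 1 0 := by rw [hV]; module
    have e5 : ω • u + v = V ω 1 0 := by rw [hV]; module
    have e6 : ω ^ 2 • u + v = V (ω ^ 2) 1 0 := by rw [hV]; module
    rw [e4, e5, e6] at hline
    have h1 := congrArg Subtype.val hline
    rw [← e1, ← e2]
    exact h1
  · have e4 : u + v = V 1 1 0 := by rw [hV]; module
    have e5 : u + w = V 1 0 1 := by rw [hV]; module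
    have e6 : v + w = V 0 1 1 := by rw [hV]; module
    have e7 : u + v + w = V 1 1 1 := by rw [hV]; module
    rw [e4, e5, e6, show V 1 1 0 + w = V 1 1 1 by rw [hV]; module] at hB
    have h1 := congrArg Subtype.val hB
    rw [← e1, ← e2, ← e3]
    exact h1
  · intro a b c ha
    have hfr : Fr3 v w (V a b c) := by
      have k1 := hherm 0 1 0 a b c
      have k2 := hherm 0 0 1 a b c
      rw [← e2] at k1
      rw [← e3] at k2
      refine ⟨h.vv, h.ww, hherm _ _ _ _ _ _, h.vw, k1, k2, ?_⟩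
      intro a' b' c' h1
      obtain ⟨h2, h3, h4⟩ := h.ind (c' * a) (a' + c' * b) (b' + c' * c) (by
        rw [← h1, hV]; module)
      have h5 : c' = 0 := (mul_eq_zero.1 h2).resolve_right ha
      rw [h5] at h3 h4
      refine ⟨?_, ?_, h5⟩
      · simpa using h3
      · simpa using h4
    obtain ⟨g, g1, g2, g3⟩ := InvForm.trans_frames L (h.rot hF) hfr
    refine ⟨(g : P), ?_, ?_, ?_, ?_⟩
    · rw [Subgroup.mem_centralizer_singleton_iff.1 g.2, mul_inv_cancel_right]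
    · show (g : P) * (lift (V 0 1 0) : P) * (g : P)⁻¹ = (lift (V 0 1 0) : P)
      rw [← e2]; exact congrArg Subtype.val g1
    · show (g : P) * (lift (V 0 0 1) : P) * (g : P)⁻¹ = (lift (V 0 0 1) : P)
      rw [← e3]; exact congrArg Subtype.val g2
    · show (g : P) * (lift (V 1 0 0) : P) * (g : P)⁻¹ = (lift (V a b c) : P)
      rw [← e1]; exact congrArg Subtype.val g3

/-- `x` is a member of `T` commuting with `a` and `b` and different from them. -/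
structure Nb (T : Set P) (a b x : P) : Prop where
  mem : x ∈ T
  na : x ≠ a
  nb : x ≠ b
  ca : x * a = a * x
  cb : x * b = b * x

theorem Nb.conj {T : Set P} (hT : ∀ g : P, ∀ x ∈ T, g * x * g⁻¹ ∈ T) {a b x : P} (h : Nb T a b x)
    (g : P) : Nb T (g * a * g⁻¹) (g * b * g⁻¹) (g * x * g⁻¹) where
  mem := hT g x h.mem
  na := fun h' => h.na (mul_left_cancel (mul_right_cancel h'))
  nb := fun h' => h.nb (mul_left_cancel (mul_right_cancel h'))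
  ca := by
    calc g * x * g⁻¹ * (g * a * g⁻¹) = g * (x * a) * g⁻¹ := by group
      _ = g * (a * x) * g⁻¹ := by rw [h.ca]
      _ = g * a * g⁻¹ * (g * x * g⁻¹) := by group
  cb := by
    calc g * x * g⁻¹ * (g * b * g⁻¹) = g * (x * b) * g⁻¹ := by group
      _ = g * (b * x) * g⁻¹ := by rw [h.cb]
      _ = g * b * g⁻¹ * (g * x * g⁻¹) := by group

section fi

variable {a b : Spor.Fi22}

theorem omega_facts {F : Type*} [Field F] {ω : F} (h21 : (2 : F) = 0) (hω : ω ^ 2 + ω + 1 = 0) :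
    ω ≠ 0 ∧ ω ≠ 1 ∧ ω ^ 2 ≠ 1 ∧ ω ≠ ω ^ 2 := by
  have hω0 : ω ≠ 0 := by
    rintro rfl
    simp at hω
  have hω1 : ω ≠ 1 := by
    rintro rfl
    have : (1 : F) = 0 := by linear_combination hω - h21
    exact one_ne_zero this
  have w2 : ω ^ 2 ≠ 1 := by
    intro h
    rw [h] at hω
    exact hω0 (by linear_combination hω - h21)
  have w3 : ω ≠ ω ^ 2 := by
    intro h
    rw [← h] at hω
    have : (1 : F) = 0 := by linear_combination hω - ω * h21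
    exact one_ne_zero this
  exact ⟨hω0, hω1, w2, w3⟩

/-- There is a plane at some transposition. -/
theorem exists_plane_fi : ∃ (t : Spor.Fi22) (ω : SporRec.GF4.F4)
    (pt : SporRec.GF4.F4 → SporRec.GF4.F4 → SporRec.GF4.F4 → Spor.Fi22), Plane T t ω pt := by
  obtain ⟨-, ⟨t, ht, -⟩, -⟩ := Fi22Facts.isThreeTranspositionClass_T
  obtain ⟨ω, pt, h⟩ := exists_plane Fi22Facts.loc ht
  exact ⟨t, ω, pt, h⟩

theorem two_zero : (2 : SporRec.GF4.F4) = 0 := two_eq_zero Unit22.hF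

/-- Transport of a relation along the transitivity on the commuting pairs. -/
theorem transport {n : ℕ} {w : Spor.Fi22 → Spor.Fi22 → Spor.Fi22} {a' b' : Spor.Fi22}
    (hw : ∀ g : Spor.Fi22, g * w a' b' * g⁻¹ = w (g * a' * g⁻¹) (g * b' * g⁻¹))
    (ha' : a' ∈ T) (hb' : b' ∈ T) (hne' : a' ≠ b') (hc' : a' * b' = b' * a')
    (h : ∃ l : List Spor.Fi22, l.length = n ∧ (∀ x ∈ l, Nb T a' b' x) ∧ l.Pairwise Commute ∧
      l.Nodup ∧ l.prod = w a' b')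
    (ha : a ∈ T) (hb : b ∈ T) (hne : a ≠ b) (hc : a * b = b * a) :
    ∃ l : List Spor.Fi22, l.length = n ∧ (∀ x ∈ l, Nb T a b x) ∧ l.Pairwise Commute ∧ l.Nodup ∧
      l.prod = w a b := by
  obtain ⟨g, rfl, rfl⟩ := Fi22Facts.trans_commuting a' ha' b' hb' a ha b hb hne' hne hc' hc
  obtain ⟨l, h1, h2, h3, h5, h4⟩ := h
  refine ⟨l.map (fun x => g * x * g⁻¹), by rw [List.length_map, h1], ?_, ?_, ?_, ?_⟩
  · intro x hx
    obtain ⟨y, hy, rfl⟩ := List.mem_map.1 hx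
    exact (h2 y hy).conj tFacts.conj g
  · rw [List.pairwise_map]
    exact h3.imp fun {x y} hxy => (Commute.conj_iff g).2 hxy
  · exact h5.map fun x y hxy => mul_left_cancel (mul_right_cancel hxy)
  · have : (l.map (fun x => g * x * g⁻¹)).prod = g * l.prod * g⁻¹ := by
      have := map_list_prod (MulAut.conj g).toMonoidHom l
      exact this.symm
    rw [this, h4, hw]

/-- Seven members around a commuting pair with product one. -/
theorem seven (ha : a ∈ T) (hb : b ∈ T) (hne : a ≠ b) (hc : a * b = b * a) :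
    ∃ l : List Spor.Fi22, l.length = 7 ∧ (∀ x ∈ l, Nb T a b x) ∧ l.Pairwise Commute ∧ l.Nodup ∧
      l.prod = 1 := by
  obtain ⟨t, ω, pt, h⟩ := exists_plane_fi
  obtain ⟨n0, n1, n2, n3⟩ := omega_facts two_zero h.om
  have z1 : (1 : SporRec.GF4.F4) ≠ 0 := one_ne_zero
  have ob : ω ≠ 0 ∨ (1 : SporRec.GF4.F4) ≠ 0 ∨ (0 : SporRec.GF4.F4) ≠ 0 := Or.inl n0
  refine transport (w := fun _ _ => 1) (fun g => by group) h.mt (h.mem ω 1 0 ob)
    (h.ne ω 1 0 ob).symm (h.comt ω 1 0 ob).symm ?_ ha hb hne hc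
  have o : ∀ a b c : SporRec.GF4.F4, (a ≠ 0 ∨ b ≠ 0 ∨ c ≠ 0) →
      (∀ k : SporRec.GF4.F4, ω = k * a → 1 = k * b → 0 = k * c → False) →
      Nb T t (pt ω 1 0) (pt a b c) := fun a b c h1 h2 =>
    ⟨h.mem _ _ _ h1, h.ne _ _ _ h1, h.inj _ _ _ _ _ _ h1 ob h2, h.comt _ _ _ h1,
      h.com _ _ _ _ _ _ h1 ob⟩
  have o1 : (1 : SporRec.GF4.F4) ≠ 0 ∨ (0 : SporRec.GF4.F4) ≠ 0 ∨ (0 : SporRec.GF4.F4) ≠ 0 :=
    Or.inl z1
  have o2 : (0 : SporRec.GF4.F4) ≠ 0 ∨ (1 : SporRec.GF4.F4) ≠ 0 ∨ (0 : SporRec.GF4.F4) ≠ 0 :=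
    Or.inr (Or.inl z1)
  have o3 : (0 : SporRec.GF4.F4) ≠ 0 ∨ (0 : SporRec.GF4.F4) ≠ 0 ∨ (1 : SporRec.GF4.F4) ≠ 0 :=
    Or.inr (Or.inr z1)
  have o4 : (1 : SporRec.GF4.F4) ≠ 0 ∨ (1 : SporRec.GF4.F4) ≠ 0 ∨ (0 : SporRec.GF4.F4) ≠ 0 :=
    Or.inl z1
  have o5 : (1 : SporRec.GF4.F4) ≠ 0 ∨ (0 : SporRec.GF4.F4) ≠ 0 ∨ (1 : SporRec.GF4.F4) ≠ 0 :=
    Or.inl z1
  have o6 : (0 : SporRec.GF4.F4) ≠ 0 ∨ (1 : SporRec.GF4.F4) ≠ 0 ∨ (1 : SporRec.GF4.F4) ≠ 0 :=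
    Or.inr (Or.inl z1)
  have o7 : (1 : SporRec.GF4.F4) ≠ 0 ∨ (1 : SporRec.GF4.F4) ≠ 0 ∨ (1 : SporRec.GF4.F4) ≠ 0 :=
    Or.inl z1
  refine ⟨[pt 1 0 0, pt 0 1 0, pt 0 0 1, pt 1 1 0, pt 1 0 1, pt 0 1 1, pt 1 1 1], rfl, ?_, ?_,
    ?_, ?_⟩
  · intro x hx
    simp only [List.mem_cons, List.not_mem_nil, or_false] at hx
    rcases hx with rfl | rfl | rfl | rfl | rfl | rfl | rfl
    · exact o _ _ _ o1 (fun k _ h2 _ => by simp at h2)
    · exact o _ _ _ o2 (fun k h1 h2 _ => n0 (by simpa using h1))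
    · exact o _ _ _ o3 (fun k h1 h2 _ => n0 (by simpa using h1))
    · exact o _ _ _ o4 (fun k h1 h2 _ => n1 (by rw [h1, mul_one]; simpa using h2.symm))
    · exact o _ _ _ o5 (fun k _ h2 _ => by simp at h2)
    · exact o _ _ _ o6 (fun k h1 h2 _ => n0 (by simpa using h1))
    · exact o _ _ _ o7 (fun k h1 h2 h3 => n0 (by rw [h1, mul_one]; simpa using h3.symm))
  · have c := fun a b c a' b' c' h1 h2 => (show Commute (pt a b c) (pt a' b' c') from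
      h.com a b c a' b' c' h1 h2)
    simp only [List.pairwise_cons, List.mem_cons, List.not_mem_nil, or_false, forall_eq_or_imp,
      forall_eq, List.Pairwise.nil, and_true, IsEmpty.forall_iff, implies_true]
    exact ⟨⟨c _ _ _ _ _ _ o1 o2, c _ _ _ _ _ _ o1 o3, c _ _ _ _ _ _ o1 o4, c _ _ _ _ _ _ o1 o5,
      c _ _ _ _ _ _ o1 o6, c _ _ _ _ _ _ o1 o7⟩, ⟨c _ _ _ _ _ _ o2 o3, c _ _ _ _ _ _ o2 o4,
      c _ _ _ _ _ _ o2 o5, c _ _ _ _ _ _ o2 o6, c _ _ _ _ _ _ o2 o7⟩, ⟨c _ _ _ _ _ _ o3 o4,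
      c _ _ _ _ _ _ o3 o5, c _ _ _ _ _ _ o3 o6, c _ _ _ _ _ _ o3 o7⟩, ⟨c _ _ _ _ _ _ o4 o5,
      c _ _ _ _ _ _ o4 o6, c _ _ _ _ _ _ o4 o7⟩, ⟨c _ _ _ _ _ _ o5 o6, c _ _ _ _ _ _ o5 o7⟩,
      c _ _ _ _ _ _ o6 o7⟩
  · have i := fun a b c a' b' c' h1 h2 h3 => h.inj a b c a' b' c' h1 h2 h3
    simp only [List.nodup_cons, List.mem_cons, List.not_mem_nil, or_false, not_or, List.nodup_nil,
      and_true, not_false_eq_true]
    exact ⟨⟨i _ _ _ _ _ _ o1 o2 (fun k h1 h2 h3 => by simp at h2),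
      i _ _ _ _ _ _ o1 o3 (fun k h1 h2 h3 => by simp at h3),
      i _ _ _ _ _ _ o1 o4 (fun k h1 h2 h3 => by simp at h2),
      i _ _ _ _ _ _ o1 o5 (fun k h1 h2 h3 => by simp at h3),
      i _ _ _ _ _ _ o1 o6 (fun k h1 h2 h3 => by simp at h2),
      i _ _ _ _ _ _ o1 o7 (fun k h1 h2 h3 => by simp at h2)⟩,
      ⟨i _ _ _ _ _ _ o2 o3 (fun k h1 h2 h3 => by simp at h3),
      i _ _ _ _ _ _ o2 o4 (fun k h1 h2 h3 => by simp at h1),
      i _ _ _ _ _ _ o2 o5 (fun k h1 h2 h3 => by simp at h1),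
      i _ _ _ _ _ _ o2 o6 (fun k h1 h2 h3 => by simp at h3),
      i _ _ _ _ _ _ o2 o7 (fun k h1 h2 h3 => by simp at h1)⟩,
      ⟨i _ _ _ _ _ _ o3 o4 (fun k h1 h2 h3 => by simp at h1),
      i _ _ _ _ _ _ o3 o5 (fun k h1 h2 h3 => by simp at h1),
      i _ _ _ _ _ _ o3 o6 (fun k h1 h2 h3 => by simp at h2),
      i _ _ _ _ _ _ o3 o7 (fun k h1 h2 h3 => by simp at h1)⟩,
      ⟨i _ _ _ _ _ _ o4 o5 (fun k h1 h2 h3 => by simp at h3),
      i _ _ _ _ _ _ o4 o6 (fun k h1 h2 h3 => by simp at h3),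
      i _ _ _ _ _ _ o4 o7 (fun k h1 h2 h3 => by simp at h3)⟩,
      ⟨i _ _ _ _ _ _ o5 o6 (fun k h1 h2 h3 => by simp at h2),
      i _ _ _ _ _ _ o5 o7 (fun k h1 h2 h3 => by simp at h2)⟩,
      i _ _ _ _ _ _ o6 o7 (fun k h1 h2 h3 => by simp at h1)⟩
  · simp only [List.prod_cons, List.prod_nil, mul_one]
    have := h.baer
    simp only [mul_assoc] at this
    exact this

end fi

end Cfsg.Agent.R08.FusFacts
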