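import Cfsg.Agent.R08.FusMain
import Cfsg.Agent.R08.FusFacts

/-!
Fusion of the central involution `u` of the double cover `L` of `Fi22`.
-/

set_option autoImplicit false

namespace Cfsg.Agent.R08.FusEnd

open Cfsg Cfsg.Agent.Fischer Cfsg.Agent.R01 Cfsg.Agent.R01.Lifts Cfsg.Agent.R01.FiFusion
  Cfsg.Agent.R01.FiFacts Cfsg.Agent.R01.FiHexad Cfsg.Agent.R01.FiMain
open Cfsg.Agent.R08.AutT (T tFacts hfix aut_mem)
open Cfsg.Agent.R08.LiftCls

theorem seven : FusMain.Bad.Seven T := by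
  intro a ha b hb hne hab
  obtain ⟨l, h1, h2, -, -, h3⟩ := FusFacts.seven ha hb hne hab
  exact ⟨l, by rw [h1]; decide, fun x hx => ⟨(h2 x hx).mem, (h2 x hx).na, (h2 x hx).nb,
    (h2 x hx).ca, (h2 x hx).cb⟩, h3⟩

/-- **Fusion.**  The statement (F1) is a hypothesis. -/
theorem fusion {G : Type*} [Group G] [Finite G] {L : Subgroup G} {π : L →* Spor.Fi22} {u : L}
    {D : Set L} (h : CohRank.Ctx L π u T D) (hC : Cls π u D)
    (hmul : ∀ a b : G, a * u = u * a → b * u = u * b → a ∉ L → b ∉ L → a * b ∈ L)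
    (hone : (∀ r ∈ D, ∀ g : G, g * u * g⁻¹ ≠ r ∧ g * u * g⁻¹ ≠ u * r) →
      ∀ x ∈ D, ∀ k : G, k * x = x * k → k ∈ L)
    {s : L} {g : G} (hg : g * u * g⁻¹ = s) (hsu : s ≠ u) :
    ∃ r ∈ D, ∃ g : G, g * u * g⁻¹ = r ∨ g * u * g⁻¹ = u * r :=
  FusMain.fusion h hmul (fun _ hd _ hx hxc => KPerf.center hC hd hx hxc) hone seven hg hsu

end Cfsg.Agent.R08.FusEnd
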