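import Cfsg.Agent.R08.FusOne
import Cfsg.Agent.R08.FusEnd
import Cfsg.Agent.S1714

/-!
Fusion in S1735: if the involution `u` with the perfect double cover `L` of `Fi22` of index two in its
centraliser is conjugate to an element of `L` other than `u`, then it is conjugate to a lift of a
transposition of `Fi22`.
-/

set_option autoImplicit false

namespace Cfsg.Agent.R08.FusFinal

open Cfsg Cfsg.Agent.Fischer Cfsg.Agent.R01 Cfsg.Agent.R01.Lifts
open Cfsg.Agent.R08.AutT (T tFacts hfix aut_mem)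
open Cfsg.Agent.R08.LiftCls Cfsg.Agent.R08.X1

universe w

theorem st1714 (G : Type w) [Group G] [Finite G] : FusOne.St1714 G :=
  fun d hd hq _ e hnwc => Cfsg.Agent.S1714.result d hd hq e hnwc

/-- **Fusion.** -/
theorem exists_fused {G : Type w} [Group G] [Finite G]
    (hO : ∀ t : G, orderOf t = 2 → Cfsg.centralizerPPrimeCore 2 t = ⊥) (hV : X1.LemmaV.{w})
    {u : G} {L : Subgroup G} {φ : L →* Spor.Fi22} (H : X1.Hyp u L φ) (huL : u ∈ L) {s g : G}
    (hs : s ∈ L) (hg : g * u * g⁻¹ = s) (hsu : s ≠ u) :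
    ∃ r : L, φ r ∈ T ∧ ∃ g : G, g * u * g⁻¹ = r := by
  obtain ⟨D, hD⟩ := exists_cls (H.ext huL) H.perf
  have hctx := H.ctx hV huL hD
  obtain ⟨r, hr, g', h1 | h1⟩ := FusEnd.fusion hctx hD H.mul
    (fun hns x hx k hk => FusOne.cent_le (st1714 G) hO H huL hD hctx.cent hns hx k hk)
    (s := ⟨s, hs⟩) hg (fun e => hsu (congrArg Subtype.val e))
  · exact ⟨r, hD.lifted.map r hr, g', h1⟩
  · refine ⟨⟨u, huL⟩ * r, ?_, g', h1⟩
    rw [map_mul, (H.ext huL).mapz, one_mul]
    exact hD.lifted.map r hr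

end Cfsg.Agent.R08.FusFinal
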