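import Cfsg.Agent.R08.FusAbs

/-!
Fusion of the central involution `u` of the double cover `L`: if `u` is conjugate to an element
of `L` other than `u` then it is conjugate to a member of `D` or of `u D`.
-/

set_option autoImplicit false

namespace Cfsg.Agent.R08.FusMain

open Cfsg Cfsg.Agent.R01.Lifts Cfsg.Agent.R01.FiFusion Cfsg.Agent.R01.FiFacts
  Cfsg.Agent.R01.FiHexad Cfsg.Agent.R01.FiMain Cfsg.Agent.R08.CohUniq Cfsg.Agent.R08.CohRank
  Cfsg.Agent.R08.FusAbs

variable {G Φ : Type*} [Group G] [Group Φ] {L : Subgroup G} {π : L →* Φ} {u : L} {T : Set Φ}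
  {D : Set L}

/-- The situation to be excluded: `u` is not conjugate to a member of `D` or of `u D`. -/
structure Bad (L : Subgroup G) (π : L →* Φ) (u : L) (T : Set Φ) (D : Set L) : Prop where
  ctx : Ctx L π u T D
  mul : ∀ a b : G, a * u = u * a → b * u = u * b → a ∉ L → b ∉ L → a * b ∈ L
  center : ∀ d ∈ D, ∀ x : L, x * d = d * x → (∀ y : L, y * d = d * y → x * y = y * x) →
    x = 1 ∨ x = u ∨ x = d ∨ x = d * u
  one : ∀ x ∈ D, ∀ k : G, k * x = x * k → k ∈ L
  bad : ∀ r ∈ D, ∀ g : G, g * u * g⁻¹ ≠ r ∧ g * u * g⁻¹ ≠ u * r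

namespace Bad

variable (B : Bad L π u T D)
include B

theorem lu (x : L) : (x : G) * u = u * x := by
  exact_mod_cast congrArg Subtype.val (B.ctx.lift.ext.comm x)

theorem uu : (u : G) * u = 1 := by
  exact_mod_cast congrArg Subtype.val B.ctx.lift.ext.zz

/-- The elements commuting with `c x` lie in `L`. -/
theorem one' {c₁ : L} (hc : c₁ = 1 ∨ c₁ = u) {x : L} (hx : x ∈ D) (k : G)
    (hk : k * ((c₁ : G) * x) = (c₁ : G) * x * k) : k ∈ L := by
  rcases hc with rfl | rfl
  · rw [Subgroup.coe_one, one_mul] at hk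
    exact B.one x hx k hk
  · obtain ⟨b, hb, hbD⟩ := B.ctx.swap
    obtain ⟨x', hx', e⟩ := hbD x hx
    obtain ⟨l, hl⟩ := B.ctx.trans hx' hx
    have hl' : (l : G) * x' * (l : G)⁻¹ = x := by exact_mod_cast congrArg Subtype.val hl
    -- `d = l b` maps `x` to `u x`
    have hd : ((l : G) * b) * x * ((l : G) * b)⁻¹ = c₁ * x := by
      calc ((l : G) * b) * x * ((l : G) * b)⁻¹ = l * (b * x * b⁻¹) * (l : G)⁻¹ := by group
        _ = (l * c₁) * x' * (l : G)⁻¹ := by rw [e]; group
        _ = c₁ * (l * x' * (l : G)⁻¹) := by rw [B.lu]; group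
        _ = c₁ * x := by rw [hl']
    have hdu : ((l : G) * b) * c₁ = c₁ * ((l : G) * b) := by
      calc ((l : G) * b) * c₁ = l * (b * c₁) := by group
        _ = l * (c₁ * b) := by rw [hb]
        _ = (l * c₁) * b := by group
        _ = c₁ * (l * b) := by rw [B.lu]; group
    set d : G := (l : G) * b with hdd
    have hxd : (x : G) = d⁻¹ * (c₁ * x) * d := by rw [← hd]; group
    have h1 : d⁻¹ * k * d ∈ L := by
      apply B.one x hx
      rw [hxd]
      calc d⁻¹ * k * d * (d⁻¹ * (c₁ * x) * d) = d⁻¹ * (k * (c₁ * x)) * d := by group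
        _ = d⁻¹ * (c₁ * x * k) * d := by rw [hk]
        _ = d⁻¹ * (c₁ * x) * d * (d⁻¹ * k * d) := by group
    have h2 := B.ctx.comm d (d⁻¹ * k * d) hdu (B.lu ⟨_, h1⟩)
    have h3 := L.mul_mem h2 h1
    have e3 : d * (d⁻¹ * k * d) * d⁻¹ * (d⁻¹ * k * d)⁻¹ * (d⁻¹ * k * d) = k := by group
    rwa [e3] at h3

/-- A member of `D` commuting with `s = g u g⁻¹` is outer for `s` in the two cases considered. -/
theorem notMem [Finite G] {c₁ c₀ x a b s : L} {g : G} (hc₁ : c₁ = 1 ∨ c₁ = u)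
    (hc₀ : c₀ = 1 ∨ c₀ = u) (t : Tri D x a b) (hs : g * u * g⁻¹ = s) (hsu : s ≠ u)
    (h2 : s = c₀ * (a * b) ∨ s = c₀ * (x * (a * b))) : g⁻¹ * (c₁ * x) * g ∉ L := by
  intro hw
  have hcen : ∀ {c : L}, (c = 1 ∨ c = u) → ∀ y : L, y * c = c * y := by
    intro c hc y
    rcases hc with rfl | rfl
    · rw [one_mul, mul_one]
    · exact B.ctx.lift.ext.comm y
  have hcsq : ∀ {c : L}, (c = 1 ∨ c = u) → c * c = 1 := by
    intro c hc
    rcases hc with rfl | rfl
    · rw [one_mul]
    · exact B.ctx.lift.ext.zz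
  have hxx : x * x = 1 := B.ctx.lift.sq x t.mx
  have hwsq : (c₁ * x) * (c₁ * x) = 1 := by
    calc (c₁ * x) * (c₁ * x) = c₁ * (x * c₁) * x := by group
      _ = (c₁ * c₁) * (x * x) := by rw [hcen hc₁]; group
      _ = 1 := by rw [hcsq hc₁, hxx, mul_one]
  have hwsq' : ((c₁ : G) * x) * (c₁ * x) = 1 := by exact_mod_cast congrArg Subtype.val hwsq
  obtain ⟨w', hw'⟩ : ∃ w' : L, (w' : G) = g⁻¹ * (c₁ * x) * g := ⟨⟨_, hw⟩, rfl⟩
  have hww : w' * w' = 1 := by
    apply Subtype.ext
    show (w' : G) * w' = 1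
    rw [hw']
    calc g⁻¹ * ((c₁ : G) * x) * g * (g⁻¹ * (c₁ * x) * g) =
        g⁻¹ * (((c₁ : G) * x) * (c₁ * x)) * g := by group
      _ = 1 := by rw [hwsq']; group
  have hxn : c₁ * x ≠ 1 := by
    intro e
    have h1 : x = c₁ := by
      calc x = (c₁ * c₁) * x := by rw [hcsq hc₁, one_mul]
        _ = c₁ * (c₁ * x) := by group
        _ = c₁ := by rw [e, mul_one]
    rcases hc₁ with h3 | h3
    · exact B.ctx.r_ne t.mx (h1.trans h3)
    · exact B.ctx.u_ne t.mx (h1.trans h3)
  have hsbad : s ≠ c₁ * x := by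
    intro e
    rcases hc₁ with rfl | rfl
    · exact (B.bad x t.mx g).1 (by rw [hs, e, one_mul])
    · exact (B.bad x t.mx g).2 (by rw [hs, e]; rfl)
  have hgw : g * (w' : G) * g⁻¹ = c₁ * x := by rw [hw']; group
  -- transport
  have htr : ∀ k : L, k * w' = w' * k → ∃ k₂ : L, (k₂ : G) = g * k * g⁻¹ ∧ k₂ * x = x * k₂ ∧
      k₂ * (a * b) = a * b * k₂ := by
    intro k hk
    have hk' : (k : G) * w' = w' * k := by exact_mod_cast congrArg Subtype.val hk
    have h3 : (g * k * g⁻¹) * ((c₁ : G) * x) = (c₁ : G) * x * (g * k * g⁻¹) := by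
      rw [← hgw]
      calc g * k * g⁻¹ * (g * w' * g⁻¹) = g * (k * w') * g⁻¹ := by group
        _ = g * (w' * k) * g⁻¹ := by rw [hk']
        _ = g * w' * g⁻¹ * (g * k * g⁻¹) := by group
    have h4 := B.one' hc₁ t.mx _ h3
    obtain ⟨k₂, hk₂⟩ : ∃ k₂ : L, (k₂ : G) = g * k * g⁻¹ := ⟨⟨_, h4⟩, rfl⟩
    have h5 : k₂ * (c₁ * x) = c₁ * x * k₂ := by
      apply Subtype.ext
      show (k₂ : G) * ((c₁ : G) * x) = (c₁ : G) * x * k₂
      rw [hk₂]; exact h3
    have h6 : k₂ * s = s * k₂ := by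
      apply Subtype.ext
      show (k₂ : G) * s = s * k₂
      rw [hk₂, ← hs]
      calc g * k * g⁻¹ * (g * u * g⁻¹) = g * (k * u) * g⁻¹ := by group
        _ = g * (u * k) * g⁻¹ := by rw [B.lu]
        _ = g * u * g⁻¹ * (g * k * g⁻¹) := by group
    have h7 : ∀ {c y : L}, (c = 1 ∨ c = u) → k₂ * (c * y) = c * y * k₂ → k₂ * y = y * k₂ := by
      intro c y hc e
      have : c * (k₂ * y) = c * (y * k₂) := by
        calc c * (k₂ * y) = (c * k₂) * y := by group
          _ = k₂ * (c * y) := by rw [← hcen hc]; group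
          _ = c * (y * k₂) := by rw [e]; group
      exact mul_left_cancel this
    have h8 := h7 hc₁ h5
    refine ⟨k₂, hk₂, h8, ?_⟩
    rcases h2 with h2 | h2
    · rw [h2] at h6
      exact h7 hc₀ h6
    · rw [h2] at h6
      have h9 := h7 hc₀ h6
      have : x * (k₂ * (a * b)) = x * (a * b * k₂) := by
        calc x * (k₂ * (a * b)) = (x * k₂) * (a * b) := by group
          _ = k₂ * (x * (a * b)) := by rw [← h8]; group
          _ = x * (a * b * k₂) := by rw [h9]; group
      exact mul_left_cancel this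
  -- the count
  have hcount : ∀ K : Set L, (∀ k ∈ K, k * w' = w' * k) →
      Nat.card K ≤ 2 * Nat.card (H3 x a b) := by
    intro K hK
    refine le_trans ?_ (upper B.ctx t {k | k * x = x * k ∧ k * (a * b) = a * b * k}
      (fun k hk => hk))
    choose f hf1 hf2 hf3 using fun k : K => htr k (hK k k.2)
    refine Nat.card_le_card_of_injective (fun k : K => (⟨f k, hf2 k, hf3 k⟩ :
      ({k | k * x = x * k ∧ k * (a * b) = a * b * k} : Set L))) ?_
    intro k k' e
    have e1 : f k = f k' := congrArg Subtype.val e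
    have e2 : g * ((k : L) : G) * g⁻¹ = g * ((k' : L) : G) * g⁻¹ := by
      rw [← hf1, ← hf1, e1]
    exact Subtype.ext (Subtype.ext (mul_left_cancel (mul_right_cancel e2)))
  obtain ⟨c, h0, hc⟩ := lkey B.ctx.lift B.ctx.facts B.ctx.fix w' (Or.inl hww)
  have hkc : ∀ {k y : L}, k * y = y * k → k * (c * y) = c * y * k := by
    intro k y e
    calc k * (c * y) = (k * c) * y := by group
      _ = c * (k * y) := by rw [hcen h0]; group
      _ = c * y * k := by rw [e]; group
  rcases hc with hc | ⟨y, hy, hc⟩ | ⟨a', ha', b', hb', hne, hab, hc⟩ | ⟨a', b', c', t', hc⟩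
  · rcases h0 with h0 | h0
    · apply hxn
      apply Subtype.ext
      show (c₁ : G) * x = 1
      rw [← hgw, hc, h0, Subgroup.coe_one]
      group
    · apply hsbad
      apply Subtype.ext
      show (s : G) = (c₁ : G) * x
      rw [← hgw, hc, h0, hs]
  · -- rank one
    have hcen' : ∀ y₂ : L, y₂ * x = x * y₂ → s * y₂ = y₂ * s := by
      intro y₂ h3
      have h4 : (y₂ : G) * x = x * y₂ := by exact_mod_cast congrArg Subtype.val h3
      have h5 : (y₂ : G) * (c₁ * x) = c₁ * x * y₂ := by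
        have : y₂ * (c₁ * x) = c₁ * x * y₂ := by
          calc y₂ * (c₁ * x) = (y₂ * c₁) * x := by group
            _ = c₁ * (y₂ * x) := by rw [hcen hc₁]; group
            _ = c₁ * x * y₂ := by rw [h3]; group
        exact_mod_cast congrArg Subtype.val this
      have h6 : g⁻¹ * y₂ * g ∈ L := by
        apply B.one' h0 hy
        have e : ((c : G) * y) = g⁻¹ * (c₁ * x) * g := by
          rw [← hw', hc]; rfl
        rw [e]
        calc g⁻¹ * y₂ * g * (g⁻¹ * ((c₁ : G) * x) * g) = g⁻¹ * (y₂ * (c₁ * x)) * g := by group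
          _ = g⁻¹ * (c₁ * x * y₂) * g := by rw [h5]
          _ = g⁻¹ * ((c₁ : G) * x) * g * (g⁻¹ * y₂ * g) := by group
      have h7 := B.lu ⟨_, h6⟩
      apply Subtype.ext
      show (s : G) * y₂ = y₂ * s
      rw [← hs]
      calc g * (u : G) * g⁻¹ * y₂ = g * (u * (g⁻¹ * y₂ * g)) * g⁻¹ := by group
        _ = g * ((g⁻¹ * y₂ * g) * u) * g⁻¹ := by rw [← h7]
        _ = y₂ * (g * u * g⁻¹) := by group
    rcases B.center x t.mx s (hcen' x rfl) hcen' with e | e | e | e
    · apply B.ctx.lift.ext.zne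
      apply Subtype.ext
      have h3 : (u : G) = g⁻¹ * s * g := by rw [← hs]; group
      rw [h3, e, Subgroup.coe_one]
      group
    · exact hsu e
    · exact (B.bad x t.mx g).1 (by rw [hs, e])
    · refine (B.bad x t.mx g).2 ?_
      rw [hs, e]
      exact B.lu x
  · -- rank two
    obtain ⟨c', t'⟩ := B.ctx.exists_third ha' hb' hne hab
    have h3 := lower2 B.ctx t' {k | k * (a' * b') = a' * b' * k} (fun k hk => hk)
    have h4 := hcount {k | k * (a' * b') = a' * b' * k} (fun k hk => by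
      rw [hc]; exact hkc hk)
    have h5 := card_H3_le B.ctx t t'
    have h6 := card_H3_pos a' b' c'
    omega
  · have h3 := lower3 B.ctx t' {k | k * (a' * b' * c') = a' * b' * c' * k} (fun k hk => hk)
    have h4 := hcount {k | k * (a' * b' * c') = a' * b' * c' * k} (fun k hk => by
      rw [hc]; exact hkc hk)
    have h5 := card_H3_le B.ctx t t'
    have h6 := card_H3_pos a' b' c'
    omega

/-- The parity of a product of outer elements. -/
theorem parity (l : List G) (hl : ∀ y ∈ l, y * u = u * y ∧ y ∉ L) :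
    l.prod * u = u * l.prod ∧ (l.prod ∈ L ↔ Even l.length) := by
  induction l with
  | nil => simp
  | cons y l ih =>
    obtain ⟨h1, h2⟩ := ih (fun y hy => hl y (List.mem_cons_of_mem _ hy))
    obtain ⟨h3, h4⟩ := hl y List.mem_cons_self
    rw [List.prod_cons, List.length_cons]
    refine ⟨?_, ?_⟩
    · calc y * l.prod * u = y * (l.prod * u) := by group
        _ = (y * u) * l.prod := by rw [h1]; group
        _ = u * (y * l.prod) := by rw [h3]; group
    · rw [Nat.even_add_one, ← h2]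
      constructor
      · intro h5 h6
        apply h4
        have := L.mul_mem h5 (L.inv_mem h6)
        rwa [mul_inv_cancel_right] at this
      · intro h5
        exact B.mul _ _ h3 h1 h4 h5

/-- Lifting a list. -/
theorem lift_list (l : List Φ) (hl : ∀ x ∈ l, x ∈ T) :
    ∃ l' : List L, l'.map π = l ∧ ∀ y ∈ l', y ∈ D := by
  induction l with
  | nil => exact ⟨[], rfl, by simp⟩
  | cons x l ih =>
    obtain ⟨l', h1, h2⟩ := ih (fun y hy => hl y (List.mem_cons_of_mem _ hy))
    obtain ⟨y, hy, rfl⟩ := B.ctx.lift.surj x (hl x List.mem_cons_self)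
    refine ⟨y :: l', by rw [List.map_cons, h1], ?_⟩
    intro z hz
    rcases List.mem_cons.1 hz with rfl | hz
    · exact hy
    · exact h2 z hz

/-- The relation used. -/
def Seven (T : Set Φ) : Prop := ∀ a ∈ T, ∀ b ∈ T, a ≠ b → a * b = b * a →
  ∃ l : List Φ, Odd l.length ∧ (∀ x ∈ l, x ∈ T ∧ x ≠ a ∧ x ≠ b ∧ x * a = a * x ∧ x * b = b * x) ∧
    l.prod = 1

/-- **No conjugate of rank two.** -/
theorem rank_two [Finite G] (hS : Seven T) {c₀ a b : L} {g : G} (hc₀ : c₀ = 1 ∨ c₀ = u)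
    (ha : a ∈ D) (hb : b ∈ D) (hne : a ≠ b) (hab : a * b = b * a)
    (hs : g * u * g⁻¹ = (c₀ * (a * b) : L)) : False := by
  obtain ⟨l, hodd, hl, hp⟩ := hS _ (B.ctx.lift.map a ha) _ (B.ctx.lift.map b hb)
    (fun e => hne (B.ctx.lift.inj _ ha _ hb e)) (by rw [← map_mul, ← map_mul, hab])
  obtain ⟨l', h1, h2⟩ := B.lift_list l (fun x hx => (hl x hx).1)
  have hsu : c₀ * (a * b) ≠ u := by
    intro e
    have h3 : a * b = 1 ∨ a * b = u := by
      rcases hc₀ with rfl | rfl
      · right; rw [one_mul] at e; exact e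
      · left; exact mul_left_cancel (e.trans (mul_one _).symm)
    have h4 : π a * π b = 1 := by
      rw [← map_mul]
      exact (B.ctx.lift.ext.ker _).2 h3
    apply hne
    apply B.ctx.lift.inj _ ha _ hb
    calc π a = π a * (π b * π b) := by rw [← map_mul, B.ctx.lift.sq _ hb, map_one, mul_one]
      _ = π b := by rw [← mul_assoc, h4, one_mul]
  have htri : ∀ y ∈ l', Tri D y a b := by
    intro y hy
    obtain ⟨h3, h4, h5, h6, h7⟩ := hl (π y) (by rw [← h1]; exact List.mem_map_of_mem hy)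
    exact ⟨h2 y hy, ha, hb, fun e => h4 (by rw [e]), fun e => h5 (by rw [e]), hne,
      B.ctx.lift.comm _ (h2 y hy) _ ha h6, B.ctx.lift.comm _ (h2 y hy) _ hb h7, hab⟩
  have hnm : ∀ y ∈ l', ∀ c₁ : L, (c₁ = 1 ∨ c₁ = u) → g⁻¹ * (c₁ * y) * g ∉ L :=
    fun y hy c₁ hc₁ => B.notMem hc₁ hc₀ (htri y hy) hs hsu (Or.inl rfl)
  have hcs : ∀ y ∈ l', ∀ c₁ : L, (c₁ = 1 ∨ c₁ = u) →
      g⁻¹ * (c₁ * y) * g * u = u * (g⁻¹ * (c₁ * y) * g) := by
    intro y hy c₁ hc₁
    have hcen : ∀ {c : L}, (c = 1 ∨ c = u) → ∀ y : L, y * c = c * y := by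
      intro c hc y
      rcases hc with rfl | rfl
      · rw [one_mul, mul_one]
      · exact B.ctx.lift.ext.comm y
    have e1 : Commute y (a * b) :=
      Commute.mul_right (show Commute y a from (htri y hy).cxy)
        (show Commute y b from (htri y hy).cxw)
    have e2 : Commute y (c₀ * (a * b)) := Commute.mul_right (show Commute y c₀ from hcen hc₀ y) e1
    have e3 : Commute (c₁ * y) (c₀ * (a * b)) :=
      Commute.mul_left (show Commute c₁ _ from (hcen hc₁ _).symm) e2
    have e4 : ((c₁ : G) * y) * (c₀ * (a * b) : L) = (c₀ * (a * b) : L) * (c₁ * y) := by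
      exact_mod_cast congrArg Subtype.val e3.eq
    rw [← hs] at e4
    calc g⁻¹ * ((c₁ : G) * y) * g * u = g⁻¹ * (((c₁ : G) * y) * (g * u * g⁻¹)) * g := by group
      _ = g⁻¹ * (g * u * g⁻¹ * (c₁ * y)) * g := by rw [e4]
      _ = u * (g⁻¹ * ((c₁ : G) * y) * g) := by group
  have hodd' : ¬ Even l'.length := by
    rw [Nat.not_even_iff_odd]
    have : l'.length = l.length := by rw [← h1, List.length_map]
    rw [this]; exact hodd
  have hpar := B.parity (l'.map (fun y : L => g⁻¹ * (y : G) * g)) (by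
    intro y₀ hy₀
    obtain ⟨y, hy, rfl⟩ := List.mem_map.1 hy₀
    have e1 := hcs y hy 1 (Or.inl rfl)
    have e2 := hnm y hy 1 (Or.inl rfl)
    rw [Subgroup.coe_one, one_mul] at e1 e2
    exact ⟨e1, e2⟩)
  rw [List.length_map] at hpar
  have hprod : (l'.map (fun y : L => g⁻¹ * (y : G) * g)).prod = g⁻¹ * (l'.prod : L) * g := by
    have := map_list_prod ((MulAut.conj g⁻¹).toMonoidHom.comp L.subtype) l'
    simpa using this.symm
  have hn : g⁻¹ * ((l'.prod : L) : G) * g ∉ L := by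
    rw [← hprod]
    intro h3
    exact hodd' (hpar.2.1 h3)
  have hker : l'.prod = 1 ∨ l'.prod = u := by
    apply (B.ctx.lift.ext.ker _).1
    rw [map_list_prod, h1, hp]
  rcases hker with e | e
  · apply hn
    rw [e, Subgroup.coe_one, mul_one, inv_mul_cancel]
    exact L.one_mem
  · apply hn
    rw [e]
    cases l' with
    | nil => simp at hodd'
    | cons y l' =>
      have hy : y ∈ y :: l' := List.mem_cons_self
      have e1 := B.mul _ _ (hcs y hy u (Or.inr rfl)) (hcs y hy 1 (Or.inl rfl))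
        (hnm y hy u (Or.inr rfl)) (hnm y hy 1 (Or.inl rfl))
      have hyy : (y : G) * y = 1 := by exact_mod_cast congrArg Subtype.val (B.ctx.lift.sq y (h2 y hy))
      have e2 : g⁻¹ * ((u : G) * y) * g * (g⁻¹ * (((1 : L) : G) * y) * g) = g⁻¹ * u * g := by
        rw [Subgroup.coe_one, one_mul]
        calc g⁻¹ * ((u : G) * y) * g * (g⁻¹ * y * g) = g⁻¹ * (u * (y * y)) * g := by group
          _ = g⁻¹ * u * g := by rw [hyy, mul_one]
      rwa [e2] at e1

/-- **No conjugate of rank three.** -/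
theorem rank_three [Finite G] (hS : Seven T) {a b c : L} {g : G} (t : Tri D a b c)
    (hs : g * u * g⁻¹ = (a * b * c : L)) : False := by
  obtain ⟨a', b', c', t1, t2, hne, hcc, hprod⟩ := exists_hex B.ctx t
  have hsu : a * b * c ≠ u := by
    intro e
    have h4 : π a * π b * π c = 1 := by
      rw [← map_mul, ← map_mul, e]
      exact B.ctx.lift.ext.mapz
    apply B.ctx.facts.two _ (B.ctx.lift.map a t.mx) _ (B.ctx.lift.map b t.my)
      (fun e => t.xy (B.ctx.lift.inj _ t.mx _ t.my e)) (by rw [← map_mul, ← map_mul, t.cxy])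
    have : π a * π b = π c := by
      calc π a * π b = π a * π b * (π c * π c) := by
            rw [← map_mul π c c, B.ctx.lift.sq _ t.mw, map_one, mul_one]
        _ = π a * π b * π c * π c := by group
        _ = π c := by rw [h4, one_mul]
    rw [this]
    exact B.ctx.lift.map c t.mw
  -- `c` and `a'` are outer
  have e1 : a * b * c = 1 * (c * (a * b)) := by
    rw [one_mul]
    calc a * b * c = a * (b * c) := by group
      _ = (a * c) * b := by rw [t.cyw]; group
      _ = c * (a * b) := by rw [t.cxw]; group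
  have n1 := B.notMem (c₁ := 1) (Or.inl rfl) (Or.inl rfl)
    (tri_rot (tri_rot t)) hs hsu (Or.inr e1)
  have n2 := B.notMem (c₁ := 1) (Or.inl rfl) (Or.inr rfl) t2 hs hsu
    (Or.inr (by rw [hprod]; group))
  have hc := t.mw
  have sqc : c * c = 1 := B.ctx.lift.sq c t.mw
  have sqs : (a * b * c) * (a * b * c) = 1 :=
    prod3_sq (B.ctx.lift.sq a t.mx) (B.ctx.lift.sq b t.my) sqc t.cxy t.cxw t.cyw
  obtain ⟨s, hsd⟩ : ∃ s : L, s = a * b * c := ⟨_, rfl⟩
  rw [← hsd] at hs hsu e1 sqs hprod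
  have cmc : Commute c s := by
    rw [hsd]
    exact Commute.mul_right (Commute.mul_right (show Commute c a from t.cxw.symm)
      (show Commute c b from t.cyw.symm)) (Commute.refl c)
  have cma : Commute a' s := by
    rw [hsd]
    exact Commute.mul_right (Commute.mul_right (show Commute a' a from t1.cxw.symm)
      (show Commute a' b from t1.cyw.symm)) (show Commute a' c from hcc.symm)
  have hout : ∀ {y : L}, Commute y s → (g⁻¹ * (y : G) * g) * u = u * (g⁻¹ * y * g) := by
    intro y hy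
    have e4 : (y : G) * s = s * y := by exact_mod_cast congrArg Subtype.val hy.eq
    rw [← hs] at e4
    calc g⁻¹ * (y : G) * g * u = g⁻¹ * (y * (g * u * g⁻¹)) * g := by group
      _ = g⁻¹ * (g * u * g⁻¹ * y) * g := by rw [e4]
      _ = u * (g⁻¹ * (y : G) * g) := by group
  rw [Subgroup.coe_one, one_mul] at n1 n2
  have hin : g⁻¹ * ((c : G) * a') * g ∈ L := by
    have := B.mul _ _ (hout cmc) (hout cma) n1 n2
    have e : g⁻¹ * (c : G) * g * (g⁻¹ * a' * g) = g⁻¹ * ((c : G) * a') * g := by group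
    rwa [e] at this
  -- `y = a b a'`
  obtain ⟨k, k1, k2, k3⟩ := exists_tri B.ctx t t1
  have hy1 : k * s * k⁻¹ = s * (c * a') := by
    rw [hsd]
    calc k * (a * b * c) * k⁻¹ = (k * a * k⁻¹) * (k * b * k⁻¹) * (k * c * k⁻¹) := by group
      _ = a * b * a' := by rw [k1, k2, k3]
      _ = a * b * (c * c) * a' := by rw [sqc, mul_one]
      _ = a * b * c * (c * a') := by group
  have hy1' : (k : G) * s * (k : G)⁻¹ = s * (c * a') := by
    exact_mod_cast congrArg Subtype.val hy1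
  have hin2 : g⁻¹ * ((s : G) * (c * a')) * g ∈ L := by
    have := L.mul_mem u.2 hin
    have e : (u : G) * (g⁻¹ * ((c : G) * a') * g) = g⁻¹ * ((s : G) * (c * a')) * g := by
      rw [← hs]; group
    rwa [e] at this
  obtain ⟨y', hy'⟩ : ∃ y' : L, (y' : G) = g⁻¹ * ((s : G) * (c * a')) * g := ⟨⟨_, hin2⟩, rfl⟩
  have hg' : (g⁻¹ * k * g) * u * (g⁻¹ * k * g)⁻¹ = y' := by
    rw [hy', ← hy1', ← hs]; group
  have hyy : y' * y' = 1 := by
    apply Subtype.ext
    show (y' : G) * y' = 1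
    rw [← hg']
    calc g⁻¹ * (k : G) * g * u * (g⁻¹ * k * g)⁻¹ * (g⁻¹ * k * g * u * (g⁻¹ * k * g)⁻¹) =
        g⁻¹ * (k : G) * g * (u * u) * (g⁻¹ * k * g)⁻¹ := by group
      _ = 1 := by rw [B.uu]; group
  obtain ⟨c₀, h0, hc'⟩ := lkey B.ctx.lift B.ctx.facts B.ctx.fix y' (Or.inl hyy)
  rcases hc' with hc' | ⟨y, hy, hc'⟩ | ⟨a₁, ha₁, b₁, hb₁, hne₁, hab₁, hc'⟩ | ⟨a₁, b₁, c₁, t', hc'⟩
  · rcases h0 with h0 | h0
    · apply B.ctx.lift.ext.zne
      apply Subtype.ext
      have : (u : G) = (g⁻¹ * k * g)⁻¹ * y' * (g⁻¹ * k * g) := by rw [← hg']; group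
      rw [this, hc', h0, Subgroup.coe_one]
      group
    · apply hne
      have h3 : s * (c * a') = s := by
        apply Subtype.ext
        show (s : G) * (c * a') = s
        have h4 : (s : G) * (c * a') = g * y' * g⁻¹ := by rw [hy']; group
        rw [h4, hc', h0, hs]
      have h5 : c * a' = 1 := mul_left_cancel (h3.trans (mul_one s).symm)
      calc c = c * (a' * a') := by rw [B.ctx.lift.sq _ t2.mx, mul_one]
        _ = a' := by rw [← mul_assoc, h5, one_mul]
  · rcases h0 with h0 | h0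
    · exact (B.bad y hy _).1 (by rw [hg', hc', h0, one_mul])
    · exact (B.bad y hy _).2 (by rw [hg', hc', h0]; rfl)
  · exact B.rank_two hS h0 ha₁ hb₁ hne₁ hab₁ (by rw [hg', hc'])
  · -- `u y'` is conjugate to `y'`
    obtain ⟨x, y, w, -, t3, -, -, hpr⟩ := exists_hex B.ctx t'
    obtain ⟨k₃, hk₃⟩ := tri_conj B.ctx.lift B.ctx.facts t' t3
    have h3 : x * y * w = u * (a₁ * b₁ * c₁) := by
      rw [hpr]
      calc x * y * w = (u * u) * (x * y * w) := by rw [B.ctx.lift.ext.zz, one_mul]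
        _ = u * (u * (x * y * w)) := by group
    have h4 : k₃ * y' * k₃⁻¹ = u * y' := by
      have hcen : k₃ * c₀ = c₀ * k₃ := by
        rcases h0 with rfl | rfl
        · rw [one_mul, mul_one]
        · exact B.ctx.lift.ext.comm k₃
      have hcen' : u * c₀ = c₀ * u := (B.ctx.lift.ext.comm c₀).symm
      rw [hc']
      calc k₃ * (c₀ * (a₁ * b₁ * c₁)) * k₃⁻¹ = (k₃ * c₀) * (a₁ * b₁ * c₁) * k₃⁻¹ := by group
        _ = c₀ * (k₃ * (a₁ * b₁ * c₁) * k₃⁻¹) := by rw [hcen]; group
        _ = (c₀ * u) * (a₁ * b₁ * c₁) := by rw [hk₃, h3]; group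
        _ = u * (c₀ * (a₁ * b₁ * c₁)) := by rw [← hcen']; group
    have h4' : (k₃ : G) * y' * (k₃ : G)⁻¹ = u * y' := by exact_mod_cast congrArg Subtype.val h4
    have hss : (s : G) * s = 1 := by exact_mod_cast congrArg Subtype.val sqs
    refine B.rank_two hS (c₀ := 1) (Or.inl rfl) t.mw t1.mw hne hcc
      (g := g * k₃ * (g⁻¹ * k * g)) ?_
    rw [one_mul]
    calc g * (k₃ : G) * (g⁻¹ * k * g) * u * (g * k₃ * (g⁻¹ * k * g))⁻¹ =
        g * (k₃ * ((g⁻¹ * k * g) * u * (g⁻¹ * k * g)⁻¹) * (k₃ : G)⁻¹) * g⁻¹ := by group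
      _ = g * (u * y') * g⁻¹ := by rw [hg', h4']
      _ = (g * u * g⁻¹) * (g * y' * g⁻¹) := by group
      _ = s * (s * (c * a')) := by rw [hs, hy']; group
      _ = c * a' := by rw [← mul_assoc, hss, one_mul]

end Bad

/-- **Fusion.**  If `u` is conjugate to an element of `L` other than `u` then it is conjugate to
a member of `D` or of `u D`. -/
theorem fusion [Finite G] (h : Ctx L π u T D)
    (hmul : ∀ a b : G, a * u = u * a → b * u = u * b → a ∉ L → b ∉ L → a * b ∈ L)
    (hcenter : ∀ d ∈ D, ∀ x : L, x * d = d * x → (∀ y : L, y * d = d * y → x * y = y * x) →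
      x = 1 ∨ x = u ∨ x = d ∨ x = d * u)
    (hone : (∀ r ∈ D, ∀ g : G, g * u * g⁻¹ ≠ r ∧ g * u * g⁻¹ ≠ u * r) →
      ∀ x ∈ D, ∀ k : G, k * x = x * k → k ∈ L)
    (hS : Bad.Seven T) {s : L} {g : G} (hg : g * u * g⁻¹ = s) (hsu : s ≠ u) :
    ∃ r ∈ D, ∃ g : G, g * u * g⁻¹ = r ∨ g * u * g⁻¹ = u * r := by
  by_contra hcon
  have hbad : ∀ r ∈ D, ∀ g : G, g * u * g⁻¹ ≠ r ∧ g * u * g⁻¹ ≠ u * r := by
    intro r hr g
    constructor
    · intro e
      exact hcon ⟨r, hr, g, Or.inl e⟩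
    · intro e
      exact hcon ⟨r, hr, g, Or.inr e⟩
  have B : Bad L π u T D := ⟨h, hmul, hcenter, hone hbad, hbad⟩
  have hss : s * s = 1 := by
    apply Subtype.ext
    show (s : G) * s = 1
    rw [← hg]
    calc g * (u : G) * g⁻¹ * (g * u * g⁻¹) = g * (u * u) * g⁻¹ := by group
      _ = 1 := by rw [B.uu]; group
  obtain ⟨c₀, h0, hc⟩ := lkey h.lift h.facts h.fix s (Or.inl hss)
  rcases hc with hc | ⟨y, hy, hc⟩ | ⟨a, ha, b, hb, hne, hab, hc⟩ | ⟨a, b, c, t, hc⟩
  · rcases h0 with h0 | h0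
    · apply h.lift.ext.zne
      apply Subtype.ext
      have : (u : G) = g⁻¹ * s * g := by rw [← hg]; group
      rw [this, hc, h0, Subgroup.coe_one]
      group
    · exact hsu (hc.trans h0)
  · rcases h0 with h0 | h0
    · exact (hbad y hy g).1 (by rw [hg, hc, h0, one_mul])
    · exact (hbad y hy g).2 (by rw [hg, hc, h0]; rfl)
  · exact B.rank_two hS h0 ha hb hne hab (by rw [hg, hc])
  · rcases h0 with h0 | h0
    · exact B.rank_three hS t (by rw [hg, hc, h0, one_mul])
    · obtain ⟨x, y, w, -, t3, -, -, hpr⟩ := exists_hex h t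
      refine B.rank_three hS t3 (g := g) ?_
      rw [hg, hc, h0, hpr, ← mul_assoc, h.lift.ext.zz, one_mul]

end Cfsg.Agent.R08.FusMain
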