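import Cfsg.Agent.R08.CloseLab
import Cfsg.Agent.Co2Type.PairCard

/-!
# R08 (S1715), piece (1): fusion in `Q`

`L : Lab F Q M z`.  No conjugate of `z` in `Q` has its label in `R` (`not_isR_of_conj`); if some conjugate
of `z` different from `z` lies in `Q` then all elements of `Q` with label in `S` are conjugate to `z` (`twoB_of_isS`).
-/

set_option autoImplicit false

namespace Cfsg.Agent.R08.FusQ

open Cfsg.Agent.R08.Iface Cfsg.Agent.R08.Iface.Lab Cfsg.Agent.R08.CloseLab Cfsg.Agent.Co2Type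

variable {F : Type*} [Field F] {G : Type*} [Group G] {Q M : Subgroup G} {z : G}

/-! ### orders -/

/-- the labelling as a homomorphism on a subgroup of `Q` -/
noncomputable def vHom (L : Lab F Q M z) (P : Subgroup G) (hP : P ≤ Q) :
    P →* Multiplicative (Fin 6 → F) where
  toFun x := Multiplicative.ofAdd (L.v x)
  map_one' := by
    show Multiplicative.ofAdd (L.v 1) = 1
    rw [L.v_one]; rfl
  map_mul' x y := by
    show Multiplicative.ofAdd (L.v (x * y)) = _
    rw [L.v_mul _ (hP x.2) _ (hP y.2)]; rfl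

theorem mem_ker (L : Lab F Q M z) (P : Subgroup G) (hP : P ≤ Q) (x : P) :
    x ∈ (vHom L P hP).ker ↔ (x : G) = 1 ∨ (x : G) = z := by
  rw [MonoidHom.mem_ker, ← L.v_eq_zero x (hP x.2)]
  exact Iff.rfl

theorem card_ker_le (L : Lab F Q M z) (P : Subgroup G) (hP : P ≤ Q) :
    Nat.card (vHom L P hP).ker ≤ 2 := by
  classical
  let f : (vHom L P hP).ker → Bool := fun x => if ((x : P) : G) = 1 then true else false
  have hf : Function.Injective f := by
    intro x y hxy
    apply Subtype.ext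
    apply Subtype.ext
    have hx := (mem_ker L P hP _).1 x.2
    have hy := (mem_ker L P hP _).1 y.2
    by_cases h1 : ((x : P) : G) = 1
    · by_cases h2 : ((y : P) : G) = 1
      · rw [h1, h2]
      · simp only [f] at hxy
        rw [if_pos h1, if_neg h2] at hxy
        exact absurd hxy (by decide)
    · by_cases h2 : ((y : P) : G) = 1
      · simp only [f] at hxy
        rw [if_neg h1, if_pos h2] at hxy
        exact absurd hxy (by decide)
      · rw [hx.resolve_left h1, hy.resolve_left h2]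
  have := Nat.card_le_card_of_injective f hf
  rwa [Nat.card_eq_fintype_card (α := Bool), Fintype.card_bool] at this

theorem card_le (L : Lab F Q M z) (P : Subgroup G) (hP : P ≤ Q) (T : Finset (Fin 6 → F))
    (h : ∀ x ∈ P, L.v x ∈ T) : Nat.card P ≤ 2 * T.card := by
  have h1 := Subgroup.card_mul_index (vHom L P hP).ker
  rw [Subgroup.index_ker] at h1
  have h2 : Nat.card (vHom L P hP).range ≤ T.card := by
    have h3 : Nat.card (T : Set (Fin 6 → F)) = T.card := by simp
    rw [← h3]
    refine Nat.card_le_card_of_injective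
      (fun y => (⟨Multiplicative.toAdd y.1, ?_⟩ : (T : Set (Fin 6 → F)))) ?_
    · obtain ⟨x, hx⟩ := y.2
      rw [← hx]
      exact h x x.2
    · intro y y' hyy
      apply Subtype.ext
      exact congrArg (fun t : (T : Set (Fin 6 → F)) => (t : Fin 6 → F)) hyy
  calc Nat.card P = Nat.card (vHom L P hP).ker * Nat.card (vHom L P hP).range := h1.symm
    _ ≤ 2 * T.card := Nat.mul_le_mul (card_ker_le L P hP) h2

theorem card_Q (L : Lab F Q M z) : Nat.card Q = 2 ^ 13 := by
  have h1 := Subgroup.card_mul_index (vHom L Q le_rfl).ker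
  rw [Subgroup.index_ker] at h1
  have hsurj : Function.Surjective (vHom L Q le_rfl) := by
    intro y
    obtain ⟨x, hx, hv⟩ := L.v_surj (Multiplicative.toAdd y)
    exact ⟨⟨x, hx⟩, hv⟩
  have h2 : Nat.card (vHom L Q le_rfl).range = 4 ^ 6 := by
    rw [MonoidHom.range_eq_top.2 hsurj, Subgroup.card_top]
    show Nat.card (Fin 6 → F) = 4 ^ 6
    rw [Nat.card_fun, L.card, Nat.card_eq_fintype_card, Fintype.card_fin]
  have h3 : Nat.card (vHom L Q le_rfl).ker = 2 := by
    rw [Nat.card_eq_two_iff]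
    refine ⟨1, ⟨⟨z, L.large.z_mem⟩, (mem_ker L Q le_rfl _).2 (Or.inr rfl)⟩, ?_, ?_⟩
    · intro he
      have h4 : (1 : G) = z := congrArg (fun y : (vHom L Q le_rfl).ker => ((y : Q) : G)) he
      exact L.large.z_ne h4.symm
    · ext x
      simp only [Set.mem_insert_iff, Set.mem_singleton_iff, Set.mem_univ, iff_true]
      rcases (mem_ker L Q le_rfl _).1 x.2 with hx | hx
      · left; exact Subtype.ext (Subtype.ext hx)
      · right; exact Subtype.ext (Subtype.ext hx)
  rw [← h1, h2, h3]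
  norm_num

/-! ### the finite fact -/

section Fact

/-- the vector with coordinates `a`, `b` at `i`, `j` -/
def vec2 (i j : Fin 6) (a b : F) : Fin 6 → F := fun k => if k = i then a else if k = j then b else 0

theorem isR_vec2 {i j : Fin 6} (hij : i ≠ j) {a b : F} (ha : a ≠ 0) (hb : b ≠ 0) :
    IsR (vec2 i j a b) := by
  classical
  left
  have h1 : ∀ k, vec2 i j a b k ≠ 0 ↔ k = i ∨ k = j := by
    intro k
    by_cases hk : k = i
    · simp [vec2, hk, ha]
    · by_cases hk' : k = j
      · simp [vec2, hk', hb, hij.symm]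
      · simp [vec2, hk, hk']
  unfold wt
  rw [Finset.card_eq_two]
  refine ⟨i, j, hij, ?_⟩
  ext k
  rw [Finset.mem_filter, h1 k, Finset.mem_insert, Finset.mem_singleton]
  exact ⟨fun h => h.2, fun h => ⟨Finset.mem_univ k, h⟩⟩

theorem H_vec2_right {i j : Fin 6} (hij : i ≠ j) (a b : F) (d : Fin 6 → F) :
    H d (vec2 i j a b) = d i * a ^ 2 + d j * b ^ 2 := by
  rw [H_def, ← Finset.sum_subset (Finset.subset_univ ({i, j} : Finset (Fin 6)))]
  · rw [Finset.sum_pair hij]
    simp [vec2, hij.symm]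
  · intro k _ hk
    simp only [Finset.mem_insert, Finset.mem_singleton, not_or] at hk
    simp [vec2, hk.1, hk.2]

theorem vec2_left (i j : Fin 6) (a b : F) : vec2 i j a b i = a := by simp [vec2]

theorem vec2_right {i j : Fin 6} (hij : i ≠ j) (a b : F) : vec2 i j a b j = b := by
  simp [vec2, hij.symm]

theorem vec2_other {i j k : Fin 6} (hi : k ≠ i) (hj : k ≠ j) (a b : F) :
    vec2 i j a b k = 0 := by simp [vec2, hi, hj]

/-- the standard vector of `R` -/
def r0 : Fin 6 → F := vec2 0 1 1 1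

theorem isR_r0 : IsR (r0 : Fin 6 → F) := isR_vec2 (by decide) one_ne_zero one_ne_zero

theorem H_r0 (d : Fin 6 → F) : H d r0 = d 0 + d 1 := by
  rw [r0, H_vec2_right (by decide)]
  ring

variable {w : F}

/-- The finite fact used for the fusion in `Q`. -/
theorem fact (h2 : (2 : F) = 0) (hw : w ^ 2 + w + 1 = 0) (h3 : ∀ a : F, a ≠ 0 → a ^ 3 = 1)
    {d : Fin 6 → F} (hd : ∃ i : Fin 6, i ≠ 0 ∧ i ≠ 1 ∧ d i ≠ 0) :
    ∃ r s : Fin 6 → F, IsR r ∧ IsR s ∧ H r r0 = 0 ∧ H s r0 = 0 ∧ H d r = 1 ∧ H d s = 1 ∧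
      H r s = w := by
  obtain ⟨i, hi0, hi1, hi⟩ := hd
  have hw0 : w ≠ 0 := by
    rintro rfl
    simp at hw
  have hw3 : w ^ 3 = 1 := h3 w hw0
  have hww : w ^ 2 = w + 1 := by linear_combination hw - (w + 1) * h2
  by_cases hk : ∃ k : Fin 6, k ≠ 0 ∧ k ≠ 1 ∧ d k = 0
  · obtain ⟨k, hk0, hk1, hk⟩ := hk
    have hik : i ≠ k := by
      rintro rfl
      exact hi hk
    refine ⟨vec2 i k (d i) 1, vec2 i k (d i) w, isR_vec2 hik hi one_ne_zero,
      isR_vec2 hik hi hw0, ?_, ?_, ?_, ?_, ?_⟩
    · rw [H_r0, vec2_other hi0.symm hk0.symm, vec2_other hi1.symm hk1.symm, add_zero]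
    · rw [H_r0, vec2_other hi0.symm hk0.symm, vec2_other hi1.symm hk1.symm, add_zero]
    · rw [H_vec2_right hik, hk]
      linear_combination h3 (d i) hi
    · rw [H_vec2_right hik, hk]
      linear_combination h3 (d i) hi
    · rw [H_vec2_right hik, vec2_left, vec2_right hik]
      linear_combination h3 (d i) hi + hww + h2
  · push Not at hk
    have n23 : (2 : Fin 6) ≠ 3 := by decide
    have n24 : (2 : Fin 6) ≠ 4 := by decide
    have n43 : (4 : Fin 6) ≠ 3 := by decide
    have h2' := hk 2 (by decide) (by decide)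
    have h3' := hk 3 (by decide) (by decide)
    have h4' := hk 4 (by decide) (by decide)
    have e2 := h3 _ h2'
    have e3 := h3 _ h3'
    have e4 := h3 _ h4'
    refine ⟨vec2 2 3 (w ^ 2 * d 2) (w * d 3), vec2 2 4 (w * d 2) (w ^ 2 * d 4),
      isR_vec2 n23 (mul_ne_zero (pow_ne_zero 2 hw0) h2') (mul_ne_zero hw0 h3'),
      isR_vec2 n24 (mul_ne_zero hw0 h2') (mul_ne_zero (pow_ne_zero 2 hw0) h4'), ?_, ?_, ?_, ?_, ?_⟩
    · rw [H_r0, vec2_other (by decide) (by decide), vec2_other (by decide) (by decide), add_zero]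
    · rw [H_r0, vec2_other (by decide) (by decide), vec2_other (by decide) (by decide), add_zero]
    · rw [H_vec2_right n23]
      linear_combination w ^ 4 * e2 + w ^ 2 * e3 + w * hw3 + hw - h2
    · rw [H_vec2_right n24]
      linear_combination w ^ 2 * e2 + w ^ 4 * e4 + w * hw3 + hw - h2
    · rw [H_vec2_right n24, vec2_left, vec2_other (by decide) n43]
      linear_combination w ^ 4 * e2 + w * hw3

end Fact

/-! ### the main argument -/

section Main

variable [Finite G]

omit [Finite G] in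
theorem cj_le (L : Lab F Q M z) {g a : G} (ha : a = g * z * g⁻¹) {x : G} (hx : x ∈ cj g Q) :
    x * a = a * x := (L.conj' g a ha).large.comm_z x hx

/-- `|Q ∩ Q^g| ≥ 16` if `z^g ∈ Q`. -/
theorem card_inf (L : Lab F Q M z) {g a : G} (ha : a = g * z * g⁻¹) (haQ : a ∈ Q) (ha1 : a ≠ 1)
    (hne : a ≠ z) : 16 ≤ Nat.card (Q ⊓ cj g Q : Subgroup G) := by
  classical
  have h0 := Pair.card_dsub L.large haQ ha1 hne
  rw [card_Q L] at h0
  have hD : Nat.card (Pair.dsub Q a) = 2 ^ 12 := by omega
  have L' := L.conj' g a ha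
  have hAC : cj g Q ≤ Subgroup.centralizer ({a} : Set G) := fun x hx =>
    Subgroup.mem_centralizer_singleton_iff.2 (cj_le L ha hx)
  have hDC : Pair.dsub Q a ≤ Subgroup.centralizer ({a} : Set G) := inf_le_right
  let A' := (cj g Q).subgroupOf (Subgroup.centralizer ({a} : Set G))
  let D' := (Pair.dsub Q a).subgroupOf (Subgroup.centralizer ({a} : Set G))
  have hn : A'.Normal := by
    constructor
    intro n hn c
    rw [Subgroup.mem_subgroupOf] at hn ⊢
    exact L'.large.conj_mem c (Subgroup.mem_centralizer_singleton_iff.1 c.2) _ hn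
  have hcA : Nat.card A' = 2 ^ 13 := by
    rw [Nat.card_congr (Subgroup.subgroupOfEquivOfLe hAC).toEquiv, card_Q L']
  have hcD : Nat.card D' = 2 ^ 12 := by
    rw [Nat.card_congr (Subgroup.subgroupOfEquivOfLe hDC).toEquiv, hD]
  have hidx : A'.index = 19595520 := by
    have h1 := Subgroup.card_mul_index A'
    rw [hcA, L'.cardC, L'.cardM, card_Q L'] at h1
    omega
  have hrel : A'.relIndex D' ∣ 19595520 := hidx ▸ Subgroup.relIndex_dvd_index_of_normal A' D'
  have h1 := Subgroup.card_mul_index (A'.subgroupOf D')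
  rw [hcD] at h1
  have h2 : A'.relIndex D' ∣ 2 ^ 12 := ⟨_, by rw [mul_comm]; exact h1.symm⟩
  have h3 : A'.relIndex D' ∣ 256 := by
    have h4 := Nat.dvd_gcd h2 hrel
    have h5 : Nat.gcd (2 ^ 12) 19595520 = 256 := by norm_num
    rwa [h5] at h4
  have h4 : A'.relIndex D' ≤ 256 := Nat.le_of_dvd (by norm_num) h3
  have h5 : Nat.card (A'.subgroupOf D') ≤ Nat.card (Q ⊓ cj g Q : Subgroup G) := by
    refine Nat.card_le_card_of_injective
      (fun x => (⟨((x : D') : Subgroup.centralizer ({a} : Set G)), ?_⟩ :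
        (Q ⊓ cj g Q : Subgroup G))) ?_
    · have hx1 : ((x : D') : Subgroup.centralizer ({a} : Set G)) ∈ A' :=
        Subgroup.mem_subgroupOf.1 x.2
      have hx2 := Subgroup.mem_subgroupOf.1 (x : D').2
      exact ⟨(Pair.mem_dsub.1 hx2).1, Subgroup.mem_subgroupOf.1 hx1⟩
    · intro x y hxy
      apply Subtype.ext
      apply Subtype.ext
      apply Subtype.ext
      exact congrArg (fun t : (Q ⊓ cj g Q : Subgroup G) => (t : G)) hxy
  have h6 : 2 ^ 12 ≤ Nat.card (Q ⊓ cj g Q : Subgroup G) * 256 := by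
    calc 2 ^ 12 = Nat.card (A'.subgroupOf D') * A'.relIndex D' := h1.symm
      _ ≤ _ := Nat.mul_le_mul h5 h4
  omega

omit [Finite G] in
theorem exists_w (L : Lab F Q M z) : ∃ w : F, w ^ 2 + w + 1 = 0 := by
  classical
  have hfin : Finite F := Nat.finite_of_card_ne_zero (by rw [L.card]; norm_num)
  have : Fintype F := Fintype.ofFinite F
  have h4 : Fintype.card F = 4 := by rw [← Nat.card_eq_fintype_card]; exact L.card
  obtain ⟨w, hw⟩ : ∃ w : F, w ∉ ({0, 1} : Finset F) := by
    by_contra hcon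
    push Not at hcon
    have h5 : (Finset.univ : Finset F).card ≤ ({0, 1} : Finset F).card :=
      Finset.card_le_card fun x _ => hcon x
    rw [Finset.card_univ, h4, Finset.card_pair zero_ne_one] at h5
    omega
  simp only [Finset.mem_insert, Finset.mem_singleton, not_or] at hw
  refine ⟨w, ?_⟩
  have h5 := pow_three L hw.1
  have h6 : (w - 1) * (w ^ 2 + w + 1) = 0 := by linear_combination h5
  exact (mul_eq_zero.1 h6).resolve_left (sub_ne_zero.2 hw.2)

theorem aux (L : Lab F Q M z) {g a : G} (ha : a = g * z * g⁻¹) (haQ : a ∈ Q)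
    (hv : L.v a = r0) : False := by
  classical
  have hfin : Finite F := Nat.finite_of_card_ne_zero (by rw [L.card]; norm_num)
  have : Fintype F := Fintype.ofFinite F
  have h4 : Fintype.card F = 4 := by rw [← Nat.card_eq_fintype_card]; exact L.card
  have hr0 : (r0 : Fin 6 → F) ≠ 0 := isR_ne_zero isR_r0
  have ha1 : a ≠ 1 := by
    rintro rfl
    rw [L.v_one] at hv
    exact hr0 hv.symm
  have hne : a ≠ z := by
    rintro rfl
    rw [L.v_z] at hv
    exact hr0 hv.symm
  have L' := L.conj' g a ha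
  obtain ⟨w, hw⟩ := exists_w L
  have h2 := L.char_two
  have h3 : ∀ b : F, b ≠ 0 → b ^ 3 = 1 := fun b hb => pow_three L hb
  have hw0 : w ≠ 0 := by
    rintro rfl
    simp at hw
  have hw1 : w ≠ 1 := by
    rintro rfl
    apply one_ne_zero (α := F)
    linear_combination hw - h2
  have hP := card_inf L ha haQ ha1 hne
  set P : Subgroup G := Q ⊓ cj g Q with hPdef
  have hPQ : P ≤ Q := inf_le_left
  have haP : a ∈ P := ⟨haQ, L'.large.z_mem⟩
  -- commuting
  have hcomm : ∀ x ∈ P, ∀ y ∈ P, H (L.v x) (L.v y) = 0 ∨ H (L.v x) (L.v y) = 1 := by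
    intro x hx y hy
    rw [← L.comm_iff x hx.1 y hy.1]
    rcases L.large.comm x hx.1 y hy.1 with h | h
    · exact h
    · rcases L'.large.comm x hx.2 y hy.2 with h' | h'
      · exact h'
      · exact absurd (mul_left_cancel (h'.symm.trans h)) hne
  -- invariance
  have hinv : ∀ r s : Fin 6 → F, IsR r → IsR s → H r r0 = 0 → H s r0 = 0 → ∀ x ∈ P,
      ∃ y ∈ P, L.v y = tr r (tr s (L.v x)) := by
    intro r s hr hs hrr hsr x hx
    obtain ⟨m, hm, hρ⟩ := L.tau r s hr hs
    have hmz := L.M_comm m hm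
    have e1 : tr r (tr s (r0 : Fin 6 → F)) = r0 := by
      unfold tr
      rw [H_eq_zero_symm L hsr, zero_smul, add_zero, H_eq_zero_symm L hrr, zero_smul, add_zero]
    have e2 : L.v (m * a * m⁻¹) = L.v a := by
      rw [L.v_conj m hmz a haQ, hρ, hv, e1]
    obtain ⟨q, hq, hqa⟩ := exists_conj_of_v_eq L (L.ρ_surj_aux hmz haQ) haQ
      (by rw [e2, hv]; exact hr0) e2.symm
    have hqz := L.large.comm_z q hq
    have hcz : (q * m) * z = z * (q * m) := Lab.mul_comm' hqz hmz
    have hca : (q * m) * a = a * (q * m) := by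
      rw [← mul_inv_eq_iff_eq_mul]
      calc q * m * a * (q * m)⁻¹ = q * (m * a * m⁻¹) * q⁻¹ := by group
        _ = a := hqa
    refine ⟨(q * m) * x * (q * m)⁻¹, ⟨L.large.conj_mem _ hcz x hx.1,
      L'.large.conj_mem _ hca x hx.2⟩, ?_⟩
    rw [L.v_conj _ hcz x hx.1, L.ρ_mul hqz hmz, L.ρ_mem_Q hq, hρ]
  -- elements orthogonal to `r0`
  have hort : ∀ x ∈ P, H (L.v x) r0 = 0 → L.v x = (L.v x 0) • r0 := by
    intro x hx hxr
    by_contra hcon
    have hd : ∃ i : Fin 6, i ≠ 0 ∧ i ≠ 1 ∧ L.v x i ≠ 0 := by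
      by_contra hh
      push Not at hh
      apply hcon
      rw [H_r0] at hxr
      have h01 : L.v x 1 = L.v x 0 := by linear_combination hxr - (L.v x 0) * h2
      ext k
      rw [Pi.smul_apply, smul_eq_mul]
      by_cases hk0 : k = 0
      · rw [hk0, r0, vec2_left, mul_one]
      · by_cases hk1 : k = 1
        · rw [hk1, r0, vec2_right (by decide), mul_one, h01]
        · rw [hh k hk0 hk1, r0, vec2_other hk0 hk1, mul_zero]
    obtain ⟨r, s, hr, hs, hrr, hsr, hdr, hds, hrs⟩ := fact h2 hw h3 hd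
    have key : ∀ r : Fin 6 → F, IsR r → H r r0 = 0 → H (L.v x) r = 1 → ∃ y ∈ P, L.v y = r := by
      intro r hr hrr hdr
      obtain ⟨y, hy, hvy⟩ := hinv r0 r isR_r0 hr (by
        rw [H_r0, r0, vec2_left, vec2_right (by decide), one_add_one_eq_two, h2]) hrr x hx
      refine ⟨x * y, P.mul_mem hx hy, ?_⟩
      rw [L.v_mul x hx.1 y hy.1, hvy]
      unfold tr
      rw [hdr, one_smul, H_add_left, hxr, hrr, add_zero, zero_smul, add_zero, ← add_assoc,
        L.add_self, zero_add]
    obtain ⟨y, hy, hvy⟩ := key r hr hrr hdr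
    obtain ⟨y', hy', hvy'⟩ := key s hs hsr hds
    have h5 := hcomm y hy y' hy'
    rw [hvy, hvy', hrs] at h5
    exact h5.elim hw0 hw1
  -- the bound
  have hbound : Nat.card P ≤ 8 := by
    by_cases hA : ∀ x ∈ P, H (L.v x) r0 = 0
    · have h5 := card_le L P hPQ (Finset.univ.image fun c : F => c • (r0 : Fin 6 → F))
        (fun x hx => Finset.mem_image.2 ⟨_, Finset.mem_univ _, (hort x hx (hA x hx)).symm⟩)
      have h6 : (Finset.univ.image fun c : F => c • (r0 : Fin 6 → F)).card ≤ 4 := by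
        rw [← h4]
        exact Finset.card_image_le
      omega
    · push Not at hA
      obtain ⟨x0, hx0, hx0r⟩ := hA
      have hx01 : H (L.v x0) r0 = 1 := by
        have h5 := hcomm x0 hx0 a haP
        rw [hv] at h5
        exact h5.resolve_left hx0r
      have h0x : H r0 (L.v x0) = 1 := by
        rw [H_symm L, hx01, one_pow]
      have hk : ∀ x ∈ P, H (L.v x) r0 = 0 → L.v x = 0 ∨ L.v x = r0 := by
        intro x hx hxr
        have h5 := hort x hx hxr
        have h6 := hcomm x hx x0 hx0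
        rw [h5, H_smul_left, h0x, mul_one] at h6
        rcases h6 with h6 | h6
        · left; rw [h5, h6, zero_smul]
        · right; rw [h5, h6, one_smul]
      have h5 := card_le L P hPQ {0, r0, L.v x0, L.v x0 + r0} (by
        intro x hx
        simp only [Finset.mem_insert, Finset.mem_singleton]
        by_cases hxr : H (L.v x) r0 = 0
        · rcases hk x hx hxr with h6 | h6
          · exact Or.inl h6
          · exact Or.inr (Or.inl h6)
        · have hx1 : H (L.v x) r0 = 1 := by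
            have h6 := hcomm x hx a haP
            rw [hv] at h6
            exact h6.resolve_left hxr
          have h6 : H (L.v (x * x0)) r0 = 0 := by
            rw [L.v_mul x hx.1 x0 hx0.1, H_add_left, hx1, hx01, one_add_one_eq_two, h2]
          have h7 : L.v x = L.v x0 + L.v (x * x0) := by
            rw [L.v_mul x hx.1 x0 hx0.1, add_comm (L.v x), ← add_assoc, L.add_self, zero_add]
          rcases hk _ (P.mul_mem hx hx0) h6 with h8 | h8
          · rw [h8, add_zero] at h7
            exact Or.inr (Or.inr (Or.inl h7))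
          · rw [h8] at h7
            exact Or.inr (Or.inr (Or.inr h7)))
      have h6 : ({0, r0, L.v x0, L.v x0 + r0} : Finset (Fin 6 → F)).card ≤ 4 :=
        Finset.card_le_four
      omega
  omega

/-- **Piece (1)**: a conjugate of `z` in `Q` does not have its label in `R`. -/
theorem not_isR_of_conj (L : Lab F Q M z) {g : G} (h : g * z * g⁻¹ ∈ Q) :
    ¬ IsR (L.v (g * z * g⁻¹)) := by
  intro hr
  obtain ⟨m, hm, hv⟩ := L.transR _ r0 hr isR_r0
  have hmz := L.M_comm m hm
  refine aux L (g := m * g) (a := m * (g * z * g⁻¹) * m⁻¹) (by group)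
    (L.ρ_surj_aux hmz h) ?_
  rw [L.v_conj m hmz _ h, hv]

/-- The elements with label in `R` are not conjugate to `z`. -/
theorem not_twoB_of_isR (L : Lab F Q M z) {x : G} (hx : x ∈ Q) (hr : IsR (L.v x)) :
    ¬ L.TwoB x := by
  rintro ⟨g, rfl⟩
  exact not_isR_of_conj L hx hr

/-- The two classes are disjoint. -/
theorem not_twoB_of_twoA (L : Lab F Q M z) {x : G} (hx : L.TwoA x) : ¬ L.TwoB x := by
  obtain ⟨g, h1, h2⟩ := hx
  intro hB
  apply not_twoB_of_isR L h1 h2
  have := L.twoB_conj g⁻¹ hB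
  rwa [inv_inv] at this

end Main

/-! ### the vectors of type `S` -/

/-- Isotropic nonzero vectors are of type `R` or `S`. -/
theorem isR_or_isS (h2 : (2 : F) = 0) (h3 : ∀ a : F, a ≠ 0 → a ^ 3 = 1) {v : Fin 6 → F}
    (hv : v ≠ 0) (hH : H v v = 0) : IsR v ∨ IsS v := by
  classical
  have h1 : H v v = (wt v : F) := by
    rw [H_def]
    unfold wt
    rw [Finset.card_filter, Nat.cast_sum]
    refine Finset.sum_congr rfl fun i _ => ?_
    by_cases hi : v i = 0
    · rw [hi, if_neg (by simp)]; simp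
    · rw [if_pos hi, Nat.cast_one]
      linear_combination h3 _ hi
  rw [h1] at hH
  have hle : wt v ≤ 6 := by
    unfold wt
    exact (Finset.card_filter_le _ _).trans (by simp)
  have hodd : ∀ k : ℕ, ((2 * k + 1 : ℕ) : F) ≠ 0 := by
    intro k hk
    rw [Nat.cast_add, Nat.cast_mul, Nat.cast_ofNat, h2, zero_mul, zero_add, Nat.cast_one] at hk
    exact one_ne_zero hk
  have hpos : wt v ≠ 0 := by
    intro h0
    apply hv
    unfold wt at h0
    rw [Finset.card_eq_zero, Finset.filter_eq_empty_iff] at h0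
    ext i
    have := h0 (Finset.mem_univ i)
    push Not at this
    exact this
  have hcase : wt v = 2 ∨ wt v = 4 ∨ wt v = 6 ∨ wt v = 2 * 0 + 1 ∨ wt v = 2 * 1 + 1 ∨
      wt v = 2 * 2 + 1 := by omega
  rcases hcase with h | h | h | h | h | h
  · exact Or.inl (Or.inl h)
  · exact Or.inr (Or.inl h)
  · by_cases hp : ∏ i, v i = 1
    · exact Or.inl (Or.inr ⟨h, hp⟩)
    · exact Or.inr (Or.inr ⟨h, hp⟩)
  · exact absurd (h ▸ hH) (hodd 0)
  · exact absurd (h ▸ hH) (hodd 1)
  · exact absurd (h ▸ hH) (hodd 2)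

theorem isS_ne_zero {w : Fin 6 → F} (hw : IsS w) : w ≠ 0 := by
  rintro rfl
  have h0 : wt (0 : Fin 6 → F) = 0 := by simp [wt]
  rcases hw with h | h
  · omega
  · omega

/-- If some other conjugate of `z` lies in `Q` then all elements with label in `S` are conjugate to `z`. -/
theorem twoB_of_isS [Finite G] (L : Lab F Q M z)
    (hnwc : ∃ g : G, g * z * g⁻¹ ∈ Q ∧ g * z * g⁻¹ ≠ z) {x : G} (hx : x ∈ Q)
    (hs : IsS (L.v x)) : L.TwoB x := by
  obtain ⟨g, hg, hne⟩ := hnwc
  have h3 : ∀ b : F, b ≠ 0 → b ^ 3 = 1 := fun b hb => pow_three L hb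
  have hg1 : g * z * g⁻¹ ≠ 1 := by
    intro h
    apply L.large.z_ne
    calc z = g⁻¹ * (g * z * g⁻¹) * g := by group
      _ = 1 := by rw [h]; group
  have hv : L.v (g * z * g⁻¹) ≠ 0 := by
    intro h
    rcases (L.v_eq_zero _ hg).1 h with h | h
    · exact hg1 h
    · exact hne h
  have hsq : H (L.v (g * z * g⁻¹)) (L.v (g * z * g⁻¹)) = 0 := by
    rw [← L.sq_iff _ hg]
    calc g * z * g⁻¹ * (g * z * g⁻¹) = g * (z * z) * g⁻¹ := by group
      _ = 1 := by rw [L.large.z_sq]; group
  have hS : IsS (L.v (g * z * g⁻¹)) :=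
    (isR_or_isS L.char_two h3 hv hsq).resolve_left (not_isR_of_conj L hg)
  obtain ⟨m, hm, hρ⟩ := L.transS _ _ hS hs
  obtain ⟨q, hq, h⟩ := exists_conj_of_ρ L hg hx (isS_ne_zero hs) (L.M_comm m hm) hρ
  exact ⟨q * m * g, by rw [← h]; group⟩

/-- The elements of `Q` with label in `S` are the conjugates of `z` in `Q` different from `z`. -/
theorem twoB_iff [Finite G] (L : Lab F Q M z)
    (hnwc : ∃ g : G, g * z * g⁻¹ ∈ Q ∧ g * z * g⁻¹ ≠ z) {x : G} (hx : x ∈ Q) :
    L.TwoB x ↔ x = z ∨ IsS (L.v x) := by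
  constructor
  · rintro ⟨g, rfl⟩
    by_cases hz : g * z * g⁻¹ = z
    · exact Or.inl hz
    · right
      have h3 : ∀ b : F, b ≠ 0 → b ^ 3 = 1 := fun b hb => pow_three L hb
      have hg1 : g * z * g⁻¹ ≠ 1 := by
        intro h
        apply L.large.z_ne
        calc z = g⁻¹ * (g * z * g⁻¹) * g := by group
          _ = 1 := by rw [h]; group
      have hv : L.v (g * z * g⁻¹) ≠ 0 := by
        intro h
        rcases (L.v_eq_zero _ hx).1 h with h | h
        · exact hg1 h
        · exact hz h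
      have hsq : H (L.v (g * z * g⁻¹)) (L.v (g * z * g⁻¹)) = 0 := by
        rw [← L.sq_iff _ hx]
        calc g * z * g⁻¹ * (g * z * g⁻¹) = g * (z * z) * g⁻¹ := by group
          _ = 1 := by rw [L.large.z_sq]; group
      exact (isR_or_isS L.char_two h3 hv hsq).resolve_left (not_isR_of_conj L hx)
  · rintro (rfl | h)
    · exact L.twoB_self
    · exact twoB_of_isS L hnwc hx h

end Cfsg.Agent.R08.FusQ
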