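import Cfsg.Agent.R08.ModMono
import Cfsg.Agent.R08.Iface

/-!
# R08 (S1715): finite geometry of `F4 ^ 6` (helper261)

Coded vectors `V6` for kernel computations; the predicates `Iface.IsR`, `Iface.IsS`, `Iface.H` over the
concrete field `F4`.
-/

set_option autoImplicit false

namespace Cfsg.Agent.R08.Geo

open Cfsg.Agent.SporRec.GF4 Cfsg.Agent.R08 Cfsg.Agent.R08.ModVec
open Cfsg.Agent.SporRec.GF4.F4 (add' mul')

/-- coded vectors -/
structure V6 where
  a : F4
  b : F4
  c : F4
  d : F4
  e : F4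
  f : F4

namespace V6

/-- the vector -/
def w (u : V6) : W := ![u.a, u.b, u.c, u.d, u.e, u.f]

/-- the code of a vector -/
def of (v : W) : V6 := ⟨v 0, v 1, v 2, v 3, v 4, v 5⟩

theorem w_of (v : W) : (of v).w = v := by
  funext i
  fin_cases i <;> rfl

theorem of_w (u : V6) : of u.w = u := rfl

/-- hermitian form -/
def h (u v : V6) : F4 :=
  add' (add' (add' (add' (add' (mul' u.a (ModVec.cj v.a)) (mul' u.b (ModVec.cj v.b)))
    (mul' u.c (ModVec.cj v.c))) (mul' u.d (ModVec.cj v.d))) (mul' u.e (ModVec.cj v.e)))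
    (mul' u.f (ModVec.cj v.f))

/-- sum -/
def add (u v : V6) : V6 :=
  ⟨add' u.a v.a, add' u.b v.b, add' u.c v.c, add' u.d v.d, add' u.e v.e, add' u.f v.f⟩

/-- scalar multiple -/
def sm (t : F4) (v : V6) : V6 :=
  ⟨mul' t v.a, mul' t v.b, mul' t v.c, mul' t v.d, mul' t v.e, mul' t v.f⟩

/-- weight -/
def wt (u : V6) : ℕ := nz u.a + nz u.b + nz u.c + nz u.d + nz u.e + nz u.f

/-- product of the coordinates -/
def pr (u : V6) : F4 := mul' (mul' (mul' (mul' (mul' u.a u.b) u.c) u.d) u.e) u.f

/-- `= 0` -/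
def isZ : F4 → Bool
  | .z => true
  | _ => false

/-- `= 1` -/
def isO : F4 → Bool
  | .o => true
  | _ => false

/-- equality -/
def eqF : F4 → F4 → Bool
  | .z, .z => true
  | .o, .o => true
  | .w, .w => true
  | .v, .v => true
  | _, _ => false

/-- equality -/
def eq (u v : V6) : Bool :=
  eqF u.a v.a && eqF u.b v.b && eqF u.c v.c && eqF u.d v.d && eqF u.e v.e && eqF u.f v.f

/-- `R`-vectors -/
def isR (u : V6) : Bool := Nat.beq u.wt 2 || (Nat.beq u.wt 6 && isO u.pr)

/-- `S`-vectors -/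
def isS (u : V6) : Bool := Nat.beq u.wt 4 || (Nat.beq u.wt 6 && !isO u.pr)

/-- `∀` -/
def all (p : V6 → Bool) : Bool :=
  all4 fun a => all4 fun b => all4 fun c => all4 fun d => all4 fun e => all4 fun f =>
    p ⟨a, b, c, d, e, f⟩

theorem of_all {p : V6 → Bool} (h : all p = true) (u : V6) : p u = true :=
  of_all4 (of_all4 (of_all4 (of_all4 (of_all4 (of_all4 h u.a) u.b) u.c) u.d) u.e) u.f

/-- `∃` over a list -/
def ex (l : List V6) (p : V6 → Bool) : Bool :=
  match l with
  | [] => false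
  | x :: l => p x || ex l p

theorem of_ex {p : V6 → Bool} : ∀ {l : List V6}, ex l p = true → ∃ x, p x = true
  | [], h => by exact absurd h (by simp [ex])
  | x :: l, h => by
    rw [ex, Bool.or_eq_true] at h
    rcases h with h | h
    · exact ⟨x, h⟩
    · exact of_ex h

theorem isZ_iff {x : F4} : isZ x = true ↔ x = 0 := by cases x <;> decide

theorem isO_iff {x : F4} : isO x = true ↔ x = 1 := by cases x <;> decide

theorem eqF_iff {x y : F4} : eqF x y = true ↔ x = y := by cases x <;> cases y <;> decide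

theorem eq_iff {u v : V6} : eq u v = true ↔ u = v := by
  obtain ⟨a, b, c, d, e, f⟩ := u
  obtain ⟨a', b', c', d', e', f'⟩ := v
  simp only [eq, Bool.and_eq_true, eqF_iff, V6.mk.injEq]
  tauto

theorem h_eq (u v : V6) : herm u.w v.w = u.h v := herm_eq _ _

theorem h_of (u v : W) : herm u v = (of u).h (of v) := herm_eq _ _

theorem add_w (u v : V6) : (u.add v).w = u.w + v.w := by
  funext i
  fin_cases i <;> rfl

theorem of_add (u v : W) : of (u + v) = (of u).add (of v) := rfl

theorem sm_w (t : F4) (v : V6) : (v.sm t).w = t • v.w := by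
  funext i
  fin_cases i <;> rfl

theorem of_smul (t : F4) (v : W) : of (t • v) = (of v).sm t := rfl

theorem wt_of (v : W) : ModVec.wt v = (of v).wt := wt_eq v

theorem pr_of (v : W) : ∏ i, v i = (of v).pr := prod_eq v

theorem isR_of (v : W) : ModVec.IsR v ↔ (of v).isR = true := by
  unfold ModVec.IsR isR
  rw [wt_of, pr_of, Bool.or_eq_true, Bool.and_eq_true, Nat.beq_eq, Nat.beq_eq, isO_iff]

theorem isS_of (v : W) : ModVec.IsS v ↔ (of v).isS = true := by
  unfold ModVec.IsS isS
  rw [wt_of, pr_of, Bool.or_eq_true, Bool.and_eq_true, Nat.beq_eq, Nat.beq_eq, Bool.not_eq_true',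
    ← Bool.not_eq_true, isO_iff]

end V6

/-! ### the interface predicates -/

theorem wt_iface (v : W) : Iface.wt v = ModVec.wt v := by
  unfold Iface.wt ModVec.wt
  congr

theorem isR_iface {v : W} : Iface.IsR v ↔ ModVec.IsR v := by
  unfold Iface.IsR ModVec.IsR
  rw [wt_iface]

theorem isS_iface {v : W} : Iface.IsS v ↔ ModVec.IsS v := by
  unfold Iface.IsS ModVec.IsS
  rw [wt_iface]

theorem H_iface (u v : W) : Iface.H u v = herm u v := rfl

theorem isR_iff {v : W} : Iface.IsR v ↔ (V6.of v).isR = true := isR_iface.trans (V6.isR_of v)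

theorem isS_iff {v : W} : Iface.IsS v ↔ (V6.of v).isS = true := isS_iface.trans (V6.isS_of v)

theorem H_of (u v : W) : Iface.H u v = (V6.of u).h (V6.of v) := V6.h_of u v

end Cfsg.Agent.R08.Geo
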