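import Cfsg.Agent.R08.Geo

/-!
# R08 (S1715): finite geometry of `F4 ^ 6`, symmetries and basic facts (helper261)
-/

set_option autoImplicit false

namespace Cfsg.Agent.R08.Geo

open Cfsg.Agent.SporRec.GF4 Cfsg.Agent.R08 Cfsg.Agent.R08.Iface
open Cfsg.Agent.R08.ModVec (W)

/-- symmetries of `(W, H, R, S)` -/
structure Sym (g : W → W) : Prop where
  add : ∀ u v, g (u + v) = g u + g v
  smul : ∀ (a : F4) (v : W), g (a • v) = a • g v
  form : ∀ u v : W, H (g u) (g v) = H u v
  isR : ∀ v, IsR (g v) ↔ IsR v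
  isS : ∀ v, IsS (g v) ↔ IsS v
  surj : Function.Surjective g

theorem Sym.zero {g : W → W} (hg : Sym g) : g 0 = 0 := by
  have := hg.smul 0 0
  rwa [zero_smul, zero_smul] at this

theorem Sym.inj {g : W → W} (hg : Sym g) : Function.Injective g :=
  Finite.injective_iff_surjective.2 hg.surj

/-- monomial maps -/
def mono (s : Equiv.Perm (Fin 6)) (d : Fin 6 → F4) (v : W) : W := fun i => d i * v (s⁻¹ i)

theorem sym_mono {s : Equiv.Perm (Fin 6)} {d : Fin 6 → F4} (hd : ∀ i, d i ≠ 0)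
    (hp : ∏ i, d i = 1) : Sym (mono s d) := by
  have hwt : ∀ v : W, ModVec.wt (mono s d v) = ModVec.wt v := by
    intro v
    unfold ModVec.wt
    refine Finset.card_bij' (fun i _ => s⁻¹ i) (fun i _ => s i) ?_ ?_ ?_ ?_
    · intro i hi
      simp only [Finset.mem_filter, Finset.mem_univ, true_and] at hi ⊢
      exact fun h => hi (by show d i * v (s⁻¹ i) = 0; rw [h, mul_zero])
    · intro i hi
      simp only [Finset.mem_filter, Finset.mem_univ, true_and] at hi ⊢
      show d (s i) * v (s⁻¹ (s i)) ≠ 0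
      rw [show s⁻¹ (s i) = i from s.symm_apply_apply i]
      exact mul_ne_zero (hd _) hi
    · intro i _; exact s.apply_symm_apply i
    · intro i _; exact s.symm_apply_apply i
  have hpr : ∀ v : W, ∏ i, mono s d v i = ∏ i, v i := by
    intro v
    show ∏ i, d i * v (s⁻¹ i) = _
    rw [Finset.prod_mul_distrib, hp, one_mul]
    exact Equiv.prod_comp s⁻¹ v
  refine ⟨fun u v => ?_, fun a v => ?_, fun u v => ?_, fun v => ?_, fun v => ?_, fun v => ?_⟩
  · funext i
    show d i * (u (s⁻¹ i) + v (s⁻¹ i)) = d i * u (s⁻¹ i) + d i * v (s⁻¹ i)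
    rw [mul_add]
  · funext i
    show d i * (a * v (s⁻¹ i)) = a * (d i * v (s⁻¹ i))
    ring
  · show ModVec.herm _ _ = ModVec.herm _ _
    rw [ModVec.herm_def, ModVec.herm_def]
    rw [← Equiv.sum_comp s⁻¹ (fun i => u i * ModVec.cj (v i))]
    refine Finset.sum_congr rfl fun i _ => ?_
    show d i * u (s⁻¹ i) * ModVec.cj (d i * v (s⁻¹ i)) = _
    rw [ModVec.cj_mul]
    calc d i * u (s⁻¹ i) * (ModVec.cj (d i) * ModVec.cj (v (s⁻¹ i)))
        = (d i * ModVec.cj (d i)) * (u (s⁻¹ i) * ModVec.cj (v (s⁻¹ i))) := by ring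
      _ = _ := by rw [ModVec.mul_cj (hd i), one_mul]
  · rw [isR_iface, isR_iface]
    unfold ModVec.IsR
    rw [hwt, hpr]
  · rw [isS_iface, isS_iface]
    unfold ModVec.IsS
    rw [hwt, hpr]
  · refine ⟨fun i => (d (s i))⁻¹ * v (s i), ?_⟩
    funext i
    show d i * ((d (s (s⁻¹ i)))⁻¹ * v (s (s⁻¹ i))) = v i
    rw [show s (s⁻¹ i) = i from s.apply_symm_apply i, ← mul_assoc, mul_inv_cancel₀ (hd i), one_mul]

/-- the standard `R`-vector of weight two -/
def rA : V6 := ⟨.o, .o, .z, .z, .z, .z⟩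

/-- the standard `R`-vector of weight six -/
def rB : V6 := ⟨.o, .o, .o, .o, .o, .o⟩

/-- the standard `S`-vector of weight four -/
def sA : V6 := ⟨.o, .o, .o, .o, .z, .z⟩

/-- the standard `S`-vectors of weight six -/
def sB : V6 := ⟨.o, .o, .o, .o, .o, .w⟩

/-- the standard `S`-vectors of weight six -/
def sC : V6 := ⟨.o, .o, .o, .o, .o, .v⟩

theorem exists_sym_aux {v w : W} (h : ModVec.wt v = ModVec.wt w)
    (hp : ModVec.wt v = 6 → ∏ i, v i = ∏ i, w i) : ∃ g, Sym g ∧ g v = w := by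
  obtain ⟨s, d, -, hd, hd1, hw⟩ := ModMono.exists_mono h hp
  exact ⟨mono s d, sym_mono hd hd1, (funext hw).symm⟩

theorem exists_symR {v : W} (hv : IsR v) : ∃ g, Sym g ∧ (g v = rA.w ∨ g v = rB.w) := by
  rw [isR_iface] at hv
  rcases hv with h | ⟨h, h'⟩
  · obtain ⟨g, hg, hgv⟩ := exists_sym_aux (v := v) (w := rA.w)
      (h.trans (by rw [V6.wt_of]; decide)) (fun h6 => by rw [h] at h6; exact absurd h6 (by decide))
    exact ⟨g, hg, Or.inl hgv⟩
  · obtain ⟨g, hg, hgv⟩ := exists_sym_aux (v := v) (w := rB.w)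
      (h.trans (by rw [V6.wt_of]; decide)) (fun _ => h'.trans (by rw [V6.pr_of]; decide))
    exact ⟨g, hg, Or.inr hgv⟩

theorem exists_symS {v : W} (hv : IsS v) :
    ∃ g, Sym g ∧ (g v = sA.w ∨ g v = sB.w ∨ g v = sC.w) := by
  rw [isS_iface] at hv
  rcases hv with h | ⟨h, h'⟩
  · obtain ⟨g, hg, hgv⟩ := exists_sym_aux (v := v) (w := sA.w)
      (h.trans (by rw [V6.wt_of]; decide)) (fun h6 => by rw [h] at h6; exact absurd h6 (by decide))
    exact ⟨g, hg, Or.inl hgv⟩
  · have h0 : ∏ i, v i ≠ 0 := by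
      rw [Finset.prod_ne_zero_iff]
      intro i _
      exact (ModMono.wt_eq_six.1 h) i
    have hcase : ∏ i, v i = F4.w ∨ ∏ i, v i = F4.v := by
      revert h0 h'
      generalize ∏ i, v i = x
      cases x
      · intro _ h; exact absurd rfl h
      · intro h _; exact absurd rfl h
      · intro _ _; left; rfl
      · intro _ _; right; rfl
    rcases hcase with hc | hc
    · obtain ⟨g, hg, hgv⟩ := exists_sym_aux (v := v) (w := sB.w)
        (h.trans (by rw [V6.wt_of]; decide)) (fun _ => hc.trans (by rw [V6.pr_of]; decide))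
      exact ⟨g, hg, Or.inr (Or.inl hgv)⟩
    · obtain ⟨g, hg, hgv⟩ := exists_sym_aux (v := v) (w := sC.w)
        (h.trans (by rw [V6.wt_of]; decide)) (fun _ => hc.trans (by rw [V6.pr_of]; decide))
      exact ⟨g, hg, Or.inr (Or.inr hgv)⟩

/-! ### third point rule -/

theorem third_aux : (V6.all fun v =>
    (!(v.isR && V6.isO (rA.h v)) || (rA.add v).isR) &&
    (!(v.isR && V6.isO (rB.h v)) || (rB.add v).isR)) = true := by
  decide +kernel

/-- **Third point rule.** -/
theorem third {x y : W} (hx : IsR x) (hy : IsR y) (h : H x y = 1) : IsR (x + y) := by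
  obtain ⟨g, hg, hgx⟩ := exists_symR hx
  have hgy : IsR (g y) := (hg.isR y).2 hy
  have hgh : H (g x) (g y) = 1 := (hg.form x y).trans h
  have key := V6.of_all third_aux (V6.of (g y))
  rw [Bool.and_eq_true] at key
  rw [← hg.isR, hg.add]
  rw [isR_iff] at hgy
  rcases hgx with e | e
  · rw [e] at hgh ⊢
    rw [isR_iff, V6.of_add, V6.of_w]
    rw [H_of, V6.of_w] at hgh
    simpa [hgy, V6.isO_iff.2 hgh] using key.1
  · rw [e] at hgh ⊢
    rw [isR_iff, V6.of_add, V6.of_w]
    rw [H_of, V6.of_w] at hgh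
    simpa [hgy, V6.isO_iff.2 hgh] using key.2

end Cfsg.Agent.R08.Geo
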