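import Cfsg.Agent.R08.Geo2

/-!
# R08 (S1715): finite geometry of `F4 ^ 6`, lines, connectivity (helper261)
-/

set_option autoImplicit false

namespace Cfsg.Agent.R08.Geo

open Cfsg.Agent.SporRec.GF4 Cfsg.Agent.R08 Cfsg.Agent.R08.Iface
open Cfsg.Agent.R08.ModVec (W)

/-! ### `H` -/

theorem H_add_left (u u' v : W) : H (u + u') v = H u v + H u' v := ModVec.herm_add_left u u' v

theorem H_add_right (u v v' : W) : H u (v + v') = H u v + H u v' := ModVec.herm_add_right u v v'

theorem H_smul_left (a : F4) (u v : W) : H (a • u) v = a * H u v := ModVec.herm_smul_left a u v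

theorem H_smul_right (a : F4) (u v : W) : H u (a • v) = ModVec.cj a * H u v :=
  ModVec.herm_smul_right a u v

theorem H_symm (u v : W) : H v u = ModVec.cj (H u v) := ModVec.herm_symm u v

theorem H_zero_symm {u v : W} : H u v = 0 ↔ H v u = 0 := ModVec.herm_eq_zero_symm

theorem H_one_symm {u v : W} : H u v = 1 ↔ H v u = 1 := by
  rw [H_symm u v]
  generalize H u v = x
  cases x <;> decide

theorem H_zero_left (v : W) : H 0 v = 0 := ModVec.herm_zero_left v

theorem H_zero_right (v : W) : H v 0 = 0 := ModVec.herm_zero_right v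

/-- exactly one -/
def one4 (p : F4 → Bool) : Bool :=
  match p .z, p .o, p .w, p .v with
  | true, false, false, false => true
  | false, true, false, false => true
  | false, false, true, false => true
  | false, false, false, true => true
  | _, _, _, _ => false

theorem of_one4 {p : F4 → Bool} (h : one4 p = true) :
    ∃ a, p a = true ∧ ∀ b, p b = true → b = a := by
  unfold one4 at h
  rcases hz : p .z with _ | _ <;> rcases ho : p .o with _ | _ <;>
    rcases hw : p .w with _ | _ <;> rcases hv : p .v with _ | _ <;>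
    simp [hz, ho, hw, hv] at h
  · exact ⟨.v, hv, fun b hb => by cases b <;> simp_all⟩
  · exact ⟨.w, hw, fun b hb => by cases b <;> simp_all⟩
  · exact ⟨.o, ho, fun b hb => by cases b <;> simp_all⟩
  · exact ⟨.z, hz, fun b hb => by cases b <;> simp_all⟩

/-- is a multiple -/
def mult (r v : V6) : Bool :=
  V6.eq v (r.sm .z) || V6.eq v (r.sm .o) || V6.eq v (r.sm .w) || V6.eq v (r.sm .v)

theorem mult_iff {r v : V6} : mult r v = true ↔ ∃ a : F4, v.w = a • r.w := by
  unfold mult
  rw [Bool.or_eq_true, Bool.or_eq_true, Bool.or_eq_true, V6.eq_iff, V6.eq_iff, V6.eq_iff, V6.eq_iff]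
  constructor
  · rintro (((h | h) | h) | h)
    · exact ⟨.z, by rw [h, V6.sm_w]⟩
    · exact ⟨.o, by rw [h, V6.sm_w]⟩
    · exact ⟨.w, by rw [h, V6.sm_w]⟩
    · exact ⟨.v, by rw [h, V6.sm_w]⟩
  · rintro ⟨a, ha⟩
    have h2 : v = r.sm a := by
      rw [← V6.of_w v, ha, ← V6.sm_w, V6.of_w]
    cases a
    · exact Or.inl (Or.inl (Or.inl h2))
    · exact Or.inl (Or.inl (Or.inr h2))
    · exact Or.inl (Or.inr h2)
    · exact Or.inr h2

theorem mult_false {r v : V6} : mult r v = false ↔ ∀ a : F4, v.w ≠ a • r.w := by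
  rw [← Bool.not_eq_true, mult_iff]
  push Not
  rfl

/-! ### totally isotropic lines through an `R`-vector -/

/-- the check -/
def lineB (r : V6) : Bool := V6.all fun v =>
  !(V6.isZ (v.h v) && V6.isZ (v.h r) && !(mult r v)) || one4 fun a => (v.add (r.sm a)).isR

theorem lineA_check : lineB rA = true := by decide +kernel

theorem lineB_check : lineB rB = true := by decide +kernel

theorem line_std {r : V6} (hr : lineB r = true) {w : W} (hw : H w w = 0) (hwr : H w r.w = 0)
    (hn : ∀ a : F4, w ≠ a • r.w) :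
    ∃ a : F4, IsR (w + a • r.w) ∧ ∀ b : F4, IsR (w + b • r.w) → b = a := by
  have key := V6.of_all hr (V6.of w)
  have h1 : V6.isZ ((V6.of w).h (V6.of w)) = true := V6.isZ_iff.2 (by rw [← V6.h_of]; exact hw)
  have h2 : V6.isZ ((V6.of w).h r) = true := V6.isZ_iff.2 (by
    have := V6.h_of w r.w
    rw [V6.of_w] at this
    rw [← this]; exact hwr)
  have h3 : mult r (V6.of w) = false := by
    rw [mult_false, V6.w_of]; exact hn
  rw [h1, h2, h3] at key
  simp only [Bool.and_self, Bool.not_false, Bool.and_true, Bool.not_true, Bool.false_or] at key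
  obtain ⟨a, ha, hb⟩ := of_one4 key
  refine ⟨a, ?_, fun b hb' => hb b ?_⟩
  · rw [isR_iff, V6.of_add, V6.of_smul, V6.of_w]; exact ha
  · rw [isR_iff, V6.of_add, V6.of_smul, V6.of_w] at hb'; exact hb'

/-- **Lines**: a totally isotropic line through an `R`-vector contains exactly one more `R`-point. -/
theorem line {r w : W} (hr : IsR r) (hw : H w w = 0) (hwr : H w r = 0)
    (hn : ∀ a : F4, w ≠ a • r) :
    ∃ a : F4, IsR (w + a • r) ∧ ∀ b : F4, IsR (w + b • r) → b = a := by
  obtain ⟨g, hg, hgr⟩ := exists_symR hr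
  have key : ∀ q : V6, lineB q = true → g r = q.w →
      ∃ a : F4, IsR (g w + a • g r) ∧ ∀ b : F4, IsR (g w + b • g r) → b = a := by
    intro q hq e
    rw [e]
    refine line_std hq ((hg.form w w).trans hw) ?_ ?_
    · rw [← e, hg.form]; exact hwr
    · intro a ha
      rw [← e, ← hg.smul] at ha
      exact hn a (hg.inj ha)
  have key' : ∃ a : F4, IsR (g w + a • g r) ∧ ∀ b : F4, IsR (g w + b • g r) → b = a := by
    rcases hgr with e | e
    · exact key rA lineA_check e
    · exact key rB lineB_check e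
  obtain ⟨a, ha, hb⟩ := key'
  refine ⟨a, ?_, fun b hb' => hb b ?_⟩
  · rw [← hg.isR, hg.add, hg.smul]; exact ha
  · rw [← hg.isR, hg.add, hg.smul] at hb'; exact hb'

/-! ### the orthogonality graph -/

/-- five hyperoval vectors (and a substitute) -/
def hyp : List V6 :=
  [⟨.z, .z, .z, .z, .o, .o⟩, ⟨.z, .z, .o, .o, .z, .z⟩, ⟨.o, .o, .z, .z, .z, .z⟩,
   ⟨.o, .o, .o, .o, .o, .o⟩, ⟨.o, .o, .w, .w, .v, .v⟩, ⟨.o, .o, .v, .v, .w, .w⟩]

/-- the check -/
def diamB (r : V6) : Bool := V6.all fun v =>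
  !v.isR || V6.ex hyp fun t => t.isR && V6.isZ (r.h t) && V6.isZ (t.h v) && !(mult r t) && !(mult v t)

theorem diamA_check : diamB rA = true := by decide +kernel

theorem diamB_check : diamB rB = true := by decide +kernel

/-- **Diameter two**: two `R`-vectors have a common orthogonal `R`-vector, independent of both. -/
theorem exists_common {r s : W} (hr : IsR r) (hs : IsR s) :
    ∃ t, IsR t ∧ H r t = 0 ∧ H t s = 0 ∧ (∀ a : F4, t ≠ a • r) ∧ ∀ a : F4, t ≠ a • s := by
  obtain ⟨g, hg, hgr⟩ := exists_symR hr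
  have hgs : IsR (g s) := (hg.isR s).2 hs
  have key : ∀ q : V6, diamB q = true → g r = q.w →
      ∃ t, IsR t ∧ H (g r) t = 0 ∧ H t (g s) = 0 ∧ (∀ a : F4, t ≠ a • g r) ∧
        ∀ a : F4, t ≠ a • g s := by
    intro q hq e
    have h1 := V6.of_all hq (V6.of (g s))
    rw [isR_iff] at hgs
    rw [hgs, Bool.not_true, Bool.false_or] at h1
    obtain ⟨t, ht⟩ := V6.of_ex h1
    simp only [Bool.and_eq_true, Bool.not_eq_true', V6.isZ_iff] at ht
    obtain ⟨⟨⟨⟨h2, h3⟩, h4⟩, h5⟩, h6⟩ := ht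
    refine ⟨t.w, by rw [isR_iff, V6.of_w]; exact h2, ?_, ?_, ?_, ?_⟩
    · rw [e]; exact (V6.h_eq _ _).trans h3
    · rw [H_of, V6.of_w]; exact h4
    · rw [e]; exact mult_false.1 h5
    · have := mult_false.1 h6
      rwa [V6.w_of] at this
  have key' : ∃ t, IsR t ∧ H (g r) t = 0 ∧ H t (g s) = 0 ∧ (∀ a : F4, t ≠ a • g r) ∧
        ∀ a : F4, t ≠ a • g s := by
    rcases hgr with e | e
    · exact key rA diamA_check e
    · exact key rB diamB_check e
  obtain ⟨t, h1, h2, h3, h4, h5⟩ := key'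
  obtain ⟨t, rfl⟩ := hg.surj t
  refine ⟨t, (hg.isR t).1 h1, (hg.form _ _).symm.trans h2, (hg.form _ _).symm.trans h3,
    fun a ha => h4 a ?_, fun a ha => h5 a ?_⟩
  · rw [ha, hg.smul]
  · rw [ha, hg.smul]

/-! ### the graph on the `R`-vectors orthogonal to `rA` -/

/-- vectors adjacent to `bA` -/
def nb : List V6 :=
  [⟨.z, .z, .z, .o, .z, .o⟩, ⟨.z, .z, .z, .o, .z, .w⟩, ⟨.z, .z, .z, .o, .z, .v⟩,
   ⟨.z, .z, .w, .v, .z, .z⟩, ⟨.z, .z, .o, .z, .o, .z⟩, ⟨.z, .z, .o, .z, .w, .z⟩,
   ⟨.z, .z, .o, .z, .v, .z⟩]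

/-- two more vectors -/
def nb2 : List V6 := [⟨.z, .z, .z, .w, .z, .o⟩, ⟨.z, .z, .z, .v, .z, .o⟩]

/-- base vector orthogonal to `rA` -/
def bA : V6 := ⟨.z, .z, .o, .o, .z, .z⟩

/-- membership in the vertex set -/
def vtx (v : V6) : Bool := v.isR && V6.isZ (v.h rA)

/-- edges -/
def edg (u v : V6) : Bool := vtx u && vtx v && V6.isO (u.h v)

theorem conn_check : (V6.all fun v => !(vtx v && !(mult rA v)) ||
    (V6.eq v bA || edg v bA || V6.ex nb (fun y => edg v y && edg y bA) ||
      V6.ex nb2 fun u => edg v u && V6.ex nb fun y => edg u y && edg y bA)) = true := by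
  decide +kernel

/-- edge relation -/
def Edge (r u v : W) : Prop := IsR u ∧ IsR v ∧ H u r = 0 ∧ H v r = 0 ∧ H u v = 1

theorem edg_iff {u v : V6} : edg u v = true ↔ Edge rA.w u.w v.w := by
  unfold edg vtx Edge
  simp only [Bool.and_eq_true, V6.isZ_iff, V6.isO_iff]
  rw [isR_iff, isR_iff, V6.of_w, V6.of_w, H_iface, H_iface, H_iface, V6.h_eq, V6.h_eq, V6.h_eq]
  tauto

theorem Edge.symm {r u v : W} (h : Edge r u v) : Edge r v u :=
  ⟨h.2.1, h.1, h.2.2.2.1, h.2.2.1, H_one_symm.1 h.2.2.2.2⟩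

theorem conn_bA {v : W} (hv : IsR v) (h : H v rA.w = 0) (hn : ∀ a : F4, v ≠ a • rA.w) :
    Relation.ReflTransGen (Edge rA.w) v bA.w := by
  have key := V6.of_all conn_check (V6.of v)
  have h1 : (vtx (V6.of v) && !(mult rA (V6.of v))) = true := by
    rw [Bool.and_eq_true, Bool.not_eq_true', mult_false, V6.w_of]
    refine ⟨?_, hn⟩
    unfold vtx
    rw [Bool.and_eq_true, V6.isZ_iff, ← isR_iff]
    refine ⟨hv, ?_⟩
    have := V6.h_of v rA.w
    rw [V6.of_w] at this
    rw [← this]; exact h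
  rw [h1, Bool.not_true, Bool.false_or, Bool.or_eq_true, Bool.or_eq_true, Bool.or_eq_true] at key
  rcases key with ((key | key) | key) | key
  · rw [V6.eq_iff] at key
    rw [← key, V6.w_of]
  · rw [edg_iff, V6.w_of] at key
    exact Relation.ReflTransGen.single key
  · obtain ⟨y, hy⟩ := V6.of_ex key
    rw [Bool.and_eq_true, edg_iff, edg_iff, V6.w_of] at hy
    exact (Relation.ReflTransGen.single hy.1).trans (Relation.ReflTransGen.single hy.2)
  · obtain ⟨u, hu⟩ := V6.of_ex key
    rw [Bool.and_eq_true, edg_iff, V6.w_of] at hu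
    obtain ⟨y, hy⟩ := V6.of_ex hu.2
    rw [Bool.and_eq_true, edg_iff, edg_iff] at hy
    exact ((Relation.ReflTransGen.single hu.1).trans (Relation.ReflTransGen.single hy.1)).trans
      (Relation.ReflTransGen.single hy.2)

end Cfsg.Agent.R08.Geo
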