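import Cfsg.Agent.R08.Geo3

/-!
# R08 (S1715): transitivity of `M` on pairs of orthogonal `R`-elements (helper261)
-/

set_option autoImplicit false

namespace Cfsg.Agent.R08.Geo

open Cfsg.Agent.SporRec.GF4 Cfsg.Agent.R08 Cfsg.Agent.R08.Iface
open Cfsg.Agent.R08.ModVec (W)

/-! ### isotropic vectors -/

theorem iso_check : (V6.all fun v => !(v.isR || v.isS) || V6.isZ (v.h v)) = true := by
  decide +kernel

theorem iso_check' : (V6.all fun v => !(V6.isZ (v.h v)) || v.isR || v.isS || Nat.beq v.wt 0) = true := by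
  decide +kernel

theorem H_self_R {r : W} (hr : IsR r) : H r r = 0 := by
  have := V6.of_all iso_check (V6.of r)
  rw [isR_iff] at hr
  rw [hr, Bool.true_or, Bool.not_true, Bool.false_or, V6.isZ_iff] at this
  rw [H_of]; exact this

theorem H_self_S {r : W} (hr : IsS r) : H r r = 0 := by
  have := V6.of_all iso_check (V6.of r)
  rw [isS_iff] at hr
  rw [hr, Bool.or_true, Bool.not_true, Bool.false_or, V6.isZ_iff] at this
  rw [H_of]; exact this

theorem eq_zero_of_wt {v : W} (h : ModVec.wt v = 0) : v = 0 := by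
  funext i
  unfold ModVec.wt at h
  rw [Finset.card_eq_zero] at h
  by_contra hc
  have : i ∈ (Finset.univ.filter fun i => v i ≠ 0) := by simp; exact hc
  rw [h] at this
  exact absurd this (Finset.notMem_empty i)

theorem R_or_S {v : W} (h : H v v = 0) (h0 : v ≠ 0) : IsR v ∨ IsS v := by
  have := V6.of_all iso_check' (V6.of v)
  rw [V6.isZ_iff.2 ((H_of v v).symm.trans h), Bool.not_true, Bool.false_or, Bool.or_eq_true,
    Bool.or_eq_true, ← isR_iff, ← isS_iff, Nat.beq_eq, ← V6.wt_of] at this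
  rcases this with (h1 | h1) | h1
  · exact Or.inl h1
  · exact Or.inr h1
  · exact absurd (eq_zero_of_wt h1) h0

theorem not_R_S {v : W} (h : IsR v) (h' : IsS v) : False := by
  rcases h with h1 | ⟨h1, h2⟩ <;> rcases h' with h3 | ⟨h3, h4⟩
  · omega
  · omega
  · omega
  · exact h4 h2

theorem R_ne_zero {r : W} (hr : IsR r) : r ≠ 0 := by
  rintro rfl
  rw [isR_iff] at hr
  exact absurd hr (by decide)

theorem S_ne_zero {r : W} (hr : IsS r) : r ≠ 0 := by
  rintro rfl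
  rw [isS_iff] at hr
  exact absurd hr (by decide)

theorem isR_smul {a : F4} (ha : a ≠ 0) {r : W} (hr : IsR r) : IsR (a • r) := by
  have h : (V6.all fun v => !v.isR || ((v.sm .w).isR && (v.sm .v).isR)) = true := by decide +kernel
  have := V6.of_all h (V6.of r)
  rw [isR_iff] at hr ⊢
  rw [V6.of_smul]
  rw [hr, Bool.not_true, Bool.false_or, Bool.and_eq_true] at this
  cases a
  · exact absurd rfl ha
  · exact (show ((V6.of r).sm .o) = V6.of r from rfl) ▸ hr
  · exact this.1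
  · exact this.2

theorem isR_smul_iff {a : F4} (ha : a ≠ 0) {r : W} : IsR (a • r) ↔ IsR r := by
  refine ⟨fun h => ?_, isR_smul ha⟩
  have := isR_smul (inv_ne_zero ha) h
  rwa [smul_smul, inv_mul_cancel₀ ha, one_smul] at this

/-! ### linear algebra -/

theorem exists_perp_ne {r s : W} (hr : r ≠ 0) (hn : ∀ a : F4, s ≠ a • r) :
    ∃ u : W, H u r = 0 ∧ H u s ≠ 0 := by
  classical
  by_contra hc
  push Not at hc
  obtain ⟨i, hi⟩ : ∃ i, r i ≠ 0 := by
    by_contra h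
    push Not at h
    exact hr (funext h)
  apply hn (s i * (r i)⁻¹)
  funext j
  have h1 := hc (ModVec.cj (r i) • (Pi.single j 1 : W) + ModVec.cj (r j) • (Pi.single i 1 : W)) (by
    rw [H_add_left, H_smul_left, H_smul_left]
    show _ * ModVec.herm _ _ + _ * ModVec.herm _ _ = 0
    rw [ModVec.herm_single_left, ModVec.herm_single_left, mul_comm]
    exact ModVec.add_self _)
  rw [H_add_left, H_smul_left, H_smul_left] at h1
  change _ * ModVec.herm _ _ + _ * ModVec.herm _ _ = 0 at h1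
  rw [ModVec.herm_single_left, ModVec.herm_single_left, ← ModVec.cj_mul, ← ModVec.cj_mul,
    ← ModVec.cj_add, ModVec.cj_eq_zero] at h1
  have h2 : r i * s j = r j * s i := by
    have h3 := congrArg (· + r j * s i) h1
    simp only [add_assoc, ModVec.add_self, add_zero, zero_add] at h3
    exact h3
  show s j = s i * (r i)⁻¹ * r j
  field_simp
  rw [mul_comm (s j), h2, mul_comm]

theorem exists_H {r s : W} (hr : r ≠ 0) (hn : ∀ a : F4, s ≠ a • r) (b : F4) :
    ∃ u : W, H u r = 0 ∧ H u s = b := by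
  obtain ⟨u, h1, h2⟩ := exists_perp_ne hr hn
  refine ⟨(b * (H u s)⁻¹) • u, ?_, ?_⟩
  · rw [H_smul_left, h1, mul_zero]
  · rw [H_smul_left, mul_assoc, inv_mul_cancel₀ h2, mul_one]

theorem exists_H' {r : W} (hr : r ≠ 0) (b : F4) : ∃ u : W, H u r = b := by
  obtain ⟨i, hi⟩ : ∃ i, r i ≠ 0 := by
    by_contra h
    push Not at h
    exact hr (funext h)
  refine ⟨(b * (ModVec.cj (r i))⁻¹) • (Pi.single i 1 : W), ?_⟩
  rw [H_smul_left]
  show _ * ModVec.herm _ _ = b
  rw [ModVec.herm_single_left, mul_assoc, inv_mul_cancel₀, mul_one]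
  rw [Ne, ModVec.cj_eq_zero]; exact hi

/-! ### the group -/

variable {G : Type*} [Group G] {Q M : Subgroup G} {z : G}

/-- the vector is independent -/
def Ind (r s : W) : Prop := ∀ a : F4, s ≠ a • r

theorem Ind.symm {r s : W} (h : Ind r s) (hr : r ≠ 0) : Ind s r := by
  intro a ha
  by_cases h0 : a = 0
  · rw [h0, zero_smul] at ha; exact hr ha
  · apply h a⁻¹
    rw [ha, smul_smul, inv_mul_cancel₀ h0, one_smul]

theorem flip (L : Lab F4 Q M z) {x : G} (hx : x ∈ Q) (h : L.v x ≠ 0) :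
    ∃ q ∈ Q, q * x * q⁻¹ = x * z := by
  obtain ⟨u, hu⟩ := exists_H' h F4.w
  obtain ⟨q, hq, rfl⟩ := L.v_surj u
  refine ⟨q, hq, ?_⟩
  have h1 := (L.comm_z_iff hq hx).2 (by rw [hu]; rintro (h | h) <;> exact absurd h (by decide))
  rw [h1, mul_assoc, mul_assoc, ← mul_assoc q z, L.large.comm_z q hq, mul_assoc, mul_inv_cancel,
    mul_one]

/-- fix `r`, map `u` to `v` along an edge -/
theorem step (L : Lab F4 Q M z) {r u v : W} (hr : IsR r) (h : Edge r u v) :
    ∃ m ∈ M, L.ρ m r = r ∧ L.ρ m u = v := by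
  obtain ⟨hu, hv, hur, hvr, huv⟩ := h
  obtain ⟨m, hm, hmw⟩ := L.tau (u + v) r (third hu hv huv) hr
  refine ⟨m, hm, ?_, ?_⟩
  · rw [hmw]
    unfold tr
    rw [H_self_R hr, zero_smul, add_zero, H_add_right, H_zero_symm.1 hur, H_zero_symm.1 hvr,
      add_zero, zero_smul, add_zero]
  · rw [hmw]
    unfold tr
    rw [hur, zero_smul, add_zero, H_add_right, H_self_R hu, huv, zero_add, one_smul, ← add_assoc,
      ModVec.W_add_self, zero_add]

theorem ρ_smul (L : Lab F4 Q M z) {m : G} (hm : m ∈ M) (a : F4) (w : W) :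
    L.ρ m (a • w) = a • L.ρ m w := (L.isLin hm).smul a w

theorem ρ_form (L : Lab F4 Q M z) {m : G} (hm : m ∈ M) (u w : W) :
    H (L.ρ m u) (L.ρ m w) = H u w := (L.isLin hm).form u w

theorem ρ_ind (L : Lab F4 Q M z) {m : G} (hm : m ∈ M) {r s : W} (h : Ind r s) :
    Ind (L.ρ m r) (L.ρ m s) := by
  intro a ha
  rw [← ρ_smul L hm] at ha
  exact h a (L.ρ_inj (L.M_comm m hm) ha)

/-- normal form of a pair of independent orthogonal `R`-vectors -/
theorem exists_std (L : Lab F4 Q M z) {r s : W} (hr : IsR r) (hs : IsR s) (h : H s r = 0)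
    (hn : Ind r s) : ∃ m ∈ M, L.ρ m r = rA.w ∧ L.ρ m s = bA.w := by
  have hA : IsR rA.w := by rw [isR_iff, V6.of_w]; decide
  obtain ⟨m, hm, hmr⟩ := L.transR r rA.w hr hA
  have hs' : IsR (L.ρ m s) := L.pres m (L.M_comm m hm) s hs
  have h' : H (L.ρ m s) rA.w = 0 := by rw [← hmr, ρ_form L hm]; exact h
  have hn' : ∀ a : F4, L.ρ m s ≠ a • rA.w := by
    have := ρ_ind L hm hn
    rw [hmr] at this
    exact this
  have key : ∀ v, Relation.ReflTransGen (Edge rA.w) (L.ρ m s) v →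
      ∃ k ∈ M, L.ρ k rA.w = rA.w ∧ L.ρ k (L.ρ m s) = v := by
    intro v hv
    induction hv with
    | refl => exact ⟨1, M.one_mem, L.ρ_one _, L.ρ_one _⟩
    | tail _ he ih =>
      obtain ⟨k, hk, h1, h2⟩ := ih
      obtain ⟨k', hk', h3, h4⟩ := step L hA he
      refine ⟨k' * k, M.mul_mem hk' hk, ?_, ?_⟩
      · rw [L.ρ_mul (L.M_comm _ hk') (L.M_comm _ hk), h1, h3]
      · rw [L.ρ_mul (L.M_comm _ hk') (L.M_comm _ hk), h2, h4]
  obtain ⟨k, hk, h1, h2⟩ := key _ (conn_bA hs' h' hn')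
  refine ⟨k * m, M.mul_mem hk hm, ?_, ?_⟩
  · rw [L.ρ_mul (L.M_comm _ hk) (L.M_comm _ hm), hmr, h1]
  · rw [L.ρ_mul (L.M_comm _ hk) (L.M_comm _ hm), h2]

/-- **(8b)** `M` is transitive on the ordered pairs of independent orthogonal `R`-vectors. -/
theorem transPair (L : Lab F4 Q M z) {r s r' s' : W} (hr : IsR r) (hs : IsR s) (h : H s r = 0)
    (hn : Ind r s) (hr' : IsR r') (hs' : IsR s') (h' : H s' r' = 0) (hn' : Ind r' s') :
    ∃ m ∈ M, L.ρ m r = r' ∧ L.ρ m s = s' := by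
  obtain ⟨m, hm, h1, h2⟩ := exists_std L hr hs h hn
  obtain ⟨k, hk, h3, h4⟩ := exists_std L hr' hs' h' hn'
  refine ⟨k⁻¹ * m, M.mul_mem (M.inv_mem hk) hm, ?_, ?_⟩
  · rw [L.ρ_mul (Lab.inv_comm (L.M_comm _ hk)) (L.M_comm _ hm), h1, ← h3, L.ρ_inv (L.M_comm _ hk)]
  · rw [L.ρ_mul (Lab.inv_comm (L.M_comm _ hk)) (L.M_comm _ hm), h2, ← h4, L.ρ_inv (L.M_comm _ hk)]

theorem conj_flip {q x : G} (hq : q * z = z * q) (h : q * x * q⁻¹ = x * z) (hz : z * z = 1) :
    q * (x * z) * q⁻¹ = x := by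
  have : q * (x * z) * q⁻¹ = (q * x * q⁻¹) * (q * z * q⁻¹) := by group
  rw [this, h, hq, mul_inv_cancel_right, mul_assoc, hz, mul_one]

/-- **(8a)** `M` is transitive on the elements of type `R` of `Q`. -/
theorem exists_conj_R (L : Lab F4 Q M z) {x y : G} (hx : x ∈ Q) (hy : y ∈ Q) (hxR : IsR (L.v x))
    (hyR : IsR (L.v y)) : ∃ m ∈ M, m * x * m⁻¹ = y := by
  obtain ⟨m, hm, h⟩ := L.transR _ _ hxR hyR
  have hmz := L.M_comm m hm
  rw [← L.v_conj m hmz x hx, L.v_eq (L.ρ_surj_aux hmz hx) hy] at h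
  rcases h with h | h
  · exact ⟨m, hm, h⟩
  · obtain ⟨q, hq, hq'⟩ := flip L hy (R_ne_zero hyR)
    refine ⟨q * m, M.mul_mem (L.Q_le hq) hm, ?_⟩
    have e : q * m * x * (q * m)⁻¹ = q * (m * x * m⁻¹) * q⁻¹ := by group
    have hz : z * z = 1 := L.large.z_sq
    rw [e, h]
    exact conj_flip (L.large.comm_z q hq) hq' hz

/-- The same for `S`. -/
theorem exists_conj_S (L : Lab F4 Q M z) {x y : G} (hx : x ∈ Q) (hy : y ∈ Q) (hxR : IsS (L.v x))
    (hyR : IsS (L.v y)) : ∃ m ∈ M, m * x * m⁻¹ = y := by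
  obtain ⟨m, hm, h⟩ := L.transS _ _ hxR hyR
  have hmz := L.M_comm m hm
  rw [← L.v_conj m hmz x hx, L.v_eq (L.ρ_surj_aux hmz hx) hy] at h
  rcases h with h | h
  · exact ⟨m, hm, h⟩
  · obtain ⟨q, hq, hq'⟩ := flip L hy (S_ne_zero hyR)
    refine ⟨q * m, M.mul_mem (L.Q_le hq) hm, ?_⟩
    have e : q * m * x * (q * m)⁻¹ = q * (m * x * m⁻¹) * q⁻¹ := by group
    have hz : z * z = 1 := L.large.z_sq
    rw [e, h]
    exact conj_flip (L.large.comm_z q hq) hq' hz

/-- flip the second of two independent elements and fix the first -/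
theorem flip2 (L : Lab F4 Q M z) {x y : G} (hx : x ∈ Q) (hy : y ∈ Q) (hx0 : L.v x ≠ 0)
    (hn : Ind (L.v x) (L.v y)) : ∃ q ∈ Q, q * x * q⁻¹ = x ∧ q * y * q⁻¹ = y * z := by
  obtain ⟨u, hu, hu'⟩ := exists_H hx0 hn F4.w
  obtain ⟨q, hq, rfl⟩ := L.v_surj u
  refine ⟨q, hq, ?_, ?_⟩
  · rw [(L.comm_iff q hq x hx).2 (Or.inl hu), mul_assoc, mul_inv_cancel, mul_one]
  · have h1 := (L.comm_z_iff hq hy).2 (by rw [hu']; rintro (h | h) <;> exact absurd h (by decide))
    rw [h1, mul_assoc, mul_assoc, ← mul_assoc q z, L.large.comm_z q hq, mul_assoc, mul_inv_cancel,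
      mul_one]

/-- **(8b)** for elements: `M` is transitive on the pairs of commuting elements of type `R` of `Q` with
independent orthogonal labels. -/
theorem exists_conj_pair (L : Lab F4 Q M z) {x y x' y' : G} (hx : x ∈ Q) (hy : y ∈ Q)
    (hx' : x' ∈ Q) (hy' : y' ∈ Q) (hxR : IsR (L.v x)) (hyR : IsR (L.v y))
    (hxR' : IsR (L.v x')) (hyR' : IsR (L.v y')) (h : H (L.v y) (L.v x) = 0)
    (hn : Ind (L.v x) (L.v y)) (h' : H (L.v y') (L.v x') = 0) (hn' : Ind (L.v x') (L.v y')) :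
    ∃ m ∈ M, m * x * m⁻¹ = x' ∧ m * y * m⁻¹ = y' := by
  have hz : z * z = 1 := L.large.z_sq
  obtain ⟨m, hm, h1, h2⟩ := transPair L hxR hyR h hn hxR' hyR' h' hn'
  have hmz := L.M_comm m hm
  rw [← L.v_conj m hmz x hx, L.v_eq (L.ρ_surj_aux hmz hx) hx'] at h1
  rw [← L.v_conj m hmz y hy, L.v_eq (L.ρ_surj_aux hmz hy) hy'] at h2
  have key1 : ∃ k ∈ M, k * x * k⁻¹ = x' ∧ (k * y * k⁻¹ = y' ∨ k * y * k⁻¹ = y' * z) := by
    rcases h1 with h1 | h1
    · exact ⟨m, hm, h1, h2⟩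
    · obtain ⟨q, hq, hq1, hq2⟩ := flip2 L hy' hx' (R_ne_zero hyR') (hn'.symm (R_ne_zero hxR'))
      refine ⟨q * m, M.mul_mem (L.Q_le hq) hm, ?_, ?_⟩
      · have e : q * m * x * (q * m)⁻¹ = q * (m * x * m⁻¹) * q⁻¹ := by group
        rw [e, h1]
        exact conj_flip (L.large.comm_z q hq) hq2 hz
      · have e : q * m * y * (q * m)⁻¹ = q * (m * y * m⁻¹) * q⁻¹ := by group
        rw [e]
        rcases h2 with h2 | h2
        · left; rw [h2, hq1]
        · right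
          rw [h2]
          have e2 : q * (y' * z) * q⁻¹ = (q * y' * q⁻¹) * (q * z * q⁻¹) := by group
          rw [e2, hq1, L.large.comm_z q hq, mul_inv_cancel_right]
  obtain ⟨k, hk, h3, h4⟩ := key1
  rcases h4 with h4 | h4
  · exact ⟨k, hk, h3, h4⟩
  · obtain ⟨q, hq, hq1, hq2⟩ := flip2 L hx' hy' (R_ne_zero hxR') hn'
    refine ⟨q * k, M.mul_mem (L.Q_le hq) hk, ?_, ?_⟩
    · have e : q * k * x * (q * k)⁻¹ = q * (k * x * k⁻¹) * q⁻¹ := by group
      rw [e, h3, hq1]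
    · have e : q * k * y * (q * k)⁻¹ = q * (k * y * k⁻¹) * q⁻¹ := by group
      rw [e, h4]
      exact conj_flip (L.large.comm_z q hq) hq2 hz

end Cfsg.Agent.R08.Geo
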