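import Cfsg.Agent.R08.Iface
import Cfsg.Agent.LieClassical.HermBasic

/-!
# R08 (S1715), pieces (4) and (5): linear algebra of involutions (helper885)

`F` is a field with four elements, `W = F ^ 6` with the standard hermitian form `H` of
`Cfsg.Agent.R08.Iface`.

* `Geo F`: the finite facts on the sets `IsR`, `IsS` which are used.
* `inv_form`: a linear involutory isometry `T` of a suitable set of maps which fixes an `R`-vector is
  a product of two commuting transvections.
-/

set_option autoImplicit false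
set_option linter.unusedSectionVars false
set_option linter.unusedSimpArgs false

namespace Cfsg.Agent.R08.InvHerm

open Cfsg.Agent.R08.Iface Cfsg.Agent.LieClassical.HermBasic

variable {F : Type*} [Field F]

/-! ### the field and the form -/

section Field

variable (hF : Nat.card F = 4)
include hF

theorem finF : Finite F := Nat.finite_of_card_ne_zero (by rw [hF]; norm_num)

theorem fcard [Fintype F] : Fintype.card F = 2 ^ 2 := by
  rw [← Nat.card_eq_fintype_card, hF]; norm_num

theorem two_eq : (2 : F) = 0 := by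
  have := finF hF
  have := Fintype.ofFinite F
  obtain ⟨p, k, hp, hc, hq, hk⟩ := exists_prime_pow (fcard hF)
  have h2 : p = 2 := by
    have : p ∣ 2 := by rw [hq]; exact dvd_pow_self p hk.ne'
    exact (Nat.prime_dvd_prime_iff_eq hp Nat.prime_two).1 this
  subst h2
  exact_mod_cast CharP.cast_eq_zero F 2

theorem pow4 (x : F) : x ^ 4 = x := by
  have := finF hF
  have := Fintype.ofFinite F
  have h := FiniteField.pow_card x
  rwa [fcard hF] at h

theorem pow3 {x : F} (hx : x ≠ 0) : x ^ 3 = 1 := by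
  have h := pow4 hF x
  have : x * (x ^ 3 - 1) = 0 := by linear_combination h
  rcases mul_eq_zero.1 this with h | h
  · exact absurd h hx
  · linear_combination h

theorem add_self (x : F) : x + x = 0 := by rw [← two_mul, two_eq hF, zero_mul]

theorem vadd_self (x : Fin 6 → F) : x + x = 0 := by
  ext i; exact add_self hF (x i)

theorem vneg (x : Fin 6 → F) : -x = x := by
  rw [neg_eq_iff_add_eq_zero]; exact vadd_self hF x

theorem vadd_eq_zero {x y : Fin 6 → F} : x + y = 0 ↔ x = y := by
  rw [add_eq_zero_iff_eq_neg, vneg hF]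

theorem vadd_cancel (x y : Fin 6 → F) : x + (x + y) = y := by
  rw [← add_assoc, vadd_self hF, zero_add]

theorem exists_omega : ∃ ω : F, ω ^ 2 + ω + 1 = 0 := by
  have := finF hF
  have := Fintype.ofFinite F
  obtain ⟨x, hx⟩ := exists_not_fixed (fcard hF)
  refine ⟨x, ?_⟩
  have h4 := pow4 hF x
  have : x * (x - 1) * (x ^ 2 + x + 1) = 0 := by linear_combination h4
  have hx0 : x * (x - 1) ≠ 0 := by
    intro h
    apply hx
    linear_combination h
  exact (mul_eq_zero.1 this).resolve_left hx0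

theorem H_add_left (u u' v : Fin 6 → F) : H (u + u') v = H u v + H u' v := herm_add_left u u' v

theorem H_smul_left (c : F) (u v : Fin 6 → F) : H (c • u) v = c * H u v := herm_smul_left c u v

theorem H_add_right (u v v' : Fin 6 → F) : H u (v + v') = H u v + H u v' := by
  have := finF hF
  have := Fintype.ofFinite F
  exact herm_add_right (fcard hF) u v v'

theorem H_smul_right (c : F) (u v : Fin 6 → F) : H u (c • v) = c ^ 2 * H u v :=
  herm_smul_right c u v

theorem H_zero_left (v : Fin 6 → F) : H 0 v = 0 := herm_zero_left v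

theorem H_zero_right (v : Fin 6 → F) : H v 0 = 0 := by
  have := finF hF
  have := Fintype.ofFinite F
  exact herm_zero_right (fcard hF) v

theorem H_swap (u v : Fin 6 → F) : H v u = (H u v) ^ 2 := by
  have := finF hF
  have := Fintype.ofFinite F
  exact herm_swap (fcard hF) u v

theorem H_zero_swap {u v : Fin 6 → F} (h : H u v = 0) : H v u = 0 := by
  rw [H_swap hF, h]; ring

theorem H_one_swap {u v : Fin 6 → F} (h : H u v = 1) : H v u = 1 := by
  rw [H_swap hF, h]; ring

theorem H_nondeg {u : Fin 6 → F} (h : ∀ v, H u v = 0) : u = 0 := by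
  have := finF hF
  have := Fintype.ofFinite F
  exact herm_nondeg (fcard hF) h

theorem eq_of_H {u w : Fin 6 → F} (h : ∀ v, H u v = H w v) : u = w := by
  rw [← vadd_eq_zero hF]
  apply H_nondeg hF
  intro v
  rw [H_add_left hF, h v, add_self hF]

theorem sq_eq_self {x : F} (h : x ^ 2 = x) : x = 0 ∨ x = 1 := by
  have : x * (x - 1) = 0 := by linear_combination h
  rcases mul_eq_zero.1 this with h | h
  · exact Or.inl h
  · right; linear_combination h

theorem H_self (x : Fin 6 → F) : H x x = 0 ∨ H x x = 1 := by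
  apply sq_eq_self hF
  rw [← H_swap hF]

/-- normalised dual vector -/
theorem exists_dual {r : Fin 6 → F} (hr : r ≠ 0) : ∃ y, H y r = 1 := by
  by_contra hcon
  apply hr
  apply H_nondeg hF
  intro v
  by_contra hv
  have hv' : H v r ≠ 0 := fun h => hv (H_zero_swap hF h)
  apply hcon
  refine ⟨(H v r)⁻¹ • v, ?_⟩
  rw [H_smul_left hF, inv_mul_cancel₀ hv']

/-- `⟨r⟩^⊥⊥ = ⟨r⟩` -/
theorem mem_span_of_perp {r w : Fin 6 → F} (hr : r ≠ 0)
    (h : ∀ y, H y r = 0 → H w y = 0) : ∃ c : F, w = c • r := by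
  obtain ⟨y0, hy0⟩ := exists_dual hF hr
  refine ⟨H w y0, eq_of_H hF fun y => ?_⟩
  have h1 := h (y + H y r • y0) (by
    rw [H_add_left hF, H_smul_left hF, hy0, mul_one, add_self hF])
  rw [H_add_right hF, H_smul_right hF] at h1
  rw [H_smul_left hF, H_swap hF y r]
  linear_combination h1 - (H y r) ^ 2 * H w y0 * two_eq hF

/-- dual vectors of two independent vectors -/
theorem exists_dual_pair {r s : Fin 6 → F} (hr : r ≠ 0) (hs : ∀ c : F, s ≠ c • r) :
    (∃ y, H y r = 1 ∧ H y s = 0) ∧ (∃ y, H y r = 0 ∧ H y s = 1) := by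
  have key : ∃ y, H y r = 0 ∧ H y s = 1 := by
    by_contra hcon
    obtain ⟨c, hc⟩ := mem_span_of_perp hF (w := s) hr (fun y hy => by
      by_contra hv
      have hv' : H y s ≠ 0 := fun h => hv (H_zero_swap hF h)
      apply hcon
      refine ⟨(H y s)⁻¹ • y, ?_, ?_⟩
      · rw [H_smul_left hF, hy, mul_zero]
      · rw [H_smul_left hF, inv_mul_cancel₀ hv'])
    exact hs c hc
  refine ⟨?_, key⟩
  obtain ⟨y, hy1, hy2⟩ := key
  obtain ⟨x, hx⟩ := exists_dual hF hr
  refine ⟨x + H x s • y, ?_, ?_⟩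
  · rw [H_add_left hF, H_smul_left hF, hy1, hx, mul_zero, add_zero]
  · rw [H_add_left hF, H_smul_left hF, hy2, mul_one, add_self hF]

/-- `⟨r, s⟩^⊥⊥ = ⟨r, s⟩` -/
theorem mem_span_pair_of_perp {r s w : Fin 6 → F} (hr : r ≠ 0) (hs : ∀ c : F, s ≠ c • r)
    (h : ∀ y, H y r = 0 → H y s = 0 → H w y = 0) : ∃ c d : F, w = c • r + d • s := by
  obtain ⟨⟨x1, h11, h12⟩, ⟨x2, h21, h22⟩⟩ := exists_dual_pair hF hr hs
  refine ⟨H w x1, H w x2, eq_of_H hF fun y => ?_⟩
  have h1 := h (y + H y r • x1 + H y s • x2) (by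
    rw [H_add_left hF, H_add_left hF, H_smul_left hF, H_smul_left hF, h11, h21, mul_one,
      mul_zero, add_zero, add_self hF]) (by
    rw [H_add_left hF, H_add_left hF, H_smul_left hF, H_smul_left hF, h12, h22, mul_one,
      mul_zero, add_zero, add_self hF])
  rw [H_add_right hF, H_add_right hF, H_smul_right hF, H_smul_right hF] at h1
  rw [H_add_left hF, H_smul_left hF, H_smul_left hF, H_swap hF y r, H_swap hF y s]
  linear_combination h1 - ((H y r) ^ 2 * H w x1 + (H y s) ^ 2 * H w x2) * two_eq hF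

/-- there is no totally isotropic subspace of dimension four -/
theorem no_four {r b c d x1 x2 x3 : Fin 6 → F} (hr : r ≠ 0)
    (rr : H r r = 0) (bb : H b b = 0) (cc : H c c = 0) (dd : H d d = 0)
    (rb : H r b = 0) (rc : H r c = 0) (rd : H r d = 0) (bc : H b c = 0) (bd : H b d = 0)
    (cd : H c d = 0)
    (x1r : H x1 r = 0) (x2r : H x2 r = 0) (x3r : H x3 r = 0)
    (x1b : H x1 b = 1) (x1c : H x1 c = 0) (x1d : H x1 d = 0)
    (x2c : H x2 c = 1) (x2d : H x2 d = 0) (x3d : H x3 d = 1) : False := by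
  obtain ⟨x0, hx0⟩ := exists_dual hF hr
  have br := H_zero_swap hF rb
  have cr := H_zero_swap hF rc
  have dr := H_zero_swap hF rd
  have cb := H_zero_swap hF bc
  have db := H_zero_swap hF bd
  have dc := H_zero_swap hF cd
  have rx1 := H_zero_swap hF x1r
  have rx2 := H_zero_swap hF x2r
  have rx3 := H_zero_swap hF x3r
  have bx1 := H_one_swap hF x1b
  have cx1 := H_zero_swap hF x1c
  have dx1 := H_zero_swap hF x1d
  have cx2 := H_one_swap hF x2c
  have dx2 := H_zero_swap hF x2d
  have dx3 := H_one_swap hF x3d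
  have hli : LinearIndependent F ![r, b, c, d, x0, x1, x2, x3] := by
    rw [Fintype.linearIndependent_iff]
    intro g hg
    rw [Fin.sum_univ_eight] at hg
    have e0 : g 0 • r + g 1 • b + g 2 • c + g 3 • d + g 4 • x0 + g 5 • x1 + g 6 • x2 +
      g 7 • x3 = 0 := hg
    have hr' := congrArg (fun t => H t r) e0
    simp only [H_add_left hF, H_smul_left hF, rr, br, cr, dr, hx0, x1r, x2r, x3r,
      H_zero_left hF, mul_zero, add_zero, zero_add, mul_one] at hr'
    rw [hr', zero_smul, add_zero] at e0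
    have hd' := congrArg (fun t => H t d) e0
    simp only [H_add_left hF, H_smul_left hF, rd, bd, cd, dd, x1d, x2d, x3d,
      H_zero_left hF, mul_zero, add_zero, zero_add, mul_one] at hd'
    rw [hd', zero_smul, add_zero] at e0
    have hc' := congrArg (fun t => H t c) e0
    simp only [H_add_left hF, H_smul_left hF, rc, bc, cc, dc, x1c, x2c,
      H_zero_left hF, mul_zero, add_zero, zero_add, mul_one] at hc'
    rw [hc', zero_smul, add_zero] at e0
    have hb' := congrArg (fun t => H t b) e0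
    simp only [H_add_left hF, H_smul_left hF, rb, bb, cb, db, x1b,
      H_zero_left hF, mul_zero, add_zero, zero_add, mul_one] at hb'
    rw [hb', zero_smul, add_zero] at e0
    have h1 := congrArg (fun t => H t x1) e0
    simp only [H_add_left hF, H_smul_left hF, rx1, bx1, cx1, dx1,
      H_zero_left hF, mul_zero, add_zero, zero_add, mul_one] at h1
    rw [h1, zero_smul, add_zero] at e0
    have h2 := congrArg (fun t => H t x2) e0
    simp only [H_add_left hF, H_smul_left hF, rx2, cx2, dx2,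
      H_zero_left hF, mul_zero, add_zero, zero_add, mul_one] at h2
    rw [h2, zero_smul, add_zero] at e0
    have h3 := congrArg (fun t => H t x3) e0
    simp only [H_add_left hF, H_smul_left hF, rx3, dx3,
      H_zero_left hF, mul_zero, add_zero, zero_add, mul_one] at h3
    rw [h3, zero_smul, add_zero] at e0
    have h0 : g 0 = 0 := (smul_eq_zero.1 e0).resolve_right hr
    intro i
    fin_cases i <;> assumption
  have := hli.fintype_card_le_finrank
  simp at this

end Field

/-! ### the finite facts -/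

/-- The finite facts on `R` and `S` used in pieces (4) and (5). -/
structure Geo (F : Type*) [Field F] : Prop where
  ne : ∀ r : Fin 6 → F, IsR r → r ≠ 0
  iso : ∀ r : Fin 6 → F, IsR r → H r r = 0
  smul : ∀ r : Fin 6 → F, IsR r → ∀ c : F, c ≠ 0 → IsR (c • r)
  /-- a totally isotropic line through an `R`-point has exactly one more `R`-point -/
  line : ∀ r : Fin 6 → F, IsR r → ∀ v, H v v = 0 → H v r = 0 → (∀ c : F, v ≠ c • r) →
    ∃ c : F, IsR (v + c • r) ∧ ∀ c' : F, IsR (v + c' • r) → c' = c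
  /-- third point rule -/
  add : ∀ x y : Fin 6 → F, IsR x → IsR y → H x y = 1 → IsR (x + y)
  S_iff : ∀ v : Fin 6 → F, IsS v ↔ v ≠ 0 ∧ H v v = 0 ∧ ¬ IsR v
  card : Nat.card {v : Fin 6 → F // IsR v} = 378

/-! ### self-adjoint maps of square zero -/

/-- `N` is linear, self-adjoint, of square zero -/
structure SA (N : (Fin 6 → F) → (Fin 6 → F)) : Prop where
  add : ∀ x y, N (x + y) = N x + N y
  smul : ∀ (c : F) x, N (c • x) = c • N x
  adj : ∀ x y, H (N x) y = H x (N y)
  sq : ∀ x, N (N x) = 0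

section SAsec

variable (hF : Nat.card F = 4)
include hF

theorem SA.zero {N : (Fin 6 → F) → (Fin 6 → F)} (h : SA N) : N 0 = 0 := by
  have := h.smul 0 0
  rwa [zero_smul, zero_smul] at this

theorem SA.form {N : (Fin 6 → F) → (Fin 6 → F)} (h : SA N) (x y : Fin 6 → F) :
    H (N x) (N y) = 0 := by
  rw [h.adj, h.sq, H_zero_right hF]

theorem SA.herm {N : (Fin 6 → F) → (Fin 6 → F)} (h : SA N) (x y : Fin 6 → F) :
    H (N y) x = (H (N x) y) ^ 2 := by
  rw [h.adj x y, ← H_swap hF]

theorem SA.val {N : (Fin 6 → F) → (Fin 6 → F)} (h : SA N) (x : Fin 6 → F) :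
    H (N x) x = 0 ∨ H (N x) x = 1 := by
  apply sq_eq_self hF
  rw [← h.herm hF]

/-- subtract the rank one map `x ↦ H x b • b`, `b = N x1` -/
theorem SA.step {N : (Fin 6 → F) → (Fin 6 → F)} (h : SA N) {x1 : Fin 6 → F} :
    SA (fun x => N x + H x (N x1) • N x1) where
  add x y := by
    rw [h.add, H_add_left hF, add_smul]; abel
  smul c x := by
    rw [h.smul, H_smul_left hF, smul_add, smul_smul]
  adj x y := by
    rw [H_add_left hF, H_add_right hF, H_smul_left hF, H_smul_right hF, h.adj,
      ← H_swap hF y (N x1)]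
    ring
  sq x := by
    show N (N x + H x (N x1) • N x1) + H (N x + H x (N x1) • N x1) (N x1) • N x1 = 0
    rw [h.add, h.smul, h.sq, h.sq, H_add_left hF, H_smul_left hF, h.form hF, h.form hF]
    simp

/-- an alternating self-adjoint map vanishes, modulo `r` -/
theorem SA.alt {N : (Fin 6 → F) → (Fin 6 → F)} (h : SA N) {r : Fin 6 → F} (hr : r ≠ 0)
    (hz : ∀ x, H x r = 0 → H (N x) x ≠ 1) {x : Fin 6 → F} (hx : H x r = 0) :
    ∃ c : F, N x = c • r := by
  have hz' : ∀ x, H x r = 0 → H (N x) x = 0 := fun x hx => (h.val hF x).resolve_right (hz x hx)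
  apply mem_span_of_perp hF hr
  intro y hy
  obtain ⟨ω, hω⟩ := exists_omega hF
  have key : ∀ u w, H u r = 0 → H w r = 0 → H (N u) w + H (N w) u = 0 := by
    intro u w hu hw
    have h1 := hz' (u + w) (by rw [H_add_left hF, hu, hw, add_zero])
    rw [h.add, H_add_left hF, H_add_right hF, H_add_right hF, hz' u hu, hz' w hw] at h1
    linear_combination h1
  have e1 := key x y hx hy
  have e2 := key (ω • x) y (by rw [H_smul_left hF, hx, mul_zero]) hy
  rw [h.smul, H_smul_left hF, H_smul_right hF] at e2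
  linear_combination ω ^ 2 * e1 - e2 + H (N x) y * hω - H (N x) y * ω ^ 2 * two_eq hF

/-- modulo `r`, a self-adjoint map of square zero on `r^⊥` has rank at most two -/
theorem SA.rank_two {N : (Fin 6 → F) → (Fin 6 → F)} (h : SA N) {r : Fin 6 → F} (hr : r ≠ 0)
    (rr : H r r = 0) (hNr : N r = 0) :
    ∃ b c : Fin 6 → F, H b b = 0 ∧ H c c = 0 ∧ H b r = 0 ∧ H c r = 0 ∧ H b c = 0 ∧
      N b = 0 ∧ N c = 0 ∧
      ∀ x, H x r = 0 → ∃ k : F, N x = H x b • b + H x c • c + k • r := by
  have z0 : ∀ y : Fin 6 → F, H 0 y = 0 := H_zero_left hF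
  by_cases c1 : ∃ x1, H x1 r = 0 ∧ H (N x1) x1 = 1
  swap
  · refine ⟨0, 0, z0 _, z0 _, z0 _, z0 _, z0 _, h.zero hF, h.zero hF, fun x hx => ?_⟩
    obtain ⟨k, hk⟩ := h.alt hF hr (fun y hy hy' => c1 ⟨y, hy, hy'⟩) hx
    exact ⟨k, by rw [hk, smul_zero, zero_add, zero_add]⟩
  obtain ⟨x1, hx1, hb1⟩ := c1
  set b := N x1 with hb
  have hNb : N b = 0 := h.sq x1
  have bb : H b b = 0 := h.form hF x1 x1
  have br : H b r = 0 := by rw [hb, h.adj, hNr, H_zero_right hF]
  set N' : (Fin 6 → F) → (Fin 6 → F) := fun x => N x + H x b • b with hN'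
  have h' : SA N' := h.step hF
  have hN'r : N' r = 0 := by
    show N r + H r b • b = 0
    rw [hNr, H_zero_swap hF br, zero_smul, add_zero]
  have hN'b : N' b = 0 := by
    show N b + H b b • b = 0
    rw [hNb, bb, zero_smul, add_zero]
  have hN'x1 : N' x1 = 0 := by
    show N x1 + H x1 b • b = 0
    rw [H_one_swap hF hb1, one_smul, ← hb, vadd_self hF]
  by_cases c2 : ∃ x2, H x2 r = 0 ∧ H (N' x2) x2 = 1
  swap
  · refine ⟨b, 0, bb, z0 _, br, z0 _, H_zero_right hF _, hNb, h.zero hF, fun x hx => ?_⟩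
    obtain ⟨k, hk⟩ := h'.alt hF hr (fun y hy hy' => c2 ⟨y, hy, hy'⟩) hx
    refine ⟨k, ?_⟩
    have hk' : N x + H x b • b = k • r := hk
    rw [smul_zero, add_zero, ← hk', add_comm (N x), vadd_cancel hF]
  obtain ⟨x2, hx2, hc1⟩ := c2
  set c := N' x2 with hc
  have hN'c : N' c = 0 := h'.sq x2
  have cc : H c c = 0 := h'.form hF x2 x2
  have cr : H c r = 0 := by rw [hc, h'.adj, hN'r, H_zero_right hF]
  have cb : H c b = 0 := by rw [hc, h'.adj, hN'b, H_zero_right hF]
  have bc := H_zero_swap hF cb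
  have cx1 : H c x1 = 0 := by rw [hc, h'.adj, hN'x1, H_zero_right hF]
  have hNc : N c = 0 := by
    have e : N c + H c b • b = 0 := hN'c
    rwa [cb, zero_smul, add_zero] at e
  set N'' : (Fin 6 → F) → (Fin 6 → F) := fun x => N' x + H x c • c with hN''
  have h'' : SA N'' := h'.step hF
  have hN''r : N'' r = 0 := by
    show N' r + H r c • c = 0
    rw [hN'r, H_zero_swap hF cr, zero_smul, add_zero]
  have hN''b : N'' b = 0 := by
    show N' b + H b c • c = 0
    rw [hN'b, bc, zero_smul, add_zero]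
  have hN''c : N'' c = 0 := by
    show N' c + H c c • c = 0
    rw [hN'c, cc, zero_smul, add_zero]
  have hN''x1 : N'' x1 = 0 := by
    show N' x1 + H x1 c • c = 0
    rw [hN'x1, H_zero_swap hF cx1, zero_smul, add_zero]
  have hN''x2 : N'' x2 = 0 := by
    show N' x2 + H x2 c • c = 0
    rw [H_one_swap hF hc1, one_smul, ← hc, vadd_self hF]
  by_cases c3 : ∃ x3, H x3 r = 0 ∧ H (N'' x3) x3 = 1
  swap
  · refine ⟨b, c, bb, cc, br, cr, bc, hNb, hNc, fun x hx => ?_⟩
    obtain ⟨k, hk⟩ := h''.alt hF hr (fun y hy hy' => c3 ⟨y, hy, hy'⟩) hx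
    refine ⟨k, ?_⟩
    have hk' : N x + H x b • b + H x c • c = k • r := hk
    rw [← hk']
    have e1 := vadd_self hF (H x b • b)
    have e2 := vadd_self hF (H x c • c)
    linear_combination (exp := 1) (-1 : ℤ) • e1 + (-1 : ℤ) • e2
  obtain ⟨x3, hx3, hd1⟩ := c3
  set d := N'' x3 with hd
  have dd : H d d = 0 := h''.form hF x3 x3
  have dr : H d r = 0 := by rw [hd, h''.adj, hN''r, H_zero_right hF]
  have db : H d b = 0 := by rw [hd, h''.adj, hN''b, H_zero_right hF]
  have dc : H d c = 0 := by rw [hd, h''.adj, hN''c, H_zero_right hF]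
  have dx1 : H d x1 = 0 := by rw [hd, h''.adj, hN''x1, H_zero_right hF]
  have dx2 : H d x2 = 0 := by rw [hd, h''.adj, hN''x2, H_zero_right hF]
  exact (no_four hF hr rr bb cc dd (H_zero_swap hF br) (H_zero_swap hF cr) (H_zero_swap hF dr)
    bc (H_zero_swap hF db) (H_zero_swap hF dc) hx1 hx2 hx3 (H_one_swap hF hb1)
    (H_zero_swap hF cx1) (H_zero_swap hF dx1) (H_one_swap hF hc1) (H_zero_swap hF dx2)
    (H_one_swap hF hd1)).elim

end SAsec

end Cfsg.Agent.R08.InvHerm
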