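import Cfsg.Agent.R08.Geo4
import Cfsg.Agent.R08.InvHerm
import Cfsg.Agent.R08.CloseLab

/-!
# R08 (S1715): finite geometry of `F4 ^ 6`: transvections as symmetries, standard pairs, and the
interfaces of helper885 (`InvHerm.Geo`), helper932 (`CloseLab.Geo`) and helper876 (helper261)
-/

set_option autoImplicit false

namespace Cfsg.Agent.R08.Geo

open Cfsg.Agent.SporRec.GF4 Cfsg.Agent.R08 Cfsg.Agent.R08.Iface
open Cfsg.Agent.R08.ModVec (W)

/-! ### transvections are symmetries -/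

theorem Sym.comp {g h : W → W} (hg : Sym g) (hh : Sym h) : Sym (fun x => g (h x)) where
  add u v := by rw [hh.add, hg.add]
  smul a v := by rw [hh.smul, hg.smul]
  form u v := by rw [hg.form, hh.form]
  isR v := by rw [hg.isR, hh.isR]
  isS v := by rw [hg.isS, hh.isS]
  surj := hg.surj.comp hh.surj

theorem S_iff {v : W} : IsS v ↔ v ≠ 0 ∧ H v v = 0 ∧ ¬ IsR v := by
  constructor
  · intro h
    exact ⟨S_ne_zero h, H_self_S h, fun h' => not_R_S h' h⟩
  · rintro ⟨h0, h1, h2⟩
    exact (R_or_S h1 h0).resolve_left h2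

theorem isS_smul {a : F4} (ha : a ≠ 0) {r : W} (hr : IsS r) : IsS (a • r) := by
  rw [S_iff] at hr ⊢
  obtain ⟨h1, h2, h3⟩ := hr
  refine ⟨smul_ne_zero ha h1, ?_, ?_⟩
  · rw [H_smul_left, H_smul_right, h2, mul_zero, mul_zero]
  · rwa [isR_smul_iff ha]

theorem isS_smul_iff {a : F4} (ha : a ≠ 0) {r : W} : IsS (a • r) ↔ IsS r := by
  refine ⟨fun h => ?_, isS_smul ha⟩
  have := isS_smul (inv_ne_zero ha) h
  rwa [smul_smul, inv_mul_cancel₀ ha, one_smul] at this

theorem tr_tr {r : W} (hr : IsR r) (x : W) : tr r (tr r x) = x := by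
  unfold tr
  rw [H_add_left, H_smul_left, H_self_R hr, mul_zero, add_zero, add_assoc, ← add_smul,
    ModVec.add_self, zero_smul, add_zero]

theorem isR_tr {r x : W} (hr : IsR r) (hx : IsR x) : IsR (tr r x) := by
  unfold tr
  by_cases h : H x r = 0
  · rw [h, zero_smul, add_zero]; exact hx
  · refine third hx (isR_smul h hr) ?_
    rw [H_smul_right, mul_comm]
    exact ModVec.mul_cj h

theorem sym_tr {r : W} (hr : IsR r) : Sym (tr r) := by
  have hadd : ∀ u v, tr r (u + v) = tr r u + tr r v := by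
    intro u v
    unfold tr
    rw [H_add_left, add_smul]
    abel
  have hsmul : ∀ (a : F4) (v : W), tr r (a • v) = a • tr r v := by
    intro a v
    unfold tr
    rw [H_smul_left, smul_add, mul_smul]
  have hform : ∀ u v : W, H (tr r u) (tr r v) = H u v := by
    intro u v
    unfold tr
    rw [H_add_left, H_add_right, H_add_right, H_smul_left, H_smul_right, H_smul_left, H_smul_right,
      H_self_R hr, mul_zero, mul_zero, add_zero, H_symm v r]
    rw [show ModVec.cj (H v r) * H u r = H u r * ModVec.cj (H v r) from mul_comm _ _, add_assoc,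
      ModVec.add_self, add_zero]
  have hR : ∀ v, IsR (tr r v) ↔ IsR v := fun v =>
    ⟨fun h => by have := isR_tr hr h; rwa [tr_tr hr] at this, isR_tr hr⟩
  have h0 : ∀ v, tr r v = 0 ↔ v = 0 := by
    intro v
    constructor
    · intro h
      have := congrArg (tr r) h
      rw [tr_tr hr] at this
      rw [this]; unfold tr; rw [H_zero_left, zero_smul, add_zero]
    · rintro rfl
      unfold tr; rw [H_zero_left, zero_smul, add_zero]
  refine ⟨hadd, hsmul, hform, hR, fun v => ?_, fun v => ⟨tr r v, tr_tr hr v⟩⟩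
  rw [S_iff, S_iff, hform, hR, Ne, h0]

theorem tr_swap {x y : W} (hx : IsR x) (hy : IsR y) (h : H x y = 1) : tr (x + y) x = y := by
  unfold tr
  rw [H_add_right, H_self_R hx, h, zero_add, one_smul, ← add_assoc, ModVec.W_add_self, zero_add]

theorem isR_rA : IsR rA.w := by rw [isR_iff, V6.of_w]; decide

theorem isR_rB : IsR rB.w := by rw [isR_iff, V6.of_w]; decide

theorem isR_bA : IsR bA.w := by rw [isR_iff, V6.of_w]; decide

/-- Normal form of `R`-vectors. -/
theorem exists_symR' {v : W} (hv : IsR v) : ∃ g, Sym g ∧ g v = rA.w := by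
  obtain ⟨g, hg, h | h⟩ := exists_symR hv
  · exact ⟨g, hg, h⟩
  · have hy : IsR (V6.mk .w .v .o .o .o .o).w := by rw [isR_iff, V6.of_w]; decide
    have h1 : H rB.w (V6.mk .w .v .o .o .o .o).w = 1 := by
      rw [H_iface, V6.h_eq]; decide
    have h2 : H (V6.mk .w .v .o .o .o .o).w rA.w = 1 := by
      rw [H_iface, V6.h_eq]; decide
    refine ⟨_, (sym_tr (third hy isR_rA h2)).comp ((sym_tr (third isR_rB hy h1)).comp hg), ?_⟩
    show tr _ (tr _ (g v)) = _
    rw [h, tr_swap isR_rB hy h1, tr_swap hy isR_rA h2]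

/-- Normal form of pairs of independent orthogonal `R`-vectors. -/
theorem exists_symPair {r s : W} (hr : IsR r) (hs : IsR s) (h : H s r = 0) (hn : Ind r s) :
    ∃ g, Sym g ∧ g r = rA.w ∧ g s = bA.w := by
  obtain ⟨g, hg, hgr⟩ := exists_symR' hr
  have hs' : IsR (g s) := (hg.isR s).2 hs
  have h' : H (g s) rA.w = 0 := by rw [← hgr, hg.form]; exact h
  have hn' : ∀ a : F4, g s ≠ a • rA.w := by
    intro a ha
    rw [← hgr, ← hg.smul] at ha
    exact hn a (hg.inj ha)
  have key : ∀ v, Relation.ReflTransGen (Edge rA.w) (g s) v →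
      ∃ k, Sym k ∧ k r = rA.w ∧ k s = v := by
    intro v hv
    induction hv with
    | refl => exact ⟨g, hg, hgr, rfl⟩
    | tail _ he ih =>
      obtain ⟨k, hk, h1, h2⟩ := ih
      obtain ⟨hu, hv, hur, hvr, huv⟩ := he
      refine ⟨_, (sym_tr (third hu hv huv)).comp hk, ?_, ?_⟩
      · show tr _ (k r) = _
        rw [h1]
        unfold tr
        rw [H_add_right, H_zero_symm.1 hur, H_zero_symm.1 hvr, add_zero, zero_smul, add_zero]
      · show tr _ (k s) = _
        rw [h2, tr_swap hu hv huv]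
  exact key _ (conn_bA hs' h' hn')

/-! ### helper876's facts -/

/-- (g2) -/
theorem isS_add {x y : W} (hx : IsR x) (hy : IsR y) (h : H x y = 0) (hn : Ind x y) :
    IsS (x + y) := by
  obtain ⟨a, -, ha⟩ := line hx (H_self_R hy) (H_zero_symm.1 h) hn
  have h0 : (0 : F4) = a := ha 0 (by rwa [zero_smul, add_zero])
  rw [S_iff]
  refine ⟨?_, ?_, ?_⟩
  · intro h1
    apply hn 1
    rw [one_smul]
    have := congrArg (· + x) h1
    simp only [zero_add] at this
    rw [← this, add_comm x y, add_assoc, ModVec.W_add_self, add_zero]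
  · rw [H_add_left, H_add_right, H_add_right, H_self_R hx, H_self_R hy, h, H_zero_symm.1 h]
    rfl
  · intro h1
    have h2 : (1 : F4) = a := ha 1 (by rwa [one_smul, add_comm])
    rw [← h0] at h2
    exact absurd h2 (by decide)

theorem g4_check : (V6.all fun u =>
    !(V6.isZ (u.h ⟨.z, .z, .z, .z, .o, .o⟩) && V6.isZ (u.h ⟨.z, .z, .z, .z, .w, .v⟩) &&
      V6.isZ (u.h ⟨.z, .z, .o, .o, .z, .z⟩) && V6.isZ (u.h ⟨.o, .o, .z, .z, .z, .z⟩)) ||
    V6.eq u ⟨u.a, u.a, u.c, u.c, .z, .z⟩) = true := by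
  decide +kernel

theorem g4_std {u : W} (hu : ∀ d : W, IsR d → H d rA.w = 0 → H d bA.w = 0 →
    IsR (d + (rA.w + bA.w)) → H u d = 0) : ∃ a b : F4, u = a • rA.w + b • bA.w := by
  have key := V6.of_all g4_check (V6.of u)
  have h1 : ∀ d : V6, d.isR = true → V6.isZ (d.h rA) = true → V6.isZ (d.h bA) = true →
      (d.add (rA.add bA)).isR = true → V6.isZ ((V6.of u).h d) = true := by
    intro d h1 h2 h3 h4
    have := hu d.w (by rw [isR_iff, V6.of_w]; exact h1) ((V6.h_eq _ _).trans (V6.isZ_iff.1 h2))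
      ((V6.h_eq _ _).trans (V6.isZ_iff.1 h3))
      (by rw [isR_iff, V6.of_add, V6.of_w, V6.of_add, V6.of_w, V6.of_w]; exact h4)
    rw [V6.isZ_iff]
    rw [H_of, V6.of_w] at this
    exact this
  rw [h1 _ (by decide) (by decide) (by decide) (by decide),
    h1 _ (by decide) (by decide) (by decide) (by decide),
    h1 _ (by decide) (by decide) (by decide) (by decide),
    h1 _ (by decide) (by decide) (by decide) (by decide)] at key
  rw [Bool.and_self, Bool.and_self, Bool.and_self, Bool.not_true, Bool.false_or, V6.eq_iff] at key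
  refine ⟨u 0, u 2, ?_⟩
  have h2 := congrArg V6.w key
  rw [V6.w_of] at h2
  rw [h2]
  have m1 : ∀ x : F4, x * F4.z = F4.z := fun x => mul_zero x
  have m2 : ∀ x : F4, x * F4.o = x := fun x => mul_one x
  funext i
  fin_cases i
  · show u 0 = u 0 * F4.o + u 2 * F4.z
    rw [m1, m2]; exact (add_zero _).symm
  · show u 0 = u 0 * F4.o + u 2 * F4.z
    rw [m1, m2]; exact (add_zero _).symm
  · show u 2 = u 0 * F4.z + u 2 * F4.o
    rw [m1, m2]; exact (zero_add _).symm
  · show u 2 = u 0 * F4.z + u 2 * F4.o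
    rw [m1, m2]; exact (zero_add _).symm
  · show F4.z = u 0 * F4.z + u 2 * F4.z
    rw [m1, m1]; rfl
  · show F4.z = u 0 * F4.z + u 2 * F4.z
    rw [m1, m1]; rfl

/-- (g4) -/
theorem g4 {r r2 u : W} (hr : IsR r) (hr2 : IsR r2) (h : H r r2 = 0) (hn : Ind r r2)
    (hu : ∀ d : W, IsR d → H d r = 0 → H d r2 = 0 → IsR (d + (r + r2)) → H u d = 0) :
    ∃ a b : F4, u = a • r + b • r2 := by
  obtain ⟨g, hg, h1, h2⟩ := exists_symPair hr hr2 (H_zero_symm.1 h) hn
  obtain ⟨a, b, hab⟩ := g4_std (u := g u) (by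
    intro d hd hd1 hd2 hd3
    obtain ⟨d, rfl⟩ := hg.surj d
    rw [hg.form]
    refine hu d ((hg.isR d).1 hd) ?_ ?_ ?_
    · rw [← h1, hg.form] at hd1; exact hd1
    · rw [← h2, hg.form] at hd2; exact hd2
    · rw [← h1, ← h2, ← hg.add, ← hg.add, hg.isR] at hd3; exact hd3)
  refine ⟨a, b, hg.inj ?_⟩
  rw [hab, hg.add, hg.smul, hg.smul, h1, h2]

/-- (g5) -/
theorem g5 {r r2 : W} (hr : IsR r) (hr2 : IsR r2) (h : H r r2 = 0) (hn : Ind r r2) :
    ∃ d : W, IsR d ∧ H d r = 1 ∧ H d (r + r2) = 0 ∧ IsR (d + (r + r2)) := by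
  obtain ⟨g, hg, h1, h2⟩ := exists_symPair hr hr2 (H_zero_symm.1 h) hn
  obtain ⟨d, hd⟩ := hg.surj (V6.mk .z .o .z .o .z .z).w
  refine ⟨d, ?_, ?_, ?_, ?_⟩
  · rw [← hg.isR, hd, isR_iff, V6.of_w]; decide
  · rw [← hg.form, hd, h1, H_iface, V6.h_eq]; decide
  · rw [← hg.form, hg.add, hd, h1, h2, ← V6.add_w, H_iface, V6.h_eq]; decide
  · rw [← hg.isR, hg.add, hg.add, hd, h1, h2, ← V6.add_w, ← V6.add_w, isR_iff, V6.of_w]; decide

/-! ### the number of `R`-vectors -/

theorem card_R : Nat.card {v : W // IsR v} = 378 := by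
  classical
  rw [Nat.card_eq_fintype_card, Fintype.card_subtype,
    ModVec.card_W (P := fun v => IsR v) (p := fun a b c d e f => V6.isR ⟨a, b, c, d, e, f⟩)
      (fun v => isR_iff)]
  decide +kernel

theorem card_S : Nat.card {v : W // IsS v} = 1701 := by
  classical
  rw [Nat.card_eq_fintype_card, Fintype.card_subtype,
    ModVec.card_W (P := fun v => IsS v) (p := fun a b c d e f => V6.isS ⟨a, b, c, d, e, f⟩)
      (fun v => isS_iff)]
  decide +kernel

/-! ### interfaces -/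

theorem geo : InvHerm.Geo F4 where
  ne _ := R_ne_zero
  iso _ := H_self_R
  smul _ hr _ hc := isR_smul hc hr
  line _ hr _ h1 h2 h3 := line hr h1 h2 h3
  add _ _ := third
  S_iff _ := S_iff
  card := card_R

variable {G : Type*} [Group G] {Q M : Subgroup G} {z : G}

theorem geoLab (L : Lab F4 Q M z) : CloseLab.Geo L where
  orth r r1 r2 hr hr1 hr2 h1 h2 hn1 hn2 := by
    obtain ⟨m, hm, h3, h4⟩ := transPair L hr hr1 h1 hn1 hr hr2 h2 hn2
    exact ⟨m, hm, 1, 1, by rw [h3, one_smul], by rw [h4, one_smul]⟩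
  swap r r1 hr hr1 h1 hn1 := by
    obtain ⟨m, hm, h3, h4⟩ := transPair L hr hr1 h1 hn1 hr1 hr (H_zero_symm.1 h1)
      (Ind.symm hn1 (R_ne_zero hr))
    exact ⟨m, hm, 1, 1, by rw [h3, one_smul], by rw [h4, one_smul]⟩
  conn r w hr hw _ := by
    obtain ⟨t, h1, h2, h3, -, -⟩ := exists_common hr hw
    exact ⟨t, h1, H_zero_symm.1 h2, h3⟩

end Cfsg.Agent.R08.Geo
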