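import Cfsg.Agent.R01.PSUSix

/-!
The hermitian space `F ^ 4`, `F` the field with four elements: hyperbolic bases, consequences,
transvections and the involutions of `SU 4 2`.
-/

set_option autoImplicit false
set_option linter.unusedSectionVars false

namespace Cfsg.Agent.R08.Herm4

open Cfsg Cfsg.Agent.LieClassical.HermBasic Cfsg.Agent.ClassicalGeometry.UnitTransv
open Cfsg.Agent.SporadicStructure.UnitTwo Cfsg.Agent.R01.PSUSix

variable {F : Type*} [Field F] [Fintype F]

/-- A hyperbolic basis. -/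
structure HB (w w' f f' : Fin 4 → F) : Prop where
  ww : hermForm 4 F 2 w w = 0
  w'w' : hermForm 4 F 2 w' w' = 0
  ff : hermForm 4 F 2 f f = 0
  f'f' : hermForm 4 F 2 f' f' = 0
  ww' : hermForm 4 F 2 w w' = 0
  wf : hermForm 4 F 2 w f = 1
  wf' : hermForm 4 F 2 w f' = 0
  w'f : hermForm 4 F 2 w' f = 0
  w'f' : hermForm 4 F 2 w' f' = 1
  ff' : hermForm 4 F 2 f f' = 0
  exp : ∀ v : Fin 4 → F, v = hermForm 4 F 2 v f • w + hermForm 4 F 2 v f' • w' +
    hermForm 4 F 2 v w • f + hermForm 4 F 2 v w' • f'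

variable (hF : Fintype.card F = 2 ^ 2)
include hF

theorem std_HB {ω : F} (hω : ω ^ 2 + ω + 1 = 0) :
    HB (![1, 1, 0, 0] : Fin 4 → F) ![0, 0, 1, 1] ![ω, ω ^ 2, 0, 0] ![0, 0, ω, ω ^ 2] := by
  have h3 := omega_cubed hω
  have h2 := two_eq_zero hF
  have h4 : ω ^ 4 = ω := by linear_combination ω * h3
  refine ⟨?_, ?_, ?_, ?_, ?_, ?_, ?_, ?_, ?_, ?_, ?_⟩
  · rw [herm_def]; simp [Fin.sum_univ_succ]; linear_combination h2
  · rw [herm_def]; simp [Fin.sum_univ_succ]; linear_combination h2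
  · rw [herm_def]; simp [Fin.sum_univ_succ]; linear_combination (1 + ω ^ 3 + 1) * h3 + h2
  · rw [herm_def]; simp [Fin.sum_univ_succ]; linear_combination (1 + ω ^ 3 + 1) * h3 + h2
  · rw [herm_def]; simp [Fin.sum_univ_succ]
  · rw [herm_def]; simp [Fin.sum_univ_succ]; linear_combination hω + h4 - h2
  · rw [herm_def]; simp [Fin.sum_univ_succ]
  · rw [herm_def]; simp [Fin.sum_univ_succ]
  · rw [herm_def]; simp [Fin.sum_univ_succ]; linear_combination hω + h4 - h2
  · rw [herm_def]; simp [Fin.sum_univ_succ]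
  · intro v
    funext i
    simp only [herm_def]
    fin_cases i <;> simp [Fin.sum_univ_succ]
    · linear_combination (-v 0) * hω - v 1 * h4 + (v 0 - v 1 * ω) * h2
    · linear_combination (-v 1) * hω - v 1 * h4 + (v 1 - v 0 * ω ^ 2) * h2
    · linear_combination (-v 2) * hω - v 3 * h4 + (v 2 - v 3 * ω) * h2
    · linear_combination (-v 3) * hω - v 3 * h4 + (v 3 - v 2 * ω ^ 2) * h2

theorem exists_HB {w : Fin 4 → F} (hw : hermForm 4 F 2 w w = 0) (hw0 : w ≠ 0) :
    ∃ w' f f' : Fin 4 → F, HB w w' f f' := by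
  obtain ⟨ω, hω⟩ := exists_omega hF
  have S := std_HB hF hω
  set a : Fin 4 → F := ![1, 1, 0, 0] with ha
  set a' : Fin 4 → F := ![0, 0, 1, 1] with ha'
  set b : Fin 4 → F := ![ω, ω ^ 2, 0, 0] with hb
  set b' : Fin 4 → F := ![0, 0, ω, ω ^ 2] with hb'
  have ha0 : a ≠ 0 := by
    intro h
    have := congrFun h 0
    simp [ha] at this
  obtain ⟨g, c, hc, hg⟩ := exists_map hF a w ha0 hw0 S.ww hw
  have hc3 := pow_three hF hc
  have hw1 : w = c⁻¹ • act g a := by rw [hg, smul_smul, inv_mul_cancel₀ hc, one_smul]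
  have hci : c⁻¹ = c ^ 2 := by
    rw [inv_eq_iff_eq_inv, eq_comm]
    exact inv_eq_of_mul_eq_one_left (by linear_combination hc3)
  rw [hci] at hw1
  refine ⟨act g a', c ^ 2 • act g b, act g b', hw, ?_, ?_, ?_, ?_, ?_, ?_, ?_, ?_, ?_, ?_⟩
  · rw [herm_act, S.w'w']
  · rw [herm_smul_left, herm_smul_right, herm_act, S.ff]; ring
  · rw [herm_act, S.f'f']
  · rw [hw1, herm_smul_left, herm_act, S.ww']; ring
  · rw [hw1, herm_smul_left, herm_smul_right, herm_act, S.wf]
    linear_combination (c ^ 3 + 1) * hc3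
  · rw [hw1, herm_smul_left, herm_act, S.wf']; ring
  · rw [herm_smul_right, herm_act, S.w'f]; ring
  · rw [herm_act, S.w'f']
  · rw [herm_smul_left, herm_act, S.ff']; ring
  · intro v
    have h1 := congrArg (act g) (S.exp (act g⁻¹ v))
    rw [act_act_inv] at h1
    have e : ∀ y, hermForm 4 F 2 (act g⁻¹ v) y = hermForm 4 F 2 v (act g y) := by
      intro y
      rw [← herm_act g (act g⁻¹ v) y, act_act_inv]
    simp only [act_add, act_smul, e] at h1
    rw [hw1]
    conv_lhs => rw [h1]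
    simp only [herm_smul_right, smul_smul]
    congr 1
    congr 1
    · congr 1
      congr 1
      linear_combination (-(hermForm 4 F 2 v (act g b)) * (c ^ 3 + 1)) * hc3
    · congr 1
      linear_combination (-(hermForm 4 F 2 v (act g a)) * (c ^ 3 + 1)) * hc3

/-- A totally isotropic line is its own perpendicular space. -/
theorem mem_span_of_perp {s t v : Fin 4 → F} (hs : hermForm 4 F 2 s s = 0) (hs0 : s ≠ 0)
    (ht : hermForm 4 F 2 t t = 0) (hst : hermForm 4 F 2 s t = 0) (hns : ¬ ∃ c : F, t = c • s)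
    (hvs : hermForm 4 F 2 v s = 0) (hvt : hermForm 4 F 2 v t = 0) :
    ∃ a b : F, v = a • s + b • t := by
  obtain ⟨w', f, f', B⟩ := exists_HB hF hs hs0
  have h2 := two_eq_zero hF
  have hts := herm_eq_zero_swap hF hst
  have et := B.exp t
  have ev := B.exp v
  rw [hts, zero_smul, add_zero] at et
  rw [hvs, zero_smul, add_zero] at ev
  set t1 := hermForm 4 F 2 t f
  set b := hermForm 4 F 2 t f'
  set c := hermForm 4 F 2 t w'
  set v1 := hermForm 4 F 2 v f
  set b' := hermForm 4 F 2 v f'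
  set c' := hermForm 4 F 2 v w'
  have hw's : hermForm 4 F 2 w' s = 0 := herm_eq_zero_swap hF B.ww'
  have hf's : hermForm 4 F 2 f' s = 0 := herm_eq_zero_swap hF B.wf'
  have hf'w' : hermForm 4 F 2 f' w' = 1 := by rw [herm_swap hF w', B.w'f', one_pow]
  have key : b * c ^ 2 + c * b ^ 2 = 0 := by
    have := ht
    rw [et] at this
    simp only [herm_add_left, herm_add_right hF, herm_smul_left, herm_smul_right, B.ww, B.ww',
      B.wf', hw's, hf's, B.w'w', B.f'f', B.w'f', hf'w'] at this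
    linear_combination this
  have key2 : b' * c ^ 2 + c' * b ^ 2 = 0 := by
    have := hvt
    rw [et, ev] at this
    simp only [herm_add_left, herm_add_right hF, herm_smul_left, herm_smul_right, B.ww, B.ww',
      B.wf', hw's, hf's, B.w'w', B.f'f', B.w'f', hf'w'] at this
    linear_combination this
  by_cases hc : c = 0
  · have hb : b ≠ 0 := by
      intro hb
      apply hns
      refine ⟨t1, ?_⟩
      rw [et, hb, hc, zero_smul, zero_smul, add_zero, add_zero]
    have hc' : c' = 0 := by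
      rw [hc] at key2
      have : c' * b ^ 2 = 0 := by linear_combination key2
      exact (mul_eq_zero.1 this).resolve_right (pow_ne_zero _ hb)
    refine ⟨v1 - b' * b⁻¹ * t1, b' * b⁻¹, ?_⟩
    rw [ev, et, hc, hc', zero_smul, add_zero, add_zero, smul_add, smul_smul, smul_smul,
      mul_assoc b' b⁻¹ b, inv_mul_cancel₀ hb, mul_one, ← add_assoc, ← add_smul, sub_add_cancel]
  · have hc3 := pow_three hF hc
    refine ⟨v1 - c' * c ^ 2 * t1, c' * c ^ 2, ?_⟩
    have e1 : b' = c' * c ^ 2 * b := by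
      linear_combination c * key2 - c' * key + (-b') * hc3
    have e2 : c' = c' * c ^ 2 * c := by linear_combination (-c') * hc3
    rw [ev, et, smul_add, smul_add, smul_smul, smul_smul, smul_smul, ← e2, ← e1, ← add_assoc,
      ← add_assoc, ← add_smul, sub_add_cancel]

/-- Every isotropic point has a non-proportional perpendicular isotropic point. -/
theorem exists_perp_iso {w : Fin 4 → F} (hw : hermForm 4 F 2 w w = 0) (hw0 : w ≠ 0) :
    ∃ s : Fin 4 → F, hermForm 4 F 2 s s = 0 ∧ hermForm 4 F 2 w s = 0 ∧ s ≠ 0 ∧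
      ¬ ∃ c : F, s = c • w := by
  obtain ⟨w', f, f', B⟩ := exists_HB hF hw hw0
  have h1 : hermForm 4 F 2 w' f' = 1 := B.w'f'
  refine ⟨w', B.w'w', B.ww', ?_, ?_⟩
  · rintro rfl
    rw [herm_zero_left] at h1
    exact zero_ne_one h1
  · rintro ⟨c, rfl⟩
    rw [herm_smul_left, B.wf', mul_zero] at h1
    exact zero_ne_one h1

theorem exists_iso_ne {w : Fin 4 → F} (hw : hermForm 4 F 2 w w = 0) (hw0 : w ≠ 0) :
    ∃ s : Fin 4 → F, hermForm 4 F 2 s s = 0 ∧ hermForm 4 F 2 w s ≠ 0 ∧ s ≠ 0 := by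
  obtain ⟨w', f, f', B⟩ := exists_HB hF hw hw0
  have h1 : hermForm 4 F 2 w f = 1 := B.wf
  refine ⟨f, B.ff, by rw [h1]; exact one_ne_zero, ?_⟩
  rintro rfl
  rw [herm_zero_right hF] at h1
  exact zero_ne_one h1

/-- Two isotropic points have a common isotropic perpendicular point. -/
theorem exists_common {r s : Fin 4 → F} (hr : hermForm 4 F 2 r r = 0) (hr0 : r ≠ 0) :
    ∃ t : Fin 4 → F, hermForm 4 F 2 t t = 0 ∧ t ≠ 0 ∧ hermForm 4 F 2 t r = 0 ∧
      hermForm 4 F 2 t s = 0 := by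
  by_cases h : hermForm 4 F 2 r s = 0
  · exact ⟨r, hr, hr0, hr, h⟩
  · obtain ⟨r', hr', hrr', hr'0, hn⟩ := exists_perp_iso hF hr hr0
    have hr'r := herm_eq_zero_swap hF hrr'
    refine ⟨r' + (-(hermForm 4 F 2 r' s * (hermForm 4 F 2 r s)⁻¹)) • r, ?_, ?_, ?_, ?_⟩
    · rw [herm_add_left, herm_add_right hF, herm_add_right hF, herm_smul_left, herm_smul_left,
        herm_smul_right, herm_smul_right, hr, hr', hrr', hr'r]
      ring
    · intro h0
      apply hn
      exact ⟨hermForm 4 F 2 r' s * (hermForm 4 F 2 r s)⁻¹, by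
        rw [neg_smul] at h0
        exact add_neg_eq_zero.1 h0⟩
    · rw [herm_add_left, herm_smul_left, hr, hr'r]; ring
    · rw [herm_add_left, herm_smul_left]
      field_simp
      ring

section Transv

theorem T_ne_one {w : Fin 4 → F} (hw : hermForm 4 F 2 w w = 0) (hw0 : w ≠ 0) : T hF w hw ≠ 1 := by
  intro h
  obtain ⟨y, hy⟩ := exists_herm_ne_zero hF hw0
  have h1 := act_T hF w hw y
  rw [h, act_one] at h1
  have h2 : hermForm 4 F 2 y w • w = 0 := by simpa using h1
  rcases smul_eq_zero.1 h2 with h3 | h3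
  · exact hy (herm_eq_zero_swap hF h3)
  · exact hw0 h3

theorem T_eq {w s : Fin 4 → F} (hw : hermForm 4 F 2 w w = 0) (hs : hermForm 4 F 2 s s = 0)
    (hw0 : w ≠ 0) (h : T hF w hw = T hF s hs) : ∃ c : F, c ≠ 0 ∧ w = c • s := by
  obtain ⟨y, hy⟩ := exists_herm_ne_zero hF hw0
  have hy' : hermForm 4 F 2 y w ≠ 0 := fun h1 => hy (herm_eq_zero_swap hF h1)
  have h1 := act_T hF w hw y
  rw [h, act_T] at h1
  have h2 : hermForm 4 F 2 y s • s = hermForm 4 F 2 y w • w := add_left_cancel h1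
  have h3 : w = ((hermForm 4 F 2 y w)⁻¹ * hermForm 4 F 2 y s) • s := by
    rw [← smul_smul, h2, smul_smul, inv_mul_cancel₀ hy', one_smul]
  refine ⟨_, ?_, h3⟩
  intro h4
  rw [h4, zero_smul] at h3
  exact hw0 h3

theorem T_comm {w s : Fin 4 → F} (hw : hermForm 4 F 2 w w = 0) (hs : hermForm 4 F 2 s s = 0)
    (h : hermForm 4 F 2 w s = 0) : T hF w hw * T hF s hs = T hF s hs * T hF w hw := by
  have h' := herm_eq_zero_swap hF h
  apply ext_act
  intro x
  rw [act_mul, act_mul, act_T, act_T, act_T, act_T, herm_add_left, herm_add_left,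
    herm_smul_left, herm_smul_left, h, h', mul_zero, mul_zero, add_zero, add_zero,
    add_right_comm]

theorem perp_of_T_comm {w s : Fin 4 → F} (hw : hermForm 4 F 2 w w = 0)
    (hs : hermForm 4 F 2 s s = 0) (hw0 : w ≠ 0) (hs0 : s ≠ 0)
    (h : T hF w hw * T hF s hs = T hF s hs * T hF w hw) : hermForm 4 F 2 w s = 0 := by
  by_contra hne
  have hne' : hermForm 4 F 2 s w ≠ 0 := fun h1 => hne (herm_eq_zero_swap hF h1)
  have h1 := congrArg (fun g => act g w) h
  simp only [act_mul, act_T, herm_add_left, herm_smul_left, hw, hs, mul_zero, add_zero,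
    zero_smul] at h1
  -- `w + h(w,s) s + (h(w,w) + h(w,s) h(s,w)) w = w + h(w,s) s`
  have h2 : (hermForm 4 F 2 w s * hermForm 4 F 2 s w) • w = 0 := by
    have h3 := h1
    simp only [zero_add] at h3
    exact left_eq_add.1 h3.symm
  rcases smul_eq_zero.1 h2 with h3 | h3
  · exact mul_ne_zero hne hne' h3
  · exact hw0 h3

/-- A product of two transvections with independent perpendicular centres is not a transvection. -/
theorem TT_ne {w s : Fin 4 → F} (hw : hermForm 4 F 2 w w = 0) (hs : hermForm 4 F 2 s s = 0)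
    (hs0 : s ≠ 0) (hns : ¬ ∃ c : F, w = c • s) (hws : hermForm 4 F 2 w s = 0) {r : Fin 4 → F}
    (hr : hermForm 4 F 2 r r = 0) : T hF w hw * T hF s hs ≠ T hF r hr := by
  intro h
  have hsw := herm_eq_zero_swap hF hws
  have key : ∀ y, hermForm 4 F 2 y w • w + hermForm 4 F 2 y s • s = hermForm 4 F 2 y r • r := by
    intro y
    have h1 := congrArg (fun g => act g y) h
    simp only [act_mul, act_T, herm_add_left, herm_smul_left, hsw, mul_zero, add_zero] at h1
    rw [add_assoc] at h1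
    have := add_left_cancel h1
    rw [← this, add_comm]
  have hw0 : w ≠ 0 := by
    rintro rfl
    exact hns ⟨0, by rw [zero_smul]⟩
  -- `y` perpendicular to `s` but not to `w`
  obtain ⟨y, hys, hyw⟩ := exists_perp_ne hF hs0 hns
  have hyw' : hermForm 4 F 2 y w ≠ 0 := fun h1 => hyw (herm_eq_zero_swap hF h1)
  have k1 := key y
  rw [hys, zero_smul, add_zero] at k1
  -- `r` is a multiple of `w`
  have hyr : hermForm 4 F 2 y r ≠ 0 := by
    intro h1
    rw [h1, zero_smul] at k1
    rcases smul_eq_zero.1 k1 with h2 | h2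
    · exact hyw' h2
    · exact hw0 h2
  have hrw : r = ((hermForm 4 F 2 y r)⁻¹ * hermForm 4 F 2 y w) • w := by
    rw [← smul_smul, k1, smul_smul, inv_mul_cancel₀ hyr, one_smul]
  -- then `s` is a multiple of `w`
  obtain ⟨z, hz⟩ := exists_herm_ne_zero hF hs0
  have hz' : hermForm 4 F 2 z s ≠ 0 := fun h1 => hz (herm_eq_zero_swap hF h1)
  have k2 := key z
  set c := (hermForm 4 F 2 y r)⁻¹ * hermForm 4 F 2 y w with hc
  have k3 : hermForm 4 F 2 z s • s = (hermForm 4 F 2 z r * c - hermForm 4 F 2 z w) • w := by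
    rw [sub_smul, ← smul_smul, ← hrw, ← k2]
    abel
  have k4 : s = ((hermForm 4 F 2 z s)⁻¹ * (hermForm 4 F 2 z r * c - hermForm 4 F 2 z w)) • w := by
    rw [← smul_smul, ← k3, smul_smul, inv_mul_cancel₀ hz', one_smul]
  set d := (hermForm 4 F 2 z s)⁻¹ * (hermForm 4 F 2 z r * c - hermForm 4 F 2 z w) with hd
  have hd0 : d ≠ 0 := by
    intro h1
    rw [h1, zero_smul] at k4
    exact hs0 k4
  exact hns ⟨d⁻¹, by rw [k4, smul_smul, inv_mul_cancel₀ hd0, one_smul]⟩

end Transv

section Inv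

/-- The image of `g - 1`. -/
def Im (g : SU 4 F 2) : Set (Fin 4 → F) := {v | ∃ y, v = act g y + y}

omit hF in
theorem Im_add {g : SU 4 F 2} {v w : Fin 4 → F} (hv : v ∈ Im g) (hw : w ∈ Im g) : v + w ∈ Im g := by
  obtain ⟨y, rfl⟩ := hv
  obtain ⟨z, rfl⟩ := hw
  exact ⟨y + z, by rw [act_add]; abel⟩

omit hF in
theorem Im_smul {g : SU 4 F 2} {v : Fin 4 → F} (c : F) (hv : v ∈ Im g) : c • v ∈ Im g := by
  obtain ⟨y, rfl⟩ := hv
  exact ⟨c • y, by rw [act_smul, smul_add]⟩

omit hF in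
theorem herm_act_comm {g : SU 4 F 2} (hg : g * g = 1) (x y : Fin 4 → F) :
    hermForm 4 F 2 (act g x) y = hermForm 4 F 2 x (act g y) := by
  rw [← herm_act g (act g x) y, ← act_mul, hg, act_one]


theorem herm_N {g : SU 4 F 2} (hg : g * g = 1) (x y : Fin 4 → F) :
    hermForm 4 F 2 (act g x + x) y = hermForm 4 F 2 x (act g y + y) := by
  rw [herm_add_left, herm_add_right hF, herm_act_comm hg]

theorem Im_orth {g : SU 4 F 2} (hg : g * g = 1) {v w : Fin 4 → F} (hv : v ∈ Im g) (hw : w ∈ Im g) :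
    hermForm 4 F 2 v w = 0 := by
  obtain ⟨y, rfl⟩ := hv
  obtain ⟨z, rfl⟩ := hw
  rw [herm_add_left, herm_add_right hF, herm_add_right hF, herm_act, herm_act_comm hg]
  linear_combination (hermForm 4 F 2 y z + hermForm 4 F 2 y (act g z)) * two_eq_zero hF

theorem exists_x {g : SU 4 F 2} (hg : g * g = 1) (hne : g ≠ 1) :
    ∃ x, hermForm 4 F 2 (act g x + x) x = 1 := by
  by_contra hcon
  push Not at hcon
  apply hne
  have h0 : ∀ x, hermForm 4 F 2 (act g x + x) x = 0 := by
    intro x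
    have h1 : hermForm 4 F 2 (act g x + x) x ^ 2 = hermForm 4 F 2 (act g x + x) x := by
      rw [← herm_swap hF, herm_N hF hg]
    exact (zero_or_one_of_fixed hF h1).resolve_right (hcon x)
  have h3 : ∀ x y, hermForm 4 F 2 (act g x + x) y = 0 := by
    intro x y
    apply eq_zero_of_forall_trace hF
    intro c
    have h4 := h0 (x + c ^ 2 • y)
    have e1 : act g (x + c ^ 2 • y) + (x + c ^ 2 • y) =
        (act g x + x) + c ^ 2 • (act g y + y) := by
      rw [act_add, act_smul, smul_add]; abel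
    rw [e1, herm_add_left, herm_add_right hF, herm_add_right hF, herm_smul_left, herm_smul_left,
      herm_smul_right, herm_smul_right, h0, h0, herm_N hF hg y x,
      herm_swap hF (act g x + x) y] at h4
    have hc4 := pow_four hF c
    linear_combination h4 - (hermForm 4 F 2 (act g x + x) y) * hc4
  apply ext_act
  intro x
  rw [act_one]
  have h5 : act g x + x = 0 := herm_nondeg hF (h3 x)
  funext i
  have := congrFun h5 i
  simp only [Pi.add_apply, Pi.zero_apply] at this
  linear_combination this - x i * two_eq_zero hF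

/-- Splitting off a transvection from an involution. -/
theorem step {g : SU 4 F 2} (hg : g * g = 1) (hne : g ≠ 1) :
    ∃ (v : Fin 4 → F) (hv : hermForm 4 F 2 v v = 0), v ≠ 0 ∧ v ∈ Im g ∧
      (T hF v hv * g) * (T hF v hv * g) = 1 ∧ Im (T hF v hv * g) ⊆ Im g ∧
      v ∉ Im (T hF v hv * g) := by
  obtain ⟨x, hx⟩ := exists_x hF hg hne
  set v := act g x + x with hv
  have hvIm : v ∈ Im g := ⟨x, rfl⟩
  have hvv : hermForm 4 F 2 v v = 0 := Im_orth hF hg hvIm hvIm
  have hv0 : v ≠ 0 := by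
    intro h
    rw [h, herm_zero_left] at hx
    exact zero_ne_one hx
  -- the action of the new element
  have hact : ∀ y, act (T hF v hvv * g) y + y = (act g y + y) + hermForm 4 F 2 y v • v := by
    intro y
    have h1 : hermForm 4 F 2 (act g y) v = hermForm 4 F 2 y v := by
      have h3 : hermForm 4 F 2 (act g y + y) v = 0 := Im_orth hF hg ⟨y, rfl⟩ hvIm
      rw [herm_add_left] at h3
      exact eq_of_add_eq_zero hF h3
    rw [act_mul, act_T, h1]
    abel
  have hgv : act g v = v := by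
    rw [hv, act_add, ← act_mul, hg, act_one, add_comm]
  have hkill : ∀ y, act (T hF v hvv * g) (act (T hF v hvv * g) y) = y := by
    intro y
    have h1 : hermForm 4 F 2 (act g y) v = hermForm 4 F 2 y v := by
      rw [herm_act_comm hg, hgv]
    have e1 : ∀ y, act (T hF v hvv * g) y = act g y + hermForm 4 F 2 y v • v := by
      intro y
      rw [act_mul, act_T, herm_act_comm hg, hgv]
    rw [e1, e1, act_add, act_smul, hgv, ← act_mul, hg, act_one, herm_add_left, herm_smul_left,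
      hvv, mul_zero, add_zero, h1, add_assoc, vadd_self hF, add_zero]
  have hsq : (T hF v hvv * g) * (T hF v hvv * g) = 1 := by
    apply ext_act
    intro y
    rw [act_mul, act_one, hkill]
  refine ⟨v, hvv, hv0, hvIm, hsq, ?_, ?_⟩
  · rintro _ ⟨y, rfl⟩
    rw [hact]
    exact Im_add ⟨y, rfl⟩ (Im_smul _ hvIm)
  · rintro ⟨y, hy⟩
    -- `h(v, x) = 1` but `N' x = 0`
    have h1 : hermForm 4 F 2 v x = hermForm 4 F 2 y (act (T hF v hvv * g) x + x) := by
      conv_lhs => rw [hy]
      rw [herm_N hF hsq]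
    have h3 : hermForm 4 F 2 x v = 1 := by
      rw [herm_swap hF v x, hx, one_pow]
    rw [hact, h3, one_smul, ← hv, vadd_self hF, herm_zero_right hF, hx] at h1
    exact one_ne_zero h1

/-- The involutions of `SU 4 2`. -/
theorem inv_form {g : SU 4 F 2} (hg : g * g = 1) :
    g = 1 ∨ (∃ (u : Fin 4 → F) (hu : hermForm 4 F 2 u u = 0), u ≠ 0 ∧ g = T hF u hu) ∨
    (∃ (u v : Fin 4 → F) (hu : hermForm 4 F 2 u u = 0) (hv : hermForm 4 F 2 v v = 0), u ≠ 0 ∧
      v ≠ 0 ∧ hermForm 4 F 2 u v = 0 ∧ (¬ ∃ c : F, u = c • v) ∧ (¬ ∃ c : F, v = c • u) ∧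
      g = T hF u hu * T hF v hv) := by
  by_cases h0 : g = 1
  · exact Or.inl h0
  right
  obtain ⟨v1, hv1, hv10, hv1m, hsq1, hsub1, hnot1⟩ := step hF hg h0
  set g1 := T hF v1 hv1 * g with hg1
  have e1 : g = T hF v1 hv1 * g1 := by rw [hg1, ← mul_assoc, T_mul_self, one_mul]
  by_cases h1 : g1 = 1
  · left
    exact ⟨v1, hv1, hv10, by rw [e1, h1, mul_one]⟩
  right
  obtain ⟨v2, hv2, hv20, hv2m, hsq2, hsub2, hnot2⟩ := step hF hsq1 h1
  set g2 := T hF v2 hv2 * g1 with hg2
  have e2 : g1 = T hF v2 hv2 * g2 := by rw [hg2, ← mul_assoc, T_mul_self, one_mul]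
  have i12 : hermForm 4 F 2 v1 v2 = 0 := Im_orth hF hg hv1m (hsub1 hv2m)
  have n12 : ¬ ∃ c : F, v1 = c • v2 := by
    rintro ⟨c, hc⟩
    apply hnot1
    rw [hc]
    exact Im_smul c hv2m
  have n21 : ¬ ∃ c : F, v2 = c • v1 := by
    rintro ⟨c, hc⟩
    apply n12
    have hc0 : c ≠ 0 := by
      rintro rfl
      rw [zero_smul] at hc
      exact hv20 hc
    exact ⟨c⁻¹, by rw [hc, smul_smul, inv_mul_cancel₀ hc0, one_smul]⟩
  by_cases h2 : g2 = 1
  · exact ⟨v1, v2, hv1, hv2, hv10, hv20, i12, n12, n21, by rw [e1, e2, h2, mul_one]⟩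
  · exfalso
    obtain ⟨v3, hv3, hv30, hv3m, hsq3, hsub3, hnot3⟩ := step hF hsq2 h2
    have i31 : hermForm 4 F 2 v3 v1 = 0 := Im_orth hF hg (hsub1 (hsub2 hv3m)) hv1m
    have i32 : hermForm 4 F 2 v3 v2 = 0 := Im_orth hF hsq1 (hsub2 hv3m) hv2m
    obtain ⟨a, b, hab⟩ := mem_span_of_perp hF hv1 hv10 hv2 i12 n21 i31 i32
    by_cases ha : a = 0
    · rw [ha, zero_smul, zero_add] at hab
      have hb : b ≠ 0 := by
        rintro rfl
        rw [zero_smul] at hab
        exact hv30 hab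
      apply hnot2
      have : v2 = b⁻¹ • v3 := by rw [hab, smul_smul, inv_mul_cancel₀ hb, one_smul]
      rw [this]
      exact Im_smul _ hv3m
    · apply hnot1
      have : v1 = a⁻¹ • (v3 + (-b) • v2) := by
        rw [hab, neg_smul, add_neg_cancel_right, smul_smul, inv_mul_cancel₀ ha, one_smul]
      rw [this]
      exact Im_smul _ (Im_add (hsub2 hv3m) (Im_smul _ hv2m))

end Inv

end Cfsg.Agent.R08.Herm4
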