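import Cfsg.Agent.R08.InvHerm

/-!
# R08 (S1715): the interface between pieces (1)-(3) and (4)-(7) (helper885)

`Sys F G`: the class `Z` of the central involution, the class `A` of the involutions with `R`-labels,
for every `b ∈ Z` the groups `Q b ≤ M b ≤ C_G(b)` with a labelling `lab b hb : Lab F (Q b) (M b) b`,
and the facts `sym`, `p1`-`p5` on pairs `b, s ∈ Z` with `s ∈ Q b`.
-/

set_option autoImplicit false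
set_option linter.dupNamespace false

namespace Cfsg.Agent.R08.Sys

open Cfsg.Agent.R08.Iface

/-- see the head of the file -/
structure Sys (F : Type*) [Field F] (G : Type*) [Group G] where
  Z : Set G
  A : Set G
  Q : G → Subgroup G
  M : G → Subgroup G
  lab : ∀ b ∈ Z, Lab F (Q b) (M b) b
  Z_conj : ∀ b ∈ Z, ∀ g : G, g * b * g⁻¹ ∈ Z
  A_conj : ∀ a ∈ A, ∀ g : G, g * a * g⁻¹ ∈ A
  not_Z : ∀ a ∈ A, a ∉ Z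
  Q_conj : ∀ b ∈ Z, ∀ g x : G, x ∈ Q b → g * x * g⁻¹ ∈ Q (g * b * g⁻¹)
  M_conj : ∀ b ∈ Z, ∀ g x : G, x ∈ M b → g * x * g⁻¹ ∈ M (g * b * g⁻¹)
  tS : ∀ b (hb : b ∈ Z), ∀ y ∈ Q b, IsS ((lab b hb).v y) → y ∈ Z
  tR : ∀ b (hb : b ∈ Z), ∀ y ∈ Q b, IsR ((lab b hb).v y) → y ∈ A
  even : ∀ b ∈ Z, ∀ f : M b →* ℤˣ, (∀ m : M b, (m : G) ∈ Q b → f m = 1) → ∀ m, f m = 1
  semi : ∀ b (hb : b ∈ Z), ∀ c, c * b = b * c → c ∉ M b → IsSemi ((lab b hb).ρ c)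
  sym : ∀ b ∈ Z, ∀ s ∈ Z, s ∈ Q b → s ≠ b → b ∈ Q s
  p1 : ∀ b ∈ Z, ∀ s ∈ Z, s ∈ Q b → s ≠ b → ∀ y ∈ Q b,
    (∀ x ∈ Q b, x ∈ Q s → x * y = y * x) → y ∈ Q s
  p2 : ∀ b (hb : b ∈ Z), ∀ s ∈ Z, s ∈ Q b → s ≠ b → ∀ y ∈ Q b, IsR ((lab b hb).v y) →
    H ((lab b hb).v y) ((lab b hb).v s) = 0 → IsR ((lab b hb).v y + (lab b hb).v s) → y ∈ Q s
  p3 : ∀ b (hb : b ∈ Z), ∀ s ∈ Z, s ∈ Q b → s ≠ b → ∀ r, IsR r → H r ((lab b hb).v s) = 0 →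
    IsR (r + (lab b hb).v s) → ∃ a ∈ Q s, a ∈ M b ∧
      ∀ w, (lab b hb).ρ a w = tr r (tr (r + (lab b hb).v s) w)
  p4 : ∀ b (hb : b ∈ Z) s (hs : s ∈ Z), s ∈ Q b → s ≠ b → ∀ y ∈ Q b,
    (∃ c : F, (lab b hb).v y = c • (lab b hb).v s) →
      y ∈ Q s ∧ ∃ c : F, (lab s hs).v y = c • (lab s hs).v b
  p5 : ∀ b (hb : b ∈ Z) s (hs : s ∈ Z), s ∈ Q b → s ≠ b → ∀ y ∈ Q s, y * b = b * y →
    (y ∈ M b ↔ H ((lab s hs).v y) ((lab s hs).v b) = 0)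

end Cfsg.Agent.R08.Sys
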