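import Cfsg.Agent.R08.TwoLin
import Cfsg.Agent.R08.FusQ
import Cfsg.Agent.R08.Sys

/-!
# R08 (S1715): the system of helper885 from a `Lab` (helper778)

`sysOf L hnwc even : Sys F4 G`, with `Z = {x | L.TwoB x}`, `A = {x | L.TwoA x}`, and for `b = k z k⁻¹`:
`Q b = cj k Q`, `M b = cj k M` (`sysOf_Q`, `sysOf_M`).
-/

set_option autoImplicit false

namespace Cfsg.Agent.R08.TwoSys

open Cfsg.Agent.SporRec.GF4 Cfsg.Agent.R08.Iface Cfsg.Agent.R08.TwoFin Cfsg.Agent.R08.TwoTr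
open Cfsg.Agent.R08.TwoGrp Cfsg.Agent.R08.Iface.Lab
open Cfsg.Agent.Co2Type.Quad Cfsg.Agent.LargeExtra.Base Cfsg.Agent.LargeExtra.Local

variable {G : Type*} [Group G] {Q M : Subgroup G} {z : G}

open Classical in
/-- a conjugating element -/
noncomputable def gg (L : Lab F4 Q M z) (b : G) : G := if h : L.TwoB b then h.choose else 1

theorem gg_spec (L : Lab F4 Q M z) {b : G} (h : L.TwoB b) : b = gg L b * z * (gg L b)⁻¹ := by
  unfold gg
  rw [dif_pos h]
  exact h.choose_spec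

/-- the group `Q_b` -/
noncomputable def QQ (L : Lab F4 Q M z) (b : G) : Subgroup G := cj (gg L b) Q

/-- the group `M_b` -/
noncomputable def MM (L : Lab F4 Q M z) (b : G) : Subgroup G := cj (gg L b) M

/-- the labelling at `b` -/
noncomputable def LL (L : Lab F4 Q M z) (b : G) (hb : L.TwoB b) : Lab F4 (QQ L b) (MM L b) b :=
  L.conj' (gg L b) b (gg_spec L hb)

theorem QQ_eq (L : Lab F4 Q M z) {b k : G} (hb : b = k * z * k⁻¹) : QQ L b = cj k Q := by
  apply L.cj_Q_congr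
  rw [← gg_spec L ⟨k, hb⟩, hb]

theorem MM_eq (L : Lab F4 Q M z) {b k : G} (hb : b = k * z * k⁻¹) : MM L b = cj k M := by
  apply L.cj_M_congr
  rw [← gg_spec L ⟨k, hb⟩, hb]

theorem mem_cj_cj {g k x : G} {B : Subgroup G} (hx : x ∈ cj k B) : g * x * g⁻¹ ∈ cj (g * k) B := by
  rw [← cj_cj, conj_mem_cj]; exact hx

theorem QQ_conj (L : Lab F4 Q M z) {b : G} (hb : L.TwoB b) (g : G) {x : G} (hx : x ∈ QQ L b) :
    g * x * g⁻¹ ∈ QQ L (g * b * g⁻¹) := by
  obtain ⟨k, hk⟩ := hb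
  rw [QQ_eq L hk] at hx
  have : g * b * g⁻¹ = (g * k) * z * (g * k)⁻¹ := by rw [hk]; group
  rw [QQ_eq L this]
  exact mem_cj_cj hx

theorem MM_conj (L : Lab F4 Q M z) {b : G} (hb : L.TwoB b) (g : G) {x : G} (hx : x ∈ MM L b) :
    g * x * g⁻¹ ∈ MM L (g * b * g⁻¹) := by
  obtain ⟨k, hk⟩ := hb
  rw [MM_eq L hk] at hx
  have : g * b * g⁻¹ = (g * k) * z * (g * k)⁻¹ := by rw [hk]; group
  rw [MM_eq L this]
  exact mem_cj_cj hx

theorem LL_twoB (L : Lab F4 Q M z) {b : G} (hb : L.TwoB b) (x : G) :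
    (LL L b hb).TwoB x ↔ L.TwoB x := L.twoB_conj' _ _ _ x

theorem LL_twoA (L : Lab F4 Q M z) {b : G} (hb : L.TwoB b) (x : G) :
    (LL L b hb).TwoA x ↔ L.TwoA x := L.twoA_conj' _ _ _ x

section Fin

variable [Finite G]

/-- the pair at `b, s` -/
theorem duo (L : Lab F4 Q M z) {b s : G} (hb : L.TwoB b) (hs : L.TwoB s) (hin : s ∈ QQ L b)
    (hne : s ≠ b) : Duo (LL L b hb) (LL L s hs) where
  pair := by
    have h1 := (LL L b hb).large
    set k := gg L s * (gg L b)⁻¹ with hk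
    have hbs := gg_spec L hb
    have hss := gg_spec L hs
    have e : k * b * k⁻¹ = s := by
      rw [hk]
      calc gg L s * (gg L b)⁻¹ * b * (gg L s * (gg L b)⁻¹)⁻¹
          = gg L s * ((gg L b)⁻¹ * b * gg L b) * (gg L s)⁻¹ := by group
        _ = gg L s * z * (gg L s)⁻¹ := by
            have : (gg L b)⁻¹ * b * gg L b = z := by
              calc (gg L b)⁻¹ * b * gg L b
                  = (gg L b)⁻¹ * (gg L b * z * (gg L b)⁻¹) * gg L b := by rw [← hbs]
                _ = z := by group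
            rw [this]
        _ = s := hss.symm
    have h2 := pair_of_conj h1 (g := k) (by rw [e]; exact hin) (by rw [e]; exact hne)
    rw [e] at h2
    have h3 : (QQ L b).map (MulAut.conj k).toMonoidHom = QQ L s := by
      show cj k (cj (gg L b) Q) = cj (gg L s) Q
      rw [cj_cj, hk, inv_mul_cancel_right]
    rw [h3] at h2
    exact h2
  tb x := (LL_twoB L hs x).trans (LL_twoB L hb x).symm
  ta x := (LL_twoA L hs x).trans (LL_twoA L hb x).symm
  disj x h h' := FusQ.not_twoB_of_twoA (LL L b hb) h h'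

theorem inF_swap {s w : W} (h : ∃ c : F4, w = c • s) : InF s w := h

/-- The system. -/
noncomputable def sysOf (L : Lab F4 Q M z)
    (hnwc : ∃ g : G, g * z * g⁻¹ ∈ Q ∧ g * z * g⁻¹ ≠ z)
    (even : ∀ f : M →* ℤˣ, (∀ m : M, (m : G) ∈ Q → f m = 1) → ∀ m, f m = 1) : Sys.Sys F4 G where
  Z := {x | L.TwoB x}
  A := {x | L.TwoA x}
  Q := QQ L
  M := MM L
  lab b hb := LL L b hb
  Z_conj _ hb g := L.twoB_conj g hb
  A_conj _ ha g := L.twoA_conj g ha
  not_Z _ ha := FusQ.not_twoB_of_twoA L ha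
  Q_conj b hb g x hx := QQ_conj L hb g hx
  M_conj b hb g x hx := MM_conj L hb g hx
  tS b hb y hy h := by
    have h1 : ∃ g : G, g * b * g⁻¹ ∈ QQ L b ∧ g * b * g⁻¹ ≠ b := by
      obtain ⟨g, h1, h2⟩ := hnwc
      obtain ⟨k, hk⟩ := hb
      refine ⟨k * g * k⁻¹, ?_, ?_⟩
      · rw [QQ_eq L hk, mem_cj, hk]
        have : k⁻¹ * (k * g * k⁻¹ * (k * z * k⁻¹) * (k * g * k⁻¹)⁻¹) * k = g * z * g⁻¹ := by group
        rw [this]; exact h1
      · intro h3
        apply h2
        calc g * z * g⁻¹ = k⁻¹ * (k * g * k⁻¹ * (k * z * k⁻¹) * (k * g * k⁻¹)⁻¹) * k := by group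
          _ = k⁻¹ * b * k := by rw [← hk, h3]
          _ = z := by rw [hk]; group
    exact (LL_twoB L hb y).1 (FusQ.twoB_of_isS (LL L b hb) h1 hy h)
  tR b hb y hy h := (LL_twoA L hb y).1 ((LL L b hb).twoA_of_isR hy h)
  even := by
    intro b hb f hf m
    obtain ⟨k, hk⟩ := id hb
    have hM := MM_eq L hk
    have hQ := QQ_eq L hk
    have hmem : ∀ m : M, k * m * k⁻¹ ∈ MM L b := fun m => by rw [hM, conj_mem_cj]; exact m.2
    let f' : M →* ℤˣ :=
      { toFun := fun m => f ⟨k * m * k⁻¹, hmem m⟩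
        map_one' := by
          have : (⟨k * ((1 : M) : G) * k⁻¹, hmem 1⟩ : MM L b) = 1 := by
            apply Subtype.ext
            show k * 1 * k⁻¹ = 1
            group
          rw [this, map_one]
        map_mul' := fun m n => by
          rw [← map_mul]
          congr 1
          apply Subtype.ext
          show k * (m * n) * k⁻¹ = k * m * k⁻¹ * (k * n * k⁻¹)
          group }
    have h1 := even f' (fun m hm => hf _ (by
      show k * (m : G) * k⁻¹ ∈ QQ L b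
      rw [hQ, conj_mem_cj]; exact hm))
    have h2 : k⁻¹ * (m : G) * k ∈ M := mem_cj.1 ((SetLike.ext_iff.1 hM _).1 m.2)
    have h3 := h1 ⟨_, h2⟩
    have h4 : f' ⟨_, h2⟩ = f m := by
      show f ⟨k * (k⁻¹ * (m : G) * k) * k⁻¹, _⟩ = f m
      congr 1
      apply Subtype.ext
      show k * (k⁻¹ * (m : G) * k) * k⁻¹ = m
      group
    rw [← h4]; exact h3
  semi := by
    intro b hb c hc hcM
    obtain ⟨g, h1, h2⟩ := hnwc
    obtain ⟨k, hk⟩ := id hb
    have hs : L.TwoB (k * (g * z * g⁻¹) * k⁻¹) := L.twoB_conj k ⟨g, rfl⟩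
    have hin : k * (g * z * g⁻¹) * k⁻¹ ∈ QQ L b := by
      rw [QQ_eq L hk, conj_mem_cj]; exact h1
    have hne : k * (g * z * g⁻¹) * k⁻¹ ≠ b := by
      rw [hk]
      intro h3
      exact h2 (mul_left_cancel (mul_right_cancel h3))
    exact (duo L hb hs hin hne).semi hc hcM
  sym b hb s hs hin hne := (duo L hb hs hin hne).pair.z_mem
  p1 b hb s hs hin hne y hy h := (duo L hb hs hin hne).p1 hy h
  p2 b hb s hs hin hne y hy h1 h2 h3 := (duo L hb hs hin hne).p2 hy h1 h2 h3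
  p3 b hb s hs hin hne r h1 h2 h3 := (duo L hb hs hin hne).p3 ⟨h1, h2, h3⟩
  p4 b hb s hs hin hne y hy h := (duo L hb hs hin hne).p4.1 ⟨hy, h⟩
  p5 b hb s hs hin hne y hy hyb := (duo L hb hs hin hne).p5 hy hyb

end Fin

end Cfsg.Agent.R08.TwoSys
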