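import Cfsg.Agent.R08.InvOut
import Cfsg.Agent.R08.TwoSys
import Cfsg.Agent.R08.Geo5
import Cfsg.Agent.R08.CloseLab

/-!
# R08 (S1715): the results of pieces (4), (5) in the language of `Lab` (helper885)

`L : Lab F4 Q M z`, `hnwc`: some conjugate of `z`, different from `z`, lies in `Q`; `even`: `M / Q` has no
subgroup of index two.

* `inM : CloseLab.Hyp.InM L`, `outM : CloseLab.Hyp.OutM L`, `good : CloseLab.Hyp.Good L`,
  `common : CloseLab.Hyp.Common L`;
* `out`: `a ∈ C_G(z)`, `a, z * a ∈ 2A` implies `a ∈ Q`;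
* `mem_Q_of_A`, `good_of_A`: (4b);
* `C_cases`: every involution of `C_G(z)` is in `2A` or `2B`;
* `exists_tr`: (4a).
-/

set_option autoImplicit false
set_option linter.unusedSectionVars false

namespace Cfsg.Agent.R08.InvBase

open Cfsg.Agent.SporRec.GF4 Cfsg.Agent.R08.Iface Cfsg.Agent.R08.InvHerm Cfsg.Agent.R08.InvM
open Cfsg.Agent.R08.TwoGrp Cfsg.Agent.R08.TwoSys Cfsg.Agent.R08.Iface.Lab

variable {G : Type*} [Group G] [Finite G] {Q M : Subgroup G} {z : G} (L : Lab F4 Q M z)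
  (hnwc : ∃ g : G, g * z * g⁻¹ ∈ Q ∧ g * z * g⁻¹ ≠ z)
  (even : ∀ f : M →* ℤˣ, (∀ m : M, (m : G) ∈ Q → f m = 1) → ∀ m, f m = 1)

include L in
omit [Finite G] in
theorem cj_one (B : Subgroup G) : cj 1 B = B := by
  ext x
  rw [mem_cj]
  have : (1 : G)⁻¹ * x * 1 = x := by group
  rw [this]

omit [Finite G] in
theorem QQ_z : QQ L z = Q := by
  rw [QQ_eq L (k := 1) (by group)]
  exact cj_one L Q

omit [Finite G] in
theorem MM_z : MM L z = M := by
  rw [MM_eq L (k := 1) (by group)]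
  exact cj_one L M

/-- elements of `Z ∩ Q` -/
theorem exists_gen {s : G} (hs : L.TwoB s) : ∃ g : G, s = g * z * g⁻¹ := hs

include hnwc even

theorem inM : CloseLab.Hyp.InM L := by
  intro v hv hvQ hv2
  have hz : z ∈ (sysOf L hnwc even).Z := L.twoB_self
  obtain ⟨s, hs, hsQ, -, hvs⟩ := InvP.inM (sysOf L hnwc even) Geo.geo hz
    (a := v) (by show v ∈ MM L z; rwa [MM_z]) (by show v ∉ QQ L z; rwa [QQ_z]) hv2
  have hsB : L.TwoB s := hs
  obtain ⟨g, rfl⟩ := hsB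
  refine ⟨g, ?_, ?_⟩
  · have h : g * z * g⁻¹ ∈ QQ L z := hsQ
    rwa [QQ_z] at h
  · have h : v ∈ QQ L (g * z * g⁻¹) := hvs
    rw [QQ_eq L (k := g) rfl] at h
    exact mem_cj.1 h

theorem outM : CloseLab.Hyp.OutM L := by
  intro v hvz hvM hv2
  have hz : z ∈ (sysOf L hnwc even).Z := L.twoB_self
  obtain ⟨s, hs, hsQ, -, hvs⟩ := InvOut.outM (sysOf L hnwc even) Geo.geo hz (a := v) hvz
    (by show v ∉ MM L z; rwa [MM_z]) hv2
  have hsB : L.TwoB s := hs
  obtain ⟨g, rfl⟩ := hsB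
  refine ⟨g, ?_, ?_⟩
  · have h : g * z * g⁻¹ ∈ QQ L z := hsQ
    rwa [QQ_z] at h
  · have h : v ∈ MM L (g * z * g⁻¹) := hvs
    rw [MM_eq L (k := g) rfl] at h
    exact mem_cj.1 h

theorem good : CloseLab.Hyp.Good L := by
  intro x y hx hxQ hxy hxA hyA
  have hz : z ∈ (sysOf L hnwc even).Z := L.twoB_self
  obtain ⟨q, hq, h⟩ := InvP.conj_of_A (sysOf L hnwc even) Geo.geo hz (a := x) (a' := y)
    (by show x ∈ MM L z; rwa [MM_z]) (by show x ∉ QQ L z; rwa [QQ_z])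
    (by show x⁻¹ * y ∈ QQ L z; rwa [QQ_z]) (sq_of_twoA L hxA) (sq_of_twoA L hyA) hxA hyA
  refine ⟨q, ?_, h⟩
  have h' : q ∈ QQ L z := hq
  rwa [QQ_z] at h'

theorem mem_Q_of_A {a : G} (ha : a ∈ M) (hA : L.TwoA a) (hzA : L.TwoA (z * a)) : a ∈ Q := by
  have hz : z ∈ (sysOf L hnwc even).Z := L.twoB_self
  have h := InvP.mem_Q_of_A (sysOf L hnwc even) Geo.geo hz (a := a)
    (by show a ∈ MM L z; rwa [MM_z]) (sq_of_twoA L hA) hA hzA
  have h' : a ∈ QQ L z := h
  rwa [QQ_z] at h'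

/-- (5c) -/
theorem out {a : G} (ha : a * z = z * a) (hA : L.TwoA a) (hzA : L.TwoA (z * a)) : a ∈ Q := by
  have hz : z ∈ (sysOf L hnwc even).Z := L.twoB_self
  have h := InvOut.out (sysOf L hnwc even) Geo.geo hz (a := a) ha (sq_of_twoA L hA) hA hzA
  have h' : a ∈ QQ L z := h
  rwa [QQ_z] at h'

/-- every involution of `C_G(z)` lies in `2A` or `2B` -/
theorem C_cases {a : G} (ha : a * z = z * a) (ha2 : a * a = 1) (ha1 : a ≠ 1) :
    L.TwoB a ∨ L.TwoA a := by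
  have hz : z ∈ (sysOf L hnwc even).Z := L.twoB_self
  exact InvOut.C_cases (sysOf L hnwc even) Geo.geo hz ha ha2 ha1

/-- for `a ∈ M \ Q` of type `2A`: `z a` is of type `2B` -/
theorem twoB_mul {a : G} (ha : a ∈ M) (haQ : a ∉ Q) (hA : L.TwoA a) : L.TwoB (z * a) := by
  have ha2 := sq_of_twoA L hA
  have haz := L.M_comm a ha
  have hzz := L.large.z_sq
  rcases C_cases L hnwc even (a := z * a)
    (by rw [mul_assoc, haz]) (by
      calc z * a * (z * a) = z * (a * z) * a := by group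
        _ = (z * z) * (a * a) := by rw [haz]; group
        _ = 1 := by rw [hzz, ha2, one_mul]) (by
      intro h
      apply haQ
      have : a = z⁻¹ := eq_inv_of_mul_eq_one_right h
      rw [this]
      exact Q.inv_mem L.large.z_mem) with h | h
  · exact h
  · exact absurd (mem_Q_of_A L hnwc even ha hA h) haQ

/-- an element of type `2A` in `M \ Q` is `Good` -/
theorem good_of_A {a : G} (ha : a ∈ M) (haQ : a ∉ Q) (hA : L.TwoA a) {r1 r2 : Fin 6 → F4}
    (hov : Over L a r1 r2) : InvM.Good L a r1 r2 := by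
  intro y hy h1 h2
  have haz := L.M_comm a ha
  rcases fix_or haz hov hy h1 h2 with h | h
  · exact h
  · exfalso
    apply FusQ.not_twoB_of_twoA L _ (twoB_mul L hnwc even ha haQ hA)
    have e : z * a = y⁻¹ * a * (y⁻¹)⁻¹ := by
      rw [inv_inv, mul_assoc, h]; group
    rw [e]
    exact L.twoA_conj _ hA

/-- (4a) -/
theorem exists_tr {a : G} (ha : a ∈ M) (haQ : a ∉ Q) (ha2 : a * a ∈ Q) :
    ∃ r r', IsR r ∧ IsR r' ∧ H r r' = 0 ∧ (∀ c : F4, r' ≠ c • r) ∧
      ∀ w, L.ρ a w = tr r (tr r' w) := by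
  obtain ⟨r1, r2, p, hov⟩ := exists_over Geo.geo L even ha haQ ha2
  refine ⟨r1, r2, p.h1, p.h2, p.perp, p.ne, fun w => ?_⟩
  rw [hov, tr, tr, InvHerm.H_add_left L.card, InvHerm.H_smul_left L.card,
    H_zero_swap L.card p.perp, mul_zero, add_zero, add_right_comm]

omit hnwc even in
/-- the two forms of the action -/
theorem over_iff {a : G} {r1 r2 : Fin 6 → F4} (h : H r1 r2 = 0) :
    Over L a r1 r2 ↔ ∀ w, L.ρ a w = tr r1 (tr r2 w) := by
  have key : ∀ w : Fin 6 → F4, tr r1 (tr r2 w) = w + H w r1 • r1 + H w r2 • r2 := fun w => by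
    rw [tr, tr, InvHerm.H_add_left L.card, InvHerm.H_smul_left L.card,
      H_zero_swap L.card h, mul_zero, add_zero, add_right_comm]
  exact ⟨fun h' w => by rw [key, h' w], fun h' w => by rw [h' w, key]⟩

omit even in
theorem common : CloseLab.Hyp.Common L := by
  intro g hg hne
  have hs : L.TwoB (g * z * g⁻¹) := ⟨g, rfl⟩
  have d := duo L L.twoB_self hs (by rw [QQ_z]; exact hg) hne
  obtain ⟨y, hy, hyA, hT⟩ := d.exists_T
  have hyQ : y ∈ Q := by rwa [QQ_z] at hy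
  have hA : L.TwoA y := (LL_twoA L L.twoB_self y).1 ((LL L z L.twoB_self).twoA_of_isR hy hT.1)
  have hy2 : g⁻¹ * y * g ∈ Q := by
    rw [QQ_eq L (k := g) rfl] at hyA
    exact mem_cj.1 hyA
  have hnB := FusQ.not_twoB_of_twoA L hA
  have key : ∀ x ∈ Q, L.TwoA x → IsR (L.v x) := by
    intro x hx hxA
    have hnB := FusQ.not_twoB_of_twoA L hxA
    refine (isR_or_isS_of_sq L hx (sq_of_twoA L hxA) (ne_one_of_twoA L hxA) ?_).resolve_right
      fun h => hnB ?_
    · rintro rfl; exact hnB L.twoB_self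
    · exact FusQ.twoB_of_isS L hnwc hx h
  refine ⟨y, hyQ, key y hyQ hA, hy2, key _ hy2 ?_⟩
  have := L.twoA_conj g⁻¹ hA
  rwa [inv_inv] at this

end Cfsg.Agent.R08.InvBase
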