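import Cfsg.Agent.R08.InvM

/-!
# R08 (S1715), piece (4): good involutions (helper885)

* `K0`: over every `τ_r τ_{r+s}` there is a `Good` involution in `Q s ∩ M b`.
-/

set_option autoImplicit false
set_option linter.unusedSectionVars false
set_option linter.unusedSimpArgs false

namespace Cfsg.Agent.R08.InvK

open Cfsg.Agent.R08.Iface Cfsg.Agent.R08.InvHerm Cfsg.Agent.R08.InvLin Cfsg.Agent.R08.Sys
open Cfsg.Agent.R08.InvM

variable {F : Type*} [Field F] {G : Type*} [Group G] (S : Sys F G)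

/-- the label of `s ∈ Z ∩ Q b` is an `S`-vector -/
theorem vS (g : Geo F) {b s : G} (hb : b ∈ S.Z) (hs : s ∈ S.Z) (hsQ : s ∈ S.Q b) (hsb : s ≠ b) :
    IsS ((S.lab b hb).v s) := by
  rw [g.S_iff]
  refine ⟨?_, ?_, ?_⟩
  · rw [Ne, (S.lab b hb).v_eq_zero s hsQ]
    rintro (h | h)
    · exact (S.lab s hs).large.z_ne h
    · exact hsb h
  · exact ((S.lab b hb).sq_iff s hsQ).1 (S.lab s hs).large.z_sq
  · exact fun hR => S.not_Z s (S.tR b hb s hsQ hR) hs

theorem sq_I {b s : G} (hb : b ∈ S.Z) (hs : s ∈ S.Z) (hsb : s ≠ b) {i : G} (h1 : i ∈ S.Q b)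
    (h2 : i ∈ S.Q s) : i * i = 1 := by
  rcases (S.lab b hb).large.sq i h1 with h | h
  · exact h
  · rcases (S.lab s hs).large.sq i h2 with h' | h'
    · exact h'
    · exact absurd (h'.symm.trans h) hsb

theorem comm_I {b s : G} (hs : s ∈ S.Z) (hsb : s ≠ b) {a i : G}
    (ha : a ∈ S.Q s) (hab : a * b = b * a) (hi : i ∈ S.Q s)
    (h : a * i = i * a ∨ a * i = i * b * a) : a * i = i * a := by
  rcases h with h | h
  · exact h
  rcases (S.lab s hs).large.comm a ha i hi with h' | h'
  · exact h'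
  · exfalso
    apply hsb
    rw [h', mul_assoc, mul_assoc, ← hab] at h
    exact mul_left_cancel (mul_left_cancel h)

/-- see the head of the file -/
theorem rpair (g : Geo F) {b s : G} (hb : b ∈ S.Z) (hs : s ∈ S.Z) (hsQ : s ∈ S.Q b) (hsb : s ≠ b)
    {r : Fin 6 → F} (hr : IsR r) (hrs : H r ((S.lab b hb).v s) = 0)
    (hr' : IsR (r + (S.lab b hb).v s)) : RPair r (r + (S.lab b hb).v s) where
  h1 := hr
  h2 := hr'
  perp := by rw [H_add_right (S.lab b hb).card, g.iso r hr, hrs, add_zero]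
  ne c hc := by
    have hF := (S.lab b hb).card
    obtain ⟨h0, -, hR⟩ := (g.S_iff _).1 (vS S g hb hs hsQ hsb)
    have e : (S.lab b hb).v s = (1 + c) • r := by
      rw [add_smul, one_smul, ← hc, vadd_cancel hF]
    by_cases h1 : 1 + c = 0
    · apply h0; rw [e, h1, zero_smul]
    · apply hR; rw [e]; exact g.smul r hr _ h1

/-- over every `τ_r τ_{r+s}` there is a `Good` involution in `Q s ∩ M b` -/
theorem K0 (g : Geo F) {b s : G} (hb : b ∈ S.Z) (hs : s ∈ S.Z) (hsQ : s ∈ S.Q b) (hsb : s ≠ b)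
    {r : Fin 6 → F} (hr : IsR r) (hrs : H r ((S.lab b hb).v s) = 0)
    (hr' : IsR (r + (S.lab b hb).v s)) :
    ∃ x ∈ S.Q s, x ∈ S.M b ∧ x * x = 1 ∧ Over (S.lab b hb) x r (r + (S.lab b hb).v s) ∧
      Good (S.lab b hb) x r (r + (S.lab b hb).v s) := by
  have hp := rpair S g hb hs hsQ hsb hr hrs hr'
  have hbQ : b ∈ S.Q s := S.sym b hb s hs hsQ hsb
  set L := S.lab b hb with hL
  set Ls := S.lab s hs with hLs
  have hF := L.card
  set r' := r + L.v s with hr'd
  have hr0 : r ≠ 0 := g.ne r hr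
  have h0r : H r r = 0 := g.iso r hr
  have h0r' : H r' r' = 0 := g.iso r' hr'
  -- `a1`
  obtain ⟨a, haQs, haM, hρ⟩ := S.p3 b hb s hs hsQ hsb r hr hrs hr'
  have haz := L.M_comm a haM
  have hov : Over L a r r' := by
    intro w
    rw [hρ]
    show tr r (tr r' w) = _
    rw [tr, tr, H_add_left hF, H_smul_left hF, H_zero_swap hF hp.perp, mul_zero, add_zero,
      add_right_comm]
  have hnot : ∀ a', a' * b = b * a' → Over L a' r r' → a' ∉ S.Q b := by
    intro a' ha' hov' hm
    obtain ⟨⟨x1, h11, h12⟩, -⟩ := exists_dual_pair hF hr0 hp.ne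
    have e := hov' x1
    rw [L.ρ_mem_Q hm, h11, h12, one_smul, zero_smul, add_zero] at e
    exact hr0 (left_eq_add.1 e)
  -- adjust the square
  obtain ⟨a1, ha1s, ha1M, hov1, hsq1⟩ :
      ∃ a1 ∈ S.Q s, a1 ∈ S.M b ∧ Over L a1 r r' ∧ a1 * a1 = 1 := by
    rcases Ls.large.sq a haQs with h | h
    · exact ⟨a, haQs, haM, hov, h⟩
    · have : ∃ i ∈ S.Q s, i ∈ S.Q b ∧ i * a ≠ a * i := by
        by_contra hcon
        push Not at hcon
        exact hnot a haz hov (S.p1 s hs b hb hbQ (Ne.symm hsb) a haQs hcon)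
      obtain ⟨i, his, hib, hne⟩ := this
      have h1 := (Ls.large.comm i his a haQs).resolve_left hne
      have hii := sq_I S hb hs hsb hib his
      have hsi := Ls.large.comm_z i his
      refine ⟨a * i, (S.Q s).mul_mem haQs his, (S.M b).mul_mem haM (L.Q_le hib),
        over_mul_Q haz hov hib, ?_⟩
      calc a * i * (a * i) = a * (i * a) * i := by group
        _ = (a * a) * (i * s) * i := by rw [h1]; group
        _ = s * (s * i) * i := by rw [h, hsi]
        _ = (s * s) * (i * i) := by group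
        _ = 1 := by rw [Ls.large.z_sq, hii, one_mul]
  have ha1z := L.M_comm a1 ha1M
  -- realise the functional
  obtain ⟨c, hc, hgood⟩ := exists_good ha1z hov1
  -- `a1` commutes with `I ∩ E`
  have hIE : ∀ i ∈ S.Q b, i ∈ S.Q s → H (L.v i) r = 0 → H (L.v i) r' = 0 → a1 * i = i * a1 :=
    fun i hib his h1 h2 => comm_I S hs hsb ha1s ha1z his (fix_or ha1z hov1 hib h1 h2)
  -- the group `v(I) + ⟨r, r'⟩`
  let X : AddSubgroup (Fin 6 → F) :=
    { carrier := {w | ∃ i ∈ S.Q b, i ∈ S.Q s ∧ ∃ α β : F, w = L.v i + (α • r + β • r')}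
      zero_mem' := ⟨1, (S.Q b).one_mem, (S.Q s).one_mem, 0, 0, by
        rw [L.v_one, zero_smul, zero_smul, add_zero, add_zero]⟩
      add_mem' := by
        rintro _ _ ⟨i, hi, hi', α, β, rfl⟩ ⟨j, hj, hj', α', β', rfl⟩
        refine ⟨i * j, (S.Q b).mul_mem hi hj, (S.Q s).mul_mem hi' hj', α + α', β + β', ?_⟩
        rw [L.v_mul i hi j hj, add_smul, add_smul]
        abel
      neg_mem' := by
        intro w hw
        rw [vneg hF]; exact hw }
  have hcX : L.v c ∈ X := by
    by_contra hcX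
    obtain ⟨w0, hw1, hw2⟩ := exists_sep hF X hcX
    obtain ⟨y, hy, rfl⟩ := L.v_surj w0
    have hys : y ∈ S.Q s := by
      apply S.p1 b hb s hs hsQ hsb y hy
      intro x hx hxs
      rw [L.comm_iff x hx y hy]
      exact hw1 _ ⟨x, hx, hxs, 0, 0, by rw [zero_smul, zero_smul, add_zero, add_zero]⟩
    have hyr : H r (L.v y) = 0 := by
      apply zero_of_scalars hF
      intro α
      rw [← H_smul_left hF]
      exact hw1 _ ⟨1, (S.Q b).one_mem, (S.Q s).one_mem, α, 0, by
        rw [L.v_one, zero_smul, add_zero, zero_add]⟩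
    have hyr' : H r' (L.v y) = 0 := by
      apply zero_of_scalars hF
      intro α
      rw [← H_smul_left hF]
      exact hw1 _ ⟨1, (S.Q b).one_mem, (S.Q s).one_mem, 0, α, by
        rw [L.v_one, zero_smul, zero_add, zero_add]⟩
    have h1 := hIE y hy hys (H_zero_swap hF hyr) (H_zero_swap hF hyr')
    have h2 := hgood y hy (H_zero_swap hF hyr) (H_zero_swap hF hyr')
    rw [mul_assoc, ← mul_assoc y, ← h1, mul_assoc] at h2
    exact hw2 ((L.comm_iff c hc y hy).1 (mul_left_cancel h2))
  obtain ⟨i, hib, his, α, β, hvc⟩ := hcX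
  -- `c` is orthogonal to `r`, `r'`
  have hcr : ∀ y ∈ S.Q b, (∃ γ δ : F, L.v y = γ • r + δ • r') →
      H (L.v c) (L.v y) = 0 ∨ H (L.v c) (L.v y) = 1 := by
    rintro y hy ⟨γ, δ, hv⟩
    have h1 := comm_line ha1z hsq1 hov1 hr0 hp.ne hy hv
    have h2 := hgood y hy
      (by rw [hv, H_add_left hF, H_smul_left hF, H_smul_left hF, h0r,
            H_zero_swap hF hp.perp, mul_zero, mul_zero, add_zero])
      (by rw [hv, H_add_left hF, H_smul_left hF, H_smul_left hF, h0r',
            hp.perp, mul_zero, mul_zero, add_zero])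
    rw [mul_assoc, ← mul_assoc y, ← h1, mul_assoc] at h2
    exact (L.comm_iff c hc y hy).1 (mul_left_cancel h2)
  have hcr1 : H (L.v c) r = 0 := by
    apply zero_of_scalars' hF
    intro γ
    obtain ⟨y, hy, hv⟩ := L.v_surj (γ • r)
    rw [← H_smul_right hF, ← hv]
    exact hcr y hy ⟨γ, 0, by rw [hv, zero_smul, add_zero]⟩
  have hcr2 : H (L.v c) r' = 0 := by
    apply zero_of_scalars' hF
    intro γ
    obtain ⟨y, hy, hv⟩ := L.v_surj (γ • r')
    rw [← H_smul_right hF, ← hv]
    exact hcr y hy ⟨0, γ, by rw [hv, zero_smul, zero_add]⟩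
  have hvi : L.v i = L.v c + (α • r + β • r') := by
    rw [hvc, add_assoc, vadd_self hF, add_zero]
  have hir : H (L.v i) r = 0 := by
    rw [hvi, H_add_left hF, H_add_left hF, H_smul_left hF, H_smul_left hF, hcr1, h0r,
      H_zero_swap hF hp.perp, mul_zero, mul_zero, add_zero, add_zero]
  have hir' : H (L.v i) r' = 0 := by
    rw [hvi, H_add_left hF, H_add_left hF, H_smul_left hF, H_smul_left hF, hcr2, h0r',
      hp.perp, mul_zero, mul_zero, add_zero, add_zero]
  have hai := hIE i hib his hir hir'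
  have hii := sq_I S hb hs hsb hib his
  refine ⟨a1 * i, (S.Q s).mul_mem ha1s his, (S.M b).mul_mem ha1M (L.Q_le hib), ?_,
    over_mul_Q ha1z hov1 hib, ?_⟩
  · calc a1 * i * (a1 * i) = a1 * (i * a1) * i := by group
      _ = (a1 * a1) * (i * i) := by rw [← hai]; group
      _ = 1 := by rw [hsq1, hii, one_mul]
  · intro y hy hy1 hy2
    have e : H (L.v i) (L.v y) = H (L.v c) (L.v y) := by
      rw [hvi, H_add_left hF, H_add_left hF, H_smul_left hF, H_smul_left hF,
        H_zero_swap hF hy1, H_zero_swap hF hy2, mul_zero, mul_zero, add_zero, add_zero]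
    have hg := hgood y hy hy1 hy2
    by_cases h : H (L.v c) (L.v y) = 0 ∨ H (L.v c) (L.v y) = 1
    · have h1 := (L.comm_iff c hc y hy).2 h
      have h2 := (L.comm_iff i hib y hy).2 (by rw [e]; exact h)
      rw [mul_assoc, h1, ← mul_assoc, ← mul_assoc] at hg
      have h3 : a1 * y = y * a1 := mul_right_cancel hg
      rw [mul_assoc, h2, ← mul_assoc, h3, mul_assoc]
    · have h1 := (L.comm_z_iff hc hy).2 h
      have h2 := (L.comm_z_iff hib hy).2 (by rw [e]; exact h)
      have hcz := L.large.comm_z c hc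
      have hiz := L.large.comm_z i hib
      have hg' : (a1 * y * b) * c = (y * a1) * c := by
        calc (a1 * y * b) * c = a1 * y * (b * c) := by group
          _ = a1 * y * (c * b) := by rw [hcz]
          _ = a1 * (y * c * b) := by group
          _ = a1 * (c * y) := by rw [h1]
          _ = a1 * c * y := by group
          _ = y * (a1 * c) := hg
          _ = _ := by group
      have h3 : a1 * y * b = y * a1 := mul_right_cancel hg'
      calc a1 * i * y = a1 * (i * y) := by group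
        _ = a1 * (y * i * b) := by rw [h2]
        _ = a1 * y * (i * b) := by group
        _ = a1 * y * (b * i) := by rw [hiz]
        _ = (a1 * y * b) * i := by group
        _ = y * (a1 * i) := by rw [h3]; group

end Cfsg.Agent.R08.InvK
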