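import Cfsg.Agent.R08.InvHerm

/-!
# R08 (S1715), pieces (4) and (5): more linear algebra (helper885)

* `exists_sep`: an additive subgroup of `F ^ 6` is separated from a vector by a trace form.
* `lin_part`: the linear part of (4a).
* `exists_fixed`: parity argument for a fixed `R`-vector.
-/

set_option autoImplicit false
set_option linter.unusedSectionVars false
set_option linter.unusedSimpArgs false

namespace Cfsg.Agent.R08.InvLin

open Cfsg.Agent.R08.Iface Cfsg.Agent.R08.InvHerm Cfsg.Agent.LieClassical.HermBasic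

variable {F : Type*} [Field F]

section Field

variable (hF : Nat.card F = 4)
include hF

theorem field_cases {ω : F} (hω : ω ^ 2 + ω + 1 = 0) (a : F) :
    a = 0 ∨ a = 1 ∨ a = ω ∨ a = ω + 1 := by
  have h4 := pow4 hF a
  have h2 := two_eq hF
  have : a * ((a - 1) * ((a - ω) * (a - (ω + 1)))) = 0 := by
    linear_combination h4 + (a ^ 2 - a) * hω - (a * (a - 1) * (a + 1 + ω * a)) * h2
  rcases mul_eq_zero.1 this with h | h
  · exact Or.inl h
  rcases mul_eq_zero.1 h with h | h
  · exact Or.inr (Or.inl (sub_eq_zero.1 h))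
  rcases mul_eq_zero.1 h with h | h
  · exact Or.inr (Or.inr (Or.inl (sub_eq_zero.1 h)))
  · exact Or.inr (Or.inr (Or.inr (sub_eq_zero.1 h)))

theorem charP_two : CharP F 2 := by
  have := finF hF
  have := Fintype.ofFinite F
  exact CharTwo.of_one_ne_zero_of_two_eq_zero one_ne_zero (two_eq hF)

/-- `⟨X, v⟩` trace form separation -/
theorem exists_sep (X : AddSubgroup (Fin 6 → F)) {x : Fin 6 → F} (hx : x ∉ X) :
    ∃ c : Fin 6 → F, (∀ y ∈ X, H y c = 0 ∨ H y c = 1) ∧ ¬ (H x c = 0 ∨ H x c = 1) := by
  have hc2 := charP_two hF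
  have h2 := two_eq hF
  obtain ⟨ω, hω⟩ := exists_omega hF
  let mod : Module (ZMod 2) (Fin 6 → F) := AddCommGroup.zmodModule (n := 2) (fun x => by
    rw [two_smul]; exact vadd_self hF x)
  obtain ⟨f, hfx, hfX⟩ := Submodule.exists_le_ker_of_notMem
    (p := AddSubgroup.toZModSubmodule 2 X) (v := x) (by
      rw [AddSubgroup.mem_toZModSubmodule]; exact hx)
  set l : (Fin 6 → F) → F := fun y => ZMod.castHom (dvd_refl 2) F (f y) with hl
  have l_add : ∀ y y', l (y + y') = l y + l y' := fun y y' => by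
    simp only [hl, map_add]
  have l_val : ∀ y, (f y = 0 ∧ l y = 0) ∨ (f y ≠ 0 ∧ l y = 1) := by
    intro y
    have : ∀ t : ZMod 2, t = 0 ∨ t = 1 := by decide
    rcases this (f y) with h | h
    · left; exact ⟨h, by simp only [hl, h, map_zero]⟩
    · right; exact ⟨by rw [h]; decide, by simp only [hl, h, map_one]⟩
  set Λ : (Fin 6 → F) → F := fun y => l (ω • y) + ω ^ 2 * l y with hΛ
  have Λ_add : ∀ y y', Λ (y + y') = Λ y + Λ y' := fun y y' => by
    simp only [hΛ, smul_add, l_add]; ring
  have Λω : ∀ y, Λ (ω • y) = ω * Λ y := fun y => by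
    have e : ω • ω • y = ω • y + y := by
      ext i
      simp only [Pi.smul_apply, Pi.add_apply, smul_eq_mul]
      linear_combination y i * hω - (ω * y i + y i) * h2
    simp only [hΛ, e, l_add]
    linear_combination (l (ω • y) - (ω - 1) * l y) * hω - ω * l (ω • y) * h2
  have Λs : ∀ (a : F) y, Λ (a • y) = a * Λ y := fun a y => by
    have Λ0 : Λ 0 = 0 := by
      have := Λ_add 0 0
      rw [add_zero] at this
      linear_combination -this
    rcases field_cases hF hω a with rfl | rfl | rfl | rfl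
    · rw [zero_smul, Λ0, zero_mul]
    · rw [one_smul, one_mul]
    · exact Λω y
    · rw [add_smul, one_smul, Λ_add, Λω]; ring
  let L : (Fin 6 → F) →ₗ[F] F :=
    { toFun := Λ
      map_add' := Λ_add
      map_smul' := Λs }
  refine ⟨fun i => (Λ (Pi.single i 1)) ^ 2, ?_⟩
  have key : ∀ y, H y (fun i => (Λ (Pi.single i 1)) ^ 2) = Λ y := by
    intro y
    have e1 : Λ y = L y := rfl
    rw [e1, LinearMap.pi_apply_eq_sum_univ L y, H_def]
    refine Finset.sum_congr rfl fun i _ => ?_
    rw [smul_eq_mul]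
    congr 1
    rw [← pow_mul, pow4 hF]
    show Λ _ = Λ _
    congr 1
    ext j
    rw [Pi.single_apply]
    by_cases h : i = j
    · subst h; simp
    · rw [if_neg h, if_neg (fun h' => h h'.symm)]
  constructor
  · intro y hy
    have h0 : f y = 0 := hfX ((AddSubgroup.mem_toZModSubmodule 2).2 hy)
    rw [key]
    have hl0 : l y = 0 := by
      rcases l_val y with h | h
      · exact h.2
      · exact absurd h0 h.1
    simp only [hΛ, hl0, mul_zero, add_zero]
    rcases l_val (ω • y) with h | h
    · exact Or.inl h.2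
    · exact Or.inr h.2
  · rw [key]
    have hl1 : l x = 1 := by
      rcases l_val x with h | h
      · exact absurd h.1 hfx
      · exact h.2
    have hω0 : ω ≠ 0 := by
      rintro rfl
      apply one_ne_zero (α := F)
      linear_combination hω
    have hω1 : ω ^ 2 ≠ 1 := by
      intro h
      have : ω = 0 := by linear_combination hω - h - h2
      exact hω0 this
    simp only [hΛ, hl1, mul_one]
    rcases l_val (ω • x) with h | h
    · rw [h.2, zero_add]
      rintro (h' | h')
      · exact hω0 (pow_eq_zero_iff (two_ne_zero) |>.1 h')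
      · exact hω1 h'
    · rw [h.2]
      rintro (h' | h')
      · apply hω1
        linear_combination h' - h2
      · exact hω0 (pow_eq_zero_iff (two_ne_zero) |>.1 (by linear_combination h'))

/-- the linear part of (4a) -/
theorem lin_part (g : Geo F) {T : (Fin 6 → F) → (Fin 6 → F)}
    (hadd : ∀ x y, T (x + y) = T x + T y) (hl : IsLin T) (hT : ∀ x, T (T x) = x)
    {r : Fin 6 → F} (hr : IsR r) (hTr : T r = r) :
    ∃ r1 r2 : Fin 6 → F, IsR r1 ∧ IsR r2 ∧ H r1 r2 = 0 ∧ H r1 r = 0 ∧ H r2 r = 0 ∧
      ∀ x, H x r = 0 → ∃ k : F, T (tr r (tr r1 (tr r (tr r2 x)))) = x + k • r := by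
  have hr0 := g.ne r hr
  have rr := g.iso r hr
  have hN : SA (fun x => T x + x) :=
    { add := fun x y => by rw [hadd]; abel
      smul := fun c x => by rw [hl.smul, smul_add]
      adj := fun x y => by
        rw [H_add_left hF, H_add_right hF, ← hl.form (T x) y, hT]
      sq := fun x => by
        show T (T x + x) + (T x + x) = 0
        rw [hadd, hT, add_comm x (T x), vadd_self hF] }
  obtain ⟨b, c, bb, cc, br, cr, bc, hNb, hNc, hN2⟩ := hN.rank_two hF hr0 rr
    (show T r + r = 0 by rw [hTr, vadd_self hF])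
  have lift : ∀ b : Fin 6 → F, H b b = 0 → H b r = 0 → ∃ k : F, IsR (b + k • r) := by
    intro b bb br
    by_cases hb : ∃ c0 : F, b = c0 • r
    · obtain ⟨c0, rfl⟩ := hb
      refine ⟨1 + c0, ?_⟩
      have e : c0 • r + (1 + c0) • r = r := by
        rw [add_smul, one_smul, ← add_assoc, add_comm (c0 • r) r, add_assoc, vadd_self hF,
          add_zero]
      rw [e]; exact hr
    · push Not at hb
      obtain ⟨k, hk, -⟩ := g.line r hr b bb br hb
      exact ⟨k, hk⟩
  obtain ⟨k1, hr1⟩ := lift b bb br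
  obtain ⟨k2, hr2⟩ := lift c cc cr
  have rb := H_zero_swap hF br
  have rc := H_zero_swap hF cr
  set r1 := b + k1 • r with hr1d
  set r2 := c + k2 • r with hr2d
  have h12 : H r1 r2 = 0 := by
    rw [hr1d, hr2d, H_add_left hF, H_add_right hF, H_add_right hF, H_smul_left hF,
      H_smul_left hF, H_smul_right hF, H_smul_right hF, bc, br, rc, rr]
    ring
  have h1r : H r1 r = 0 := by
    rw [hr1d, H_add_left hF, H_smul_left hF, br, rr]; ring
  have h2r : H r2 r = 0 := by
    rw [hr2d, H_add_left hF, H_smul_left hF, cr, rr]; ring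
  have h21 := H_zero_swap hF h12
  refine ⟨r1, r2, hr1, hr2, h12, h1r, h2r, fun x hx => ?_⟩
  have hx1 : H x r1 = H x b := by
    rw [hr1d, H_add_right hF, H_smul_right hF, hx]; ring
  have hx2 : H x r2 = H x c := by
    rw [hr2d, H_add_right hF, H_smul_right hF, hx]; ring
  have e1 : tr r2 x = x + H x c • r2 := by rw [tr, hx2]
  have e2 : tr r (x + H x c • r2) = x + H x c • r2 := by
    rw [tr, H_add_left hF, H_smul_left hF, hx, h2r, mul_zero, add_zero, zero_smul, add_zero]
  have e3 : tr r1 (x + H x c • r2) = x + H x c • r2 + H x b • r1 := by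
    rw [tr, H_add_left hF, H_smul_left hF, h21, mul_zero, add_zero, hx1]
  have e4 : tr r (x + H x c • r2 + H x b • r1) = x + H x c • r2 + H x b • r1 := by
    rw [tr, H_add_left hF, H_add_left hF, H_smul_left hF, H_smul_left hF, hx, h2r, h1r]
    simp
  obtain ⟨k, hk⟩ := hN2 x hx
  have hTx : T x = x + (H x b • b + H x c • c + k • r) := by
    have h : T x + x = H x b • b + H x c • c + k • r := hk
    rw [← h, add_comm (T x) x, vadd_cancel hF]
  have hTb : T b = b := by
    have h : T b + b = 0 := hNb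
    exact (vadd_eq_zero hF).1 h
  have hTc : T c = c := by
    have h : T c + c = 0 := hNc
    exact (vadd_eq_zero hF).1 h
  have hT1 : T r1 = r1 := by rw [hr1d, hadd, hl.smul, hTb, hTr]
  have hT2 : T r2 = r2 := by rw [hr2d, hadd, hl.smul, hTc, hTr]
  refine ⟨k + H x c * k2 + H x b * k1, ?_⟩
  rw [e1, e2, e3, e4, hadd, hadd, hl.smul, hl.smul, hT1, hT2, hTx, hr1d, hr2d]
  ext i
  simp only [Pi.add_apply, Pi.smul_apply, smul_eq_mul]
  linear_combination (H x b * b i + H x c * c i) * two_eq hF

/-- expansion of the product of four commuting transvections -/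
theorem tr_four {r r1 r2 : Fin 6 → F} (rr : H r r = 0) (h12 : H r1 r2 = 0) (h1r : H r1 r = 0)
    (h2r : H r2 r = 0) (w : Fin 6 → F) :
    tr r (tr r1 (tr r (tr r2 w))) = w + H w r1 • r1 + H w r2 • r2 := by
  have h21 := H_zero_swap hF h12
  have hr1 := H_zero_swap hF h1r
  have hr2 := H_zero_swap hF h2r
  have e1 : tr r2 w = w + H w r2 • r2 := rfl
  have e2 : tr r (w + H w r2 • r2) = w + H w r2 • r2 + H w r • r := by
    rw [tr, H_add_left hF, H_smul_left hF, h2r, mul_zero, add_zero]
  have e3 : tr r1 (w + H w r2 • r2 + H w r • r) = w + H w r2 • r2 + H w r • r + H w r1 • r1 := by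
    rw [tr, H_add_left hF, H_add_left hF, H_smul_left hF, H_smul_left hF, h21, hr1, mul_zero,
      mul_zero, add_zero, add_zero]
  rw [e1, e2, e3, tr, H_add_left hF, H_add_left hF, H_add_left hF, H_smul_left hF,
    H_smul_left hF, H_smul_left hF, h2r, rr, h1r, mul_zero, mul_zero, mul_zero, add_zero,
    add_zero, add_zero]
  ext i
  simp only [Pi.add_apply, Pi.smul_apply, smul_eq_mul]
  linear_combination (H w r * r i) * two_eq hF

/-- `τ_r` depends only on the point -/
theorem smul_tr {r : Fin 6 → F} {c : F} (hc : c ≠ 0) (w : Fin 6 → F) :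
    H w (c • r) • (c • r) = H w r • r := by
  rw [H_smul_right hF, smul_smul]
  congr 1
  linear_combination H w r * pow3 hF hc

end Field

/-! ### parity -/

section Parity

variable {G : Type*} [Group G] {Q M : Subgroup G} {z : G}

/-- the action of `M` on the `R`-vectors -/
noncomputable def perm (L : Lab F Q M z) : M →* Equiv.Perm {v : Fin 6 → F // IsR v} where
  toFun m :=
    { toFun := fun v => ⟨L.ρ m v.1, L.pres m (L.M_comm m m.2) v.1 v.2⟩
      invFun := fun v => ⟨L.ρ (m : G)⁻¹ v.1, L.pres _ (Lab.inv_comm (L.M_comm m m.2)) v.1 v.2⟩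
      left_inv := fun v => Subtype.ext (L.ρ_inv (L.M_comm m m.2) v.1)
      right_inv := fun v => Subtype.ext (L.ρ_inv' (L.M_comm m m.2) v.1) }
  map_one' := Equiv.ext fun v => Subtype.ext (L.ρ_one v.1)
  map_mul' m m' := Equiv.ext fun v => Subtype.ext
    (L.ρ_mul (L.M_comm m m.2) (L.M_comm m' m'.2) v.1)

/-- an element of `M` which acts as an involution fixes an `R`-vector -/
theorem exists_fixed (g : Geo F) (L : Lab F Q M z)
    (hev : ∀ f : M →* ℤˣ, (∀ m : M, (m : G) ∈ Q → f m = 1) → ∀ m, f m = 1)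
    {a : G} (ha : a ∈ M) (ha2 : ∀ w, L.ρ a (L.ρ a w) = w) : ∃ r, IsR r ∧ L.ρ a r = r := by
  classical
  have hfin := finF L.card
  have := Fintype.ofFinite F
  have hfs : Fintype {v : Fin 6 → F // IsR v} := Fintype.ofFinite _
  by_contra hcon
  push Not at hcon
  have h1 := hev ((Equiv.Perm.sign).comp (perm L)) (fun m hm => by
    have : perm L m = 1 := Equiv.ext fun v => Subtype.ext (L.ρ_mem_Q hm v.1)
    rw [MonoidHom.comp_apply, this, map_one]) ⟨a, ha⟩
  have h2 : (perm L ⟨a, ha⟩) ^ 2 = 1 := by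
    rw [pow_two]
    exact Equiv.ext fun v => Subtype.ext (ha2 v.1)
  rw [MonoidHom.comp_apply, Equiv.Perm.sign_of_pow_two_eq_one h2] at h1
  have h3 : Fintype.card (Function.fixedPoints (perm L ⟨a, ha⟩)) = 0 := by
    rw [Fintype.card_eq_zero_iff]
    exact ⟨fun v => hcon v.1.1 v.1.2 (congrArg Subtype.val v.2)⟩
  have h4 : Fintype.card {v : Fin 6 → F // IsR v} = 378 := by
    rw [← Nat.card_eq_fintype_card]; exact g.card
  rw [h3, h4] at h1
  have : ((-1 : ℤˣ)) ^ ((378 - 0) / 2) = -1 := by decide
  rw [this] at h1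
  exact absurd h1 (by decide)

end Parity

end Cfsg.Agent.R08.InvLin
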