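import Cfsg.Agent.R08.InvLin
import Cfsg.Agent.R08.Sys

/-!
# R08 (S1715), piece (4): involutions of `M` (helper885)

* `exists_over`: (4a) an element of `M \ Q` with square in `Q` acts as `τ_{r1} τ_{r2}`.
* `K0`: over every `τ_r τ_{r+s}` there is a `Good` involution in `Q s ∩ M b`.
* `inM`: (P1) every involution of `M b \ Q b` lies in `Q s` for some `s ∈ Z ∩ Q b`, `s ≠ b`.
-/

set_option autoImplicit false
set_option linter.unusedSectionVars false
set_option linter.unusedSimpArgs false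

namespace Cfsg.Agent.R08.InvM

open Cfsg.Agent.R08.Iface Cfsg.Agent.R08.InvHerm Cfsg.Agent.R08.InvLin Cfsg.Agent.R08.Sys

variable {F : Type*} [Field F] {G : Type*} [Group G]

/-- two independent orthogonal `R`-vectors -/
structure RPair (r1 r2 : Fin 6 → F) : Prop where
  h1 : IsR r1
  h2 : IsR r2
  perp : H r1 r2 = 0
  ne : ∀ c : F, r2 ≠ c • r1

theorem RPair.symm (hF : Nat.card F = 4) (g : Geo F) {r1 r2 : Fin 6 → F} (p : RPair r1 r2) :
    RPair r2 r1 where
  h1 := p.h2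
  h2 := p.h1
  perp := H_zero_swap hF p.perp
  ne c hc := by
    have hc0 : c ≠ 0 := by
      rintro rfl
      exact g.ne r1 p.h1 (by rw [hc, zero_smul])
    apply p.ne c⁻¹
    rw [hc, smul_smul, inv_mul_cancel₀ hc0, one_smul]

section Field

variable (hF : Nat.card F = 4)
include hF

theorem omega_ne {ω : F} (hω : ω ^ 2 + ω + 1 = 0) : ω ≠ 0 ∧ ω ≠ 1 := by
  have h2 := two_eq hF
  constructor
  · rintro rfl
    apply one_ne_zero (α := F)
    linear_combination hω
  · rintro rfl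
    apply one_ne_zero (α := F)
    linear_combination hω - h2

theorem zero_of_scalars {x : F} (h : ∀ c : F, c * x = 0 ∨ c * x = 1) : x = 0 := by
  by_contra hx
  obtain ⟨ω, hω⟩ := exists_omega hF
  obtain ⟨h0, h1⟩ := omega_ne hF hω
  have := h (ω * x⁻¹)
  rw [mul_assoc, inv_mul_cancel₀ hx, mul_one] at this
  exact this.elim h0 h1

theorem zero_of_scalars' {x : F} (h : ∀ c : F, c ^ 2 * x = 0 ∨ c ^ 2 * x = 1) : x = 0 := by
  apply zero_of_scalars hF
  intro c
  have := h (c ^ 2)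
  rwa [← pow_mul, pow4 hF] at this

/-- `{0, 1}` is closed under addition -/
theorem f2_add {x y : F} (hx : x = 0 ∨ x = 1) (hy : y = 0 ∨ y = 1) : x + y = 0 ∨ x + y = 1 := by
  rcases hx with rfl | rfl
  · rwa [zero_add]
  · rcases hy with rfl | rfl
    · right; rw [add_zero]
    · left; exact add_self hF 1

theorem f2_cube (x : F) : x ^ 3 = 0 ∨ x ^ 3 = 1 := by
  by_cases h : x = 0
  · left; rw [h]; ring
  · right; exact pow3 hF h

end Field

section LabPart

variable {Q M : Subgroup G} {z : G}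

/-- `a` acts as `τ_{r1} τ_{r2}` -/
def Over (L : Lab F Q M z) (a : G) (r1 r2 : Fin 6 → F) : Prop :=
  ∀ w, L.ρ a w = w + H w r1 • r1 + H w r2 • r2

/-- `a` commutes with the elements of `Q` with label in `⟨r1, r2⟩^⊥` -/
def Good (L : Lab F Q M z) (a : G) (r1 r2 : Fin 6 → F) : Prop :=
  ∀ y ∈ Q, H (L.v y) r1 = 0 → H (L.v y) r2 = 0 → a * y = y * a

/-- (4a) -/
theorem exists_over (g : Geo F) (L : Lab F Q M z)
    (hev : ∀ f : M →* ℤˣ, (∀ m : M, (m : G) ∈ Q → f m = 1) → ∀ m, f m = 1)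
    {a : G} (ha : a ∈ M) (haQ : a ∉ Q) (ha2 : a * a ∈ Q) :
    ∃ r1 r2, RPair r1 r2 ∧ Over L a r1 r2 := by
  have hF := L.card
  have haz := L.M_comm a ha
  have hT : ∀ w, L.ρ a (L.ρ a w) = w := fun w => by
    rw [← L.ρ_mul haz haz]; exact L.ρ_mem_Q ha2 w
  obtain ⟨r, hr, hTr⟩ := exists_fixed g L hev ha hT
  obtain ⟨r1, r2, hr1, hr2, h12, h1r, h2r, hP⟩ :=
    lin_part hF g (L.ρ_add haz) (L.isLin ha) hT hr hTr
  obtain ⟨m1, hm1, e1⟩ := L.tau r r1 hr hr1
  obtain ⟨m2, hm2, e2⟩ := L.tau r r2 hr hr2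
  have rr := g.iso r hr
  have hX : ∀ w, L.ρ (a * (m1 * m2)) w = L.ρ a (tr r (tr r1 (tr r (tr r2 w)))) := fun w => by
    rw [L.ρ_mul haz (Lab.mul_comm' (L.M_comm m1 hm1) (L.M_comm m2 hm2)),
      L.ρ_mul (L.M_comm m1 hm1) (L.M_comm m2 hm2), e2, e1]
  have hid := L.triv (a * (m1 * m2)) (M.mul_mem ha (M.mul_mem hm1 hm2)) r hr
    (by rw [hX, tr_four hF rr h12 h1r h2r, H_zero_swap hF h1r, H_zero_swap hF h2r, zero_smul,
          zero_smul, add_zero, add_zero, hTr])
    (fun w hw => by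
      rw [hX]; exact hP w hw)
  have hov : Over L a r1 r2 := by
    intro w
    have h1 := hid w
    rw [hX, tr_four hF rr h12 h1r h2r] at h1
    have h2 := congrArg (L.ρ a) h1
    rw [hT] at h2
    exact h2.symm
  refine ⟨r1, r2, ⟨hr1, hr2, h12, ?_⟩, hov⟩
  intro c hc
  have hc0 : c ≠ 0 := by
    rintro rfl
    exact g.ne r2 hr2 (by rw [hc, zero_smul])
  apply haQ
  apply L.mem_Q a haz
  intro w
  rw [hov, hc, smul_tr hF hc0, add_assoc, vadd_self hF, add_zero]

theorem Over.swap {L : Lab F Q M z} {a : G} {r1 r2 : Fin 6 → F} (h : Over L a r1 r2) :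
    Over L a r2 r1 := fun w => by rw [h w, add_right_comm]

theorem Good.swap {L : Lab F Q M z} {a : G} {r1 r2 : Fin 6 → F} (h : Good L a r1 r2) :
    Good L a r2 r1 := fun y hy h1 h2 => h y hy h2 h1

theorem Over.smul {L : Lab F Q M z} {a : G} {r1 r2 : Fin 6 → F} (h : Over L a r1 r2) {c d : F}
    (hc : c ≠ 0) (hd : d ≠ 0) : Over L a (c • r1) (d • r2) := fun w => by
  rw [h w, smul_tr L.card hc, smul_tr L.card hd]

theorem Over.smul_iff {L : Lab F Q M z} {a : G} {r1 r2 : Fin 6 → F} {c d : F}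
    (hc : c ≠ 0) (hd : d ≠ 0) : Over L a (c • r1) (d • r2) ↔ Over L a r1 r2 := by
  constructor
  · intro h w
    rw [h w, smul_tr L.card hc, smul_tr L.card hd]
  · intro h; exact h.smul hc hd

theorem Good.smul_iff {L : Lab F Q M z} {a : G} {r1 r2 : Fin 6 → F} {c d : F}
    (hc : c ≠ 0) (hd : d ≠ 0) : Good L a (c • r1) (d • r2) ↔ Good L a r1 r2 := by
  have hc2 : c ^ 2 ≠ 0 := pow_ne_zero 2 hc
  have hd2 : d ^ 2 ≠ 0 := pow_ne_zero 2 hd
  constructor
  · intro h y hy h1 h2
    exact h y hy (by rw [H_smul_right L.card, h1, mul_zero])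
      (by rw [H_smul_right L.card, h2, mul_zero])
  · intro h y hy h1 h2
    rw [H_smul_right L.card] at h1 h2
    exact h y hy ((mul_eq_zero.1 h1).resolve_left hc2) ((mul_eq_zero.1 h2).resolve_left hd2)

/-- elements acting in the same way differ by an element of `Q` -/
theorem mem_Q_of_over {L : Lab F Q M z} {a a' : G} (ha : a * z = z * a) (ha' : a' * z = z * a')
    {r1 r2 : Fin 6 → F} (h : Over L a r1 r2) (h' : Over L a' r1 r2) : a * a'⁻¹ ∈ Q := by
  apply L.mem_Q _ (Lab.mul_comm' ha (Lab.inv_comm ha'))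
  intro w
  rw [L.ρ_mul ha (Lab.inv_comm ha'), h, ← h', L.ρ_inv' ha']

theorem over_mul_Q {L : Lab F Q M z} {a : G} (ha : a * z = z * a) {r1 r2 : Fin 6 → F}
    (h : Over L a r1 r2) {i : G} (hi : i ∈ Q) : Over L (a * i) r1 r2 := fun w => by
  rw [L.ρ_mul ha (L.large.comm_z i hi), L.ρ_mem_Q hi, h]

/-- `a` fixes the label of `y` -/
theorem fix_or {L : Lab F Q M z} {a : G} (ha : a * z = z * a) {r1 r2 : Fin 6 → F}
    (h : Over L a r1 r2) {y : G} (hy : y ∈ Q) (h1 : H (L.v y) r1 = 0) (h2 : H (L.v y) r2 = 0) :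
    a * y = y * a ∨ a * y = y * z * a := by
  have e : L.v (a * y * a⁻¹) = L.v y := by
    rw [L.v_conj a ha y hy, h, h1, h2, zero_smul, zero_smul, add_zero, add_zero]
  rcases (L.v_eq (L.ρ_surj_aux ha hy) hy).1 e with h3 | h3
  · left; exact mul_inv_eq_iff_eq_mul.1 h3
  · right; exact mul_inv_eq_iff_eq_mul.1 h3

theorem not_comm_of {L : Lab F Q M z} {a y : G} (h : a * y = y * z * a) : a * y ≠ y * a := by
  intro h'
  rw [h'] at h
  have : y * z = y := (mul_right_cancel h).symm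
  exact L.large.z_ne (mul_eq_left.1 this)

/-- an involution acting as `τ_r τ_r'` commutes with the elements with labels in `⟨r, r'⟩` -/
theorem comm_line {L : Lab F Q M z} {a : G} (ha : a * z = z * a) (ha2 : a * a = 1)
    {r1 r2 : Fin 6 → F} (h : Over L a r1 r2) (h10 : r1 ≠ 0) (hne : ∀ c : F, r2 ≠ c • r1)
    {y : G} (hy : y ∈ Q) {c d : F} (hv : L.v y = c • r1 + d • r2) : a * y = y * a := by
  have hF := L.card
  obtain ⟨⟨x1, h11, h12⟩, ⟨x2, h21, h22⟩⟩ := exists_dual_pair hF h10 hne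
  set w := c • x1 + d • x2 with hw
  have hw1 : H w r1 = c := by
    rw [hw, H_add_left hF, H_smul_left hF, H_smul_left hF, h11, h21]; ring
  have hw2 : H w r2 = d := by
    rw [hw, H_add_left hF, H_smul_left hF, H_smul_left hF, h12, h22]; ring
  obtain ⟨x, hx, hvx⟩ := L.v_surj w
  set x' := a * x * a⁻¹ with hx'
  have hx'Q : x' ∈ Q := L.ρ_surj_aux ha hx
  have hvx' : L.v x' = w + c • r1 + d • r2 := by
    rw [hx', L.v_conj a ha x hx, hvx, h, hw1, hw2]
  have hxx : x * x' = x' * x := by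
    rw [L.comm_iff x hx x' hx'Q, hvx, hvx', H_add_right hF, H_add_right hF, H_smul_right hF,
      H_smul_right hF, hw1, hw2]
    have e1 : c ^ 2 * c = c ^ 3 := by ring
    have e2 : d ^ 2 * d = d ^ 3 := by ring
    rw [e1, e2]
    exact f2_add hF (f2_add hF (H_self hF w) (f2_cube hF c)) (f2_cube hF d)
  have hcomm : a * (x * x') = (x * x') * a := by
    rw [← mul_inv_eq_iff_eq_mul]
    have e : a * (x * x') * a⁻¹ = x' * (a * a * x * a⁻¹ * a⁻¹) := by rw [hx']; group
    rw [e, ha2]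
    have e2 : a⁻¹ * a⁻¹ = 1 := by rw [← mul_inv_rev, ha2, inv_one]
    rw [one_mul, mul_assoc x, e2, mul_one, hxx]
  have hvy : L.v y = L.v (x * x') := by
    rw [L.v_mul x hx x' hx'Q, hvx, hvx', hv, ← add_assoc, ← add_assoc, vadd_self hF, zero_add]
  rcases (L.v_eq hy (Q.mul_mem hx hx'Q)).1 hvy with h1 | h1
  · rw [h1, hcomm]
  · rw [h1, ← mul_assoc, hcomm, mul_assoc _ a z, ha, ← mul_assoc]

/-- every element acting as `τ_r τ_r'` becomes `Good` after multiplication by an element of `Q` -/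
theorem exists_good {L : Lab F Q M z} {a : G} (ha : a * z = z * a)
    {r1 r2 : Fin 6 → F} (h : Over L a r1 r2) : ∃ c ∈ Q, Good L (a * c) r1 r2 := by
  have hF := L.card
  have hz := L.large.z_sq
  have hlab : ∀ y ∈ Q, ∀ y' ∈ Q, L.v y = L.v y' → a * y = y * a → a * y' = y' * a := by
    intro y hy y' hy' he hc
    rcases (L.v_eq hy' hy).1 he.symm with h1 | h1
    · rw [h1, hc]
    · rw [h1, ← mul_assoc, hc, mul_assoc _ a z, ha, ← mul_assoc]
  by_cases hall : Good L a r1 r2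
  · exact ⟨1, Q.one_mem, by rwa [mul_one]⟩
  simp only [Good] at hall
  push Not at hall
  obtain ⟨y1, hy1, h11, h12, hnc⟩ := hall
  let X : AddSubgroup (Fin 6 → F) :=
    { carrier := {w | H w r1 = 0 ∧ H w r2 = 0 ∧ ∀ y ∈ Q, L.v y = w → a * y = y * a}
      zero_mem' := by
        refine ⟨H_zero_left hF _, H_zero_left hF _, fun y hy hv => ?_⟩
        rcases (L.v_eq_zero y hy).1 hv with rfl | rfl
        · rw [mul_one, one_mul]
        · exact ha
      add_mem' := by
        rintro w1 w2 ⟨h1, h2, h3⟩ ⟨h1', h2', h3'⟩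
        refine ⟨by rw [H_add_left hF, h1, h1', add_zero], by rw [H_add_left hF, h2, h2', add_zero],
          fun y hy hv => ?_⟩
        obtain ⟨u, hu, hvu⟩ := L.v_surj w1
        have e1 := h3 u hu hvu
        have hm : u⁻¹ * y ∈ Q := Q.mul_mem (Q.inv_mem hu) hy
        have e2 := h3' (u⁻¹ * y) hm (by
          rw [L.v_mul _ (Q.inv_mem hu) _ hy, L.v_inv hu, hvu, hv, vadd_cancel hF])
        have : y = u * (u⁻¹ * y) := by group
        rw [this, ← mul_assoc, e1, mul_assoc, e2, ← mul_assoc]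
      neg_mem' := by
        intro w hw
        rw [vneg hF]; exact hw }
  have hX : L.v y1 ∉ X := fun hm => hnc (hm.2.2 y1 hy1 rfl)
  obtain ⟨c0, hc1, hc2⟩ := exists_sep hF X hX
  obtain ⟨c, hc, rfl⟩ := L.v_surj c0
  refine ⟨c, hc, fun y hy h1 h2 => ?_⟩
  have hcz := L.large.comm_z c hc
  rcases fix_or ha h hy h1 h2 with h3 | h3
  · have hm : L.v y ∈ X := ⟨h1, h2, fun y' hy' hv => hlab y hy y' hy' hv.symm h3⟩
    have e := (L.comm_iff y hy c hc).2 (hc1 _ hm)
    rw [mul_assoc, ← e, ← mul_assoc, h3, mul_assoc]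
  · have e3 : a * (y * y1) = (y * y1) * a := by
      rcases fix_or ha h hy1 h11 h12 with h4 | h4
      · exact absurd h4 hnc
      · rw [← mul_assoc, h3, mul_assoc _ a y1, h4]
        have hy1z := L.large.comm_z y1 hy1
        calc y * z * (y1 * z * a) = y * (z * y1) * z * a := by group
          _ = y * (y1 * z) * z * a := by rw [hy1z]
          _ = y * y1 * (z * z) * a := by group
          _ = y * y1 * a := by rw [hz, mul_one]
    have hm : L.v y + L.v y1 ∈ X := by
      rw [← L.v_mul y hy y1 hy1]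
      refine ⟨?_, ?_, fun y' hy' hv => hlab _ (Q.mul_mem hy hy1) y' hy' hv.symm e3⟩
      · rw [L.v_mul y hy y1 hy1, H_add_left hF, h1, h11, add_zero]
      · rw [L.v_mul y hy y1 hy1, H_add_left hF, h2, h12, add_zero]
    have hnyc : ¬ (H (L.v c) (L.v y) = 0 ∨ H (L.v c) (L.v y) = 1) := by
      intro h5
      have h5' : H (L.v y) (L.v c) = 0 ∨ H (L.v y) (L.v c) = 1 :=
        h5.imp (H_zero_swap hF) (H_one_swap hF)
      have h6 := f2_add hF (hc1 _ hm) h5'
      rw [H_add_left hF, add_comm (H (L.v y) (L.v c)), add_assoc, add_self hF, add_zero] at h6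
      exact hc2 h6
    have e4 := (L.comm_z_iff hc hy).2 hnyc
    have hyz := L.large.comm_z y hy
    calc a * c * y = a * (c * y) := by group
      _ = (a * y) * c * z := by rw [e4]; group
      _ = y * z * (a * c) * z := by rw [h3]; group
      _ = y * z * ((a * c) * z) := by group
      _ = y * z * (z * (a * c)) := by rw [Lab.mul_comm' ha hcz]
      _ = y * (z * z) * (a * c) := by group
      _ = y * (a * c) := by rw [hz, mul_one]

end LabPart

end Cfsg.Agent.R08.InvM
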