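import Cfsg.Agent.R08.InvP

/-!
# R08 (S1715), piece (5): involutions of `C_G(b) \ M b` (helper885)

* `exists_S_fixed`: a semilinear involution fixes an `S`-vector.
* `outM`: (5b) an involution of `C_G(b) \ M b` lies in `M w` for some `w ∈ Z ∩ Q b`, `w ≠ b`.
* `C_cases`: every involution of `C_G(b)` lies in `Z` or in `A`.
* `out`: (5c) if `a ∈ C_G(b)` and `a, b * a ∈ A` then `a ∈ Q b`.
-/

set_option autoImplicit false
set_option linter.unusedSectionVars false
set_option linter.unusedSimpArgs false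

namespace Cfsg.Agent.R08.InvOut

open Cfsg.Agent.R08.Iface Cfsg.Agent.R08.InvHerm Cfsg.Agent.R08.InvLin Cfsg.Agent.R08.Sys
open Cfsg.Agent.R08.InvM Cfsg.Agent.R08.InvK Cfsg.Agent.R08.InvP

variable {F : Type*} [Field F]

/-- the kernel of a `{0, 1}`-valued additive map has index at most two -/
theorem half_le (hF : Nat.card F = 4) (K : AddSubgroup (Fin 6 → F)) (f : (Fin 6 → F) → F)
    (hadd : ∀ x ∈ K, ∀ y ∈ K, f (x + y) = f x + f y) (hval : ∀ x ∈ K, f x = 0 ∨ f x = 1) :
    ∃ K' : AddSubgroup (Fin 6 → F), K' ≤ K ∧ (∀ x ∈ K', f x = 0) ∧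
      Nat.card K ≤ 2 * Nat.card K' := by
  have hfin := finF hF
  have h0 : f 0 = 0 := by
    have := hadd 0 K.zero_mem 0 K.zero_mem
    rw [add_zero] at this
    exact (left_eq_add.1 this)
  let K' : AddSubgroup (Fin 6 → F) :=
    { carrier := {x | x ∈ K ∧ f x = 0}
      zero_mem' := ⟨K.zero_mem, h0⟩
      add_mem' := by
        rintro x y ⟨hx, hx'⟩ ⟨hy, hy'⟩
        exact ⟨K.add_mem hx hy, by rw [hadd x hx y hy, hx', hy', add_zero]⟩
      neg_mem' := by
        intro x hx
        rw [vneg hF]; exact hx }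
  refine ⟨K', fun x hx => hx.1, fun x hx => hx.2, ?_⟩
  by_cases hall : ∃ u ∈ K, f u = 1
  swap
  · have : K ≤ K' := by
      intro x hx
      refine ⟨hx, (hval x hx).resolve_right fun h => hall ⟨x, hx, h⟩⟩
    have h1 := Nat.card_le_card_of_injective _ (AddSubgroup.inclusion_injective this)
    omega
  obtain ⟨u, hu, hu1⟩ := hall
  -- an injection `K → K' × Bool`
  classical
  let φ : K → K' × Bool := fun x =>
    if h : f x.1 = 0 then (⟨x.1, x.2, h⟩, true)
    else (⟨x.1 + u, K.add_mem x.2 hu, by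
      rw [hadd _ x.2 _ hu, (hval _ x.2).resolve_left h, hu1, InvHerm.add_self hF]⟩, false)
  have hφ : Function.Injective φ := by
    intro x y hxy
    simp only [φ] at hxy
    split_ifs at hxy with h1 h2
    · exact Subtype.ext (congrArg (fun t : K' × Bool => (t.1 : Fin 6 → F)) hxy)
    · exact Bool.noConfusion (congrArg Prod.snd hxy)
    · exact Bool.noConfusion (congrArg Prod.snd hxy)
    · have : (x : Fin 6 → F) + u = y + u :=
        congrArg (fun t : K' × Bool => (t.1 : Fin 6 → F)) hxy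
      exact Subtype.ext (add_right_cancel this)
  have := Nat.card_le_card_of_injective φ hφ
  rw [Nat.card_prod, Nat.card_eq_fintype_card (α := Bool), Fintype.card_bool] at this
  omega

/-- a semilinear involution fixes an `S`-vector -/
theorem exists_S_fixed (hF : Nat.card F = 4) (g : Geo F) {T : (Fin 6 → F) → (Fin 6 → F)}
    (hadd : ∀ x y, T (x + y) = T x + T y) (hs : IsSemi T) (hT : ∀ x, T (T x) = x) :
    ∃ w, IsS w ∧ T w = w := by
  have hfin := finF hF
  have hT0 : T 0 = 0 := by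
    have := hadd 0 0
    rw [add_zero] at this
    exact (left_eq_add.1 this)
  -- the fixed space
  let Φ : AddSubgroup (Fin 6 → F) :=
    { carrier := {x | T x = x}
      zero_mem' := hT0
      add_mem' := by
        intro x y hx hy
        show T (x + y) = x + y
        rw [hadd, show T x = x from hx, show T y = y from hy]
      neg_mem' := by
        intro x hx
        rw [vneg hF]; exact hx }
  obtain ⟨ω, hω⟩ := exists_omega hF
  have h2 := two_eq hF
  -- `(x, y) ↦ x + ω y` is onto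
  have hcard : 64 ≤ Nat.card Φ := by
    let ψ : Φ × Φ → (Fin 6 → F) := fun p => (p.1 : Fin 6 → F) + ω • (p.2 : Fin 6 → F)
    have hψ : Function.Surjective ψ := by
      intro x
      refine ⟨(⟨(1 + ω) • x + (1 + ω) ^ 2 • T x, ?_⟩, ⟨x + T x, ?_⟩), ?_⟩
      · show T _ = _
        rw [hadd, hs.smul, hs.smul, hT, add_comm]
        congr 1
        rw [← pow_mul, pow4 hF]
      · show T (x + T x) = x + T x
        rw [hadd, hT, add_comm]
      · show (1 + ω) • x + (1 + ω) ^ 2 • T x + ω • (x + T x) = x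
        ext i
        simp only [Pi.add_apply, Pi.smul_apply, smul_eq_mul]
        linear_combination (T x i) * hω + (ω * x i + ω * T x i) * h2
    have h1 := Nat.card_le_card_of_surjective ψ hψ
    rw [Nat.card_prod, Nat.card_fun, hF, Nat.card_eq_fintype_card, Fintype.card_fin] at h1
    by_contra hlt
    push Not at hlt
    have h3 : Nat.card Φ * Nat.card Φ ≤ 63 * 63 :=
      Nat.mul_le_mul (Nat.le_of_lt_succ hlt) (Nat.le_of_lt_succ hlt)
    norm_num at h1
    omega
  have hval : ∀ x ∈ Φ, ∀ y ∈ Φ, H x y = 0 ∨ H x y = 1 := by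
    intro x hx y hy
    apply sq_eq_self hF
    rw [← hs.form, show T x = x from hx, show T y = y from hy]
  obtain ⟨Φ0, hle0, hzero0, hc0⟩ := half_le hF Φ (fun x => H x x) (by
    intro x hx y hy
    show H (x + y) (x + y) = H x x + H y y
    rw [H_add_left hF, H_add_right hF, H_add_right hF, H_swap hF x y]
    rcases hval x hx y hy with h | h
    · rw [h]; ring
    · rw [h]; linear_combination h2) (fun x _ => H_self hF x)
  obtain ⟨x, hx, hx0⟩ : ∃ x ∈ Φ0, x ≠ 0 := by
    by_contra hcon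
    push Not at hcon
    have : Φ0 = ⊥ := by
      rw [eq_bot_iff]
      intro x hx
      exact hcon x hx
    rw [this, AddSubgroup.card_bot] at hc0
    omega
  obtain ⟨Φ1, hle1, hzero1, hc1⟩ := half_le hF Φ0 (fun y => H y x)
    (fun y _ y' _ => H_add_left hF y y' x) (fun y hy => hval y (hle0 hy) x (hle0 hx))
  obtain ⟨y, hy, hy0, hyx⟩ : ∃ y ∈ Φ1, y ≠ 0 ∧ y ≠ x := by
    by_contra hcon
    push Not at hcon
    have hsub : (Φ1 : Set (Fin 6 → F)) ⊆ {0, x} := by
      intro y hy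
      by_cases h0 : y = 0
      · left; exact h0
      · right; exact hcon y hy h0
    have h3 := Set.ncard_le_ncard hsub (Set.toFinite _)
    have h4 := Set.ncard_insert_le (0 : Fin 6 → F) {x}
    rw [Set.ncard_singleton] at h4
    have h5 : Nat.card Φ1 = (Φ1 : Set (Fin 6 → F)).ncard := rfl
    omega
  have hyy := hzero0 y (hle1 hy)
  have hxx := hzero0 x hx
  have hyx0 : H y x = 0 := hzero1 y hy
  have hyx0' : ∀ c : F, y ≠ c • x := by
    rintro c rfl
    have e : T (c • x) = c • x := hle0 (hle1 hy)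
    rw [hs.smul, show T x = x from hle0 hx, ← sub_eq_zero, ← sub_smul] at e
    have e' := (smul_eq_zero.1 e).resolve_right hx0
    rcases sq_eq_self hF (sub_eq_zero.1 e') with h | h
    · exact hy0 (by rw [h, zero_smul])
    · exact hyx (by rw [h, one_smul])
  by_cases hxR : IsR x
  · by_cases hyR : IsR y
    · refine ⟨x + y, ?_, ?_⟩
      · have := S_of_pair hF g ⟨hxR, hyR, H_zero_swap hF hyx0, hyx0'⟩
          (one_ne_zero (α := F)) (one_ne_zero (α := F))
        rwa [one_smul, one_smul] at this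
      · rw [hadd, show T x = x from hle0 hx, show T y = y from hle0 (hle1 hy)]
    · exact ⟨y, (g.S_iff y).2 ⟨hy0, hyy, hyR⟩, hle0 (hle1 hy)⟩
  · exact ⟨x, (g.S_iff x).2 ⟨hx0, hxx, hxR⟩, hle0 hx⟩

variable {G : Type*} [Group G] (S : Sys F G)

/-- (5a) an outer involution centralises some `w ∈ Z ∩ Q b`, `w ≠ b` -/
theorem exists_cent (g : Geo F) {b : G} (hb : b ∈ S.Z) {a : G} (hab : a * b = b * a)
    (haM : a ∉ S.M b) (ha2 : a * a = 1) :
    ∃ w ∈ S.Z, w ∈ S.Q b ∧ w ≠ b ∧ a * w = w * a := by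
  have hs := S.semi b hb a hab haM
  set L := S.lab b hb with hL
  have hF := L.card
  obtain ⟨ω, hω⟩ := exists_omega hF
  have h2 := two_eq hF
  obtain ⟨x, hxS, hTx⟩ := exists_S_fixed hF g (L.ρ_add hab) hs (fun w => by
    rw [← L.ρ_mul hab hab, ha2, L.ρ_one])
  obtain ⟨hx0, hxx, -⟩ := (g.S_iff x).1 hxS
  obtain ⟨y, hy, hvy⟩ := L.v_surj (ω • x)
  have hy' : a * y * a⁻¹ ∈ S.Q b := L.ρ_surj_aux hab hy
  have hvy' : L.v (a * y * a⁻¹) = ω ^ 2 • x := by
    rw [L.v_conj a hab y hy, hvy, hs.smul, hTx]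
  have hw : L.v (y * (a * y * a⁻¹)) = x := by
    rw [L.v_mul y hy _ hy', hvy, hvy', ← add_smul]
    have : ω + ω ^ 2 = 1 := by linear_combination hω - h2
    rw [this, one_smul]
  have hcomm : y * (a * y * a⁻¹) = (a * y * a⁻¹) * y := by
    rw [L.comm_iff y hy _ hy', hvy, hvy', H_smul_left hF, H_smul_right hF, hxx]
    left; ring
  have hwQ := (S.Q b).mul_mem hy hy'
  refine ⟨y * (a * y * a⁻¹), S.tS b hb _ hwQ (by rw [← hL, hw]; exact hxS), hwQ, ?_, ?_⟩
  · intro e
    rw [e, L.v_z] at hw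
    exact hx0 hw.symm
  · have hai : a⁻¹ = a := inv_eq_of_mul_eq_one_left ha2
    rw [← mul_inv_eq_iff_eq_mul]
    calc a * (y * (a * y * a⁻¹)) * a⁻¹ = (a * y * a⁻¹) * (a * a) * y * (a⁻¹ * a⁻¹) := by group
      _ = (a * y * a⁻¹) * y := by rw [hai, ha2, mul_one, mul_one]
      _ = _ := hcomm.symm

/-- an element of `C_G(b) ∩ C_G(w)` which moves an element of `Q b` with label in `F w` by `w` is in
`M w` -/
theorem mem_M_of (g : Geo F) {b w : G} (hb : b ∈ S.Z) (hw : w ∈ S.Z) (hwQ : w ∈ S.Q b)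
    (hwb : w ≠ b) {a : G} (hab : a * b = b * a) (haw : a * w = w * a) {ω : F}
    (hω : ω ^ 2 + ω + 1 = 0) {y : G} (hy : y ∈ S.Q b)
    (hvy : (S.lab b hb).v y = ω • (S.lab b hb).v w) (h : a * y * a⁻¹ = y * w) : a ∈ S.M w := by
  by_contra haM
  have hs := S.semi w hw a haw haM
  obtain ⟨hyw, c, hc⟩ := S.p4 b hb w hw hwQ hwb y hy ⟨ω, hvy⟩
  have hbw := S.sym b hb w hw hwQ hwb
  have hF := (S.lab w hw).card
  have hvw0 : (S.lab b hb).v w ≠ 0 := ((g.S_iff _).1 (vS S g hb hw hwQ hwb)).1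
  obtain ⟨hω0, hω1⟩ := omega_ne hF hω
  have e1 : (S.lab w hw).v (a * b * a⁻¹) = (S.lab w hw).v b := by
    rw [hab]; group
  rw [(S.lab w hw).v_conj a haw b hbw] at e1
  have e2 : (S.lab w hw).v (a * y * a⁻¹) = (S.lab w hw).v y := by
    rw [h, (S.lab w hw).v_mul y hyw w (S.lab w hw).large.z_mem, (S.lab w hw).v_z, add_zero]
  rw [(S.lab w hw).v_conj a haw y hyw, hc, hs.smul, e1, ← sub_eq_zero, ← sub_smul] at e2
  have hvb0 : (S.lab w hw).v b ≠ 0 := by
    rw [Ne, (S.lab w hw).v_eq_zero b hbw]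
    rintro (h' | h')
    · exact (S.lab b hb).large.z_ne h'
    · exact hwb h'.symm
  have hsq := sub_eq_zero.1 ((smul_eq_zero.1 e2).resolve_right hvb0)
  -- `c ∈ {0, 1}`
  rcases sq_eq_self hF hsq with h1 | h1
  · rw [h1, zero_smul, (S.lab w hw).v_eq_zero y hyw] at hc
    rcases hc with h3 | h3
    · rw [h3, (S.lab b hb).v_one] at hvy
      exact (smul_ne_zero hω0 hvw0) hvy.symm
    · rw [h3] at hvy
      apply hω1
      have : (1 - ω) • (S.lab b hb).v w = 0 := by rw [sub_smul, one_smul, ← hvy, sub_self]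
      exact (sub_eq_zero.1 ((smul_eq_zero.1 this).resolve_right hvw0)).symm
  · rw [h1, one_smul, (S.lab w hw).v_eq hyw hbw] at hc
    rcases hc with h3 | h3
    · rw [h3, (S.lab b hb).v_z] at hvy
      exact (smul_ne_zero hω0 hvw0) hvy.symm
    · rw [h3, (S.lab b hb).v_mul b (S.lab b hb).large.z_mem w hwQ, (S.lab b hb).v_z,
        zero_add] at hvy
      apply hω1
      have : (1 - ω) • (S.lab b hb).v w = 0 := by rw [sub_smul, one_smul, ← hvy, sub_self]
      exact (sub_eq_zero.1 ((smul_eq_zero.1 this).resolve_right hvw0)).symm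

/-- (5b) -/
theorem outM (g : Geo F) {b : G} (hb : b ∈ S.Z) {a : G} (hab : a * b = b * a)
    (haM : a ∉ S.M b) (ha2 : a * a = 1) :
    ∃ w ∈ S.Z, w ∈ S.Q b ∧ w ≠ b ∧ a ∈ S.M w := by
  obtain ⟨w, hw, hwQ, hwb, haw⟩ := exists_cent S g hb hab haM ha2
  have hs := S.semi b hb a hab haM
  have hvwS := vS S g hb hw hwQ hwb
  set L := S.lab b hb with hL
  have hF := L.card
  obtain ⟨ω, hω⟩ := exists_omega hF
  have h2 := two_eq hF
  obtain ⟨y, hy, hvy⟩ := L.v_surj (ω • L.v w)
  have hTw : L.ρ a (L.v w) = L.v w := by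
    rw [← L.v_conj a hab w hwQ, haw]; congr 1; group
  have hy' : a * y * a⁻¹ ∈ S.Q b := L.ρ_surj_aux hab hy
  have hvy' : L.v (a * y * a⁻¹) = L.v (y * w) := by
    rw [L.v_conj a hab y hy, hvy, hs.smul, hTw, L.v_mul y hy w hwQ, hvy]
    have : ω ^ 2 = ω + 1 := by linear_combination hω - (ω + 1) * h2
    rw [this, add_smul, one_smul]
  rcases (L.v_eq hy' ((S.Q b).mul_mem hy hwQ)).1 hvy' with h | h
  · exact ⟨w, hw, hwQ, hwb, mem_M_of S g hb hw hwQ hwb hab haw hω hy hvy h⟩
  · have hbQ := L.large.z_mem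
    have hvw' : L.v (w * b) = L.v w := by
      rw [L.v_mul w hwQ b hbQ, L.v_z, add_zero]
    have hw'Q := (S.Q b).mul_mem hwQ hbQ
    have hw' : w * b ∈ S.Z := S.tS b hb _ hw'Q (by rw [← hL, hvw']; exact hvwS)
    have hw'b : w * b ≠ b := fun e => (S.lab w hw).large.z_ne (mul_eq_right.1 e)
    refine ⟨w * b, hw', hw'Q, hw'b, mem_M_of S g hb hw' hw'Q hw'b hab ?_ hω hy ?_ ?_⟩
    · rw [← mul_assoc, haw, mul_assoc, hab, ← mul_assoc]
    · rw [← hL, hvw']; exact hvy
    · rw [h, mul_assoc]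

/-- every involution of `C_G(b)` lies in `Z` or in `A` -/
theorem C_cases (g : Geo F) {b : G} (hb : b ∈ S.Z) {a : G} (hab : a * b = b * a)
    (ha2 : a * a = 1) (ha1 : a ≠ 1) : a ∈ S.Z ∨ a ∈ S.A := by
  by_cases haM : a ∈ S.M b
  · exact M_cases S g hb haM ha2 ha1
  · obtain ⟨w, hw, -, -, haw⟩ := outM S g hb hab haM ha2
    exact M_cases S g hw haw ha2 ha1

/-- (5c) -/
theorem out (g : Geo F) {b : G} (hb : b ∈ S.Z) {a : G} (hab : a * b = b * a)
    (ha2 : a * a = 1) (hA : a ∈ S.A) (hbA : b * a ∈ S.A) : a ∈ S.Q b := by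
  by_cases haM : a ∈ S.M b
  · exact mem_Q_of_A S g hb haM ha2 hA hbA
  exfalso
  have ha1 : a ≠ 1 := fun h => haM (by rw [h]; exact (S.M b).one_mem)
  have hbb := (S.lab b hb).large.z_sq
  have hba2 : b * a * (b * a) = 1 := by
    calc b * a * (b * a) = b * (a * b) * a := by group
      _ = (b * b) * (a * a) := by rw [hab]; group
      _ = 1 := by rw [hbb, ha2, one_mul]
  have hba1 : b * a ≠ 1 := by
    intro h
    apply haM
    have : a = b⁻¹ := (eq_inv_of_mul_eq_one_right h)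
    rw [this]
    exact (S.M b).inv_mem ((S.lab b hb).Q_le (S.lab b hb).large.z_mem)
  obtain ⟨w, hw, hwQ, hwb, haw⟩ := outM S g hb hab haM ha2
  have hbw := S.sym b hb w hw hwQ hwb
  have hbS := vS S g hw hb hbw (Ne.symm hwb)
  set Lw := S.lab w hw with hLw
  have hF := Lw.card
  by_cases haQ : a ∈ S.Q w
  · have hR1 := isR_of_A S g hw haQ ha2 ha1 hA
    have hR2 := isR_of_A S g hw ((S.Q w).mul_mem hbw haQ) hba2 hba1 hbA
    rw [← hLw] at hR1 hR2
    rw [Lw.v_mul b hbw a haQ, add_comm] at hR2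
    rcases (Lw.comm_iff a haQ b hbw).1 hab with h | h
    · exact haM ((S.p5 b hb w hw hwQ hwb a haQ hab).2 h)
    · have h3 := g.add _ _ hR1 hR2 (by
        rw [H_add_right hF, g.iso _ hR1, h, zero_add])
      rw [vadd_cancel hF] at h3
      exact S.not_Z b (S.tR w hw b hbw h3) hb
  · obtain ⟨r1, r2, p, hov⟩ := exists_over g Lw (S.even w hw) haw haQ
      (by rw [ha2]; exact (S.Q w).one_mem)
    have h10 := g.ne r1 p.h1
    have haz := Lw.M_comm a haw
    have hbM : b ∈ S.M w := Lw.Q_le hbw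
    have hba : b * a ∈ S.M w := (S.M w).mul_mem hbM haw
    have hbaQ : b * a ∉ S.Q w := by
      intro h
      apply haQ
      have : a = b⁻¹ * (b * a) := by group
      rw [this]
      exact (S.Q w).mul_mem ((S.Q w).inv_mem hbw) h
    have hov' : Over Lw (b * a) r1 r2 := by
      rw [← hab]; exact over_mul_Q haz hov hbw
    have hg := (good_of_A S g hw haw haQ ha2 hA hov).2
    have hg' := (good_of_A S g hw hba hbaQ hba2 hbA hov').2
    obtain ⟨y, hy, hye, c, d, hv⟩ := good_diff (Lw.M_comm _ hba) haz hov' hov hg' hg h10 p.ne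
    have hyb : y = b := (mul_right_cancel hye).symm
    rw [hyb] at hv
    have hnR := ((g.S_iff _).1 hbS).2.2
    have hn0 := ((g.S_iff _).1 hbS).1
    have hc : c ≠ 0 := by
      rintro rfl
      rw [zero_smul, zero_add] at hv
      by_cases hd : d = 0
      · apply hn0; rw [hv, hd, zero_smul]
      · apply hnR; rw [hv]; exact g.smul _ p.h2 _ hd
    have hd : d ≠ 0 := by
      rintro rfl
      rw [zero_smul, add_zero] at hv
      apply hnR; rw [hv]; exact g.smul _ p.h1 _ hc
    have h11 := g.iso r1 p.h1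
    have h22 := g.iso r2 p.h2
    have h21 := H_zero_swap hF p.perp
    have e : c • r1 + Lw.v b = d • r2 := by rw [hv, vadd_cancel hF]
    obtain ⟨x0, hx1, hx2, hx3, hx4, hx5⟩ := K0 S g hw hb hbw (Ne.symm hwb) (r := c • r1)
      (g.smul r1 p.h1 c hc)
      (by rw [← hLw, hv, H_add_right hF]
          simp only [H_smul_left hF, H_smul_right hF, h11, p.perp, mul_zero, add_zero])
      (by rw [← hLw, e]; exact g.smul r2 p.h2 d hd)
    rw [← hLw, e, Over.smul_iff hc hd] at hx4
    rw [← hLw, e, Good.smul_iff hc hd] at hx5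
    obtain ⟨u, hu, hue, c', d', hvu⟩ := good_diff haz (Lw.M_comm _ hx2) hov hx4 hg hx5 h10 p.ne
    have hub : H (Lw.v u) (Lw.v b) = 0 := by
      rw [hvu, hv]
      simp only [H_add_left hF, H_add_right hF, H_smul_left hF, H_smul_right hF, h11, h22, h21,
        p.perp, mul_zero, add_zero]
    have hubc : u * b = b * u := (Lw.comm_iff u hu b hbw).2 (Or.inl hub)
    have huM := (S.p5 b hb w hw hwQ hwb u hu hubc).2 hub
    apply haM
    rw [hue]
    exact (S.M b).mul_mem huM ((S.lab b hb).Q_le hx1)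

end Cfsg.Agent.R08.InvOut
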