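import Cfsg.Agent.R08.InvK

/-!
# R08 (S1715), piece (4): involutions of `M` (helper885)

* `inM`: (P1) every involution of `M b \ Q b` lies in `Q s` for some `s ∈ Z ∩ Q b`, `s ≠ b`.
* `M_cases`: every involution of `M b` lies in `Z` or `A`.
* `mem_Q_of_A`: (4b) `a, b * a ∈ A`, `a ∈ M b` implies `a ∈ Q b`.
* `good_of_A`: an element of `A ∩ M b \ Q b` is `Good`, and `b * a ∈ Z`.
* `conj_of_A`: two elements of `A` in the same coset of `Q b` in `M b \ Q b` are conjugate in `Q b`.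
-/

set_option autoImplicit false
set_option linter.unusedSectionVars false
set_option linter.unusedSimpArgs false

namespace Cfsg.Agent.R08.InvP

open Cfsg.Agent.R08.Iface Cfsg.Agent.R08.InvHerm Cfsg.Agent.R08.InvLin Cfsg.Agent.R08.Sys
open Cfsg.Agent.R08.InvM Cfsg.Agent.R08.InvK

variable {F : Type*} [Field F] {G : Type*} [Group G]

section LabPart

variable {Q M : Subgroup G} {z : G}

/-- `c r1 + d r2` is an `S`-vector -/
theorem S_of_pair (hF : Nat.card F = 4) (g : Geo F) {r1 r2 : Fin 6 → F} (p : RPair r1 r2)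
    {c d : F} (hc : c ≠ 0) (hd : d ≠ 0) : IsS (c • r1 + d • r2) := by
  rw [g.S_iff]
  refine ⟨?_, ?_, ?_⟩
  · intro h
    rw [vadd_eq_zero hF] at h
    apply p.ne (d⁻¹ * c)
    rw [← smul_smul, h, smul_smul, inv_mul_cancel₀ hd, one_smul]
  · rw [H_add_left hF, H_add_right hF, H_add_right hF]
    simp only [H_smul_left hF, H_smul_right hF, g.iso r1 p.h1, g.iso r2 p.h2, p.perp,
      H_zero_swap hF p.perp, mul_zero, add_zero]
  · intro hR
    obtain ⟨k, -, huniq⟩ := g.line r1 p.h1 r2 (g.iso r2 p.h2) (H_zero_swap hF p.perp) p.ne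
    have h0 := huniq 0 (by rw [zero_smul, add_zero]; exact p.h2)
    have h1 := huniq (d⁻¹ * c) (by
      have e : r2 + (d⁻¹ * c) • r1 = d⁻¹ • (c • r1 + d • r2) := by
        rw [smul_add, smul_smul, smul_smul, inv_mul_cancel₀ hd, one_smul, add_comm]
      rw [e]
      exact g.smul _ hR _ (inv_ne_zero hd))
    rw [← h0] at h1
    exact mul_ne_zero (inv_ne_zero hd) hc h1

/-- two `Good` elements acting in the same way differ by an element with label in the line -/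
theorem good_diff {L : Lab F Q M z} {a a' : G} (ha : a * z = z * a) (ha' : a' * z = z * a')
    {r1 r2 : Fin 6 → F} (h : Over L a r1 r2) (h' : Over L a' r1 r2) (hg : Good L a r1 r2)
    (hg' : Good L a' r1 r2) (h10 : r1 ≠ 0) (hne : ∀ c : F, r2 ≠ c • r1) :
    ∃ y ∈ Q, a = y * a' ∧ ∃ c d : F, L.v y = c • r1 + d • r2 := by
  have hF := L.card
  have hy := mem_Q_of_over ha ha' h h'
  refine ⟨a * a'⁻¹, hy, by group, ?_⟩
  apply mem_span_pair_of_perp hF h10 hne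
  intro w h1 h2
  apply zero_of_scalars' hF
  intro c
  rw [← H_smul_right hF]
  obtain ⟨x, hx, hvx⟩ := L.v_surj (c • w)
  rw [← hvx, ← L.comm_iff _ hy x hx]
  have e1 : H (L.v x) r1 = 0 := by rw [hvx, H_smul_left hF, h1, mul_zero]
  have e2 : H (L.v x) r2 = 0 := by rw [hvx, H_smul_left hF, h2, mul_zero]
  have c1 := hg x hx e1 e2
  have c2 := hg' x hx e1 e2
  have c3 : a'⁻¹ * x = x * a'⁻¹ := by
    rw [inv_mul_eq_iff_eq_mul, ← mul_assoc, c2, mul_assoc, mul_inv_cancel, mul_one]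
  rw [mul_assoc, c3, ← mul_assoc, c1, mul_assoc]

/-- commutators with `a` cover the line -/
theorem exists_conj {L : Lab F Q M z} {a : G} (ha : a * z = z * a)
    {r1 r2 : Fin 6 → F} (h : Over L a r1 r2) (h10 : r1 ≠ 0) (hne : ∀ c : F, r2 ≠ c • r1)
    {y : G} (hy : y ∈ Q) {c d : F} (hv : L.v y = c • r1 + d • r2) :
    ∃ x ∈ Q, y * a = x * a * x⁻¹ ∨ y * a = x * a * x⁻¹ * z := by
  have hF := L.card
  obtain ⟨⟨x1, h11, h12⟩, ⟨x2, h21, h22⟩⟩ := exists_dual_pair hF h10 hne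
  set w := c • x1 + d • x2 with hw
  have hw1 : H w r1 = c := by
    rw [hw, H_add_left hF, H_smul_left hF, H_smul_left hF, h11, h21]; ring
  have hw2 : H w r2 = d := by
    rw [hw, H_add_left hF, H_smul_left hF, H_smul_left hF, h12, h22]; ring
  obtain ⟨x, hx, hvx⟩ := L.v_surj w
  have hm : a * x⁻¹ * a⁻¹ ∈ Q := L.ρ_surj_aux ha (Q.inv_mem hx)
  have hu : L.v (x * (a * x⁻¹ * a⁻¹)) = L.v y := by
    rw [L.v_mul x hx _ hm, L.v_conj a ha _ (Q.inv_mem hx), L.v_inv hx, hvx, h, hw1, hw2, hv,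
      ← add_assoc, ← add_assoc, vadd_self hF, zero_add]
  refine ⟨x, hx, ?_⟩
  rcases (L.v_eq hy (Q.mul_mem hx hm)).1 hu.symm with h1 | h1
  · left; rw [h1]; group
  · right
    have hxz := L.large.comm_z x hx
    calc y * a = x * a * x⁻¹ * a⁻¹ * (z * a) := by rw [h1]; group
      _ = x * a * x⁻¹ * z := by rw [← ha]; group

end LabPart

variable (S : Sys F G)

/-- elements of the coset of a line -/
theorem line_mem {b s : G} (hb : b ∈ S.Z) (hs : s ∈ S.Z) (hsQ : s ∈ S.Q b)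
    (hsb : s ≠ b) {x0 : G} (hx0 : x0 ∈ S.Q s) (hx0b : x0 * b = b * x0) {r1 r2 : Fin 6 → F}
    (h : Over (S.lab b hb) x0 r1 r2) (h10 : r1 ≠ 0) (hne : ∀ c : F, r2 ≠ c • r1)
    {y : G} (hy : y ∈ S.Q b) {c d : F} (hv : (S.lab b hb).v y = c • r1 + d • r2) :
    ∃ s' ∈ S.Z, s' ∈ S.Q b ∧ s' ≠ b ∧ (S.lab b hb).v s' = (S.lab b hb).v s ∧
      y * x0 ∈ S.Q s' := by
  obtain ⟨x, hx, hxy⟩ := exists_conj hx0b h h10 hne hy hv
  have hxb := (S.lab b hb).large.comm_z x hx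
  have hs'Q : x * s * x⁻¹ ∈ S.Q b := (S.Q b).mul_mem ((S.Q b).mul_mem hx hsQ) ((S.Q b).inv_mem hx)
  have hs'Z := S.Z_conj s hs x
  have hs'b : x * s * x⁻¹ ≠ b := by
    intro e
    apply hsb
    have : x * s = b * x := mul_inv_eq_iff_eq_mul.1 e
    rw [← hxb] at this
    exact mul_left_cancel this
  have hm := S.Q_conj s hs x x0 hx0
  refine ⟨x * s * x⁻¹, hs'Z, hs'Q, hs'b, ?_, ?_⟩
  · rw [(S.lab b hb).v_conj x hxb s hsQ, (S.lab b hb).ρ_mem_Q hx]
  · rcases hxy with h1 | h1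
    · rw [h1]; exact hm
    · rw [h1]
      exact (S.Q _).mul_mem hm (S.sym b hb _ hs'Z hs'Q hs'b)

/-- an element of `Z ∩ Q b` with given `S`-label -/
theorem exists_Z (g : Geo F) {b : G} (hb : b ∈ S.Z) {w : Fin 6 → F} (hw : IsS w) :
    ∃ s ∈ S.Z, s ∈ S.Q b ∧ s ≠ b ∧ (S.lab b hb).v s = w := by
  obtain ⟨s, hs, hv⟩ := (S.lab b hb).v_surj w
  refine ⟨s, S.tS b hb s hs (by rw [hv]; exact hw), hs, ?_, hv⟩
  rintro rfl
  rw [(S.lab s hb).v_z] at hv
  exact ((g.S_iff w).1 hw).1 hv.symm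

/-- `K0` in terms of a pair of `R`-vectors -/
theorem K1 (g : Geo F) {b : G} (hb : b ∈ S.Z) {r1 r2 : Fin 6 → F} (p : RPair r1 r2) {c : F}
    (hc : c ≠ 0) : ∃ s ∈ S.Z, s ∈ S.Q b ∧ s ≠ b ∧ (S.lab b hb).v s = c • (r1 + r2) ∧
      ∃ x ∈ S.Q s, x ∈ S.M b ∧ x * x = 1 ∧ Over (S.lab b hb) x r1 r2 ∧
      Good (S.lab b hb) x r1 r2 := by
  have hF := (S.lab b hb).card
  obtain ⟨s, hs, hsQ, hsb, hv⟩ := exists_Z S g hb (S_of_pair hF g p hc hc)
  have h11 := g.iso r1 p.h1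
  have e : c • r1 + (S.lab b hb).v s = c • r2 := by rw [hv, vadd_cancel hF]
  obtain ⟨x, hx1, hx2, hx3, hx4, hx5⟩ := K0 S g hb hs hsQ hsb (r := c • r1)
    (g.smul r1 p.h1 c hc)
    (by rw [hv, H_add_right hF]
        simp only [H_smul_left hF, H_smul_right hF, h11, p.perp, mul_zero, add_zero])
    (by rw [e]; exact g.smul r2 p.h2 c hc)
  rw [e, Over.smul_iff hc hc] at hx4
  rw [e, Good.smul_iff hc hc] at hx5
  exact ⟨s, hs, hsQ, hsb, by rw [hv, smul_add], x, hx1, hx2, hx3, hx4, hx5⟩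

/-- (P1), with all data -/
theorem inM' (g : Geo F) {b : G} (hb : b ∈ S.Z) {a : G} (ha : a ∈ S.M b) (ha2 : a * a = 1)
    {r1 r2 : Fin 6 → F} (p : RPair r1 r2) (hov : Over (S.lab b hb) a r1 r2) :
    ∃ s ∈ S.Z, s ∈ S.Q b ∧ s ≠ b ∧ a ∈ S.Q s ∧
      ∃ c : F, c ≠ 0 ∧ (S.lab b hb).v s = c • (r1 + r2) := by
  obtain ⟨s, hs, hsQ, hsb, hvs, x0, hx0s, hx0M, hx02, hov0, hgood0⟩ :=
    K1 S g hb p (one_ne_zero (α := F))
  set L := S.lab b hb with hL
  have hF := L.card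
  have haz := L.M_comm a ha
  have hx0z := L.M_comm x0 hx0M
  have h10 := g.ne r1 p.h1
  have hyQ : a * x0⁻¹ ∈ S.Q b := mem_Q_of_over haz hx0z hov hov0
  set y := a * x0⁻¹ with hy
  have hay : a = y * x0 := by rw [hy]; group
  -- `v y` is orthogonal to the line
  have hperp : H (L.v y) r1 = 0 ∧ H (L.v y) r2 = 0 := by
    have h1 : y * (x0 * y * x0⁻¹) = 1 := by
      have hx0i : x0⁻¹ = x0 := inv_eq_of_mul_eq_one_left hx02
      calc y * (x0 * y * x0⁻¹) = y * x0 * (y * x0) * (x0⁻¹ * x0⁻¹) := by group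
        _ = a * a * (x0 * x0) := by rw [← hay, hx0i]
        _ = 1 := by rw [ha2, hx02, one_mul]
    have h2 := congrArg L.v h1
    rw [L.v_mul y hyQ _ (L.ρ_surj_aux hx0z hyQ), L.v_conj x0 hx0z y hyQ, hov0, L.v_one,
      ← add_assoc, ← add_assoc, vadd_self hF, zero_add] at h2
    have h3 : H (L.v y) r2 = 0 := by
      by_contra h3
      apply p.ne ((H (L.v y) r2)⁻¹ * H (L.v y) r1)
      rw [vadd_eq_zero hF] at h2
      rw [← smul_smul, h2, smul_smul, inv_mul_cancel₀ h3, one_smul]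
    rw [h3, zero_smul, add_zero] at h2
    exact ⟨(smul_eq_zero.1 h2).resolve_right h10, h3⟩
  obtain ⟨hy1, hy2⟩ := hperp
  have hyy : H (L.v y) (L.v y) = 0 := by
    rw [← L.sq_iff y hyQ]
    have h1 := hgood0 y hyQ hy1 hy2
    calc y * y = y * (x0 * x0) * y := by rw [hx02, mul_one]
      _ = (y * x0) * (x0 * y) := by group
      _ = (y * x0) * (y * x0) := by rw [h1]
      _ = 1 := by rw [← hay, ha2]
  by_cases hline : ∃ c d : F, L.v y = c • r1 + d • r2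
  · obtain ⟨c, d, hcd⟩ := hline
    obtain ⟨s', hs', hs'Q, hs'b, hvs', hm⟩ := line_mem S hb hs hsQ hsb hx0s hx0z hov0 h10 p.ne
      hyQ hcd
    exact ⟨s', hs', hs'Q, hs'b, by rw [hay]; exact hm, 1, one_ne_zero, by rw [← hvs, ← hvs']⟩
  -- the other case
  obtain ⟨k, hk, -⟩ := g.line r1 p.h1 (L.v y) hyy hy1 (fun c hc => hline ⟨c, 0, by
    rw [hc, zero_smul, add_zero]⟩)
  set r3 := L.v y + k • r1 with hr3
  have h31 : H r3 r1 = 0 := by
    rw [hr3, H_add_left hF, H_smul_left hF, hy1, g.iso r1 p.h1, mul_zero, add_zero]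
  have h32 : H r3 r2 = 0 := by
    rw [hr3, H_add_left hF, H_smul_left hF, hy2, p.perp, mul_zero, add_zero]
  have hss : IsS (r1 + r2) := by
    have := S_of_pair hF g p (one_ne_zero (α := F)) (one_ne_zero (α := F))
    rwa [one_smul, one_smul] at this
  obtain ⟨hss0, hssi, hssR⟩ := (g.S_iff _).1 hss
  obtain ⟨k', hk', -⟩ := g.line r3 hk (r1 + r2) hssi
    (by rw [H_add_left hF, H_zero_swap hF h31, H_zero_swap hF h32, add_zero])
    (fun c hc => by
      by_cases hc0 : c = 0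
      · apply hss0; rw [hc, hc0, zero_smul]
      · apply hline
        refine ⟨c⁻¹ + k, c⁻¹, ?_⟩
        have e : r3 = c⁻¹ • (r1 + r2) := by
          rw [hc, smul_smul, inv_mul_cancel₀ hc0, one_smul]
        have e2 : L.v y = r3 + k • r1 := by
          rw [hr3, add_assoc, vadd_self hF, add_zero]
        rw [e2, e, smul_add, add_smul]
        abel)
  have hk'0 : k' ≠ 0 := by
    rintro rfl
    apply hssR
    rwa [zero_smul, add_zero] at hk'
  have hκ : k'⁻¹ ≠ 0 := inv_ne_zero hk'0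
  obtain ⟨t, ht, htQ, htb, hvt, x1, hx1t, hx1M, -, hov1, hgood1⟩ := K1 S g hb p hκ
  rw [← hL] at hvt hov1 hgood1
  have hx1z := L.M_comm x1 hx1M
  have hr4 : IsR (r3 + k'⁻¹ • (r1 + r2)) := by
    have e : r3 + k'⁻¹ • (r1 + r2) = k'⁻¹ • (r1 + r2 + k' • r3) := by
      rw [smul_add k'⁻¹ (r1 + r2), smul_smul, inv_mul_cancel₀ hk'0, one_smul, add_comm]
    rw [e]
    exact g.smul _ hk' _ hκ
  obtain ⟨y2, hy2Q, hy2e, c2, d2, hvy2⟩ := good_diff hx0z hx1z hov0 hov1 hgood0 hgood1 h10 p.ne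
  obtain ⟨y3, hy3, hvy3⟩ := L.v_surj r3
  have hmem : ∀ t', t' ∈ S.Z → t' ∈ S.Q b → t' ≠ b → L.v t' = L.v t → y3 ∈ S.Q t' := by
    intro t' ht' ht'Q ht'b hvt'
    apply S.p2 b hb t' ht' ht'Q ht'b y3 hy3
    · rw [← hL, hvy3]; exact hk
    · rw [← hL, hvy3, hvt', hvt, H_smul_right hF, H_add_right hF, h31, h32, add_zero, mul_zero]
    · rw [← hL, hvy3, hvt', hvt]; exact hr4
  have hu : y3⁻¹ * (y * y2) ∈ S.Q b :=
    (S.Q b).mul_mem ((S.Q b).inv_mem hy3) ((S.Q b).mul_mem hyQ hy2Q)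
  have hvu : L.v (y3⁻¹ * (y * y2)) = (k + c2) • r1 + d2 • r2 := by
    rw [L.v_mul _ ((S.Q b).inv_mem hy3) _ ((S.Q b).mul_mem hyQ hy2Q), L.v_inv hy3,
      L.v_mul y hyQ y2 hy2Q, hvy3, hvy2, hr3]
    have e := vadd_self hF (L.v y)
    calc L.v y + k • r1 + (L.v y + (c2 • r1 + d2 • r2))
        = (L.v y + L.v y) + (k • r1 + (c2 • r1 + d2 • r2)) := by abel
      _ = _ := by rw [e, zero_add, add_smul]; abel
  obtain ⟨t', ht', ht'Q, ht'b, hvt', hm⟩ := line_mem S hb ht htQ htb hx1t hx1z hov1 h10 p.ne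
    hu hvu
  refine ⟨t', ht', ht'Q, ht'b, ?_, k'⁻¹, hκ, ?_⟩
  · have e : a = y3 * (y3⁻¹ * (y * y2) * x1) := by
      rw [hay, hy2e]; group
    rw [e]
    exact (S.Q t').mul_mem (hmem t' ht' ht'Q ht'b hvt') hm
  · rw [← hvt, ← hvt']

/-- (P1) -/
theorem inM (g : Geo F) {b : G} (hb : b ∈ S.Z) {a : G} (ha : a ∈ S.M b) (haQ : a ∉ S.Q b)
    (ha2 : a * a = 1) : ∃ s ∈ S.Z, s ∈ S.Q b ∧ s ≠ b ∧ a ∈ S.Q s := by
  obtain ⟨r1, r2, p, hov⟩ := exists_over g (S.lab b hb) (S.even b hb) ha haQ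
    (by rw [ha2]; exact (S.Q b).one_mem)
  obtain ⟨s, hs, hsQ, hsb, has, -⟩ := inM' S g hb ha ha2 p hov
  exact ⟨s, hs, hsQ, hsb, has⟩

/-- an involution of `Q b` -/
theorem Q_cases (g : Geo F) {b : G} (hb : b ∈ S.Z) {a : G} (ha : a ∈ S.Q b) (ha2 : a * a = 1)
    (ha1 : a ≠ 1) : a ∈ S.Z ∨ (a ∈ S.A ∧ IsR ((S.lab b hb).v a)) := by
  by_cases hab : a = b
  · left; rw [hab]; exact hb
  by_cases hR : IsR ((S.lab b hb).v a)
  · right; exact ⟨S.tR b hb a ha hR, hR⟩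
  · left
    apply S.tS b hb a ha
    rw [g.S_iff]
    refine ⟨?_, ((S.lab b hb).sq_iff a ha).1 ha2, hR⟩
    rw [Ne, (S.lab b hb).v_eq_zero a ha]
    rintro (h | h)
    · exact ha1 h
    · exact hab h

theorem isR_of_A (g : Geo F) {b : G} (hb : b ∈ S.Z) {a : G} (ha : a ∈ S.Q b) (ha2 : a * a = 1)
    (ha1 : a ≠ 1) (hA : a ∈ S.A) : IsR ((S.lab b hb).v a) := by
  rcases Q_cases S g hb ha ha2 ha1 with h | h
  · exact absurd h (S.not_Z a hA)
  · exact h.2

/-- every involution of `M b` lies in `Z` or in `A` -/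
theorem M_cases (g : Geo F) {b : G} (hb : b ∈ S.Z) {a : G} (ha : a ∈ S.M b) (ha2 : a * a = 1)
    (ha1 : a ≠ 1) : a ∈ S.Z ∨ a ∈ S.A := by
  by_cases haQ : a ∈ S.Q b
  · exact (Q_cases S g hb haQ ha2 ha1).imp id And.left
  · obtain ⟨s, hs, -, -, has⟩ := inM S g hb ha haQ ha2
    exact (Q_cases S g hs has ha2 ha1).imp id And.left

/-- (4b) -/
theorem mem_Q_of_A (g : Geo F) {b : G} (hb : b ∈ S.Z) {a : G} (ha : a ∈ S.M b) (ha2 : a * a = 1)
    (hA : a ∈ S.A) (hbA : b * a ∈ S.A) : a ∈ S.Q b := by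
  by_contra haQ
  have hab := (S.lab b hb).M_comm a ha
  have ha1 : a ≠ 1 := fun h => haQ (by rw [h]; exact (S.Q b).one_mem)
  obtain ⟨s, hs, hsQ, hsb, has⟩ := inM S g hb ha haQ ha2
  have hbs := S.sym b hb s hs hsQ hsb
  have hF := (S.lab s hs).card
  have hbb := (S.lab b hb).large.z_sq
  have hR1 := isR_of_A S g hs has ha2 ha1 hA
  have hba2 : b * a * (b * a) = 1 := by
    calc b * a * (b * a) = b * (a * b) * a := by group
      _ = (b * b) * (a * a) := by rw [hab]; group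
      _ = 1 := by rw [hbb, ha2, one_mul]
  have hba1 : b * a ≠ 1 := by
    intro h
    apply haQ
    have : a = b⁻¹ := (eq_inv_of_mul_eq_one_right h)
    rw [this]
    exact (S.Q b).inv_mem (S.lab b hb).large.z_mem
  have hR2 := isR_of_A S g hs ((S.Q s).mul_mem hbs has) hba2 hba1 hbA
  rw [(S.lab s hs).v_mul b hbs a has, add_comm] at hR2
  rcases ((S.lab s hs).comm_iff a has b hbs).1 hab with h | h
  · exact haQ (S.p2 s hs b hb hbs (Ne.symm hsb) a has hR1 h hR2)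
  · have h3 := g.add _ _ hR1 hR2 (by
      rw [H_add_right hF, g.iso _ hR1, h, zero_add])
    rw [vadd_cancel hF] at h3
    exact S.not_Z b (S.tR s hs b hbs h3) hb

/-- an element of `A ∩ M b \ Q b` is `Good`, and its product with `b` is in `Z` -/
theorem good_of_A (g : Geo F) {b : G} (hb : b ∈ S.Z) {a : G} (ha : a ∈ S.M b)
    (haQ : a ∉ S.Q b) (ha2 : a * a = 1) (hA : a ∈ S.A) {r1 r2 : Fin 6 → F}
    (hov : Over (S.lab b hb) a r1 r2) : b * a ∈ S.Z ∧ Good (S.lab b hb) a r1 r2 := by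
  have hab := (S.lab b hb).M_comm a ha
  have hbb := (S.lab b hb).large.z_sq
  have hbM : b ∈ S.M b := (S.lab b hb).Q_le (S.lab b hb).large.z_mem
  have hnA : b * a ∉ S.A := fun h => haQ (mem_Q_of_A S g hb ha ha2 hA h)
  constructor
  · rcases M_cases S g hb ((S.M b).mul_mem hbM ha) (by
      calc b * a * (b * a) = b * (a * b) * a := by group
        _ = (b * b) * (a * a) := by rw [hab]; group
        _ = 1 := by rw [hbb, ha2, one_mul]) (by
      intro h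
      apply haQ
      have : a = b⁻¹ := (eq_inv_of_mul_eq_one_right h)
      rw [this]
      exact (S.Q b).inv_mem (S.lab b hb).large.z_mem) with h | h
    · exact h
    · exact absurd h hnA
  · intro y hy h1 h2
    rcases fix_or hab hov hy h1 h2 with h | h
    · exact h
    · exfalso
      apply hnA
      have e : b * a = y⁻¹ * a * (y⁻¹)⁻¹ := by
        rw [inv_inv, mul_assoc, h]; group
      rw [e]
      exact S.A_conj a hA _

/-- two elements of `A` in the same coset of `Q b` in `M b \ Q b` are conjugate in `Q b` -/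
theorem conj_of_A (g : Geo F) {b : G} (hb : b ∈ S.Z) {a a' : G} (ha : a ∈ S.M b)
    (haQ : a ∉ S.Q b) (hq : a⁻¹ * a' ∈ S.Q b) (ha2 : a * a = 1) (ha2' : a' * a' = 1)
    (hA : a ∈ S.A) (hA' : a' ∈ S.A) : ∃ q ∈ S.Q b, q * a * q⁻¹ = a' := by
  obtain ⟨r1, r2, p, hov⟩ := exists_over g (S.lab b hb) (S.even b hb) ha haQ
    (by rw [ha2]; exact (S.Q b).one_mem)
  set L := S.lab b hb with hL
  have haz := L.M_comm a ha
  have ha'e : a' = a * (a⁻¹ * a') := by group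
  have ha' : a' ∈ S.M b := by rw [ha'e]; exact (S.M b).mul_mem ha (L.Q_le hq)
  have ha'z := L.M_comm a' ha'
  have ha'Q : a' ∉ S.Q b := by
    intro h
    apply haQ
    have : a = a' * (a⁻¹ * a')⁻¹ := by group
    rw [this]
    exact (S.Q b).mul_mem h ((S.Q b).inv_mem hq)
  have hov' : Over L a' r1 r2 := by
    rw [ha'e]; exact over_mul_Q haz hov hq
  have hg := (good_of_A S g hb ha haQ ha2 hA hov).2
  have hg' := good_of_A S g hb ha' ha'Q ha2' hA' hov'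
  have h10 := g.ne r1 p.h1
  obtain ⟨y, hy, hye, c, d, hv⟩ := good_diff ha'z haz hov' hov hg'.2 hg h10 p.ne
  obtain ⟨x, hx, h⟩ := exists_conj haz hov h10 p.ne hy hv
  rcases h with h | h
  · exact ⟨x, hx, by rw [hye, h]⟩
  · exfalso
    apply S.not_Z _ (S.A_conj a hA x)
    have e : x * a * x⁻¹ = b * a' := by
      have e1 : a' = x * a * x⁻¹ * b := by rw [hye, h]
      have hbb := L.large.z_sq
      rw [← ha'z, e1, mul_assoc (x * a * x⁻¹), hbb, mul_one]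
    rw [e]
    exact hg'.1

end Cfsg.Agent.R08.InvP
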