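import Cfsg.Agent.R08.LiftCls
import Cfsg.Agent.S0283

/-!
The centraliser of a lift of a transposition in a perfect double cover of `Fi22` is perfect with
centre of order four.
-/

set_option autoImplicit false

namespace Cfsg.Agent.R08.KPerf

open Cfsg Cfsg.Agent.LieClassical.HermBasic Cfsg.Agent.SporadicStructure.UnitTwo
open Cfsg.Agent.Fischer Cfsg.Agent.R01 Cfsg.Agent.R01.Lifts Cfsg.Agent.R01.FiFusion
  Cfsg.Agent.R01.FiFacts Cfsg.Agent.R01.FiHexad Cfsg.Agent.R01.FiMain Cfsg.Agent.R01.InvForm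
  Cfsg.Agent.R01.Label
open Cfsg.Agent.R01.Start (zel)
open Cfsg.Agent.R01.Loc (Loc)
open Cfsg.Agent.R01.AllOfLab (HasBaer Fr3.comb)
open Cfsg.Agent.R08.AutT (T tFacts hfix aut_mem)
open Cfsg.Agent.R08.LiftCls
open scoped commutatorElement

section geo

universe u v

variable {P : Type u} [Group P] [Finite P] {F : Type v} [Field F] [Fintype F]
  {hF : Fintype.card F = 2 ^ 2} {T : Set P}

/-- A hexad and a further member commuting with all its members. -/
theorem exists_hex_comm (hL : Loc hF T) {t : P} (ht : t ∈ T) :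
    ∃ d ∈ T, ∃ x : Fin 6 → P, (∀ i, x i ≠ d ∧ x i * d = d * x i) ∧
      Hex T (x 0) (x 1) (x 2) (x 3) (x 4) (x 5) := by
  obtain ⟨π, lift, L, hiff⟩ := hL t ht
  obtain ⟨u, v, w, h, -⟩ := Assembly2.hasBaer L
  obtain ⟨ω, hω⟩ := exists_omega hF
  have h21 := two_eq_zero hF
  have hω0 : ω ≠ 0 := by
    rintro rfl
    simp at hω
  have hω1 : ω ≠ 1 := by
    rintro rfl
    have : (1 : F) = 0 := by linear_combination hω - h21
    exact one_ne_zero this
  have w2 : ω ^ 2 ≠ 1 := by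
    intro h
    rw [h] at hω
    exact hω0 (by linear_combination hω - h21)
  have w3 : ω ≠ ω ^ 2 := by
    intro h
    rw [← h] at hω
    have : (1 : F) = 0 := by linear_combination hω - ω * h21
    exact one_ne_zero this
  set V : F → F → F → (Fin 6 → F) := fun a b c => a • u + b • v + c • w with hV
  have hherm : ∀ a b c a' b' c', hermForm 6 F 2 (V a b c) (V a' b' c') = 0 := fun a b c a' b' c' =>
    Fr3.comb hF h a b c a' b' c'
  have hV0 : ∀ a b c, (a ≠ 0 ∨ b ≠ 0 ∨ c ≠ 0) → V a b c ≠ 0 := by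
    intro a b c h0 h1
    obtain ⟨h2, h3, h4⟩ := h.ind a b c h1
    rcases h0 with h0 | h0 | h0
    · exact h0 h2
    · exact h0 h3
    · exact h0 h4
  have hne : ∀ a b c a' b' c', (a ≠ 0 ∨ b ≠ 0 ∨ c ≠ 0) → (a' ≠ 0 ∨ b' ≠ 0 ∨ c' ≠ 0) →
      (∀ k : F, a' = k * a → b' = k * b → c' = k * c → False) →
      lift (V a b c) ≠ lift (V a' b' c') := by
    intro a b c a' b' c' n1 n2 h5 h6
    obtain ⟨k, -, hk⟩ := (L.lift_eq_iff (hherm _ _ _ _ _ _) (hherm _ _ _ _ _ _)
      (hV0 _ _ _ n1) (hV0 _ _ _ n2)).1 h6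
    have h7 : (a' - k * a) • u + (b' - k * b) • v + (c' - k * c) • w = 0 := by
      have : (a' - k * a) • u + (b' - k * b) • v + (c' - k * c) • w = V a' b' c' - k • V a b c := by
        rw [hV]; module
      rw [this, hk, sub_self]
    obtain ⟨h8, h9, h10⟩ := h.ind _ _ _ h7
    exact h5 k (sub_eq_zero.1 h8) (sub_eq_zero.1 h9) (sub_eq_zero.1 h10)
  have hD : ∀ a b c, (a ≠ 0 ∨ b ≠ 0 ∨ c ≠ 0) → lift (V a b c) ∈ Dset lift := fun a b c hh =>
    Lab.mem_D (hV0 a b c hh) (hherm a b c a b c)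
  have hcm : ∀ a b c a' b' c', (a ≠ 0 ∨ b ≠ 0 ∨ c ≠ 0) → (a' ≠ 0 ∨ b' ≠ 0 ∨ c' ≠ 0) →
      Commute (lift (V a b c) : P) (lift (V a' b' c') : P) := by
    intro a b c a' b' c' hh hh'
    exact AllOfLab.comm_coe.mp ((L.commute_iff (hherm _ _ _ _ _ _) (hherm _ _ _ _ _ _)
      (hV0 _ _ _ hh) (hV0 _ _ _ hh')).2 (hherm _ _ _ _ _ _))
  have hsub : ∀ {x y : Subgroup.centralizer ({t} : Set P)}, x ≠ y → (x : P) ≠ (y : P) :=
    fun h h' => h (Subtype.ext h')
  have hT' : ∀ w ∈ Dset lift, (w : P) ∈ T := fun w hw => (hiff w).2 (Or.inr hw)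
  have nez : ∀ w ∈ Dset lift, t ≠ (w : P) := by
    intro w hw h
    have : w = zel t := Subtype.ext h.symm
    rw [this] at hw
    exact L.z_notMem hw
  have hzc : ∀ w : Subgroup.centralizer ({t} : Set P), Commute t (w : P) := fun w =>
    AllOfLab.zel_comm w
  have e1 : u = V 1 0 0 := by rw [hV]; module
  have e2 : v = V 0 1 0 := by rw [hV]; module
  have e3 : u + v = V 1 1 0 := by rw [hV]; module
  have e4 : ω • u + v = V ω 1 0 := by rw [hV]; module
  have e5 : ω ^ 2 • u + v = V (ω ^ 2) 1 0 := by rw [hV]; module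
  have o1 : (1 : F) ≠ 0 ∨ (0 : F) ≠ 0 ∨ (0 : F) ≠ 0 := Or.inl one_ne_zero
  have o2 : (0 : F) ≠ 0 ∨ (1 : F) ≠ 0 ∨ (0 : F) ≠ 0 := Or.inr (Or.inl one_ne_zero)
  have o3 : (1 : F) ≠ 0 ∨ (1 : F) ≠ 0 ∨ (0 : F) ≠ 0 := Or.inl one_ne_zero
  have o4 : ω ≠ 0 ∨ (1 : F) ≠ 0 ∨ (0 : F) ≠ 0 := Or.inl hω0
  have o5 : ω ^ 2 ≠ 0 ∨ (1 : F) ≠ 0 ∨ (0 : F) ≠ 0 := Or.inr (Or.inl one_ne_zero)
  have o6 : (0 : F) ≠ 0 ∨ (0 : F) ≠ 0 ∨ (1 : F) ≠ 0 := Or.inr (Or.inr one_ne_zero)
  have hnot : ¬ ∃ c : F, v = c • u := by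
    rintro ⟨c, hc⟩
    have := (h.ind (-c) 1 0 (by rw [hc]; module)).2.1
    exact one_ne_zero this
  have hline := L.line u v (by rw [e1]; exact hV0 _ _ _ o1) (by rw [e2]; exact hV0 _ _ _ o2)
    h.uu h.vv h.uv hnot ω hω
  rw [e3, e4, e5] at hline
  -- the members
  set x : Fin 6 → P := ![t, (lift u : P), (lift v : P), (lift (V 1 1 0) : P),
    (lift (V ω 1 0) : P), (lift (V (ω ^ 2) 1 0) : P)] with hx
  have d1 := hD _ _ _ o1
  have d2 := hD _ _ _ o2
  have d3 := hD _ _ _ o3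
  have d4 := hD _ _ _ o4
  have d5 := hD _ _ _ o5
  have d6 := hD _ _ _ o6
  have q12 := hsub (hne _ _ _ _ _ _ o1 o2 (fun k h1 h2 _ => by simp at h2))
  have q13 := hsub (hne _ _ _ _ _ _ o1 o3 (fun k h1 h2 _ => by simp at h2))
  have q14 := hsub (hne _ _ _ _ _ _ o1 o4 (fun k h1 h2 _ => by simp at h2))
  have q15 := hsub (hne _ _ _ _ _ _ o1 o5 (fun k h1 h2 _ => by simp at h2))
  have q16 := hsub (hne _ _ _ _ _ _ o6 o1 (fun k h1 h2 _ => by simp at h1))
  have q23 := hsub (hne _ _ _ _ _ _ o2 o3 (fun k h1 h2 _ => by simp at h1))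
  have q24 := hsub (hne _ _ _ _ _ _ o2 o4 (fun k h1 h2 _ => by simp at h1; exact hω0 h1))
  have q25 := hsub (hne _ _ _ _ _ _ o2 o5 (fun k h1 h2 _ => by simp at h1; exact hω0 h1))
  have q26 := hsub (hne _ _ _ _ _ _ o6 o2 (fun k h1 h2 _ => by simp at h2))
  have q34 := hsub (hne _ _ _ _ _ _ o3 o4 (fun k h1 h2 _ => hω1 (by
    rw [h1]; linear_combination -h2)))
  have q35 := hsub (hne _ _ _ _ _ _ o3 o5 (fun k h1 h2 _ => w2 (by
    rw [h1]; linear_combination -h2)))
  have q36 := hsub (hne _ _ _ _ _ _ o6 o3 (fun k h1 h2 _ => by simp at h2))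
  have q45 := hsub (hne _ _ _ _ _ _ o4 o5 (fun k h1 h2 _ => w3 (by
    have hk : k = 1 := by linear_combination -h2
    rw [hk, one_mul] at h1
    exact h1.symm)))
  have q46 := hsub (hne _ _ _ _ _ _ o6 o4 (fun k h1 h2 _ => by simp at h2))
  have q56 := hsub (hne _ _ _ _ _ _ o6 o5 (fun k h1 h2 _ => by simp at h2))
  have c12 := hcm _ _ _ _ _ _ o1 o2
  have c13 := hcm _ _ _ _ _ _ o1 o3
  have c14 := hcm _ _ _ _ _ _ o1 o4
  have c15 := hcm _ _ _ _ _ _ o1 o5
  have c16 := hcm _ _ _ _ _ _ o1 o6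
  have c23 := hcm _ _ _ _ _ _ o2 o3
  have c24 := hcm _ _ _ _ _ _ o2 o4
  have c25 := hcm _ _ _ _ _ _ o2 o5
  have c26 := hcm _ _ _ _ _ _ o2 o6
  have c34 := hcm _ _ _ _ _ _ o3 o4
  have c35 := hcm _ _ _ _ _ _ o3 o5
  have c36 := hcm _ _ _ _ _ _ o3 o6
  have c45 := hcm _ _ _ _ _ _ o4 o5
  have c46 := hcm _ _ _ _ _ _ o4 o6
  have c56 := hcm _ _ _ _ _ _ o5 o6
  rw [← e1] at d1 q12 q13 q14 q15 q16 c12 c13 c14 c15 c16
  rw [← e2] at d2 q12 q23 q24 q25 q26 c12 c23 c24 c25 c26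
  refine ⟨(lift (V 0 0 1) : P), hT' _ d6, x, ?_, ?_⟩
  · intro i
    fin_cases i
    · exact ⟨nez _ d6, (hzc _).eq⟩
    · exact ⟨q16.symm, c16.eq⟩
    · exact ⟨q26.symm, c26.eq⟩
    · exact ⟨q36.symm, c36.eq⟩
    · exact ⟨q46.symm, c46.eq⟩
    · exact ⟨q56.symm, c56.eq⟩
  · show Hex T t (lift u : P) (lift v : P) (lift (V 1 1 0) : P) (lift (V ω 1 0) : P)
      (lift (V (ω ^ 2) 1 0) : P)
    exact
      { t := ⟨ht, hT' _ d1, hT' _ d2, nez _ d1, nez _ d2, q12, (hzc _).eq, (hzc _).eq, c12.eq⟩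
        t' := ⟨hT' _ d3, hT' _ d4, hT' _ d5, q34, q35, q45, c34.eq, c35.eq, c45.eq⟩
        aa := nez _ d3, ab := nez _ d4, ac := nez _ d5
        ba := q13, bb := q14, bc := q15, ca := q23, cb := q24, cc := q25
        caa := (hzc _).eq, cab := (hzc _).eq, cac := (hzc _).eq
        cba := c13.eq, cbb := c14.eq, cbc := c15.eq
        cca := c23.eq, ccb := c24.eq, ccc := c25.eq
        prod := by
          have h4 : zel t * lift u * lift v * (lift (V 1 1 0) * lift (V ω 1 0) *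
              lift (V (ω ^ 2) 1 0)) = 1 := by
            calc zel t * lift u * lift v * (lift (V 1 1 0) * lift (V ω 1 0) *
                  lift (V (ω ^ 2) 1 0)) = zel t * (lift u * lift v * lift (V 1 1 0) *
                    lift (V ω 1 0) * lift (V (ω ^ 2) 1 0)) := by group
              _ = 1 := by rw [hline, L.ext.zz]
          exact congrArg Subtype.val h4 }

omit [Finite P] in
/-- Hexads are preserved by automorphisms preserving `T`. -/
theorem Hex.mapc {a b c a' b' c' : P} (H : Hex T a b c a' b' c') (β : P ≃* P)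
    (hβ : ∀ t ∈ T, β t ∈ T) : Hex T (β a) (β b) (β c) (β a') (β b') (β c') := by
  have n : ∀ {x y : P}, x ≠ y → β x ≠ β y := fun h h' => h (β.injective h')
  have m : ∀ {x y : P}, x * y = y * x → β x * β y = β y * β x := fun h => by
    rw [← map_mul, h, map_mul]
  obtain ⟨⟨m1, m2, m3, n1, n2, n3, c1, c2, c3⟩, ⟨m1', m2', m3', n1', n2', n3', c1', c2', c3'⟩,
    k1, k2, k3, k4, k5, k6, k7, k8, k9, l1, l2, l3, l4, l5, l6, l7, l8, l9, hp⟩ := H
  exact ⟨⟨hβ _ m1, hβ _ m2, hβ _ m3, n n1, n n2, n n3, m c1, m c2, m c3⟩,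
    ⟨hβ _ m1', hβ _ m2', hβ _ m3', n n1', n n2', n n3', m c1', m c2', m c3'⟩,
    n k1, n k2, n k3, n k4, n k5, n k6, n k7, n k8, n k9, m l1, m l2, m l3, m l4, m l5, m l6,
    m l7, m l8, m l9, by rw [← map_mul, ← map_mul, ← map_mul, ← map_mul, ← map_mul, hp, map_one]⟩

end geo

/-- Every transposition of `Fi22` commutes with all the members of a hexad not containing it. -/
theorem exists_hex {d : Spor.Fi22} (hd : d ∈ T) :
    ∃ x : Fin 6 → Spor.Fi22, (∀ i, x i ≠ d ∧ x i * d = d * x i) ∧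
      Hex T (x 0) (x 1) (x 2) (x 3) (x 4) (x 5) := by
  obtain ⟨d', hd', x, h1, h2⟩ := exists_hex_comm Fi22Facts.loc hd
  obtain ⟨g, rfl⟩ := tFacts.trans d' hd' d hd
  refine ⟨fun i => g * x i * g⁻¹, fun i => ⟨?_, ?_⟩, ?_⟩
  · intro h
    exact (h1 i).1 (mul_left_cancel (mul_right_cancel h))
  · calc g * x i * g⁻¹ * (g * d' * g⁻¹) = g * (x i * d') * g⁻¹ := by group
      _ = g * (d' * x i) * g⁻¹ := by rw [(h1 i).2]
      _ = g * d' * g⁻¹ * (g * x i * g⁻¹) := by group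
  · exact Hex.mapc h2 (MulAut.conj g) (fun t ht => tFacts.conj g t ht)

variable {C : Type*} [Group C] {π : C →* Spor.Fi22} {z : C} {D : Set C}

/-- The centraliser of a transposition is perfect. -/
theorem perf_cent {d : Spor.Fi22} (hd : d ∈ T) :
    commutator (Subgroup.centralizer ({d} : Set Spor.Fi22)) = ⊤ := by
  obtain ⟨π, lift, L, -⟩ := Fi22Facts.loc d hd
  exact L.perf

/-- The homomorphism between the centralisers. -/
def centHom (π : C →* Spor.Fi22) (d : C) : Subgroup.centralizer ({d} : Set C) →*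
    Subgroup.centralizer ({π d} : Set Spor.Fi22) where
  toFun c := ⟨π (c : C), by
    rw [Subgroup.mem_centralizer_singleton_iff, ← map_mul, ← map_mul,
      Subgroup.mem_centralizer_singleton_iff.1 c.2]⟩
  map_one' := Subtype.ext (map_one π)
  map_mul' a b := Subtype.ext (map_mul π (a : C) (b : C))

theorem centHom_surj (h : Cls π z D) {d : C} (hd : d ∈ D) :
    Function.Surjective (centHom π d) := by
  rintro ⟨x, hx⟩
  obtain ⟨c, rfl⟩ := h.ext.surj x
  have h1 : Commute c d := h.comm' d c (h.bij.1 hd)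
    (Subgroup.mem_centralizer_singleton_iff.1 hx)
  exact ⟨⟨c, Subgroup.mem_centralizer_singleton_iff.2 h1.eq⟩, rfl⟩

/-- **The centraliser of a lift is perfect.** -/
theorem perf (h : Cls π z D) {d : C} (hd : d ∈ D) :
    commutator (Subgroup.centralizer ({d} : Set C)) = ⊤ := by
  have L := h.lifted
  set K := Subgroup.centralizer ({d} : Set C) with hK
  -- `z` lies in the commutator subgroup
  have hzK : z ∈ K := Subgroup.mem_centralizer_singleton_iff.2 (h.ext.comm d).symm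
  have hz : (⟨z, hzK⟩ : K) ∈ commutator K := by
    obtain ⟨x, hx, hH⟩ := exists_hex (h.bij.1 hd)
    have hxT : ∀ i, x i ∈ T := by
      intro i
      fin_cases i
      · exact hH.t.mx
      · exact hH.t.my
      · exact hH.t.mw
      · exact hH.t'.mx
      · exact hH.t'.my
      · exact hH.t'.mw
    have : ∀ i, ∃ y ∈ D, π y = x i := fun i => h.bij.2.2 (hxT i)
    choose y hyD hy using this
    have hyK : ∀ i, y i ∈ K := fun i => Subgroup.mem_centralizer_singleton_iff.2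
      (L.comm _ (hyD i) _ hd (by rw [hy]; exact (hx i).2))
    have hprod : y 0 * y 1 * y 2 * (y 3 * y 4 * y 5) = z :=
      h.sign _ (hyD 0) _ (hyD 1) _ (hyD 2) _ (hyD 3) _ (hyD 4) _ (hyD 5) (by
        rw [hy, hy, hy, hy, hy, hy]; exact hH)
    have hcl : ∀ i, ∃ k : K, k * ⟨y 0, hyK 0⟩ * k⁻¹ = ⟨y i, hyK i⟩ := by
      intro i
      obtain ⟨g, hg1, hg2⟩ := Fi22Facts.trans_commuting (π d) (h.bij.1 hd) (x 0) (hxT 0) (π d)
        (h.bij.1 hd) (x i) (hxT i) (hx 0).1.symm (hx i).1.symm (hx 0).2.symm (hx i).2.symm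
      obtain ⟨c, rfl⟩ := h.ext.surj g
      have h1 : c * d * c⁻¹ = d := conj_eq L hd hd hg1
      have h2 : c * y 0 * c⁻¹ = y i := conj_eq L (hyD 0) (hyD i) (by rw [hy, hy]; exact hg2)
      refine ⟨⟨c, Subgroup.mem_centralizer_singleton_iff.2 (mul_inv_eq_iff_eq_mul.1 h1)⟩, ?_⟩
      exact Subtype.ext h2
    rw [← Abelianization.ker_of, MonoidHom.mem_ker]
    set ε := Abelianization.of (⟨y 0, hyK 0⟩ : K) with hε
    have hall : ∀ i, Abelianization.of (⟨y i, hyK i⟩ : K) = ε := by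
      intro i
      obtain ⟨k, hk⟩ := hcl i
      rw [← hk, map_mul, map_mul, map_inv, mul_comm (Abelianization.of k), mul_inv_cancel_right]
    have hεε : ε * ε = 1 := by
      rw [hε, ← map_mul]
      have : (⟨y 0, hyK 0⟩ : K) * ⟨y 0, hyK 0⟩ = 1 := Subtype.ext (L.sq _ (hyD 0))
      rw [this, map_one]
    have hzp : (⟨z, hzK⟩ : K) = ⟨y 0, hyK 0⟩ * ⟨y 1, hyK 1⟩ * ⟨y 2, hyK 2⟩ *
        (⟨y 3, hyK 3⟩ * ⟨y 4, hyK 4⟩ * ⟨y 5, hyK 5⟩) := Subtype.ext hprod.symm
    rw [hzp]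
    simp only [map_mul, hall]
    calc ε * ε * ε * (ε * ε * ε) = (ε * ε) * (ε * (ε * ε) * ε) := by
          simp only [mul_assoc]
      _ = 1 := by rw [hεε, mul_one, hεε, one_mul]
  -- the images
  have hmap : Subgroup.map (centHom π d) (commutator K) = ⊤ := by
    rw [commutator_def, Subgroup.map_commutator]
    have h1 : Subgroup.map (centHom π d) ⊤ = ⊤ := by
      rw [← MonoidHom.range_eq_map]
      exact MonoidHom.range_eq_top.2 (centHom_surj h hd)
    rw [h1, ← commutator_def]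
    exact perf_cent (h.bij.1 hd)
  rw [eq_top_iff]
  intro k _
  have h1 : centHom π d k ∈ Subgroup.map (centHom π d) (commutator K) := by rw [hmap]; trivial
  obtain ⟨n, hn, hnk⟩ := h1
  have h2 : π (n : C) = π (k : C) := congrArg Subtype.val hnk
  rcases h.ext.map_eq.1 h2 with h3 | h3
  · have : n = k := Subtype.ext h3
    rwa [← this]
  · have h4 : k = n * ⟨z, hzK⟩ := by
      apply Subtype.ext
      show (k : C) = n * z
      rw [h3, h.ext.mul_z_mul_z]
    rw [h4]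
    exact Subgroup.mul_mem _ hn hz

/-- The centre of the centraliser of a transposition in `Fi22`. -/
theorem center_cent {d : Spor.Fi22} (hd : d ∈ T) {x : Spor.Fi22} (hx : x * d = d * x)
    (hxc : ∀ y : Spor.Fi22, y * d = d * y → x * y = y * x) : x = 1 ∨ x = d := by
  obtain ⟨π, lift, L, -⟩ := Fi22Facts.loc d hd
  have hsimple : IsSimpleGroup (PSU 6 SporRec.GF4.F4 2) :=
    Cfsg.Agent.S0283.result (q := 2) Unit22.hF 6 (by norm_num) (by norm_num)
  set x' : Subgroup.centralizer ({d} : Set Spor.Fi22) :=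
    ⟨x, Subgroup.mem_centralizer_singleton_iff.2 hx⟩ with hx'
  have h1 : π x' ∈ Subgroup.center (PSU 6 SporRec.GF4.F4 2) := by
    rw [Subgroup.mem_center_iff]
    intro y
    obtain ⟨c, rfl⟩ := L.ext.surj y
    rw [← map_mul, ← map_mul]
    congr 1
    exact Subtype.ext (hxc c (Subgroup.mem_centralizer_singleton_iff.1 c.2)).symm
  have h2 : Subgroup.center (PSU 6 SporRec.GF4.F4 2) = ⊥ := by
    rcases Subgroup.Normal.eq_bot_or_eq_top
      (inferInstance : (Subgroup.center (PSU 6 SporRec.GF4.F4 2)).Normal) with h | h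
    · exact h
    · exfalso
      have h3 : commutator (PSU 6 SporRec.GF4.F4 2) = ⊥ := by
        rw [commutator_eq_bot_iff_center_eq_top]; exact h
      have h4 : commutator (PSU 6 SporRec.GF4.F4 2) = ⊤ := by
        rw [eq_top_iff]
        intro y _
        obtain ⟨c, rfl⟩ := L.ext.surj y
        have hc : c ∈ commutator _ := by rw [L.perf]; trivial
        have h5 : Subgroup.map π (commutator _) ≤ commutator (PSU 6 SporRec.GF4.F4 2) := by
          rw [commutator_def, commutator_def, Subgroup.map_commutator]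
          exact Subgroup.commutator_mono le_top le_top
        exact h5 ⟨c, hc, rfl⟩
      rw [h3] at h4
      exact bot_ne_top h4
  rw [h2, Subgroup.mem_bot] at h1
  rcases (L.ext.ker _).1 h1 with h3 | h3
  · left; exact congrArg Subtype.val h3
  · right; exact congrArg Subtype.val h3

/-- The centre of the centraliser of a lift of a transposition. -/
theorem center (h : Cls π z D) {d : C} (hd : d ∈ D) {x : C} (hx : x * d = d * x)
    (hxc : ∀ y : C, y * d = d * y → x * y = y * x) : x = 1 ∨ x = z ∨ x = d ∨ x = d * z := by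
  have h1 : π x = 1 ∨ π x = π d := by
    apply center_cent (h.bij.1 hd)
    · rw [← map_mul, hx, map_mul]
    · intro y hy
      obtain ⟨c, rfl⟩ := h.ext.surj y
      have h2 : Commute c d := h.comm' d c (h.bij.1 hd) hy
      rw [← map_mul, hxc c h2.eq, map_mul]
  rcases h1 with h1 | h1
  · rcases (h.ext.ker _).1 h1 with h2 | h2
    · exact Or.inl h2
    · exact Or.inr (Or.inl h2)
  · rcases h.ext.map_eq.1 h1 with h2 | h2
    · exact Or.inr (Or.inr (Or.inl h2))
    · exact Or.inr (Or.inr (Or.inr h2))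

end Cfsg.Agent.R08.KPerf
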