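import Cfsg.Agent.R01.GlueFull

/-!
LEMMA V (abstract form): an automorphism of `2.Fi22` preserving a class `D` of lifts of the 3-transpositions is
inner.
-/

set_option autoImplicit false
set_option linter.unusedSectionVars false

namespace Cfsg.Agent.R08.LemmaV

open Cfsg Cfsg.Agent.LieClassical.HermBasic Cfsg.Agent.R01.HermRigid Cfsg.Agent.R01.HermPlane
  Cfsg.Agent.R01.InvForm

variable {C : Type*} [Group C] {D : Set C}

/-- The members of `D` commuting with `a` and different from `a`. -/
def Nb (D : Set C) (a : C) : Set C := {y | y ∈ D ∧ Commute y a ∧ y ≠ a}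

/-- A set of 3-transpositions. -/
structure Class3 (D : Set C) : Prop where
  conj : ∀ c : C, ∀ x ∈ D, c * x * c⁻¹ ∈ D
  sq : ∀ x ∈ D, x * x = 1
  three : ∀ x ∈ D, ∀ y ∈ D, x * y = y * x ∨ (x * y) ^ 3 = 1

theorem Class3.inv (h : Class3 D) {x : C} (hx : x ∈ D) : x⁻¹ = x :=
  inv_eq_of_mul_eq_one_left (h.sq x hx)

theorem Class3.conj' (h : Class3 D) {c x : C} (hc : c ∈ D) (hx : x ∈ D) : c * x * c ∈ D := by
  have := h.conj c x hx
  rwa [h.inv hc] at this

theorem Class3.braid (h : Class3 D) {x y : C} (hx : x ∈ D) (hy : y ∈ D) (hxy : ¬ Commute x y) :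
    x * y * x = y * x * y := by
  have h3 := (h.three x hx y hy).resolve_left hxy
  have h4 : x * y * x * (y * x * y) = 1 := by
    rw [← h3, pow_succ, pow_two]; group
  rw [eq_inv_of_mul_eq_one_left h4, mul_inv_rev, mul_inv_rev, h.inv hx, h.inv hy, mul_assoc]

theorem Class3.cancel (h : Class3 D) {x : C} (hx : x ∈ D) (y : C) : x * (x * y) = y := by
  rw [← mul_assoc, h.sq x hx, one_mul]

/-- If `y` commutes with `a e` (`a, e` different noncommuting) then it commutes with `a`. -/
theorem Class3.commute_of_commute_mul (h : Class3 D) {a e y : C} (ha : a ∈ D) (he : e ∈ D)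
    (hy : y ∈ D) (hae : ¬ Commute a e) (hc : Commute y (a * e)) : Commute y a := by
  by_contra hya
  have h3 := (h.three y hy a ha).resolve_left hya
  have e3 := (h.three a ha e he).resolve_left hae
  have ia := h.inv ha
  have ie := h.inv he
  have iy := h.inv hy
  -- `y a` inverts `a e`
  have h1 : (y * a) * (a * e) * (y * a)⁻¹ = (a * e)⁻¹ := by
    have h2 : a * (a * e) * a = (a * e)⁻¹ := by
      rw [mul_inv_rev, ia, ie, h.cancel ha]
    have h4 : y * (a * e)⁻¹ * y = (a * e)⁻¹ := by
      have h5 := hc.inv_right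
      rw [h5.eq, mul_assoc, h.sq y hy, mul_one]
    calc (y * a) * (a * e) * (y * a)⁻¹ = y * (a * (a * e) * a⁻¹) * y⁻¹ := by group
      _ = y * (a * (a * e) * a) * y := by rw [ia, iy]
      _ = (a * e)⁻¹ := by rw [h2, h4]
  have h2 : (y * a) * (a * e)⁻¹ * (y * a)⁻¹ = a * e := by
    calc (y * a) * (a * e)⁻¹ * (y * a)⁻¹ = ((y * a) * (a * e) * (y * a)⁻¹)⁻¹ := by group
      _ = a * e := by rw [h1, inv_inv]
  have h4 : (a * e)⁻¹ = a * e := by
    calc (a * e)⁻¹ = (y * a) * (a * e) * (y * a)⁻¹ := h1.symm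
      _ = (y * a) * ((y * a) * (a * e)⁻¹ * (y * a)⁻¹) * (y * a)⁻¹ := by rw [h2]
      _ = (y * a) * ((y * a) * ((y * a) * (a * e) * (y * a)⁻¹) * (y * a)⁻¹) * (y * a)⁻¹ := by
          rw [h1]
      _ = (y * a) ^ 3 * (a * e) * ((y * a) ^ 3)⁻¹ := by
          rw [pow_succ, pow_two]; group
      _ = a * e := by rw [h3]; group
  apply hae
  rw [mul_inv_rev, ia, ie] at h4
  exact h4.symm

section Two

variable {a : C} (φ : C ≃* C)

/-- The value of `φ` on the noncommuting members is constant. -/
theorem Class3.const (h : Class3 D) (ha : a ∈ D) (hfa : φ a = a)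
    (hfix : ∀ y ∈ D, Commute y a → φ y = y)
    (hloc : ∀ e ∈ D, ¬ Commute e a → φ e = e ∨ φ e = a * e * a)
    {e y : C} (he : e ∈ D) (hy : y ∈ D) (hea : ¬ Commute e a) (hya : ¬ Commute y a)
    (h1 : φ e = e) (h2 : φ y = a * y * a) : False := by
  have ia := h.inv ha
  have ie := h.inv he
  have iy := h.inv hy
  have hae : ¬ Commute a e := fun h => hea h.symm
  have hay : ¬ Commute a y := fun h => hya h.symm
  have hyne : a * y * a ≠ y := by
    intro h3
    apply hya
    change y * a = a * y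
    calc y * a = (a * y * a) * a := by rw [h3]
      _ = a * y * (a * a) := by group
      _ = a * y := by rw [h.sq a ha, mul_one]
  by_cases hc : Commute e y
  · -- commuting case
    have h3 : Commute e (a * y * a) := by
      have := hc.map φ
      rwa [h1, h2] at this
    rw [h.braid ha hy hay] at h3
    apply hea
    have h4 : Commute e (y * (y * a * y) * y) := (hc.mul_right h3).mul_right hc
    have h5 : y * (y * a * y) * y = a := by
      calc y * (y * a * y) * y = (y * y) * a * (y * y) := by group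
        _ = a := by rw [h.sq y hy, one_mul, mul_one]
    rwa [h5] at h4
  · have hf : e * y * e ∈ D := h.conj' he hy
    have h3 : φ (e * y * e) = e * (a * y * a) * e := by
      rw [map_mul, map_mul, h1, h2]
    have h4 : φ (e * y * e) ≠ e * y * e := by
      intro h5
      rw [h3] at h5
      apply hyne
      exact mul_left_cancel (mul_right_cancel h5)
    by_cases hfa' : Commute (e * y * e) a
    · exact h4 (hfix _ hf hfa')
    rcases hloc _ hf hfa' with h5 | h5
    · exact h4 h5
    · rw [h3] at h5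
      -- `y` commutes with `a e`
      have h6 : Commute y (a * e) := by
        have h7 : (e * a) * y * (e * a)⁻¹ = (a * e) * y * (a * e)⁻¹ := by
          rw [mul_inv_rev, mul_inv_rev, ia, ie]
          calc e * a * y * (a * e) = e * (a * y * a) * e := by group
            _ = a * (e * y * e) * a := h5
            _ = a * e * y * (e * a) := by group
        have e3 := (h.three a ha e he).resolve_left hae
        have h8 : (a * e)⁻¹ * (e * a) = a * e := by
          have h9 : (a * e) * (a * e) * (a * e) = 1 := by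
            rw [← e3, pow_succ, pow_two]
          have h10 : (a * e)⁻¹ = e * a := by rw [mul_inv_rev, ia, ie]
          rw [← h10]
          calc (a * e)⁻¹ * (a * e)⁻¹ = (a * e)⁻¹ * (a * e)⁻¹ * ((a * e) * (a * e) * (a * e)) := by
                rw [h9, mul_one]
            _ = a * e := by group
        have h11 : ((a * e)⁻¹ * (e * a)) * y * ((a * e)⁻¹ * (e * a))⁻¹ = y := by
          calc ((a * e)⁻¹ * (e * a)) * y * ((a * e)⁻¹ * (e * a))⁻¹
              = (a * e)⁻¹ * ((e * a) * y * (e * a)⁻¹) * (a * e) := by group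
            _ = (a * e)⁻¹ * ((a * e) * y * (a * e)⁻¹) * (a * e) := by rw [h7]
            _ = y := by group
        rw [h8] at h11
        change y * (a * e) = (a * e) * y
        calc y * (a * e) = ((a * e) * y * (a * e)⁻¹) * (a * e) := by rw [h11]
          _ = (a * e) * y := by group
      exact hya (h.commute_of_commute_mul ha he hy hae h6)

/-- The alternative on all of `D`. -/
theorem Class3.alt (h : Class3 D) (ha : a ∈ D) (hfa : φ a = a)
    (hfix : ∀ y ∈ D, Commute y a → φ y = y)
    (hloc : ∀ e ∈ D, ¬ Commute e a → φ e = e ∨ φ e = a * e * a) :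
    (∀ y ∈ D, φ y = y) ∨ (∀ y ∈ D, φ y = a * y * a) := by
  by_cases hex : ∃ e ∈ D, ¬ Commute e a ∧ φ e = e
  · obtain ⟨e, he, hea, h1⟩ := hex
    left
    intro y hy
    by_cases hya : Commute y a
    · exact hfix y hy hya
    · rcases hloc y hy hya with h2 | h2
      · exact h2
      · exact (h.const φ ha hfa hfix hloc he hy hea hya h1 h2).elim
  · push Not at hex
    right
    intro y hy
    by_cases hya : Commute y a
    · rw [hfix y hy hya, ← hya.eq, mul_assoc, h.sq a ha, mul_one]
    · exact (hloc y hy hya).resolve_left (hex y hy hya)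

end Two

/-- Transport of labels by conjugation. -/
theorem labels_conj {S S' : Set C} {n : ℕ} {F : Type*} [Field F] {lab : (Fin n → F) → C}
    (hL : Labels S n F lab) (g : C) (h1 : ∀ s ∈ S, g * s * g⁻¹ ∈ S')
    (h2 : ∀ s ∈ S', g⁻¹ * s * g ∈ S) : Labels S' n F (fun v => g * lab v * g⁻¹) where
  mem v hv0 hv := h1 _ (hL.mem v hv0 hv)
  surj s hs := by
    obtain ⟨v, hv0, hv, h⟩ := hL.surj _ (h2 s hs)
    exact ⟨v, hv0, hv, by rw [← h]; group⟩
  smul v hv0 hv c hc := by rw [hL.smul v hv0 hv c hc]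
  inj v w hv0 hw0 hv hw h := hL.inj v w hv0 hw0 hv hw (mul_left_cancel (mul_right_cancel h))
  comm v w hv0 hw0 hv hw := by
    rw [← hL.comm v w hv0 hw0 hv hw]
    constructor
    · intro h
      have := h.map (MulAut.conj g⁻¹)
      simp only [MulAut.conj_apply, inv_inv] at this
      have e : ∀ x : C, g⁻¹ * (g * x * g⁻¹) * g = x := fun x => by group
      rwa [e, e] at this
    · intro h
      have := h.map (MulAut.conj g)
      rwa [MulAut.conj_apply, MulAut.conj_apply] at this
  sq v hv0 hv := by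
    calc g * lab v * g⁻¹ * (g * lab v * g⁻¹) = g * (lab v * lab v) * g⁻¹ := by group
      _ = 1 := by rw [hL.sq v hv0 hv]; group
  conj v w hv0 hw0 hv hw := by
    rw [← hL.conj v w hv0 hw0 hv hw]
    group

variable {F : Type*} [Field F] [Fintype F] (hF : Fintype.card F = 2 ^ 2)

include hF in
/-- The local alternative, from the labels at a common neighbour. -/
theorem loc_of_labels (h : Class3 D) {a e i : C} (ha : a ∈ D) (he : e ∈ D)
    (hea : ¬ Commute e a) (hia : Commute i a) (hie : Commute i e)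
    {lab : (Fin 6 → F) → C} (hL : Labels (Nb D i) 6 F lab) (φ : C ≃* C) (hφD : ∀ x ∈ D, φ x ∈ D)
    (hfa : φ a = a) (hfi : φ i = i) (hfix : ∀ y ∈ D, Commute y a → φ y = y) :
    φ e = e ∨ φ e = a * e * a := by
  have hai : a ≠ i := by
    rintro rfl
    exact hea hie.symm
  have hei : e ≠ i := by
    rintro rfl
    exact hea hia
  have hfei : Commute (φ e) i := by
    have := hie.symm.map φ
    rwa [hfi] at this
  have hfei' : φ e ≠ i := by
    intro h1
    apply hei
    apply φ.injective
    rw [h1, hfi]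
  have hfea : ¬ Commute (φ e) a := by
    intro h1
    apply hea
    have : Commute (φ e) (φ a) := by rwa [hfa]
    exact φ.injective (by rw [map_mul, map_mul]; exact this)
  obtain ⟨w, hw0, hw, hwa⟩ := hL.surj a ⟨ha, hia.symm, hai⟩
  obtain ⟨p, hp0, hp, hpe⟩ := hL.surj e ⟨he, hie.symm, hei⟩
  obtain ⟨q, hq0, hq, hqe⟩ := hL.surj (φ e) ⟨hφD e he, hfei, hfei'⟩
  have key := eq_or_eq_conj hF hL hw0 hp0 hq0 hw hp hq
    (by
      rw [Ne, ← hL.comm w p hw0 hp0 hw hp, ← hwa, ← hpe]
      exact fun h1 => hea h1.symm)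
    (by
      rw [Ne, ← hL.comm w q hw0 hq0 hw hq, ← hwa, ← hqe]
      exact fun h1 => hfea h1.symm)
    (by
      intro x hx0 hx hxw hxp
      obtain ⟨hxD, hxi, hxi'⟩ := hL.mem x hx0 hx
      rw [← hL.comm x w hx0 hw0 hx hw, ← hwa] at hxw
      rw [← hL.comm x p hx0 hp0 hx hp, ← hpe] at hxp
      rw [← hL.comm x q hx0 hq0 hx hq, ← hqe]
      have h1 := hxp.map φ
      rwa [hfix _ hxD hxw] at h1)
  rw [← hpe, ← hwa, ← hqe] at key
  exact key

include hF in
/-- LEMMA V': an automorphism preserving `D` and trivial on the neighbours of `a` is trivial or the conjugation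
by `a` on `D`. -/
theorem alt_of_labels (h : Class3 D) (hlink : ∀ x ∈ D, ∀ y ∈ D, ¬ Commute x y →
      ∃ i ∈ D, Commute i x ∧ Commute i y)
    (hlab : ∀ i ∈ D, ∃ lab : (Fin 6 → F) → C, Labels (Nb D i) 6 F lab) {a : C} (ha : a ∈ D)
    (φ : C ≃* C) (hφD : ∀ x ∈ D, φ x ∈ D) (hfa : φ a = a)
    (hfix : ∀ y ∈ D, Commute y a → φ y = y) :
    (∀ y ∈ D, φ y = y) ∨ (∀ y ∈ D, φ y = a * y * a) := by
  refine h.alt φ ha hfa hfix ?_
  intro e he hea
  obtain ⟨i, hi, hie, hia⟩ := hlink e he a ha hea
  obtain ⟨lab, hL⟩ := hlab i hi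
  exact loc_of_labels hF h ha he hea hia hie hL φ hφD hfa (hfix i hi hia) hfix

include hF in
/-- LEMMA V, first part: if `φ` fixes `a` then it is inner on `D`. -/
theorem inner_of_fix (h : Class3 D) (hlink : ∀ x ∈ D, ∀ y ∈ D, ¬ Commute x y →
      ∃ i ∈ D, Commute i x ∧ Commute i y)
    (htrans : ∀ x ∈ D, ∀ y ∈ D, ∃ g : C, g * x * g⁻¹ = y)
    {z : C} (hz : ∀ g : C, Commute z g) {a : C} (ha : a ∈ D)
    {lab : (Fin 6 → F) → C} (hL : Labels (Nb D a) 6 F lab)
    {u v w : Fin 6 → F} (hfr : Fr3 u v w)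
    (hoZ : ∀ t : Fˣ, ((ovalList u v w t).map lab).prod ∈ Subgroup.closure ({z, a} : Set C))
    (hinj : ∀ t t' : Fˣ, ((ovalList u v w t).map lab).prod =
      ((ovalList u v w t').map lab).prod → t = t')
    (φ : C ≃* C) (hφD : ∀ x, φ x ∈ D ↔ x ∈ D) (hφz : φ z = z) (hfa : φ a = a) :
    ∃ g : C, ∀ y ∈ D, φ y = g * y * g⁻¹ := by
  classical
  have hS : ∀ y, φ y ∈ Nb D a ↔ y ∈ Nb D a := by
    intro y
    have h1 : Commute (φ y) a ↔ Commute y a := by
      constructor
      · intro h2
        have : Commute (φ y) (φ a) := by rwa [hfa]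
        exact φ.injective (by rw [map_mul, map_mul]; exact this)
      · intro h2
        have := h2.map φ
        rwa [hfa] at this
    have h2 : φ y ≠ a ↔ y ≠ a := by
      rw [not_iff_not]
      constructor
      · intro h3
        apply φ.injective
        rw [h3, hfa]
      · rintro rfl
        exact hfa
    exact and_congr (hφD y) (and_congr h1 h2)
  have hauto : Auto (Nb D a) lab (fun v => φ (lab v)) := by
    refine ⟨?_, ?_, ?_, ?_⟩
    · intro v hv0 hv
      exact (hS _).2 (hL.mem v hv0 hv)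
    · intro s hs
      have h1 : φ.symm s ∈ Nb D a := by
        rw [← hS, φ.apply_symm_apply]
        exact hs
      obtain ⟨v, hv0, hv, hvs⟩ := hL.surj _ h1
      exact ⟨v, hv0, hv, by rw [← hvs, φ.apply_symm_apply]⟩
    · intro v w hv0 hw0 hv hw
      rw [← hL.comm v w hv0 hw0 hv hw]
      constructor
      · intro h1
        exact φ.injective (by rw [map_mul, map_mul]; exact h1)
      · intro h1
        exact h1.map φ
    · intro v hv0 hv c hc
      rw [hL.smul v hv0 hv c hc]
  have hφZ : ∀ y ∈ Subgroup.closure ({z, a} : Set C), φ y = y := by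
    intro y hy
    induction hy using Subgroup.closure_induction with
    | mem y hy =>
      simp only [Set.mem_insert_iff, Set.mem_singleton_iff] at hy
      rcases hy with rfl | rfl
      · exact hφz
      · exact hfa
    | one => exact map_one φ
    | mul x y _ _ ihx ihy => rw [map_mul, ihx, ihy]
    | inv x _ ih => rw [map_inv, ih]
  obtain ⟨g, hg, hgv⟩ := exists_conj_full hF hL hauto
    (Z := (Subgroup.closure ({z, a} : Set C) : Set C)) (by
      intro y hy s hs
      obtain ⟨-, hsa, -⟩ := hs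
      have h1 : Subgroup.closure ({z, a} : Set C) ≤ Subgroup.centralizer ({s} : Set C) := by
        rw [Subgroup.closure_le]
        rintro x hx
        simp only [Set.mem_insert_iff, Set.mem_singleton_iff] at hx
        rcases hx with rfl | rfl
        · exact Subgroup.mem_centralizer_singleton_iff.2 (hz s)
        · exact Subgroup.mem_centralizer_singleton_iff.2 hsa.symm
      exact Subgroup.mem_centralizer_singleton_iff.1 (h1 hy)) (by
      intro l hl hlZ
      have h1 : (l.map (fun v => φ (lab v))).prod = φ ((l.map lab).prod) := by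
        rw [map_list_prod, List.map_map]
        rfl
      rw [h1]
      exact hφZ _ hlZ) hfr hoZ hinj
  have hga : Commute g a := by
    have h1 : Subgroup.closure (Nb D a) ≤ Subgroup.centralizer ({a} : Set C) := by
      rw [Subgroup.closure_le]
      rintro s ⟨-, h2, -⟩
      exact Subgroup.mem_centralizer_singleton_iff.2 h2
    exact Subgroup.mem_centralizer_singleton_iff.1 (h1 hg)
  -- correct by `g`
  set ψ : C ≃* C := φ.trans (MulAut.conj g⁻¹) with hψ
  have hψx : ∀ x, ψ x = g⁻¹ * φ x * g := by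
    intro x
    rw [hψ, MulEquiv.trans_apply, MulAut.conj_apply, inv_inv]
  have hlab : ∀ i ∈ D, ∃ lab : (Fin 6 → F) → C, Labels (Nb D i) 6 F lab := by
    intro i hi
    obtain ⟨k, hk⟩ := htrans a ha i hi
    refine ⟨_, labels_conj hL k ?_ ?_⟩
    · rintro s ⟨h1, h2, h3⟩
      refine ⟨h.conj k s h1, ?_, ?_⟩
      · rw [← hk]
        have := h2.map (MulAut.conj k)
        rwa [MulAut.conj_apply, MulAut.conj_apply] at this
      · rw [← hk]
        intro h4
        exact h3 (mul_left_cancel (mul_right_cancel h4))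
    · rintro s ⟨h1, h2, h3⟩
      have h4 : k⁻¹ * i * k = a := by rw [← hk]; group
      refine ⟨?_, ?_, ?_⟩
      · have := h.conj k⁻¹ s h1
        rwa [inv_inv] at this
      · have := h2.map (MulAut.conj k⁻¹)
        rw [MulAut.conj_apply, MulAut.conj_apply, inv_inv, h4] at this
        exact this
      · intro h5
        apply h3
        rw [← hk, ← h5]
        group
  have key := alt_of_labels hF h hlink hlab ha ψ (by
    intro x hx
    rw [hψx]
    have := h.conj g⁻¹ _ ((hφD x).2 hx)
    rwa [inv_inv] at this) (by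
    rw [hψx, hfa, mul_assoc, ← hga.eq, inv_mul_cancel_left]) (by
    intro y hy hya
    rw [hψx]
    by_cases hne : y = a
    · rw [hne, hfa, mul_assoc, ← hga.eq, inv_mul_cancel_left]
    · obtain ⟨v, hv0, hv, hvy⟩ := hL.surj y ⟨hy, hya, hne⟩
      have := hgv v hv0 hv
      rw [hvy]
      rw [this]
      group)
  rcases key with h1 | h1
  · refine ⟨g, fun y hy => ?_⟩
    have := h1 y hy
    rw [hψx] at this
    calc φ y = g * (g⁻¹ * φ y * g) * g⁻¹ := by group
      _ = g * y * g⁻¹ := by rw [this]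
  · refine ⟨g * a, fun y hy => ?_⟩
    have := h1 y hy
    rw [hψx] at this
    calc φ y = g * (g⁻¹ * φ y * g) * g⁻¹ := by group
      _ = g * (a * y * a) * g⁻¹ := by rw [this]
      _ = g * a * y * (a⁻¹ * g⁻¹) := by rw [h.inv ha]; group
      _ = g * a * y * (g * a)⁻¹ := by rw [mul_inv_rev]

include hF in
/-- LEMMA V: every automorphism preserving `D` is inner. -/
theorem inner (h : Class3 D) (hlink : ∀ x ∈ D, ∀ y ∈ D, ¬ Commute x y →
      ∃ i ∈ D, Commute i x ∧ Commute i y)
    (htrans : ∀ x ∈ D, ∀ y ∈ D, ∃ g : C, g * x * g⁻¹ = y)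
    (hgen : Subgroup.closure D = ⊤)
    {z : C} (hz : ∀ g : C, Commute z g) {a : C} (ha : a ∈ D)
    {lab : (Fin 6 → F) → C} (hL : Labels (Nb D a) 6 F lab)
    {u v w : Fin 6 → F} (hfr : Fr3 u v w)
    (hoZ : ∀ t : Fˣ, ((ovalList u v w t).map lab).prod ∈ Subgroup.closure ({z, a} : Set C))
    (hinj : ∀ t t' : Fˣ, ((ovalList u v w t).map lab).prod =
      ((ovalList u v w t').map lab).prod → t = t')
    (φ : C ≃* C) (hφD : ∀ x ∈ D, φ x ∈ D) (hφz : φ z = z) :
    ∃ g : C, ∀ y, φ y = g * y * g⁻¹ := by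
  have hφD' : ∀ x, φ x ∈ D ↔ x ∈ D := by
    intro x
    refine ⟨fun hx => ?_, hφD x⟩
    obtain ⟨k, hk⟩ := htrans _ (hφD a ha) _ hx
    have h1 : x = φ.symm k * a * (φ.symm k)⁻¹ := by
      apply φ.injective
      rw [map_mul, map_mul, map_inv, φ.apply_symm_apply, hk]
    rw [h1]
    exact h.conj _ a ha
  obtain ⟨k, hk⟩ := htrans _ (hφD a ha) a ha
  set ψ : C ≃* C := φ.trans (MulAut.conj k) with hψ
  have hψx : ∀ x, ψ x = k * φ x * k⁻¹ := by
    intro x
    rw [hψ, MulEquiv.trans_apply, MulAut.conj_apply]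
  have hconj : ∀ x, k * x * k⁻¹ ∈ D ↔ x ∈ D := by
    intro x
    refine ⟨fun hx => ?_, h.conj k x⟩
    have := h.conj k⁻¹ _ hx
    have e : k⁻¹ * (k * x * k⁻¹) * k⁻¹⁻¹ = x := by group
    rwa [e] at this
  obtain ⟨g, hg⟩ := inner_of_fix hF h hlink htrans hz ha hL hfr hoZ hinj ψ (by
    intro x
    rw [hψx, hconj, hφD']) (by
    rw [hψx, hφz, ← (hz k).eq, mul_inv_cancel_right]) (by rw [hψx, hk])
  refine ⟨k⁻¹ * g, fun y => ?_⟩
  have hy : y ∈ Subgroup.closure D := by rw [hgen]; trivial
  induction hy using Subgroup.closure_induction with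
  | mem y hy =>
    have := hg y hy
    rw [hψx] at this
    calc φ y = k⁻¹ * (k * φ y * k⁻¹) * k := by group
      _ = k⁻¹ * (g * y * g⁻¹) * k := by rw [this]
      _ = k⁻¹ * g * y * (k⁻¹ * g)⁻¹ := by group
  | one => rw [map_one, mul_one, mul_inv_cancel]
  | mul x y _ _ ihx ihy => rw [map_mul, ihx, ihy]; group
  | inv x _ ih => rw [map_inv, ih]; group

end Cfsg.Agent.R08.LemmaV
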