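import Cfsg.Agent.R08.LemmaV
import Cfsg.Agent.R01.FiMain
import Cfsg.Agent.R01.FiLocal
import Cfsg.Agent.R01.IsLabel

/-!
LEMMA V for the lifts of the 3-transpositions: labels in the double cover and the products over the hyperovals.
-/

set_option autoImplicit false
set_option linter.unusedSectionVars false
set_option linter.unusedVariables false

namespace Cfsg.Agent.R08.LemmaV2

open Cfsg Cfsg.Agent.LieClassical.HermBasic Cfsg.Agent.ClassicalGeometry.UnitTransv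
open Cfsg.Agent.SporadicStructure.UnitTwo (T act_T exists_omega two_eq_zero)
open Cfsg.Agent.ClassicalGeometry.UnitAutBasic (tau pr)
open Cfsg.Agent.R01 Cfsg.Agent.R01.Lifts Cfsg.Agent.R01.PSUSix Cfsg.Agent.R01.Label
  Cfsg.Agent.R01.Start Cfsg.Agent.R01.Loc Cfsg.Agent.R01.IsLabel Cfsg.Agent.R01.FiFusion
  Cfsg.Agent.R01.FiFacts Cfsg.Agent.R01.FiHexad Cfsg.Agent.R01.InvForm
  Cfsg.Agent.R01.HermRigid Cfsg.Agent.R01.HermPlane Cfsg.Agent.R08.LemmaV

section Vec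

variable {F : Type*} [Field F] [Fintype F] (hF : Fintype.card F = 2 ^ 2)

include hF in
/-- A frame exists. -/
theorem exists_fr3 : ∃ u v w : Fin 6 → F, Fr3 u v w := by
  obtain ⟨ω, hω⟩ := exists_omega hF
  have H := Frames.hyp_std (F := F) hF hω
  refine ⟨Frames.E 0, Frames.E 1, Frames.E 2, H.gg 0 0, H.gg 1 1, H.gg 2 2, H.gg 0 1, H.gg 0 2,
    H.gg 1 2, fun a b c h => ?_⟩
  have key : ∀ j : Fin 3, (a * (if (0 : Fin 3) = j then 1 else 0) +
      b * (if (1 : Fin 3) = j then 1 else 0)) + c * (if (2 : Fin 3) = j then 1 else 0) = 0 := by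
    intro j
    rw [← H.gk 0 j, ← H.gk 1 j, ← H.gk 2 j, ← herm_smul_left, ← herm_smul_left,
      ← herm_smul_left, ← herm_add_left, ← herm_add_left, h, herm_zero_left]
  refine ⟨?_, ?_, ?_⟩
  · simpa using key 0
  · simpa using key 1
  · simpa using key 2

/-- The product of the six transvections of a hyperoval is trivial. -/
theorem oval_T {u v w : Fin 6 → F} (h : Fr3 u v w) {ω : F} (hω : ω ^ 2 + ω + 1 = 0) {t : F}
    (ht : t ^ 3 = 1) (h1 : hermForm 6 F 2 (u + v + t • w) (u + v + t • w) = 0)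
    (h2 : hermForm 6 F 2 (u + ω • v + (t * ω ^ 2) • w) (u + ω • v + (t * ω ^ 2) • w) = 0)
    (h3 : hermForm 6 F 2 (u + ω ^ 2 • v + (t * ω) • w) (u + ω ^ 2 • v + (t * ω) • w) = 0) :
    T hF u h.uu * T hF v h.vv * T hF w h.ww * T hF (u + v + t • w) h1 *
      T hF (u + ω • v + (t * ω ^ 2) • w) h2 * T hF (u + ω ^ 2 • v + (t * ω) • w) h3 = 1 := by
  have hvu := herm_eq_zero_swap hF h.uv
  have hwu := herm_eq_zero_swap hF h.uw
  have hwv := herm_eq_zero_swap hF h.vw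
  have hw3 : ω ^ 3 = 1 := omega_cubed hω
  have h2 := two_eq_zero hF
  apply ext_act
  intro x
  simp only [act_mul, act_one, act_T, herm_add_left, herm_smul_left, herm_add_right hF,
    herm_smul_right, h.uu, h.vv, h.ww, h.uv, hvu, h.uw, hwu, h.vw, hwv, mul_zero, add_zero]
  funext i
  simp only [Pi.add_apply, Pi.smul_apply, smul_eq_mul]
  generalize hermForm 6 F 2 x u = p
  generalize hermForm 6 F 2 x v = q
  generalize hermForm 6 F 2 x w = r
  generalize u i = a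
  generalize v i = b
  generalize w i = c
  linear_combination (p * a * 2) * h2 + (p * b + p * c * t) * hω + (q * a * ω) * hw3 + q * a * hω +
    (q * b * (ω ^ 3 + 2)) * hw3 + (q * b * 2) * h2 + (q * c * t * (ω ^ 2 + ω)) * hw3 +
    (q * c * t) * hω + (r * a * t ^ 2 * ω) * hw3 + (r * a * t ^ 2) * hω +
    (r * b * t ^ 2 * (ω ^ 2 + ω)) * hw3 + (r * b * t ^ 2) * hω +
    (r * c * t ^ 3 * (ω ^ 3 + 2)) * hw3 + (3 * r * c) * ht + (r * c * 2) * h2

include hF in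
theorem iso3 {u v w : Fin 6 → F} (h : Fr3 u v w) (a b c a' b' c' : F) :
    hermForm 6 F 2 (a • u + b • v + c • w) (a' • u + b' • v + c' • w) = 0 :=
  AllOfLab.Fr3.comb hF h a b c a' b' c'

theorem ne_zero3 {u v w : Fin 6 → F} (h : Fr3 u v w) {a b c : F} (hn : a ≠ 0 ∨ b ≠ 0 ∨ c ≠ 0) :
    a • u + b • v + c • w ≠ 0 := by
  intro h0
  obtain ⟨h1, h2, h3⟩ := h.ind a b c h0
  rcases hn with hn | hn | hn
  · exact hn h1
  · exact hn h2
  · exact hn h3

/-- The product over a hyperoval is central. -/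
theorem oval_ker {C : Type*} [Group C] {π : C →* PSU 6 F 2} {z ε : C} {lift : (Fin 6 → F) → C}
    (L : Lab hF π z ε lift) {u v w : Fin 6 → F} (h : Fr3 u v w) {ω : F} (hω : ω ^ 2 + ω + 1 = 0)
    {t : F} (ht : t ^ 3 = 1) :
    lift u * lift v * lift w * lift (u + v + t • w) * lift (u + ω • v + (t * ω ^ 2) • w) *
      lift (u + ω ^ 2 • v + (t * ω) • w) = 1 ∨
    lift u * lift v * lift w * lift (u + v + t • w) * lift (u + ω • v + (t * ω ^ 2) • w) *
      lift (u + ω ^ 2 • v + (t * ω) • w) = z := by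
  have h1 : hermForm 6 F 2 (u + v + t • w) (u + v + t • w) = 0 := by
    simpa using iso3 hF h 1 1 t 1 1 t
  have h2 : hermForm 6 F 2 (u + ω • v + (t * ω ^ 2) • w) (u + ω • v + (t * ω ^ 2) • w) = 0 := by
    simpa using iso3 hF h 1 ω (t * ω ^ 2) 1 ω (t * ω ^ 2)
  have h3 : hermForm 6 F 2 (u + ω ^ 2 • v + (t * ω) • w) (u + ω ^ 2 • v + (t * ω) • w) = 0 := by
    simpa using iso3 hF h 1 (ω ^ 2) (t * ω) 1 (ω ^ 2) (t * ω)
  have n1 : u + v + t • w ≠ 0 := by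
    simpa using ne_zero3 h (a := 1) (b := 1) (c := t) (Or.inl one_ne_zero)
  have n2 : u + ω • v + (t * ω ^ 2) • w ≠ 0 := by
    simpa using ne_zero3 h (a := 1) (b := ω) (c := t * ω ^ 2) (Or.inl one_ne_zero)
  have n3 : u + ω ^ 2 • v + (t * ω) • w ≠ 0 := by
    simpa using ne_zero3 h (a := 1) (b := ω ^ 2) (c := t * ω) (Or.inl one_ne_zero)
  apply (L.ext.ker _).1
  rw [map_mul, map_mul, map_mul, map_mul, map_mul, L.map u h.u_ne h.uu, L.map v h.v_ne h.vv,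
    L.map w h.w_ne h.ww, L.map _ n1 h1, L.map _ n2 h2, L.map _ n3 h3,
    tau_eq_pr hF h.uu, tau_eq_pr hF h.vv, tau_eq_pr hF h.ww,
    tau_eq_pr hF h1, tau_eq_pr hF h2, tau_eq_pr hF h3, ← map_mul, ← map_mul,
    ← map_mul, ← map_mul, ← map_mul, oval_T hF h hω ht h1 h2 h3, map_one]

end Vec

section PLevel

variable {P : Type*} [Group P] {F : Type*} [Field F] [Fintype F] {hF : Fintype.card F = 2 ^ 2}
  {T : Set P}

/-- A labelling of the members of `T` commuting with `d`, with the products over the hyperovals. -/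
structure TL (F : Type*) [Field F] (T : Set P) (d : P) (τ : (Fin 6 → F) → P) : Prop where
  mem : ∀ v, v ≠ 0 → hermForm 6 F 2 v v = 0 → τ v ∈ T ∧ τ v ≠ d ∧ Commute (τ v) d
  surj : ∀ a ∈ T, a ≠ d → Commute a d → ∃ v, v ≠ 0 ∧ hermForm 6 F 2 v v = 0 ∧ τ v = a
  smul : ∀ v (c : F), hermForm 6 F 2 v v = 0 → c ≠ 0 → τ (c • v) = τ v
  inj : ∀ u v, u ≠ 0 → v ≠ 0 → hermForm 6 F 2 u u = 0 → hermForm 6 F 2 v v = 0 → τ u = τ v →
    ∃ c : F, c ≠ 0 ∧ v = c • u
  comm : ∀ u v, u ≠ 0 → v ≠ 0 → hermForm 6 F 2 u u = 0 → hermForm 6 F 2 v v = 0 →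
    (Commute (τ u) (τ v) ↔ hermForm 6 F 2 u v = 0)
  conj : ∀ u v, u ≠ 0 → v ≠ 0 → hermForm 6 F 2 u u = 0 → hermForm 6 F 2 v v = 0 →
    τ u * τ v * τ u = τ (v + hermForm 6 F 2 v u • u)
  line : ∀ a b, a ≠ 0 → b ≠ 0 → hermForm 6 F 2 a a = 0 → hermForm 6 F 2 b b = 0 →
    hermForm 6 F 2 a b = 0 → (¬ ∃ c : F, b = c • a) → ∀ ω : F, ω ^ 2 + ω + 1 = 0 →
    τ a * τ b * τ (a + b) * τ (ω • a + b) * τ (ω ^ 2 • a + b) = d
  oval : ∀ u v w, Fr3 u v w → ∀ ω : F, ω ^ 2 + ω + 1 = 0 → ∀ t : F, t ^ 3 = 1 →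
    τ u * τ v * τ w * τ (u + v + t • w) * τ (u + ω • v + (t * ω ^ 2) • w) *
      τ (u + ω ^ 2 • v + (t * ω) • w) = 1 ∨
    τ u * τ v * τ w * τ (u + v + t • w) * τ (u + ω • v + (t * ω ^ 2) • w) *
      τ (u + ω ^ 2 • v + (t * ω) • w) = d

theorem exists_tl {d : P} (h : LocAt hF T d) : ∃ τ : (Fin 6 → F) → P, TL F T d τ := by
  obtain ⟨π, lift, L, hL⟩ := h
  have hcent : ∀ a : Subgroup.centralizer ({d} : Set P), Commute (a : P) d := fun a =>
    Subgroup.mem_centralizer_singleton_iff.1 a.2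
  have hne : ∀ v, v ≠ 0 → hermForm 6 F 2 v v = 0 → (lift v : P) ≠ d := by
    intro v h0 hv h
    apply L.z_notMem
    have : lift v = zel d := Subtype.ext h
    rw [← this]
    exact Lab.mem_D h0 hv
  refine ⟨fun v => lift v, ?_, ?_, ?_, ?_, ?_, ?_, ?_, ?_⟩
  · intro v h0 hv
    exact ⟨(hL (lift v)).2 (Or.inr (Lab.mem_D h0 hv)), hne v h0 hv, hcent _⟩
  · intro a ha hax hc
    have hm : a ∈ Subgroup.centralizer ({d} : Set P) := Subgroup.mem_centralizer_singleton_iff.2 hc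
    rcases (hL ⟨a, hm⟩).1 ha with h | ⟨v, h0, hv, h⟩
    · exact absurd (congrArg Subtype.val h) hax
    · exact ⟨v, h0, hv, (congrArg Subtype.val h).symm⟩
  · intro v c hv hc
    show ((lift (c • v) : Subgroup.centralizer ({d} : Set P)) : P) = _
    rw [L.smul v c hv hc]
  · intro u v hu0 hv0 hu hv h
    exact (L.lift_eq_iff hu hv hu0 hv0).1 (Subtype.ext h)
  · intro u v hu0 hv0 hu hv
    rw [← L.commute_iff hu hv hu0 hv0]
    exact (AllOfLab.comm_coe (x := lift u) (y := lift v)).symm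
  · intro u v hu0 hv0 hu hv
    exact congrArg Subtype.val (L.conj_lift hu hv hu0 hv0)
  · intro a b ha0 hb0 ha hb hab hn ω hω
    exact congrArg Subtype.val (L.line a b ha0 hb0 ha hb hab hn ω hω)
  · intro u v w h ω hω t ht
    rcases oval_ker hF L h hω ht with h1 | h1
    · left; exact congrArg Subtype.val h1
    · right; exact congrArg Subtype.val h1

variable {d : P} {τ : (Fin 6 → F) → P}

theorem TL.ne3 (hτ : TL F T d τ) (hF : Fintype.card F = 2 ^ 2) {u v w : Fin 6 → F}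
    (h : Fr3 u v w) {a b c a' b' c' : F}
    (hn : a ≠ 0 ∨ b ≠ 0 ∨ c ≠ 0) (hn' : a' ≠ 0 ∨ b' ≠ 0 ∨ c' ≠ 0)
    (hne : ∀ k : F, a' = k * a → b' = k * b → c' = k * c → False) :
    τ (a • u + b • v + c • w) ≠ τ (a' • u + b' • v + c' • w) := by
  intro h0
  obtain ⟨k, -, hk⟩ := hτ.inj _ _ (ne_zero3 h hn) (ne_zero3 h hn') (iso3 hF h _ _ _ _ _ _)
    (iso3 hF h _ _ _ _ _ _) h0
  obtain ⟨h1, h2, h3⟩ := h.ind (a' - k * a) (b' - k * b) (c' - k * c) (by
    have : (a' - k * a) • u + (b' - k * b) • v + (c' - k * c) • w =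
        (a' • u + b' • v + c' • w) - k • (a • u + b • v + c • w) := by module
    rw [this, hk, sub_self])
  exact hne k (sub_eq_zero.1 h1) (sub_eq_zero.1 h2) (sub_eq_zero.1 h3)

theorem TL.comm3 (hτ : TL F T d τ) (hF : Fintype.card F = 2 ^ 2) {u v w : Fin 6 → F}
    (h : Fr3 u v w) {a b c a' b' c' : F}
    (hn : a ≠ 0 ∨ b ≠ 0 ∨ c ≠ 0) (hn' : a' ≠ 0 ∨ b' ≠ 0 ∨ c' ≠ 0) :
    Commute (τ (a • u + b • v + c • w)) (τ (a' • u + b' • v + c' • w)) :=
  (hτ.comm _ _ (ne_zero3 h hn) (ne_zero3 h hn') (iso3 hF h _ _ _ _ _ _)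
    (iso3 hF h _ _ _ _ _ _)).2 (iso3 hF h _ _ _ _ _ _)

theorem TL.mem3 (hτ : TL F T d τ) (hF : Fintype.card F = 2 ^ 2) {u v w : Fin 6 → F}
    (h : Fr3 u v w) {a b c : F} (hn : a ≠ 0 ∨ b ≠ 0 ∨ c ≠ 0) :
    τ (a • u + b • v + c • w) ∈ T ∧ τ (a • u + b • v + c • w) ≠ d ∧
      Commute (τ (a • u + b • v + c • w)) d :=
  hτ.mem _ (ne_zero3 h hn) (iso3 hF h _ _ _ _ _ _)

theorem fr3_ne {F : Type*} [Field F] {ω : F} (hω : ω ^ 2 + ω + 1 = 0) (h2 : (2 : F) = 0) :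
    ω ≠ 0 ∧ ω ≠ 1 ∧ ω ^ 2 ≠ 1 ∧ ω ≠ ω ^ 2 := by
  have h0 : ω ≠ 0 := by
    rintro rfl
    simp at hω
  refine ⟨h0, ?_, ?_, ?_⟩
  · rintro rfl
    have : (1 : F) = 0 := by linear_combination hω - h2
    exact one_ne_zero this
  · intro h
    rw [h] at hω
    exact h0 (by linear_combination hω - h2)
  · intro h
    rw [← h] at hω
    have : (1 : F) = 0 := by linear_combination hω - ω * h2
    exact one_ne_zero this

/-- A hyperoval with product one is a hexad. -/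
theorem TL.oval_hex (hτ : TL F T d τ) (hF : Fintype.card F = 2 ^ 2) {u v w : Fin 6 → F}
    (h : Fr3 u v w) {ω : F} (hω : ω ^ 2 + ω + 1 = 0) {t : F} (ht : t ≠ 0)
    (hp : τ u * τ v * τ w * τ (u + v + t • w) * τ (u + ω • v + (t * ω ^ 2) • w) *
      τ (u + ω ^ 2 • v + (t * ω) • w) = 1) :
    Hex T (τ u) (τ v) (τ w) (τ (u + v + t • w)) (τ (u + ω • v + (t * ω ^ 2) • w))
      (τ (u + ω ^ 2 • v + (t * ω) • w)) := by
  obtain ⟨w0, w1, w2, w3⟩ := fr3_ne hω (two_eq_zero hF)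
  have e1 : u = (1 : F) • u + (0 : F) • v + (0 : F) • w := by module
  have e2 : v = (0 : F) • u + (1 : F) • v + (0 : F) • w := by module
  have e3 : w = (0 : F) • u + (0 : F) • v + (1 : F) • w := by module
  have e4 : u + v + t • w = (1 : F) • u + (1 : F) • v + t • w := by module
  have e5 : u + ω • v + (t * ω ^ 2) • w = (1 : F) • u + ω • v + (t * ω ^ 2) • w := by module
  have e6 : u + ω ^ 2 • v + (t * ω) • w = (1 : F) • u + (ω ^ 2) • v + (t * ω) • w := by module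
  have o1 : (1 : F) ≠ 0 ∨ (0 : F) ≠ 0 ∨ (0 : F) ≠ 0 := Or.inl one_ne_zero
  have o2 : (0 : F) ≠ 0 ∨ (1 : F) ≠ 0 ∨ (0 : F) ≠ 0 := Or.inr (Or.inl one_ne_zero)
  have o3 : (0 : F) ≠ 0 ∨ (0 : F) ≠ 0 ∨ (1 : F) ≠ 0 := Or.inr (Or.inr one_ne_zero)
  have o4 : (1 : F) ≠ 0 ∨ (1 : F) ≠ 0 ∨ t ≠ 0 := Or.inl one_ne_zero
  have o5 : (1 : F) ≠ 0 ∨ ω ≠ 0 ∨ t * ω ^ 2 ≠ 0 := Or.inl one_ne_zero
  have o6 : (1 : F) ≠ 0 ∨ ω ^ 2 ≠ 0 ∨ t * ω ≠ 0 := Or.inl one_ne_zero
  have m1 := hτ.mem3 hF h o1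
  have m2 := hτ.mem3 hF h o2
  have m3 := hτ.mem3 hF h o3
  have m4 := hτ.mem3 hF h o4
  have m5 := hτ.mem3 hF h o5
  have m6 := hτ.mem3 hF h o6
  have n12 := hτ.ne3 hF h o1 o2 (fun k a b c => one_ne_zero (α := F) (by rw [b, mul_zero]))
  have n13 := hτ.ne3 hF h o1 o3 (fun k a b c => one_ne_zero (α := F) (by rw [c, mul_zero]))
  have n14 := hτ.ne3 hF h o1 o4 (fun k a b c => one_ne_zero (α := F) (by rw [b, mul_zero]))
  have n15 := hτ.ne3 hF h o1 o5 (fun k a b c => w0 (by rw [b, mul_zero]))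
  have n16 := hτ.ne3 hF h o1 o6 (fun k a b c => pow_ne_zero 2 w0 (by rw [b, mul_zero]))
  have n23 := hτ.ne3 hF h o2 o3 (fun k a b c => one_ne_zero (α := F) (by rw [c, mul_zero]))
  have n24 := hτ.ne3 hF h o2 o4 (fun k a b c => one_ne_zero (α := F) (by rw [a, mul_zero]))
  have n25 := hτ.ne3 hF h o2 o5 (fun k a b c => one_ne_zero (α := F) (by rw [a, mul_zero]))
  have n26 := hτ.ne3 hF h o2 o6 (fun k a b c => one_ne_zero (α := F) (by rw [a, mul_zero]))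
  have n34 := hτ.ne3 hF h o3 o4 (fun k a b c => one_ne_zero (α := F) (by rw [a, mul_zero]))
  have n35 := hτ.ne3 hF h o3 o5 (fun k a b c => one_ne_zero (α := F) (by rw [a, mul_zero]))
  have n36 := hτ.ne3 hF h o3 o6 (fun k a b c => one_ne_zero (α := F) (by rw [a, mul_zero]))
  have n45 := hτ.ne3 hF h o4 o5 (fun k a b c => w1 (by rw [b, ← a]))
  have n46 := hτ.ne3 hF h o4 o6 (fun k a b c => w2 (by rw [b, ← a]))
  have n56 := hτ.ne3 hF h o5 o6 (fun k a b c => w3 (by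
    rw [mul_one] at a
    rw [← a, one_mul] at b
    exact b.symm))
  have c12 := hτ.comm3 hF h o1 o2
  have c13 := hτ.comm3 hF h o1 o3
  have c14 := hτ.comm3 hF h o1 o4
  have c15 := hτ.comm3 hF h o1 o5
  have c16 := hτ.comm3 hF h o1 o6
  have c23 := hτ.comm3 hF h o2 o3
  have c24 := hτ.comm3 hF h o2 o4
  have c25 := hτ.comm3 hF h o2 o5
  have c26 := hτ.comm3 hF h o2 o6
  have c34 := hτ.comm3 hF h o3 o4
  have c35 := hτ.comm3 hF h o3 o5
  have c36 := hτ.comm3 hF h o3 o6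
  have c45 := hτ.comm3 hF h o4 o5
  have c46 := hτ.comm3 hF h o4 o6
  have c56 := hτ.comm3 hF h o5 o6
  rw [← e1] at m1 n12 n13 n14 n15 n16 c12 c13 c14 c15 c16
  rw [← e2] at m2 n12 n23 n24 n25 n26 c12 c23 c24 c25 c26
  rw [← e3] at m3 n13 n23 n34 n35 n36 c13 c23 c34 c35 c36
  rw [← e4] at m4 n14 n24 n34 n45 n46 c14 c24 c34 c45 c46
  rw [← e5] at m5 n15 n25 n35 n45 n56 c15 c25 c35 c45 c56
  rw [← e6] at m6 n16 n26 n36 n46 n56 c16 c26 c36 c46 c56
  refine FiLocal.hex_of_list m1.1 m2.1 m3.1 m4.1 m5.1 m6.1 ?_ ?_ hp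
  · simp only [List.nodup_cons, List.mem_cons, List.not_mem_nil, or_false, not_or]
    exact ⟨⟨n12, n13, n14, n15, n16⟩, ⟨n23, n24, n25, n26⟩, ⟨n34, n35, n36⟩, ⟨n45, n46⟩, n56,
      not_false, List.nodup_nil⟩
  · simp only [List.pairwise_cons, List.mem_cons, List.not_mem_nil, or_false, forall_eq_or_imp,
      forall_eq]
    exact ⟨⟨c12, c13, c14, c15, c16⟩, ⟨c23, c24, c25, c26⟩, ⟨c34, c35, c36⟩, ⟨c45, c46⟩, c56,
      by simp, List.Pairwise.nil⟩

/-- A line together with `d` is a hexad. -/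
theorem TL.line_hex (hτ : TL F T d τ) (hF : Fintype.card F = 2 ^ 2) (hdT : d ∈ T) (hdd : d * d = 1)
    {p q : Fin 6 → F} (h : Fr2 p q) {ω : F} (hω : ω ^ 2 + ω + 1 = 0) :
    Hex T d (τ p) (τ q) (τ (p + q)) (τ (ω • p + q)) (τ (ω ^ 2 • p + q)) := by
  obtain ⟨w0, w1, w2, w3⟩ := fr3_ne hω (two_eq_zero hF)
  have hqp := herm_eq_zero_swap hF h.uv
  have iso2 : ∀ a b a' b' : F, hermForm 6 F 2 (a • p + b • q) (a' • p + b' • q) = 0 := by
    intro a b a' b'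
    simp [herm_add_left, herm_add_right hF, herm_smul_left, herm_smul_right, h.uu, h.vv, h.uv, hqp]
  have nz : ∀ {a b : F}, (a ≠ 0 ∨ b ≠ 0) → a • p + b • q ≠ 0 := by
    intro a b hn h0
    obtain ⟨h1, h2⟩ := h.ind a b h0
    rcases hn with hn | hn
    · exact hn h1
    · exact hn h2
  have ne2 : ∀ {a b a' b' : F}, (a ≠ 0 ∨ b ≠ 0) → (a' ≠ 0 ∨ b' ≠ 0) →
      (∀ k : F, a' = k * a → b' = k * b → False) → τ (a • p + b • q) ≠ τ (a' • p + b' • q) := by
    intro a b a' b' hn hn' hne h0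
    obtain ⟨k, -, hk⟩ := hτ.inj _ _ (nz hn) (nz hn') (iso2 _ _ _ _) (iso2 _ _ _ _) h0
    obtain ⟨h1, h2⟩ := h.ind (a' - k * a) (b' - k * b) (by
      have : (a' - k * a) • p + (b' - k * b) • q =
          (a' • p + b' • q) - k • (a • p + b • q) := by module
      rw [this, hk, sub_self])
    exact hne k (sub_eq_zero.1 h1) (sub_eq_zero.1 h2)
  have comm2 : ∀ {a b a' b' : F}, (a ≠ 0 ∨ b ≠ 0) → (a' ≠ 0 ∨ b' ≠ 0) →
      Commute (τ (a • p + b • q)) (τ (a' • p + b' • q)) := fun hn hn' =>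
    (hτ.comm _ _ (nz hn) (nz hn') (iso2 _ _ _ _) (iso2 _ _ _ _)).2 (iso2 _ _ _ _)
  have mem2 : ∀ {a b : F}, (a ≠ 0 ∨ b ≠ 0) → τ (a • p + b • q) ∈ T ∧ τ (a • p + b • q) ≠ d ∧
      Commute (τ (a • p + b • q)) d := fun hn => hτ.mem _ (nz hn) (iso2 _ _ _ _)
  have e2 : p = (1 : F) • p + (0 : F) • q := by module
  have e3 : q = (0 : F) • p + (1 : F) • q := by module
  have e4 : p + q = (1 : F) • p + (1 : F) • q := by module
  have e5 : ω • p + q = ω • p + (1 : F) • q := by module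
  have e6 : ω ^ 2 • p + q = (ω ^ 2) • p + (1 : F) • q := by module
  have o2 : (1 : F) ≠ 0 ∨ (0 : F) ≠ 0 := Or.inl one_ne_zero
  have o3 : (0 : F) ≠ 0 ∨ (1 : F) ≠ 0 := Or.inr one_ne_zero
  have o4 : (1 : F) ≠ 0 ∨ (1 : F) ≠ 0 := Or.inl one_ne_zero
  have o5 : ω ≠ 0 ∨ (1 : F) ≠ 0 := Or.inr one_ne_zero
  have o6 : ω ^ 2 ≠ 0 ∨ (1 : F) ≠ 0 := Or.inr one_ne_zero
  have m2 := mem2 o2
  have m3 := mem2 o3
  have m4 := mem2 o4
  have m5 := mem2 o5
  have m6 := mem2 o6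
  have n23 := ne2 o2 o3 (fun k a b => one_ne_zero (α := F) (by rw [b, mul_zero]))
  have n24 := ne2 o2 o4 (fun k a b => one_ne_zero (α := F) (by rw [b, mul_zero]))
  have n25 := ne2 o2 o5 (fun k a b => one_ne_zero (α := F) (by rw [b, mul_zero]))
  have n26 := ne2 o2 o6 (fun k a b => one_ne_zero (α := F) (by rw [b, mul_zero]))
  have n34 := ne2 o3 o4 (fun k a b => one_ne_zero (α := F) (by rw [a, mul_zero]))
  have n35 := ne2 o3 o5 (fun k a b => w0 (by rw [a, mul_zero]))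
  have n36 := ne2 o3 o6 (fun k a b => pow_ne_zero 2 w0 (by rw [a, mul_zero]))
  have n45 := ne2 o4 o5 (fun k a b => w1 (by rw [a, ← b]))
  have n46 := ne2 o4 o6 (fun k a b => w2 (by rw [a, ← b]))
  have n56 := ne2 o5 o6 (fun k a b => w3 (by
    rw [mul_one] at b
    rw [← b, one_mul] at a
    exact a.symm))
  have c23 := comm2 o2 o3
  have c24 := comm2 o2 o4
  have c25 := comm2 o2 o5
  have c26 := comm2 o2 o6
  have c34 := comm2 o3 o4
  have c35 := comm2 o3 o5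
  have c36 := comm2 o3 o6
  have c45 := comm2 o4 o5
  have c46 := comm2 o4 o6
  have c56 := comm2 o5 o6
  rw [← e2] at m2 n23 n24 n25 n26 c23 c24 c25 c26
  rw [← e3] at m3 n23 n34 n35 n36 c23 c34 c35 c36
  rw [← e4] at m4 n24 n34 n45 n46 c24 c34 c45 c46
  rw [← e5] at m5 n25 n35 n45 n56 c25 c35 c45 c56
  rw [← e6] at m6 n26 n36 n46 n56 c26 c36 c46 c56
  have hl := hτ.line p q h.u_ne h.v_ne h.uu h.vv h.uv h.not_mul ω hω
  refine FiLocal.hex_of_list hdT m2.1 m3.1 m4.1 m5.1 m6.1 ?_ ?_ ?_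
  · simp only [List.nodup_cons, List.mem_cons, List.not_mem_nil, or_false, not_or]
    exact ⟨⟨m2.2.1.symm, m3.2.1.symm, m4.2.1.symm, m5.2.1.symm, m6.2.1.symm⟩,
      ⟨n23, n24, n25, n26⟩, ⟨n34, n35, n36⟩, ⟨n45, n46⟩, n56, not_false, List.nodup_nil⟩
  · simp only [List.pairwise_cons, List.mem_cons, List.not_mem_nil, or_false, forall_eq_or_imp,
      forall_eq]
    exact ⟨⟨m2.2.2.symm, m3.2.2.symm, m4.2.2.symm, m5.2.2.symm, m6.2.2.symm⟩,
      ⟨c23, c24, c25, c26⟩, ⟨c34, c35, c36⟩, ⟨c45, c46⟩, c56, by simp, List.Pairwise.nil⟩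
  · calc d * τ p * τ q * τ (p + q) * τ (ω • p + q) * τ (ω ^ 2 • p + q)
        = d * (τ p * τ q * τ (p + q) * τ (ω • p + q) * τ (ω ^ 2 • p + q)) := by group
      _ = 1 := by rw [hl, hdd]

end PLevel

section CLevel

variable {C P : Type*} [Group C] [Group P] {π : C →* P} {z : C} {T : Set P} {D₀ : Set C}
  {F : Type*} [Field F] [Fintype F] {hF : Fintype.card F = 2 ^ 2}

theorem class3 (L : Lifted π z T D₀) : Class3 D₀ := ⟨L.conj, L.sq, L.three⟩

/-- The lifted labelling. -/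
structure LL (D₀ : Set C) (π : C →* P) (τ : (Fin 6 → F) → P) (lab : (Fin 6 → F) → C) : Prop where
  mem : ∀ v, v ≠ 0 → hermForm 6 F 2 v v = 0 → lab v ∈ D₀
  map : ∀ v, v ≠ 0 → hermForm 6 F 2 v v = 0 → π (lab v) = τ v

theorem exists_ll (L : Lifted π z T D₀) {d : P} {τ : (Fin 6 → F) → P} (hτ : TL F T d τ) :
    ∃ lab : (Fin 6 → F) → C, LL D₀ π τ lab := by
  classical
  have h : ∀ v : Fin 6 → F, ∃ x : C, v ≠ 0 → hermForm 6 F 2 v v = 0 → x ∈ D₀ ∧ π x = τ v := by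
    intro v
    by_cases hv : v ≠ 0 ∧ hermForm 6 F 2 v v = 0
    · obtain ⟨x, hx, hxv⟩ := L.surj _ (hτ.mem v hv.1 hv.2).1
      exact ⟨x, fun _ _ => ⟨hx, hxv⟩⟩
    · exact ⟨1, fun h1 h2 => absurd ⟨h1, h2⟩ hv⟩
  choose lab hlab using h
  exact ⟨lab, fun v h1 h2 => (hlab v h1 h2).1, fun v h1 h2 => (hlab v h1 h2).2⟩

variable {a : C} {τ : (Fin 6 → F) → P} {lab : (Fin 6 → F) → C}

theorem labels (L : Lifted π z T D₀) (ha : a ∈ D₀) (hτ : TL F T (π a) τ) (hl : LL D₀ π τ lab)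
    (hF : Fintype.card F = 2 ^ 2) : Labels (Nb D₀ a) 6 F lab where
  mem v h0 hv := by
    obtain ⟨-, h2, h3⟩ := hτ.mem v h0 hv
    rw [← hl.map v h0 hv] at h2 h3
    refine ⟨hl.mem v h0 hv, L.comm _ (hl.mem v h0 hv) _ ha h3, fun h => h2 (by rw [h])⟩
  surj s hs := by
    obtain ⟨h1, h2, h3⟩ := hs
    obtain ⟨v, h0, hv, hvs⟩ := hτ.surj (π s) (L.map _ h1) (fun h => h3 (L.inj _ h1 _ ha h))
      (h2.map π)
    exact ⟨v, h0, hv, L.inj _ h1 _ (hl.mem v h0 hv) (by rw [hl.map v h0 hv, hvs])⟩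
  smul v h0 hv c hc := by
    have h1 : c • v ≠ 0 := smul_ne_zero hc h0
    have h2 : hermForm 6 F 2 (c • v) (c • v) = 0 := by
      rw [herm_smul_left, herm_smul_right, hv, mul_zero, mul_zero]
    exact L.inj _ (hl.mem _ h1 h2) _ (hl.mem v h0 hv) (by
      rw [hl.map _ h1 h2, hl.map v h0 hv, hτ.smul v c hv hc])
  inj v w h0 h1 hv hw h := by
    refine hτ.inj v w h0 h1 hv hw ?_
    rw [← hl.map v h0 hv, ← hl.map w h1 hw, h]
  comm v w h0 h1 hv hw := by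
    rw [← hτ.comm v w h0 h1 hv hw, ← hl.map v h0 hv, ← hl.map w h1 hw]
    exact ⟨fun h => h.map π, fun h => L.comm _ (hl.mem v h0 hv) _ (hl.mem w h1 hw) h⟩
  sq v h0 hv := L.sq _ (hl.mem v h0 hv)
  conj v w h0 h1 hv hw := by
    have h2 : w + hermForm 6 F 2 w v • v ≠ 0 := trans_ne_zero hF w v h1 hv
    have h3 := iso_trans hF w v hw hv
    refine L.inj _ ((class3 L).conj' (hl.mem v h0 hv) (hl.mem w h1 hw)) _ (hl.mem _ h2 h3) ?_
    rw [map_mul, map_mul, hl.map v h0 hv, hl.map w h1 hw, hl.map _ h2 h3,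
      hτ.conj v w h0 h1 hv hw]

/-- The sign of the hexads. -/
def Sign (π : C →* P) (z : C) (T : Set P) (D₀ : Set C) : Prop :=
  ∀ a ∈ D₀, ∀ b ∈ D₀, ∀ c ∈ D₀, ∀ a' ∈ D₀, ∀ b' ∈ D₀, ∀ c' ∈ D₀,
    Hex T (π a) (π b) (π c) (π a') (π b') (π c') → a * b * c * (a' * b' * c') = z

/-- The product over a line. -/
theorem line_prod (L : Lifted π z T D₀) (hs : Sign π z T D₀) (ha : a ∈ D₀)
    (hτ : TL F T (π a) τ) (hl : LL D₀ π τ lab) (hF : Fintype.card F = 2 ^ 2) {p q : Fin 6 → F}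
    (h : Fr2 p q) {ω : F} (hω : ω ^ 2 + ω + 1 = 0) :
    lab p * lab q * lab (p + q) * lab (ω • p + q) * lab (ω ^ 2 • p + q) = a * z := by
  have hqp := herm_eq_zero_swap hF h.uv
  have iso2 : ∀ a b : F, hermForm 6 F 2 (a • p + b • q) (a • p + b • q) = 0 := by
    intro a b
    simp [herm_add_left, herm_add_right hF, herm_smul_left, herm_smul_right, h.uu, h.vv, h.uv, hqp]
  have nz : ∀ {a b : F}, (a ≠ 0 ∨ b ≠ 0) → a • p + b • q ≠ 0 := by
    intro a b hn h0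
    obtain ⟨h1, h2⟩ := h.ind a b h0
    rcases hn with hn | hn
    · exact hn h1
    · exact hn h2
  have e4 : p + q = (1 : F) • p + (1 : F) • q := by module
  have e5 : ω • p + q = ω • p + (1 : F) • q := by module
  have e6 : ω ^ 2 • p + q = (ω ^ 2) • p + (1 : F) • q := by module
  have i4 : hermForm 6 F 2 (p + q) (p + q) = 0 := by rw [e4]; exact iso2 _ _
  have i5 : hermForm 6 F 2 (ω • p + q) (ω • p + q) = 0 := by rw [e5]; exact iso2 _ _
  have i6 : hermForm 6 F 2 (ω ^ 2 • p + q) (ω ^ 2 • p + q) = 0 := by rw [e6]; exact iso2 _ _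
  have z4 : p + q ≠ 0 := by rw [e4]; exact nz (Or.inr one_ne_zero)
  have z5 : ω • p + q ≠ 0 := by rw [e5]; exact nz (Or.inr one_ne_zero)
  have z6 : ω ^ 2 • p + q ≠ 0 := by rw [e6]; exact nz (Or.inr one_ne_zero)
  have H := hτ.line_hex hF (L.map _ ha) (by rw [← map_mul, L.sq a ha, map_one]) h hω
  rw [← hl.map p h.u_ne h.uu, ← hl.map q h.v_ne h.vv, ← hl.map _ z4 i4, ← hl.map _ z5 i5,
    ← hl.map _ z6 i6] at H
  have h1 := hs a ha _ (hl.mem p h.u_ne h.uu) _ (hl.mem q h.v_ne h.vv) _ (hl.mem _ z4 i4) _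
    (hl.mem _ z5 i5) _ (hl.mem _ z6 i6) H
  rw [← h1]
  calc lab p * lab q * lab (p + q) * lab (ω • p + q) * lab (ω ^ 2 • p + q)
      = (a * a) * (lab p * lab q * lab (p + q) * lab (ω • p + q) * lab (ω ^ 2 • p + q)) := by
        rw [L.sq a ha, one_mul]
    _ = _ := by group

/-- The product over a hyperoval. -/
def oprod (lab : (Fin 6 → F) → C) (u v w : Fin 6 → F) (ω t : F) : C :=
  lab u * lab v * lab w * lab (u + v + t • w) * lab (u + ω • v + (t * ω ^ 2) • w) *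
    lab (u + ω ^ 2 • v + (t * ω) • w)

/-- Hyperoval products are in `{1, z, a, a z}` and different from `1`. -/
theorem oprod_mem (L : Lifted π z T D₀) (hs : Sign π z T D₀) (ha : a ∈ D₀)
    (hτ : TL F T (π a) τ) (hl : LL D₀ π τ lab) (hF : Fintype.card F = 2 ^ 2) {u v w : Fin 6 → F}
    (h : Fr3 u v w) {ω : F} (hω : ω ^ 2 + ω + 1 = 0) {t : F} (ht : t ^ 3 = 1) :
    oprod lab u v w ω t = z ∨ oprod lab u v w ω t = a ∨ oprod lab u v w ω t = a * z := by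
  have h1 : hermForm 6 F 2 (u + v + t • w) (u + v + t • w) = 0 := by
    simpa using iso3 hF h 1 1 t 1 1 t
  have h2 : hermForm 6 F 2 (u + ω • v + (t * ω ^ 2) • w) (u + ω • v + (t * ω ^ 2) • w) = 0 := by
    simpa using iso3 hF h 1 ω (t * ω ^ 2) 1 ω (t * ω ^ 2)
  have h3 : hermForm 6 F 2 (u + ω ^ 2 • v + (t * ω) • w) (u + ω ^ 2 • v + (t * ω) • w) = 0 := by
    simpa using iso3 hF h 1 (ω ^ 2) (t * ω) 1 (ω ^ 2) (t * ω)
  have n1 : u + v + t • w ≠ 0 := by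
    simpa using ne_zero3 h (a := 1) (b := 1) (c := t) (Or.inl one_ne_zero)
  have n2 : u + ω • v + (t * ω ^ 2) • w ≠ 0 := by
    simpa using ne_zero3 h (a := 1) (b := ω) (c := t * ω ^ 2) (Or.inl one_ne_zero)
  have n3 : u + ω ^ 2 • v + (t * ω) • w ≠ 0 := by
    simpa using ne_zero3 h (a := 1) (b := ω ^ 2) (c := t * ω) (Or.inl one_ne_zero)
  have ht0 : t ≠ 0 := by
    rintro rfl
    simp at ht
  have hπ : π (oprod lab u v w ω t) = τ u * τ v * τ w * τ (u + v + t • w) *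
      τ (u + ω • v + (t * ω ^ 2) • w) * τ (u + ω ^ 2 • v + (t * ω) • w) := by
    rw [oprod, map_mul, map_mul, map_mul, map_mul, map_mul, hl.map u h.u_ne h.uu,
      hl.map v h.v_ne h.vv, hl.map w h.w_ne h.ww, hl.map _ n1 h1, hl.map _ n2 h2, hl.map _ n3 h3]
  rcases hτ.oval u v w h ω hω t ht with h4 | h4
  · left
    have H := hτ.oval_hex hF h hω ht0 h4
    rw [← hl.map u h.u_ne h.uu, ← hl.map v h.v_ne h.vv, ← hl.map w h.w_ne h.ww,
      ← hl.map _ n1 h1, ← hl.map _ n2 h2, ← hl.map _ n3 h3] at H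
    rw [← hs _ (hl.mem u h.u_ne h.uu) _ (hl.mem v h.v_ne h.vv) _ (hl.mem w h.w_ne h.ww) _
      (hl.mem _ n1 h1) _ (hl.mem _ n2 h2) _ (hl.mem _ n3 h3) H, oprod]
    group
  · right
    rw [h4] at hπ
    exact L.ext.map_eq.1 hπ

theorem six_comm {H : Type*} [CommGroup H] {A B G κ m1 m2 m3 p11 p12 p13 p21 p22 p23 p31 p32 p33 : H}
    (qA : A * A = 1) (qB : B * B = 1) (qG : G * G = 1) (q1 : m1 * m1 = 1) (q2 : m2 * m2 = 1)
    (q3 : m3 * m3 = 1) (q11 : p11 * p11 = 1) (q12 : p12 * p12 = 1) (q13 : p13 * p13 = 1)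
    (q21 : p21 * p21 = 1) (q22 : p22 * p22 = 1) (q23 : p23 * p23 = 1) (q31 : p31 * p31 = 1)
    (q32 : p32 * p32 = 1) (q33 : p33 * p33 = 1) (qκ : κ * κ = 1)
    (r1 : B * m1 * p11 * p21 * p31 = κ) (r2 : B * m2 * p12 * p22 * p32 = κ)
    (r3 : B * m3 * p13 * p23 * p33 = κ) (r4 : G * A * m1 * m2 * m3 = κ) :
    (A * B * G * p11 * p23 * p32) * (A * B * G * p12 * p21 * p33) * (A * B * G * p13 * p22 * p31)
      = 1 := by
  have h1 : (A * B * G * p11 * p23 * p32) * (A * B * G * p12 * p21 * p33) *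
      (A * B * G * p13 * p22 * p31) * ((B * m1 * p11 * p21 * p31) * (B * m2 * p12 * p22 * p32) *
      (B * m3 * p13 * p23 * p33) * (G * A * m1 * m2 * m3)) =
      (A * A) * (A * A) * ((B * B) * (B * B) * (B * B)) * ((G * G) * (G * G)) *
      ((m1 * m1) * (m2 * m2) * (m3 * m3)) * ((p11 * p11) * (p12 * p12) * (p13 * p13)) *
      ((p21 * p21) * (p22 * p22) * (p23 * p23)) * ((p31 * p31) * (p32 * p32) * (p33 * p33)) := by
    ac_rfl
  rw [r1, r2, r3, r4, qA, qB, qG, q1, q2, q3, q11, q12, q13, q21, q22, q23, q31, q32, q33] at h1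
  have h2 : κ * κ * κ * κ = 1 := by rw [qκ, one_mul, qκ]
  rw [h2, mul_one] at h1
  rw [h1]
  simp

/-- The product of the three hyperoval products is trivial. -/
theorem oprod_three (L : Lifted π z T D₀) (hs : Sign π z T D₀) (ha : a ∈ D₀)
    (hτ : TL F T (π a) τ) (hl : LL D₀ π τ lab) (hF : Fintype.card F = 2 ^ 2) {u v w : Fin 6 → F}
    (h : Fr3 u v w) {ω : F} (hω : ω ^ 2 + ω + 1 = 0) :
    oprod lab u v w ω 1 * oprod lab u v w ω ω * oprod lab u v w ω (ω ^ 2) = 1 := by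
  have hL := labels L ha hτ hl hF
  have hw3 : ω ^ 3 = 1 := omega_cubed hω
  obtain ⟨H, _, φ, hφ, hx⟩ := Squares.exists_comm
    ({x | x = a ∨ x = z ∨ ∃ α β γ : F, (α ≠ 0 ∨ β ≠ 0 ∨ γ ≠ 0) ∧
      x = lab (α • u + β • v + γ • w)} : Set C) (by
    have hz : ∀ y : C, z * y = y * z := fun y => (L.ext.comm y).symm
    have hla : ∀ α β γ : F, (α ≠ 0 ∨ β ≠ 0 ∨ γ ≠ 0) →
        a * lab (α • u + β • v + γ • w) = lab (α • u + β • v + γ • w) * a := fun α β γ hn =>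
      ((hL.mem _ (ne_zero3 h hn) (iso3 hF h _ _ _ _ _ _)).2.1).symm
    rintro x (rfl | rfl | ⟨α, β, γ, hn, rfl⟩) y (rfl | rfl | ⟨α', β', γ', hn', rfl⟩)
    · rfl
    · exact (hz _).symm
    · exact hla _ _ _ hn'
    · exact hz _
    · rfl
    · exact hz _
    · exact (hla _ _ _ hn).symm
    · exact (hz _).symm
    · exact (hL.comm _ _ (ne_zero3 h hn) (ne_zero3 h hn') (iso3 hF h _ _ _ _ _ _)
        (iso3 hF h _ _ _ _ _ _)).2 (iso3 hF h _ _ _ _ _ _))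
  have hlab : ∀ α β γ : F, ∃ x : H, (α ≠ 0 ∨ β ≠ 0 ∨ γ ≠ 0) →
      φ x = lab (α • u + β • v + γ • w) ∧ x * x = 1 := by
    intro α β γ
    by_cases hn : α ≠ 0 ∨ β ≠ 0 ∨ γ ≠ 0
    · obtain ⟨x, hxx⟩ := hx _ (Or.inr (Or.inr ⟨α, β, γ, hn, rfl⟩))
      refine ⟨x, fun _ => ⟨hxx, hφ ?_⟩⟩
      rw [map_mul, hxx, map_one]
      exact hL.sq _ (ne_zero3 h hn) (iso3 hF h _ _ _ _ _ _)
    · exact ⟨1, fun h => absurd h hn⟩
  choose l hl' using hlab
  obtain ⟨κ, hκ⟩ : ∃ κ, φ κ = a * z := by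
    obtain ⟨x, hxx⟩ := hx a (Or.inl rfl)
    obtain ⟨y, hyy⟩ := hx z (Or.inr (Or.inl rfl))
    exact ⟨x * y, by rw [map_mul, hxx, hyy]⟩
  have hκκ : κ * κ = 1 := hφ (by
    rw [map_mul, hκ, map_one]
    calc a * z * (a * z) = a * (z * a) * z := by group
      _ = a * (a * z) * z := by rw [L.ext.comm a]
      _ = (a * a) * (z * z) := by group
      _ = 1 := by rw [L.sq a ha, L.ext.zz, one_mul])
  have o : ∀ β γ : F, (1 : F) ≠ 0 ∨ β ≠ 0 ∨ γ ≠ 0 := fun _ _ => Or.inl one_ne_zero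
  have oB : (0 : F) ≠ 0 ∨ (1 : F) ≠ 0 ∨ (0 : F) ≠ 0 := Or.inr (Or.inl one_ne_zero)
  have oG : (0 : F) ≠ 0 ∨ (0 : F) ≠ 0 ∨ (1 : F) ≠ 0 := Or.inr (Or.inr one_ne_zero)
  have eA : φ (l 1 0 0) = lab u := by rw [(hl' _ _ _ (o _ _)).1]; congr 1; module
  have eB : φ (l 0 1 0) = lab v := by rw [(hl' _ _ _ oB).1]; congr 1; module
  have eG : φ (l 0 0 1) = lab w := by rw [(hl' _ _ _ oG).1]; congr 1; module
  have em : ∀ c : F, φ (l 1 0 c) = lab (u + c • w) := fun c => by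
    rw [(hl' _ _ _ (o _ _)).1]; congr 1; module
  have ep : ∀ b c : F, φ (l 1 b c) = lab (u + b • v + c • w) := fun b c => by
    rw [(hl' _ _ _ (o _ _)).1]; congr 1; module
  -- the lines
  have hline : ∀ c : F, l 0 1 0 * l 1 0 c * l 1 1 c * l 1 ω c * l 1 (ω ^ 2) c = κ := by
    intro c
    apply hφ
    have hfr : Fr2 v (u + c • w) := by
      refine ⟨h.vv, ?_, ?_, fun α β hab => ?_⟩
      · simpa using iso3 hF h 1 0 c 1 0 c
      · simpa using iso3 hF h 0 1 0 1 0 c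
      · obtain ⟨h1, h2, -⟩ := h.ind β α (β * c) (by rw [← hab]; module)
        exact ⟨h2, h1⟩
    have h1 := line_prod L hs ha hτ hl hF hfr hω
    rw [map_mul, map_mul, map_mul, map_mul, eB, em, ep, ep, ep, hκ, ← h1]
    have e1 : u + (1 : F) • v + c • w = v + (u + c • w) := by module
    have e2 : u + ω • v + c • w = ω • v + (u + c • w) := by module
    have e3 : u + ω ^ 2 • v + c • w = ω ^ 2 • v + (u + c • w) := by module
    rw [e1, e2, e3]
  have hline' : l 0 0 1 * l 1 0 0 * l 1 0 1 * l 1 0 ω * l 1 0 (ω ^ 2) = κ := by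
    apply hφ
    have hfr : Fr2 w u := by
      refine ⟨h.ww, h.uu, herm_eq_zero_swap hF h.uw, fun α β hab => ?_⟩
      obtain ⟨h1, -, h2⟩ := h.ind β 0 α (by rw [← hab]; module)
      exact ⟨h2, h1⟩
    have h1 := line_prod L hs ha hτ hl hF hfr hω
    rw [map_mul, map_mul, map_mul, map_mul, eG, eA, em, em, em, hκ, ← h1]
    have e1 : u + (1 : F) • w = w + u := by module
    have e2 : u + ω • w = ω • w + u := by module
    have e3 : u + ω ^ 2 • w = ω ^ 2 • w + u := by module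
    rw [e1, e2, e3]
  have hO : ∀ t : F, oprod lab u v w ω t = φ (l 1 0 0 * l 0 1 0 * l 0 0 1 * l 1 1 t *
      l 1 ω (t * ω ^ 2) * l 1 (ω ^ 2) (t * ω)) := by
    intro t
    rw [map_mul, map_mul, map_mul, map_mul, map_mul, eA, eB, eG, ep, ep, ep, one_smul, oprod]
  have t1 : (1 : F) * ω ^ 2 = ω ^ 2 := one_mul _
  have t2 : (1 : F) * ω = ω := one_mul _
  have t3 : ω * ω ^ 2 = 1 := by linear_combination hw3
  have t4 : ω * ω = ω ^ 2 := by ring
  have t5 : ω ^ 2 * ω ^ 2 = ω := by linear_combination ω * hw3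
  have t6 : ω ^ 2 * ω = 1 := by linear_combination hw3
  rw [hO, hO, hO, ← map_mul, ← map_mul, t1, t2, t3, t4, t5, t6]
  have key := six_comm (hl' 1 0 0 (o _ _)).2 (hl' 0 1 0 oB).2 (hl' 0 0 1 oG).2
    (hl' 1 0 1 (o _ _)).2 (hl' 1 0 ω (o _ _)).2 (hl' 1 0 (ω ^ 2) (o _ _)).2
    (hl' 1 1 1 (o _ _)).2 (hl' 1 1 ω (o _ _)).2 (hl' 1 1 (ω ^ 2) (o _ _)).2
    (hl' 1 ω 1 (o _ _)).2 (hl' 1 ω ω (o _ _)).2 (hl' 1 ω (ω ^ 2) (o _ _)).2
    (hl' 1 (ω ^ 2) 1 (o _ _)).2 (hl' 1 (ω ^ 2) ω (o _ _)).2 (hl' 1 (ω ^ 2) (ω ^ 2) (o _ _)).2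
    hκκ (hline 1) (hline ω) (hline (ω ^ 2)) hline'
  rw [key, map_one]

/-- The units of the field with four elements. -/
theorem exists_unit (hF : Fintype.card F = 2 ^ 2) {ω : F} (hω : ω ^ 2 + ω + 1 = 0) :
    ∃ x : Fˣ, (x : F) = ω ∧ x ^ 3 = 1 ∧ x ≠ 1 ∧ x ^ 2 ≠ 1 ∧ x ≠ x ^ 2 ∧
      ∀ t : Fˣ, t = 1 ∨ t = x ∨ t = x ^ 2 := by
  obtain ⟨w0, w1, w2, w3⟩ := fr3_ne hω (two_eq_zero hF)
  have hx : ((Units.mk0 ω w0 : Fˣ) : F) = ω := rfl
  refine ⟨Units.mk0 ω w0, rfl, ?_, ?_, ?_, ?_, ?_⟩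
  · apply Units.ext
    rw [Units.val_pow_eq_pow_val, hx, Units.val_one]
    exact omega_cubed hω
  · intro h
    apply w1
    rw [← hx, h, Units.val_one]
  · intro h
    apply w2
    rw [← hx, ← Units.val_pow_eq_pow_val, h, Units.val_one]
  · intro h
    apply w3
    rw [← hx, ← Units.val_pow_eq_pow_val, ← h]
  · intro t
    rcases FiLocal.cases_ne_zero hF hω t.ne_zero with h | h | h
    · left; exact Units.ext h
    · right; left; exact Units.ext h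
    · right; right
      apply Units.ext
      rw [Units.val_pow_eq_pow_val, hx, h]

/-- The list product over the units. -/
theorem prod_units {M : Type*} [Monoid M] [Fintype Fˣ] {x : Fˣ} (h1 : x ≠ 1) (h2 : x ^ 2 ≠ 1) (h3 : x ≠ x ^ 2)
    (hx : ∀ t : Fˣ, t = 1 ∨ t = x ∨ t = x ^ 2) (g : Fˣ → M) (hg : ∀ b c, Commute (g b) (g c)) :
    ((Finset.univ : Finset Fˣ).toList.map g).prod = g 1 * g x * g (x ^ 2) := by
  classical
  have hp : (Finset.univ : Finset Fˣ).toList.Perm [1, x, x ^ 2] := by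
    refine (List.perm_ext_iff_of_nodup (Finset.nodup_toList _) ?_).2 ?_
    · simp only [List.nodup_cons, List.mem_cons, List.not_mem_nil, or_false, not_or]
      exact ⟨⟨h1.symm, h2.symm⟩, h3, not_false, List.nodup_nil⟩
    · intro t
      simp only [Finset.mem_toList, Finset.mem_univ, List.mem_cons, List.not_mem_nil, or_false,
        true_iff]
      exact hx t
  rw [(hp.map g).prod_eq']
  · simp [mul_assoc]
  · rw [List.pairwise_map]
    exact List.pairwise_of_forall fun b c => hg b c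

/-- The list of `HermPlane` gives the hyperoval product. -/
theorem ovalList_prod (hL : Labels (Nb D₀ a) 6 F lab) (hF : Fintype.card F = 2 ^ 2)
    {u v w : Fin 6 → F} (h : Fr3 u v w) {ω : F} (hω : ω ^ 2 + ω + 1 = 0) (t : Fˣ) :
    ((ovalList u v w t).map lab).prod = oprod lab u v w ω (t : F) := by
  classical
  obtain ⟨x, hxω, hx3, h1, h2, h3, hx⟩ := exists_unit hF hω
  have hc : ∀ b c : Fˣ, Commute
      ((lab ∘ fun b : Fˣ => u + (b : F) • v + ((t * b⁻¹ : Fˣ) : F) • w) b)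
      ((lab ∘ fun b : Fˣ => u + (b : F) • v + ((t * b⁻¹ : Fˣ) : F) • w) c) := by
    intro b c
    have e : ∀ b : Fˣ, u + (b : F) • v + ((t * b⁻¹ : Fˣ) : F) • w =
        (1 : F) • u + (b : F) • v + ((t * b⁻¹ : Fˣ) : F) • w := fun b => by module
    change Commute (lab (u + (b : F) • v + ((t * b⁻¹ : Fˣ) : F) • w))
      (lab (u + (c : F) • v + ((t * c⁻¹ : Fˣ) : F) • w))
    rw [e b, e c]
    exact (hL.comm _ _ (ne_zero3 h (Or.inl one_ne_zero)) (ne_zero3 h (Or.inl one_ne_zero))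
      (iso3 hF h _ _ _ _ _ _) (iso3 hF h _ _ _ _ _ _)).2 (iso3 hF h _ _ _ _ _ _)
  have e1 : ((t * (1 : Fˣ)⁻¹ : Fˣ) : F) = t := by rw [inv_one, mul_one]
  have ex : x⁻¹ = x ^ 2 := by
    rw [inv_eq_iff_mul_eq_one, ← pow_succ']
    exact hx3
  have ex2 : (x ^ 2)⁻¹ = x := by rw [← ex, inv_inv]
  unfold ovalList
  rw [List.map_cons, List.map_cons, List.map_cons, List.map_map, List.prod_cons, List.prod_cons,
    List.prod_cons, prod_units h1 h2 h3 hx _ hc]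
  simp only [Function.comp_apply, inv_one, mul_one, ex, ex2, Units.val_one, one_smul,
    Units.val_mul, Units.val_pow_eq_pow_val, hxω, oprod]
  group

/-- **Labels and hyperovals in the double cover.** -/
theorem exists_labels (L : Lifted π z T D₀) (hs : Sign π z T D₀) (ha : a ∈ D₀)
    (hloc : LocAt hF T (π a)) : ∃ (lab : (Fin 6 → F) → C) (u v w : Fin 6 → F),
      Labels (Nb D₀ a) 6 F lab ∧ Fr3 u v w ∧
      (∀ t : Fˣ, ((ovalList u v w t).map lab).prod ∈ Subgroup.closure ({z, a} : Set C)) ∧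
      ∀ t t' : Fˣ, ((ovalList u v w t).map lab).prod = ((ovalList u v w t').map lab).prod →
        t = t' := by
  obtain ⟨τ, hτ⟩ := exists_tl hloc
  obtain ⟨lab, hl⟩ := exists_ll L hτ
  have hL := labels L ha hτ hl hF
  obtain ⟨u, v, w, hfr⟩ := exists_fr3 hF
  obtain ⟨ω, hω⟩ := exists_omega hF
  obtain ⟨x, hxω, hx3, h1, h2, h3, hx⟩ := exists_unit hF hω
  have ht3 : ∀ t : Fˣ, (t : F) ^ 3 = 1 := fun t =>
    Cfsg.Agent.SporadicStructure.UnitTwo.pow_three hF t.ne_zero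
  have hmem := fun t : Fˣ => oprod_mem L hs ha hτ hl hF hfr hω (ht3 t)
  have hprod := oprod_three L hs ha hτ hl hF hfr hω
  have haz : a * z * (a * z) = 1 := by
    calc a * z * (a * z) = a * (z * a) * z := by group
      _ = a * (a * z) * z := by rw [L.ext.comm a]
      _ = (a * a) * (z * z) := by group
      _ = 1 := by rw [L.sq a ha, L.ext.zz, one_mul]
  have hπa : π a ≠ 1 := by
    obtain ⟨π', lift, L', -⟩ := hloc
    intro h
    exact L'.ext.zne (Subtype.ext h)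
  have ha1 : a ≠ 1 := fun h => hπa (by rw [h, map_one])
  have haz1 : a * z ≠ 1 := fun h => hπa (by
    have h5 : π (a * z) = 1 := by rw [h, map_one]
    rwa [map_mul, L.ext.mapz, mul_one] at h5)
  refine ⟨lab, u, v, w, hL, hfr, ?_, ?_⟩
  · intro t
    rw [ovalList_prod hL hF hfr hω t]
    have hz : z ∈ Subgroup.closure ({z, a} : Set C) := Subgroup.subset_closure (by simp)
    have ha' : a ∈ Subgroup.closure ({z, a} : Set C) := Subgroup.subset_closure (by simp)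
    rcases hmem t with h | h | h
    · rw [h]; exact hz
    · rw [h]; exact ha'
    · rw [h]; exact mul_mem ha' hz
  · -- the three products are different
    set f : Fˣ → C := fun t => oprod lab u v w ω (t : F) with hf
    have hfm : ∀ t, f t = z ∨ f t = a ∨ f t = a * z := hmem
    have hne1 : ∀ t : Fˣ, f t ≠ 1 := by
      intro t h
      rcases hfm t with h' | h' | h'
      · exact L.ext.zne (by rw [← h', h])
      · exact ha1 (by rw [← h', h])
      · exact haz1 (by rw [← h', h])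
    have hsq : ∀ t : Fˣ, f t * f t = 1 := by
      intro t
      rcases hfm t with h' | h' | h'
      · rw [h', L.ext.zz]
      · rw [h', L.sq a ha]
      · rw [h', haz]
    have hcomm : ∀ t t' : Fˣ, f t * f t' = f t' * f t := by
      intro t t'
      have hz : ∀ y : C, z * y = y * z := fun y => (L.ext.comm y).symm
      have hza : a * (a * z) = a * z * a := by rw [mul_assoc, hz a]
      rcases hfm t with h | h | h <;> rcases hfm t' with h' | h' | h' <;> rw [h, h']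
      · exact hz _
      · exact hz _
      · exact (hz _).symm
      · exact hza
      · exact (hz _).symm
      · exact hza.symm
    have hprod' : f 1 * f x * f (x ^ 2) = 1 := by
      simp only [hf, hxω, Units.val_one, Units.val_pow_eq_pow_val]
      exact hprod
    have n1 : f 1 ≠ f x := by
      intro h
      rw [h, hsq x, one_mul] at hprod'
      exact hne1 _ hprod'
    have n2 : f x ≠ f (x ^ 2) := by
      intro h
      rw [← h, mul_assoc, hsq x, mul_one] at hprod'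
      exact hne1 _ hprod'
    have n3 : f 1 ≠ f (x ^ 2) := by
      intro h
      have h4 : f x * (f 1 * f (x ^ 2)) = 1 := by
        rw [← hprod', ← mul_assoc]
        congr 1
        exact hcomm x 1
      rw [← h, hsq 1, mul_one] at h4
      exact hne1 _ h4
    intro t t' h
    rw [ovalList_prod hL hF hfr hω t, ovalList_prod hL hF hfr hω t'] at h
    have h' : f t = f t' := h
    rcases hx t with e | e | e <;> rcases hx t' with e' | e' | e' <;> rw [e, e'] at h' ⊢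
    · exact absurd h' n1
    · exact absurd h' n3
    · exact absurd h'.symm n1
    · exact absurd h' n2
    · exact absurd h'.symm n3
    · exact absurd h'.symm n2

/-- `z` is the product of a hexad, so it is fixed by an automorphism preserving `D₀`. -/
theorem map_z (L : Lifted π z T D₀) (hcen : ∀ c : C, (∀ g : C, g * c = c * g) → c = 1 ∨ c = z)
    (φ : C ≃* C) : φ z = z := by
  rcases hcen (φ z) (fun g => by
    obtain ⟨g, rfl⟩ := φ.surjective g
    rw [← map_mul, L.ext.comm, map_mul]) with h | h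
  · exact absurd (φ.injective (by rw [h, map_one])) L.ext.zne
  · exact h

/-- The centre of a double cover of a group with trivial centre. -/
theorem center_cases (L : Lifted π z T D₀) (hP : ∀ c : P, (∀ g : P, g * c = c * g) → c = 1)
    (c : C) (hc : ∀ g : C, g * c = c * g) : c = 1 ∨ c = z :=
  (L.ext.ker c).1 (hP _ fun g => by
    obtain ⟨g, rfl⟩ := L.ext.surj g
    rw [← map_mul, hc, map_mul])

/-- **LEMMA V** for the lifts of a class of 3-transpositions. -/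
theorem lemmaV (L : Lifted π z T D₀) (hs : Sign π z T D₀) (hgen : Subgroup.closure D₀ = ⊤)
    (hloc : Loc hF T) (htrans : ∀ s ∈ T, ∀ t ∈ T, ∃ g : P, g * s * g⁻¹ = t) (hT : T.Nonempty)
    (hlink : ∀ s ∈ T, ∀ t ∈ T, ¬ Commute s t → ∃ c ∈ T, Commute c s ∧ Commute c t)
    (hP : ∀ c : P, (∀ g : P, g * c = c * g) → c = 1) (φ : C ≃* C) (hφ : ∀ x ∈ D₀, φ x ∈ D₀) :
    ∃ g : C, ∀ y, φ y = g * y * g⁻¹ := by
  obtain ⟨t, ht⟩ := hT
  obtain ⟨a, ha, rfl⟩ := L.surj t ht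
  obtain ⟨lab, u, v, w, hL, hfr, hoZ, hinj⟩ := exists_labels L hs ha (hloc _ ht)
  refine inner hF (class3 L) ?_ ?_ hgen (fun g => (L.ext.comm g).symm) ha hL hfr hoZ hinj φ hφ
    (map_z L (center_cases L hP) φ)
  · intro x hx y hy hxy
    obtain ⟨c, hc, h1, h2⟩ := hlink _ (L.map x hx) _ (L.map y hy) (fun h => hxy (L.comm x hx y hy h))
    obtain ⟨i, hi, rfl⟩ := L.surj c hc
    exact ⟨i, hi, L.comm i hi x hx h1, L.comm i hi y hy h2⟩
  · intro x hx y hy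
    obtain ⟨g, hg⟩ := htrans _ (L.map x hx) _ (L.map y hy)
    obtain ⟨k, rfl⟩ := L.ext.surj g
    exact ⟨k, FiMain.conj_eq L hx hy hg⟩

/-- **LEMMA V'**: an automorphism preserving `D₀`, fixing `a` and the members of `D₀` commuting with `a`. -/
theorem lemmaV' (L : Lifted π z T D₀) (hs : Sign π z T D₀)
    (hloc : Loc hF T)
    (hlink : ∀ s ∈ T, ∀ t ∈ T, ¬ Commute s t → ∃ c ∈ T, Commute c s ∧ Commute c t)
    {a : C} (ha : a ∈ D₀) (φ : C ≃* C) (hφ : ∀ x ∈ D₀, φ x ∈ D₀) (hfa : φ a = a)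
    (hfix : ∀ y ∈ D₀, Commute y a → φ y = y) :
    (∀ y ∈ D₀, φ y = y) ∨ (∀ y ∈ D₀, φ y = a * y * a) := by
  refine alt_of_labels hF (class3 L) ?_ ?_ ha φ hφ hfa hfix
  · intro x hx y hy hxy
    obtain ⟨c, hc, h1, h2⟩ := hlink _ (L.map x hx) _ (L.map y hy) (fun h => hxy (L.comm x hx y hy h))
    obtain ⟨i, hi, rfl⟩ := L.surj c hc
    exact ⟨i, hi, L.comm i hi x hx h1, L.comm i hi y hy h2⟩
  · intro i hi
    obtain ⟨τ, hτ⟩ := exists_tl (hloc _ (L.map i hi))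
    obtain ⟨lab, hl⟩ := exists_ll L hτ
    exact ⟨lab, labels L hi hτ hl hF⟩

end CLevel

end Cfsg.Agent.R08.LemmaV2
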