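import Cfsg.Agent.R08.ModOrb

/-!
# R08 (S1715), piece (0) Part B: orbits on isotropic vectors (helper256)
-/

set_option autoImplicit false

namespace Cfsg.Agent.R08.ModIso

open Cfsg.Agent.SporRec.GF4 Cfsg.Agent.R08.ModVec Cfsg.Agent.R08.ModMono Cfsg.Agent.R08.Frame
open Cfsg.Agent.R08.ModOrb

variable {H : Subgroup SL}

theorem prod_ne_zero {v : W} (h : wt v = 6) : ∏ i, v i ≠ 0 :=
  Finset.prod_ne_zero_iff.2 fun i _ => wt_eq_six.1 h i

open Classical in
/-- membership in the orbit of an isotropic vector -/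
theorem orb_iff (hH : LinFrame F4 H) {u : W} (hu : herm u u = 0) (hu0 : u ≠ 0) (v : W) :
    Orb H u v ↔ tyN (decide (Orb H u u2)) (decide (Orb H u u4))
      (tri (decide (Orb H u (u6 .o))) (decide (Orb H u (u6 .w))) (decide (Orb H u (u6 .v))))
      (v 0) (v 1) (v 2) (v 3) (v 4) (v 5) = true := by
  have key : ∀ w : W, wt w = wt v → (wt w = 6 → ∏ i, w i = ∏ i, v i) → (Orb H u v ↔ Orb H u w) :=
    fun w h h' => ⟨fun h1 => h1.trans (Orb.of_type hH h.symm (fun h2 => (h' (h.trans h2)).symm)),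
      fun h1 => h1.trans (Orb.of_type hH h h')⟩
  have hodd : Orb H u v → wt v = 2 ∨ wt v = 4 ∨ wt v = 6 := by
    intro h
    apply herm_self_eq
    · rw [h.herm_eq hH, hu]
    · rintro rfl
      obtain ⟨A, hA, h2⟩ := h
      apply hu0
      have := congrArg (fun w => A⁻¹ • w) h2
      simpa using this
  unfold tyN
  rw [← wt_eq', ← prod_eq']
  have hle := wt_le v
  have hcase : wt v = 0 ∨ wt v = 1 ∨ wt v = 2 ∨ wt v = 3 ∨ wt v = 4 ∨ wt v = 5 ∨ wt v = 6 := by omega
  rcases hcase with h | h | h | h | h | h | h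
  · rw [h] at hodd ⊢
    simp only [Bool.false_eq_true, iff_false]
    intro h1; have := hodd h1; omega
  · rw [h] at hodd ⊢
    simp only [Bool.false_eq_true, iff_false]
    intro h1; have := hodd h1; omega
  · rw [h]
    simp only [decide_eq_true_eq]
    exact key u2 (wt_u2.trans h.symm) (fun h1 => by rw [wt_u2] at h1; omega)
  · rw [h] at hodd ⊢
    simp only [Bool.false_eq_true, iff_false]
    intro h1; have := hodd h1; omega
  · rw [h]
    simp only [decide_eq_true_eq]
    exact key u4 (wt_u4.trans h.symm) (fun h1 => by rw [wt_u4] at h1; omega)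
  · rw [h] at hodd ⊢
    simp only [Bool.false_eq_true, iff_false]
    intro h1; have := hodd h1; omega
  · have hne := prod_ne_zero h
    rw [h]
    simp only
    have k6 : Orb H u v ↔ Orb H u (u6 (∏ i, v i)) :=
      key (u6 (∏ i, v i)) ((wt_u6 hne).trans h.symm) (fun _ => prod_u6 _)
    rw [k6]
    generalize (∏ i, v i) = c at hne
    cases c
    · exact absurd rfl hne
    · simp [tri]
    · simp [tri]
    · simp [tri]

open Classical in
theorem good_of (hH : LinFrame F4 H) {u : W} (hu : herm u u = 0) (hu0 : u ≠ 0) :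
    good (decide (Orb H u u2)) (decide (Orb H u u4))
      (decide (Orb H u (u6 .o))) (decide (Orb H u (u6 .w))) (decide (Orb H u (u6 .v))) = true := by
  apply check_cnt
  have h1 := count_eq hH (Orb H u) (fun A hA v hv => hv.trans ⟨A, hA, rfl⟩) (p := e 0) (q := u3)
    (orb_odd hH (by rw [herm_self, wt_u3]; decide))
  have hz : ∀ a : F4, a = F4.z ↔ a = 0 := fun a => Iff.rfl
  rw [card_W (p := fun x0 x1 x2 x3 x4 x5 => tyN (decide (Orb H u u2)) (decide (Orb H u u4))
      (tri (decide (Orb H u (u6 .o))) (decide (Orb H u (u6 .w))) (decide (Orb H u (u6 .v))))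
      x0 x1 x2 x3 x4 x5 && x0 == .z) (by
    intro v
    rw [Bool.and_eq_true, ← orb_iff hH hu hu0, beq_iff_eq, e, herm_single_right]
    exact Iff.rfl),
    card_W (p := fun x0 x1 x2 x3 x4 x5 => tyN (decide (Orb H u u2)) (decide (Orb H u u4))
      (tri (decide (Orb H u (u6 .o))) (decide (Orb H u (u6 .w))) (decide (Orb H u (u6 .v))))
      x0 x1 x2 x3 x4 x5 && (x0 + x1 + x2 == .z)) (by
    intro v
    have h2 : herm v u3 = v 0 + v 1 + v 2 := by
      rw [herm_eq]
      show v 0 * 1 + v 1 * 1 + v 2 * 1 + v 3 * 0 + v 4 * 0 + v 5 * 0 = _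
      ring
    rw [Bool.and_eq_true, ← orb_iff hH hu hu0, beq_iff_eq, h2]
    exact Iff.rfl)] at h1
  exact h1

theorem iso_u2 : herm u2 u2 = 0 := by decide
theorem iso_u4 : herm u4 u4 = 0 := by decide
theorem u2_ne : u2 ≠ 0 := by
  intro h; exact absurd (congrFun h 0) (by decide)
theorem u4_ne : u4 ≠ 0 := by
  intro h; exact absurd (congrFun h 0) (by decide)

theorem six_cases (P Q R P' Q' R' : Prop) [Decidable P] [Decidable Q] [Decidable R]
    [Decidable P'] [Decidable Q'] [Decidable R']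
    (h : good true false (decide P) (decide Q) (decide R) = true)
    (h' : good false true (decide P') (decide Q') (decide R') = true)
    (d1 : ¬ (P ∧ P')) (d2 : ¬ (Q ∧ Q')) (d3 : ¬ (R ∧ R')) :
    (P ∧ ¬ Q ∧ ¬ R ∧ ¬ P' ∧ Q' ∧ R') ∨ (¬ P ∧ Q ∧ ¬ R ∧ P' ∧ ¬ Q' ∧ R') ∨
      (¬ P ∧ ¬ Q ∧ R ∧ P' ∧ Q' ∧ ¬ R') := by
  have a1 : (P ∧ ¬ Q ∧ ¬ R) ∨ (¬ P ∧ Q ∧ ¬ R) ∨ (¬ P ∧ ¬ Q ∧ R) := by
    by_cases hP : P <;> by_cases hQ : Q <;> by_cases hR : R <;>
      simp only [hP, hQ, hR, decide_true, decide_false] at h ⊢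
    all_goals first | exact absurd h (by decide) | simp
  have a2 : (¬ P' ∧ Q' ∧ R') ∨ (P' ∧ ¬ Q' ∧ R') ∨ (P' ∧ Q' ∧ ¬ R') := by
    by_cases hP : P' <;> by_cases hQ : Q' <;> by_cases hR : R' <;>
      simp only [hP, hQ, hR, decide_true, decide_false] at h' ⊢
    all_goals first | exact absurd h' (by decide) | simp
  clear h h'
  tauto

/-- The two orbits of `H` on nonzero isotropic vectors. -/
theorem iso_orbits (hH : LinFrame F4 H) : ∃ c : F4, c ≠ 0 ∧
    (∀ v, Orb H u2 v ↔ wt v = 2 ∨ (wt v = 6 ∧ ∏ i, v i = c)) ∧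
    (∀ v, Orb H u4 v ↔ wt v = 4 ∨ (wt v = 6 ∧ ∏ i, v i ≠ c)) := by
  classical
  have key6 : ∀ u w : W, wt w = 6 → (Orb H u w ↔ Orb H u (u6 (∏ i, w i))) := by
    intro u w hw
    have hne := prod_ne_zero hw
    exact ⟨fun h => h.trans (Orb.of_type hH (hw.trans (wt_u6 hne).symm) (fun _ => (prod_u6 _).symm)),
      fun h => h.trans (Orb.of_type hH ((wt_u6 hne).trans hw.symm) (fun _ => prod_u6 _))⟩
  have key4 : ∀ u w : W, wt w = 4 → (Orb H u w ↔ Orb H u u4) := fun u w hw =>
    ⟨fun h => h.trans (Orb.of_type hH (hw.trans wt_u4.symm) (fun h => by omega)),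
      fun h => h.trans (Orb.of_type hH (wt_u4.trans hw.symm) (fun h => by rw [wt_u4] at h; omega))⟩
  have key2 : ∀ u w : W, wt w = 2 → (Orb H u w ↔ Orb H u u2) := fun u w hw =>
    ⟨fun h => h.trans (Orb.of_type hH (hw.trans wt_u2.symm) (fun h => by omega)),
      fun h => h.trans (Orb.of_type hH (wt_u2.trans hw.symm) (fun h => by rw [wt_u2] at h; omega))⟩
  have type_of : ∀ u : W, herm u u = 0 → u ≠ 0 → ∀ w, Orb H u w → wt w = 2 ∨ wt w = 4 ∨ wt w = 6 := by
    intro u hu hu0 w h
    apply herm_self_eq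
    · rw [h.herm_eq hH, hu]
    · rintro rfl
      obtain ⟨A, hA, h2⟩ := h
      apply hu0
      have := congrArg (fun w => A⁻¹ • w) h2
      simpa using this
  have g2 := good_of hH iso_u2 u2_ne
  have g4 := good_of hH iso_u4 u4_ne
  have a2 : decide (Orb H u2 u2) = true := decide_eq_true (Orb.refl u2)
  have b4 : decide (Orb H u4 u4) = true := decide_eq_true (Orb.refl u4)
  rw [a2] at g2
  rw [b4] at g4
  have hdvd := orb_dvd hH u2
  rw [card_W (orb_iff hH iso_u2 u2_ne), a2] at hdvd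
  -- the orbit of `u2` does not contain `u4`
  have b2 : decide (Orb H u2 u4) = false := by
    cases hb : decide (Orb H u2 u4)
    · rfl
    · exfalso
      rw [hb] at g2 hdvd
      revert g2 hdvd
      cases decide (Orb H u2 (u6 .o)) <;> cases decide (Orb H u2 (u6 .w)) <;>
        cases decide (Orb H u2 (u6 .v)) <;> intro g2 hdvd
      all_goals first
        | exact absurd g2 (by decide)
        | (rw [check_all] at hdvd; exact absurd hdvd (by decide))
  have n24 : ¬ Orb H u2 u4 := of_decide_eq_false b2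
  have a4 : decide (Orb H u4 u2) = false := decide_eq_false fun h => n24 h.symm
  rw [a4] at g4
  rw [b2] at g2
  -- exactly one class of weight six vectors
  have disj : ∀ x, ¬ (Orb H u2 (u6 x) ∧ Orb H u4 (u6 x)) := fun x h => n24 (h.1.trans h.2.symm)
  have main : ∀ c : F4, c ≠ 0 → (∀ x, x ≠ 0 → (Orb H u2 (u6 x) ↔ x = c)) →
      (∀ x, x ≠ 0 → (Orb H u4 (u6 x) ↔ x ≠ c)) →
      (∀ v, Orb H u2 v ↔ wt v = 2 ∨ (wt v = 6 ∧ ∏ i, v i = c)) ∧
      (∀ v, Orb H u4 v ↔ wt v = 4 ∨ (wt v = 6 ∧ ∏ i, v i ≠ c)) := by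
    intro c _ h2 h4
    constructor
    · intro v
      constructor
      · intro h
        rcases type_of u2 iso_u2 u2_ne v h with h1 | h1 | h1
        · exact Or.inl h1
        · exact absurd ((key4 u2 v h1).1 h) n24
        · exact Or.inr ⟨h1, (h2 _ (prod_ne_zero h1)).1 ((key6 u2 v h1).1 h)⟩
      · rintro (h | ⟨h, h'⟩)
        · exact (key2 u2 v h).2 (Orb.refl u2)
        · exact (key6 u2 v h).2 ((h2 _ (prod_ne_zero h)).2 h')
    · intro v
      constructor
      · intro h
        rcases type_of u4 iso_u4 u4_ne v h with h1 | h1 | h1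
        · exact absurd ((key2 u4 v h1).1 h) (fun h => n24 h.symm)
        · exact Or.inl h1
        · exact Or.inr ⟨h1, (h4 _ (prod_ne_zero h1)).1 ((key6 u4 v h1).1 h)⟩
      · rintro (h | ⟨h, h'⟩)
        · exact (key4 u4 v h).2 (Orb.refl u4)
        · exact (key6 u4 v h).2 ((h4 _ (prod_ne_zero h)).2 h')
  have d1 := disj .o
  have d2 := disj .w
  have d3 := disj .v
  clear hdvd
  have r := six_cases _ _ _ _ _ _ g2 g4 d1 d2 d3
  clear g2 g4 d1 d2 d3 disj key6 key4 key2 type_of
  rcases r with ⟨p1, p2, p3, q1, q2, q3⟩ | ⟨p1, p2, p3, q1, q2, q3⟩ | ⟨p1, p2, p3, q1, q2, q3⟩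
  · refine ⟨.o, by decide, main .o (by decide) ?_ ?_⟩
    · intro x hx
      cases x
      · exact absurd rfl hx
      · simp [p1]
      · simp [p2]
      · simp [p3]
    · intro x hx
      cases x
      · exact absurd rfl hx
      · simp [q1]
      · simp [q2]
      · simp [q3]
  · refine ⟨.w, by decide, main .w (by decide) ?_ ?_⟩
    · intro x hx
      cases x
      · exact absurd rfl hx
      · simp [p1]
      · simp [p2]
      · simp [p3]
    · intro x hx
      cases x
      · exact absurd rfl hx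
      · simp [q1]
      · simp [q2]
      · simp [q3]
  · refine ⟨.v, by decide, main .v (by decide) ?_ ?_⟩
    · intro x hx
      cases x
      · exact absurd rfl hx
      · simp [p1]
      · simp [p2]
      · simp [p3]
    · intro x hx
      cases x
      · exact absurd rfl hx
      · simp [q1]
      · simp [q2]
      · simp [q3]

end Cfsg.Agent.R08.ModIso
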