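import Cfsg.Agent.R08.ModVec

/-!
# R08 (S1715), piece (0) Part B: even monomial equivalence of vectors (helper256)
-/

set_option autoImplicit false

namespace Cfsg.Agent.R08.ModMono

open Cfsg.Agent.SporRec.GF4 Cfsg.Agent.R08.ModVec

theorem swap_mem_iff {T : Finset (Fin 6)} {a b : Fin 6} (h : a ∈ T ↔ b ∈ T) (i : Fin 6) :
    Equiv.swap a b i ∈ T ↔ i ∈ T := by
  by_cases h1 : i = a
  · subst h1; rw [Equiv.swap_apply_left]; exact h.symm
  · by_cases h2 : i = b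
    · subst h2; rw [Equiv.swap_apply_right]; exact h
    · rw [Equiv.swap_apply_of_ne_of_ne h1 h2]

theorem exists_perm {S T : Finset (Fin 6)} (h : S.card = T.card) :
    ∃ s : Equiv.Perm (Fin 6), ∀ i, s i ∈ T ↔ i ∈ S := by
  classical
  have e : {x // x ∈ S} ≃ {x // x ∈ T} := Fintype.equivOfCardEq (by
    rw [Fintype.card_coe, Fintype.card_coe, h])
  refine ⟨e.extendSubtype, fun i => ?_⟩
  constructor
  · intro h1
    by_contra h2
    exact e.extendSubtype_not_mem i h2 h1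
  · intro h1
    exact e.extendSubtype_mem i h1

theorem sign_swap_mul {a b : Fin 6} (hab : a ≠ b) {s : Equiv.Perm (Fin 6)}
    (hs : Equiv.Perm.sign s ≠ 1) : Equiv.Perm.sign (Equiv.swap a b * s) = 1 := by
  rw [Equiv.Perm.sign_mul, Equiv.Perm.sign_swap hab]
  rcases Int.units_eq_one_or (Equiv.Perm.sign s) with h | h
  · exact absurd h hs
  · rw [h]; rfl

theorem exists_even {S T : Finset (Fin 6)} (h : S.card = T.card) :
    ∃ s : Equiv.Perm (Fin 6), Equiv.Perm.sign s = 1 ∧ ∀ i, s i ∈ T ↔ i ∈ S := by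
  classical
  obtain ⟨s, hs⟩ := exists_perm h
  by_cases h1 : Equiv.Perm.sign s = 1
  · exact ⟨s, h1, hs⟩
  · have key : ∃ a b : Fin 6, a ≠ b ∧ (a ∈ T ↔ b ∈ T) := by
      by_cases h2 : 1 < T.card
      · obtain ⟨a, ha, b, hb, hab⟩ := Finset.one_lt_card.1 h2
        exact ⟨a, b, hab, by simp [ha, hb]⟩
      · have h3 : 1 < Tᶜ.card := by
          rw [Finset.card_compl, Fintype.card_fin]; omega
        obtain ⟨a, ha, b, hb, hab⟩ := Finset.one_lt_card.1 h3
        rw [Finset.mem_compl] at ha hb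
        exact ⟨a, b, hab, by simp [ha, hb]⟩
    obtain ⟨a, b, hab, hT⟩ := key
    refine ⟨Equiv.swap a b * s, sign_swap_mul hab h1, fun i => ?_⟩
    rw [Equiv.Perm.mul_apply, swap_mem_iff hT, hs]

theorem exists_even0 {S T : Finset (Fin 6)} (h : S.card = T.card) (hS : (0 : Fin 6) ∉ S)
    (hT0 : (0 : Fin 6) ∉ T) :
    ∃ s : Equiv.Perm (Fin 6), Equiv.Perm.sign s = 1 ∧ s 0 = 0 ∧ ∀ i, s i ∈ T ↔ i ∈ S := by
  classical
  obtain ⟨s₀, hs₀⟩ := exists_perm h
  have hn : s₀ 0 ∉ T := fun hc => hS ((hs₀ 0).1 hc)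
  obtain ⟨s, hs0, hs⟩ : ∃ s : Equiv.Perm (Fin 6), s 0 = 0 ∧ ∀ i, s i ∈ T ↔ i ∈ S := by
    refine ⟨Equiv.swap (s₀ 0) 0 * s₀, ?_, fun i => ?_⟩
    · rw [Equiv.Perm.mul_apply, Equiv.swap_apply_left]
    · rw [Equiv.Perm.mul_apply, swap_mem_iff (by simp [hn, hT0]), hs₀]
  by_cases h1 : Equiv.Perm.sign s = 1
  · exact ⟨s, h1, hs0, hs⟩
  · have key : ∃ a b : Fin 6, a ≠ b ∧ a ≠ 0 ∧ b ≠ 0 ∧ (a ∈ T ↔ b ∈ T) := by
      by_cases h2 : 1 < T.card
      · obtain ⟨a, ha, b, hb, hab⟩ := Finset.one_lt_card.1 h2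
        exact ⟨a, b, hab, fun h => hT0 (h ▸ ha), fun h => hT0 (h ▸ hb), by simp [ha, hb]⟩
      · have h3 : 1 < (Tᶜ.erase 0).card := by
          rw [Finset.card_erase_of_mem (Finset.mem_compl.2 hT0), Finset.card_compl,
            Fintype.card_fin]; omega
        obtain ⟨a, ha, b, hb, hab⟩ := Finset.one_lt_card.1 h3
        rw [Finset.mem_erase, Finset.mem_compl] at ha hb
        exact ⟨a, b, hab, ha.1, hb.1, by simp [ha.2, hb.2]⟩
    obtain ⟨a, b, hab, ha0, hb0, hT⟩ := key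
    refine ⟨Equiv.swap a b * s, sign_swap_mul hab h1, ?_, fun i => ?_⟩
    · rw [Equiv.Perm.mul_apply, hs0, Equiv.swap_apply_of_ne_of_ne ha0.symm hb0.symm]
    · rw [Equiv.Perm.mul_apply, swap_mem_iff hT, hs]

/-- the diagonal part -/
theorem exists_diag {v w : W} {s : Equiv.Perm (Fin 6)} (hs : ∀ i, w (s i) ≠ 0 ↔ v i ≠ 0)
    (hp : (∀ i, w i ≠ 0) → ∏ i, v i = ∏ i, w i) :
    ∃ d : Fin 6 → F4, (∀ i, d i ≠ 0) ∧ ∏ i, d i = 1 ∧ ∀ i, w i = d i * v (s⁻¹ i) := by
  classical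
  have hs' : ∀ i, w i ≠ 0 ↔ v (s⁻¹ i) ≠ 0 := fun i => by
    rw [← hs (s⁻¹ i), show s (s⁻¹ i) = i from s.apply_symm_apply i]
  let d₀ : Fin 6 → F4 := fun i => if w i = 0 then 1 else w i / v (s⁻¹ i)
  have hd₀ : ∀ i, d₀ i ≠ 0 := by
    intro i
    by_cases h : w i = 0
    · simp [d₀, h]
    · simp only [d₀, h, if_false]
      exact div_ne_zero h ((hs' i).1 h)
  have hd₁ : ∀ i, w i = d₀ i * v (s⁻¹ i) := by
    intro i
    by_cases h : w i = 0
    · have : v (s⁻¹ i) = 0 := by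
        by_contra hc
        exact (hs' i).2 hc h
      rw [this, mul_zero, h]
    · simp only [d₀, h, if_false]
      rw [div_mul_cancel₀ _ ((hs' i).1 h)]
  by_cases hall : ∀ i, w i ≠ 0
  · refine ⟨d₀, hd₀, ?_, hd₁⟩
    have h1 : ∏ i, w i = (∏ i, d₀ i) * ∏ i, v (s⁻¹ i) := by
      rw [← Finset.prod_mul_distrib]
      exact Finset.prod_congr rfl fun i _ => hd₁ i
    have h2 : ∏ i, v (s⁻¹ i) = ∏ i, v i := Equiv.prod_comp s⁻¹ v
    rw [h2, hp hall] at h1
    have h3 : ∏ i, w i ≠ 0 := Finset.prod_ne_zero_iff.2 fun i _ => hall i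
    exact (mul_eq_right₀ h3).1 h1.symm
  · push Not at hall
    obtain ⟨k, hk⟩ := hall
    refine ⟨Function.update d₀ k (d₀ k * (∏ i, d₀ i)⁻¹), fun i => ?_, ?_, fun i => ?_⟩
    · by_cases h : i = k
      · subst h
        rw [Function.update_self]
        exact mul_ne_zero (hd₀ i) (inv_ne_zero (Finset.prod_ne_zero_iff.2 fun i _ => hd₀ i))
      · rw [Function.update_of_ne h]; exact hd₀ i
    · rw [Finset.prod_update_of_mem (Finset.mem_univ k)]
      have h1 : d₀ k * ∏ i ∈ Finset.univ \ {k}, d₀ i = ∏ i, d₀ i := by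
        rw [← Finset.prod_sdiff (Finset.subset_univ {k}), Finset.prod_singleton, mul_comm]
      rw [mul_right_comm, h1]
      exact mul_inv_cancel₀ (Finset.prod_ne_zero_iff.2 fun i _ => hd₀ i)
    · by_cases h : i = k
      · subst h
        have : v (s⁻¹ i) = 0 := by
          by_contra hc
          exact (hs' i).2 hc hk
        rw [hk, this, mul_zero]
      · rw [Function.update_of_ne h]; exact hd₁ i

/-- the support -/
def supp (v : W) : Finset (Fin 6) := Finset.univ.filter fun i => v i ≠ 0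

theorem mem_supp {v : W} {i : Fin 6} : i ∈ supp v ↔ v i ≠ 0 := by simp [supp]

theorem card_supp (v : W) : (supp v).card = wt v := rfl

theorem wt_eq_six {v : W} : wt v = 6 ↔ ∀ i, v i ≠ 0 := by
  rw [← card_supp]
  constructor
  · intro h i
    have : supp v = Finset.univ := Finset.eq_univ_of_card _ (by rw [h]; rfl)
    exact mem_supp.1 (this ▸ Finset.mem_univ i)
  · intro h
    have : supp v = Finset.univ := Finset.eq_univ_iff_forall.2 fun i => mem_supp.2 (h i)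
    rw [this]; rfl

/-- Vectors of the same type are equivalent under even monomials of determinant one. -/
theorem exists_mono {v w : W} (h : wt v = wt w) (hp : wt v = 6 → ∏ i, v i = ∏ i, w i) :
    ∃ (s : Equiv.Perm (Fin 6)) (d : Fin 6 → F4), Equiv.Perm.sign s = 1 ∧ (∀ i, d i ≠ 0) ∧
      ∏ i, d i = 1 ∧ ∀ i, w i = d i * v (s⁻¹ i) := by
  obtain ⟨s, hs1, hs⟩ := exists_even (S := supp v) (T := supp w) h
  obtain ⟨d, hd, hd1, hd2⟩ := exists_diag (v := v) (w := w) (s := s)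
    (fun i => by rw [← mem_supp, ← mem_supp]; exact hs i)
    (fun hall => hp (h.trans (wt_eq_six.2 hall)))
  exact ⟨s, d, hs1, hd, hd1, hd2⟩

/-- The same in the stabiliser of the first coordinate point. -/
theorem exists_mono0 {v w : W} (h : wt v = wt w) (hv : v 0 = 0) (hw : w 0 = 0) :
    ∃ (s : Equiv.Perm (Fin 6)) (d : Fin 6 → F4), Equiv.Perm.sign s = 1 ∧ s 0 = 0 ∧
      (∀ i, d i ≠ 0) ∧ ∏ i, d i = 1 ∧ ∀ i, w i = d i * v (s⁻¹ i) := by
  obtain ⟨s, hs1, hs0, hs⟩ := exists_even0 (S := supp v) (T := supp w) h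
    (by rw [mem_supp]; exact fun h => h hv) (by rw [mem_supp]; exact fun h => h hw)
  obtain ⟨d, hd, hd1, hd2⟩ := exists_diag (v := v) (w := w) (s := s)
    (fun i => by rw [← mem_supp, ← mem_supp]; exact hs i)
    (fun hall => absurd hw (hall 0))
  exact ⟨s, d, hs1, hs0, hd, hd1, hd2⟩

end Cfsg.Agent.R08.ModMono
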