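import Cfsg.Agent.R08.ModMono
import Cfsg.Agent.R08.Frame

/-!
# R08 (S1715), piece (0) Part B: orbits (helper256)

`H` is a subgroup of `SU_6(2)` of the order of `3.U4(3)` containing the even monomials.
-/

set_option autoImplicit false

namespace Cfsg.Agent.R08.ModOrb

open Cfsg.Agent.SporRec.GF4 Cfsg.Agent.R08.ModVec Cfsg.Agent.R08.ModMono Cfsg.Agent.R08.Frame

/-- matrices of determinant one -/
abbrev SL : Type := Matrix.SpecialLinearGroup (Fin 6) F4

/-- weight of a six-tuple -/
def wtN (a b c d e f : F4) : ℕ := nz a + nz b + nz c + nz d + nz e + nz f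

/-- product of a six-tuple -/
def prN (a b c d e f : F4) : F4 := a * b * c * d * e * f

theorem wt_eq' (v : W) : wt v = wtN (v 0) (v 1) (v 2) (v 3) (v 4) (v 5) := wt_eq v

theorem prod_eq' (v : W) : ∏ i, v i = prN (v 0) (v 1) (v 2) (v 3) (v 4) (v 5) := prod_eq v

theorem herm_self (v : W) : herm v v = if wt v % 2 = 1 then 1 else 0 := by
  have key : ∀ a : F4, a * cj a = if nz a % 2 = 1 then 1 else 0 := by decide
  have add : ∀ m n : ℕ, (if (m + n) % 2 = 1 then (1 : F4) else 0) =
      (if m % 2 = 1 then 1 else 0) + (if n % 2 = 1 then 1 else 0) := by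
    intro m n
    have hm : m % 2 = 0 ∨ m % 2 = 1 := by omega
    have hn : n % 2 = 0 ∨ n % 2 = 1 := by omega
    rcases hm with hm | hm <;> rcases hn with hn | hn <;> rw [Nat.add_mod, hm, hn] <;> decide
  rw [herm_eq, wt_eq, add, add, add, add, add, key, key, key, key, key, key]

theorem wt_le (v : W) : wt v ≤ 6 := by
  rw [← card_supp]; exact (Finset.card_le_univ _).trans (by rw [Fintype.card_fin])

theorem wt_eq_zero {v : W} : wt v = 0 ↔ v = 0 := by
  rw [← card_supp, Finset.card_eq_zero]
  constructor
  · intro h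
    funext i
    by_contra hc
    have := mem_supp.2 hc
    rw [h] at this
    exact absurd this (Finset.notMem_empty i)
  · intro h
    subst h
    simp [supp]

theorem herm_self_ne {v : W} (h : herm v v ≠ 0) : wt v = 1 ∨ wt v = 3 ∨ wt v = 5 := by
  rw [herm_self] at h
  have h1 : wt v % 2 = 1 := by
    by_contra hc
    rw [if_neg hc] at h
    exact h rfl
  have := wt_le v
  omega

theorem herm_self_eq {v : W} (h : herm v v = 0) (h0 : v ≠ 0) : wt v = 2 ∨ wt v = 4 ∨ wt v = 6 := by
  rw [herm_self] at h
  have h1 : wt v % 2 ≠ 1 := by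
    intro hc
    rw [if_pos hc] at h
    exact absurd h (by decide)
  have := wt_le v
  have h2 : wt v ≠ 0 := fun h => h0 (wt_eq_zero.1 h)
  omega

/-- basis vectors -/
def e (i : Fin 6) : W := Pi.single i 1

/-- `(1,1,1,0,0,0)` -/
def u3 : W := ![1, 1, 1, 0, 0, 0]
/-- `(1,1,1,1,1,0)` -/
def u5 : W := ![1, 1, 1, 1, 1, 0]
/-- `(1,1,0,0,0,0)` -/
def u2 : W := ![1, 1, 0, 0, 0, 0]
/-- `(1,1,1,1,0,0)` -/
def u4 : W := ![1, 1, 1, 1, 0, 0]
/-- `(x,1,1,1,1,1)` -/
def u6 (x : F4) : W := ![x, 1, 1, 1, 1, 1]

theorem wt_e (i : Fin 6) : wt (e i) = 1 := by fin_cases i <;> decide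
theorem wt_u3 : wt u3 = 3 := by decide
theorem wt_u5 : wt u5 = 5 := by decide
theorem wt_u2 : wt u2 = 2 := by decide
theorem wt_u4 : wt u4 = 4 := by decide
theorem wt_u6 {x : F4} (hx : x ≠ 0) : wt (u6 x) = 6 := by
  revert hx; cases x <;> decide
theorem prod_u6 (x : F4) : ∏ i, u6 x i = x := by
  rw [prod_eq]; cases x <;> rfl

/-! ### the group -/

section group

variable {H : Subgroup SL}

theorem smul_def (A : SL) (v : W) : A • v = (A : Matrix (Fin 6) (Fin 6) F4).mulVec v := rfl

theorem herm_smul (hH : LinFrame F4 H) {A : SL} (hA : A ∈ H) (u v : W) :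
    herm (A • u) (A • v) = herm u v := hH.le hA u v

theorem mono' (hH : LinFrame F4 H) {s : Equiv.Perm (Fin 6)} {d : Fin 6 → F4}
    (hs : Equiv.Perm.sign s = 1) (hd : ∀ i, d i ≠ 0) (hp : ∏ i, d i = 1) :
    ∃ A ∈ H, ∀ (v : W) (i : Fin 6), (A • v) i = d i * v (s⁻¹ i) := by
  obtain ⟨A, hA, h⟩ := hH.mono s (fun i => Units.mk0 (d i) (hd i)) hs (by
    apply Units.ext
    rw [Units.coe_prod]
    exact hp)
  exact ⟨A, hA, fun v i => h v i⟩

theorem exists_of_type (hH : LinFrame F4 H) {v w : W} (h : wt v = wt w)
    (hp : wt v = 6 → ∏ i, v i = ∏ i, w i) : ∃ A ∈ H, A • v = w := by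
  obtain ⟨s, d, hs, hd, hd1, hw⟩ := exists_mono h hp
  obtain ⟨A, hA, h⟩ := mono' hH hs hd hd1
  exact ⟨A, hA, funext fun i => (h v i).trans (hw i).symm⟩

/-- orbit as a predicate -/
def Orb (H : Subgroup SL) (v w : W) : Prop := ∃ A ∈ H, A • v = w

theorem Orb.refl (v : W) : Orb H v v := ⟨1, H.one_mem, one_smul _ v⟩

theorem Orb.symm {v w : W} (h : Orb H v w) : Orb H w v := by
  obtain ⟨A, hA, rfl⟩ := h
  exact ⟨A⁻¹, H.inv_mem hA, inv_smul_smul A v⟩

theorem Orb.trans {u v w : W} (h : Orb H u v) (h' : Orb H v w) : Orb H u w := by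
  obtain ⟨A, hA, rfl⟩ := h
  obtain ⟨B, hB, rfl⟩ := h'
  exact ⟨B * A, H.mul_mem hB hA, mul_smul B A u⟩

theorem Orb.of_type (hH : LinFrame F4 H) {v w : W} (h : wt v = wt w)
    (hp : wt v = 6 → ∏ i, v i = ∏ i, w i) : Orb H v w := exists_of_type hH h hp

theorem Orb.herm_eq (hH : LinFrame F4 H) {v w : W} (h : Orb H v w) : herm w w = herm v v := by
  obtain ⟨A, hA, rfl⟩ := h
  exact herm_smul hH hA v v

theorem mem_orbit {v w : W} : w ∈ MulAction.orbit H v ↔ Orb H v w := by
  constructor
  · rintro ⟨A, rfl⟩
    exact ⟨A, A.2, rfl⟩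
  · rintro ⟨A, hA, rfl⟩
    exact ⟨⟨A, hA⟩, rfl⟩

theorem orb_dvd (hH : LinFrame F4 H) (v : W) [DecidablePred (Orb H v)] :
    (Finset.univ.filter (Orb H v)).card ∣ 9797760 := by
  have h1 := (MulAction.stabilizer H v).index_dvd_card
  rw [MulAction.index_stabilizer, hH.card] at h1
  have h2 : MulAction.orbit H v = ↑(Finset.univ.filter (Orb H v)) := by
    ext w
    rw [mem_orbit, Finset.mem_coe, Finset.mem_filter]
    exact ⟨fun h => ⟨Finset.mem_univ w, h⟩, fun h => h.2⟩
  rwa [h2, Set.ncard_coe_finset] at h1

/-- the number of vectors of a set orthogonal to `p` is an invariant of `p` -/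
theorem count_eq (hH : LinFrame F4 H) (T : W → Prop) [DecidablePred T]
    (hT : ∀ A ∈ H, ∀ v, T v → T (A • v)) {p q : W} (hpq : Orb H p q) :
    (Finset.univ.filter fun v => T v ∧ herm v p = 0).card =
      (Finset.univ.filter fun v => T v ∧ herm v q = 0).card := by
  obtain ⟨A, hA, rfl⟩ := hpq
  refine Finset.card_bij (fun v _ => A • v) ?_ ?_ ?_
  · intro v hv
    rw [Finset.mem_filter] at hv ⊢
    exact ⟨Finset.mem_univ _, hT A hA v hv.2.1, (herm_smul hH hA v p).trans hv.2.2⟩
  · intro v _ w _ hvw
    exact (MulAction.injective A) hvw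
  · intro w hw
    rw [Finset.mem_filter] at hw
    refine ⟨A⁻¹ • w, ?_, smul_inv_smul A w⟩
    rw [Finset.mem_filter]
    refine ⟨Finset.mem_univ _, hT _ (H.inv_mem hA) w hw.2.1, ?_⟩
    rw [← herm_smul hH hA, smul_inv_smul]
    exact hw.2.2

/-! ### nonisotropic vectors -/

/-- the group is not monomial -/
theorem not_mono (hH : LinFrame F4 H) (h : ∀ A ∈ H, ∀ i, wt (A • e i) = 1) : False := by
  classical
  have h1 : ∀ (A : H) (i : Fin 6), ∃ (k : Fin 6) (a : F4ˣ), (A : SL) • e i = (a : F4) • e k := by
    intro A i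
    have h2 := h A A.2 i
    rw [← card_supp, Finset.card_eq_one] at h2
    obtain ⟨k, hk⟩ := h2
    have h3 : ((A : SL) • e i) k ≠ 0 := mem_supp.1 (hk ▸ Finset.mem_singleton_self k)
    refine ⟨k, Units.mk0 _ h3, funext fun j => ?_⟩
    by_cases hj : j = k
    · subst hj
      simp [e]
    · have : j ∉ supp ((A : SL) • e i) := by rw [hk, Finset.mem_singleton]; exact hj
      rw [mem_supp, not_not] at this
      rw [this]
      simp [e, Pi.single_eq_of_ne hj]
  choose k a hka using h1
  have hinj : ∀ A : H, Function.Injective (k A) := by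
    intro A i j hij
    by_contra hne
    have h2 : herm ((A : SL) • e i) ((A : SL) • e j) = 0 := by
      rw [herm_smul hH A.2, e, herm_single_left, e, Pi.single_eq_of_ne hne, cj_zero]
    rw [hka, hka, herm_smul_left, herm_smul_right, hij] at h2
    have h3 : herm (e (k A j)) (e (k A j)) = 1 := by
      rw [e, herm_single_left, Pi.single_eq_same, cj_one]
    rw [h3, mul_one, mul_eq_zero, cj_eq_zero] at h2
    rcases h2 with h2 | h2
    · exact (a A i).ne_zero h2
    · exact (a A j).ne_zero h2
  let φ : H → (Fin 6 ↪ Fin 6) × (Fin 6 → F4ˣ) := fun A => (⟨k A, hinj A⟩, a A)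
  have hφ : Function.Injective φ := by
    intro A B hAB
    have hk : k A = k B := by
      have := congrArg Prod.fst hAB
      exact congrArg (fun f : Fin 6 ↪ Fin 6 => (f : Fin 6 → Fin 6)) this
    have ha : a A = a B := congrArg Prod.snd hAB
    have h2 : ∀ i, (A : SL) • e i = (B : SL) • e i := by
      intro i
      rw [hka, hka, hk, ha]
    apply Subtype.ext
    apply Matrix.SpecialLinearGroup.ext
    intro i j
    have h3 := congrFun (h2 j) i
    rw [smul_def, smul_def, e, Matrix.mulVec_single_one, Matrix.mulVec_single_one] at h3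
    exact h3
  have hc := Nat.card_le_card_of_injective φ hφ
  rw [hH.card, Nat.card_prod, Nat.card_eq_fintype_card, Nat.card_eq_fintype_card,
    Fintype.card_embedding_eq, Fintype.card_fun, Fintype.card_units, F4.card_F4,
    Fintype.card_fin] at hc
  exact absurd hc (by decide)

/-- `H` is transitive on the vectors with `h(v,v) = 1` (in particular on the 672 nonisotropic
points). -/
theorem orb_odd (hH : LinFrame F4 H) {v : W} (hv : herm v v ≠ 0) : Orb H (e 0) v := by
  classical
  have h1 : ∀ w : W, wt w = 1 → Orb H (e 0) w := fun w hw =>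
    Orb.of_type hH ((wt_e 0).trans hw.symm) (fun h => by rw [wt_e] at h; omega)
  have h3 : ∀ w : W, wt w = 3 → (Orb H (e 0) u3 ↔ Orb H (e 0) w) := fun w hw =>
    ⟨fun h => h.trans (Orb.of_type hH (wt_u3.trans hw.symm) (fun h => by rw [wt_u3] at h; omega)),
      fun h => h.trans (Orb.of_type hH (hw.trans wt_u3.symm) (fun h => by omega))⟩
  have h5 : ∀ w : W, wt w = 5 → (Orb H (e 0) u5 ↔ Orb H (e 0) w) := fun w hw =>
    ⟨fun h => h.trans (Orb.of_type hH (wt_u5.trans hw.symm) (fun h => by rw [wt_u5] at h; omega)),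
      fun h => h.trans (Orb.of_type hH (hw.trans wt_u5.symm) (fun h => by omega))⟩
  have hodd : ∀ w : W, Orb H (e 0) w → wt w = 1 ∨ wt w = 3 ∨ wt w = 5 := by
    intro w hw
    apply herm_self_ne
    rw [hw.herm_eq hH, herm_self, wt_e]
    decide
  have hdvd := orb_dvd hH (e 0)
  by_cases c3 : Orb H (e 0) u3
  · by_cases c5 : Orb H (e 0) u5
    · rcases herm_self_ne hv with h | h | h
      · exact h1 v h
      · exact (h3 v h).1 c3
      · exact (h5 v h).1 c5
    · exfalso
      rw [card_W (p := fun a b c d e f => wtN a b c d e f == 1 || wtN a b c d e f == 3) (by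
        intro w
        rw [← wt_eq', Bool.or_eq_true, beq_iff_eq, beq_iff_eq]
        constructor
        · intro hw
          rcases hodd w hw with h | h | h
          · exact Or.inl h
          · exact Or.inr h
          · exact absurd ((h5 w h).2 hw) c5
        · rintro (h | h)
          · exact h1 w h
          · exact (h3 w h).1 c3)] at hdvd
      have : cntW (fun a b c d e f => wtN a b c d e f == 1 || wtN a b c d e f == 3) = 558 := by
        decide +kernel
      rw [this] at hdvd
      exact absurd hdvd (by decide)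
  · by_cases c5 : Orb H (e 0) u5
    · exfalso
      rw [card_W (p := fun a b c d e f => wtN a b c d e f == 1 || wtN a b c d e f == 5) (by
        intro w
        rw [← wt_eq', Bool.or_eq_true, beq_iff_eq, beq_iff_eq]
        constructor
        · intro hw
          rcases hodd w hw with h | h | h
          · exact Or.inl h
          · exact absurd ((h3 w h).2 hw) c3
          · exact Or.inr h
        · rintro (h | h)
          · exact h1 w h
          · exact (h5 w h).1 c5)] at hdvd
      have : cntW (fun a b c d e f => wtN a b c d e f == 1 || wtN a b c d e f == 5) = 1476 := by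
        decide +kernel
      rw [this] at hdvd
      exact absurd hdvd (by decide)
    · exfalso
      refine not_mono hH fun A hA i => ?_
      have h2 : Orb H (e 0) (A • e i) :=
        (Orb.of_type hH ((wt_e 0).trans (wt_e i).symm) (fun h => by rw [wt_e] at h; omega)).trans
          ⟨A, hA, rfl⟩
      rcases hodd _ h2 with h | h | h
      · exact h
      · exact absurd ((h3 _ h).2 h2) c3
      · exact absurd ((h5 _ h).2 h2) c5

/-- the stabiliser of a basis vector has order `4860` -/
theorem card_stab (hH : LinFrame F4 H) :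
    Nat.card (MulAction.stabilizer H (e 0)) = 4860 := by
  classical
  have h1 := (MulAction.stabilizer H (e 0)).card_mul_index
  rw [MulAction.index_stabilizer, hH.card] at h1
  have h2 : MulAction.orbit H (e 0) = ↑(Finset.univ.filter fun v : W => wt v % 2 = 1) := by
    ext w
    rw [mem_orbit, Finset.mem_coe, Finset.mem_filter]
    constructor
    · intro h
      refine ⟨Finset.mem_univ w, ?_⟩
      have h3 := herm_self_ne (v := w) (by
        rw [h.herm_eq hH, herm_self, wt_e]
        decide)
      omega
    · intro h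
      apply orb_odd hH
      rw [herm_self, if_pos h.2]
      decide
  rw [h2, Set.ncard_coe_finset, card_W (p := fun a b c d e f => wtN a b c d e f % 2 == 1) (by
    intro w
    rw [← wt_eq', beq_iff_eq])] at h1
  have h3 : cntW (fun a b c d e f => wtN a b c d e f % 2 == 1) = 2016 := by decide +kernel
  rw [h3] at h1
  omega

/-! ### isotropic vectors -/

/-- indicator of a union of types of isotropic vectors: `a`, `b` for weight two and four, `c` for
weight six -/
def tyN (a b : Bool) (c : F4 → Bool) (x0 x1 x2 x3 x4 x5 : F4) : Bool :=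
  match wtN x0 x1 x2 x3 x4 x5 with
  | 2 => a
  | 4 => b
  | 6 => c (prN x0 x1 x2 x3 x4 x5)
  | _ => false

/-- three Booleans as a function on the nonzero elements -/
def tri (x y z : Bool) : F4 → Bool
  | .z => false
  | .o => x
  | .w => y
  | .v => z

/-- number of elements of the union orthogonal to `e 0` -/
def cnt0 (a b x y z : Bool) : ℕ :=
  cntW fun x0 x1 x2 x3 x4 x5 => tyN a b (tri x y z) x0 x1 x2 x3 x4 x5 && x0 == .z

/-- number of elements of the union orthogonal to `u3` -/
def cnt3 (a b x y z : Bool) : ℕ :=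
  cntW fun x0 x1 x2 x3 x4 x5 => tyN a b (tri x y z) x0 x1 x2 x3 x4 x5 && (x0 + x1 + x2 == .z)

/-- the combinations allowed -/
def good : Bool → Bool → Bool → Bool → Bool → Bool
  | false, false, false, false, false => true
  | true, false, true, false, false => true
  | true, false, false, true, false => true
  | true, false, false, false, true => true
  | false, true, false, true, true => true
  | false, true, true, false, true => true
  | false, true, true, true, false => true
  | true, true, true, true, true => true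
  | _, _, _, _, _ => false

/-- `∀` over Booleans -/
def allB (p : Bool → Bool) : Bool := p false && p true

theorem of_allB {p : Bool → Bool} (h : allB p = true) (a : Bool) : p a = true := by
  simp only [allB, Bool.and_eq_true] at h
  cases a
  · exact h.1
  · exact h.2

theorem check_cnt0 : (allB fun a => allB fun b => allB fun x => allB fun y => allB fun z =>
    (! (cnt0 a b x y z == cnt3 a b x y z)) || good a b x y z) = true := by
  decide +kernel

theorem check_cnt (a b x y z : Bool) (h : cnt0 a b x y z = cnt3 a b x y z) :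
    good a b x y z = true := by
  have h1 := of_allB (of_allB (of_allB (of_allB (of_allB check_cnt0 a) b) x) y) z
  rw [Bool.or_eq_true, Bool.not_eq_true', beq_eq_false_iff_ne] at h1
  exact h1.resolve_left fun h2 => h2 h

theorem check_all : (cntW fun x0 x1 x2 x3 x4 x5 =>
    tyN true true (tri true true true) x0 x1 x2 x3 x4 x5) = 2079 := by
  decide +kernel

end group

end Cfsg.Agent.R08.ModOrb
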