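import Cfsg.Agent.R08.ModTau

/-!
# R08 (S1715), piece (0) Part B: the stabiliser of `R` is `H ∪ H τ` (helper256)
-/

set_option autoImplicit false

namespace Cfsg.Agent.R08.ModSig

open Cfsg.Agent.SporRec.GF4 Cfsg.Agent.R08.ModVec Cfsg.Agent.R08.ModMono Cfsg.Agent.R08.Frame
open Cfsg.Agent.R08.ModOrb Cfsg.Agent.R08.ModIso Cfsg.Agent.R08.ModTau

/-- linear isometries preserving `R` -/
structure Sig (g : W → W) : Prop where
  add : ∀ u v, g (u + v) = g u + g v
  smul : ∀ (a : F4) (v : W), g (a • v) = a • g v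
  isom : ∀ u v, herm (g u) (g v) = herm u v
  isR : ∀ v, IsR v → IsR (g v)

variable {H : Subgroup SL}

theorem Sig.comp {g g' : W → W} (h : Sig g) (h' : Sig g') : Sig (fun v => g (g' v)) where
  add u v := by rw [h'.add, h.add]
  smul a v := by rw [h'.smul, h.smul]
  isom u v := by rw [h.isom, h'.isom]
  isR v hv := h.isR _ (h'.isR v hv)

theorem sig_of_mem (h : Std H) {A : SL} (hA : A ∈ H) : Sig (fun v => A • v) where
  add u v := smul_add A u v
  smul a v := smul_comm A a v
  isom u v := herm_smul h.fr hA u v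
  isR _ hv := (h.isR_smul hA).2 hv

theorem sig_tau (h : Std H) {r : W} (hr : IsR r) : Sig (tau r) where
  add := tau_add r
  smul := tau_smul r
  isom := herm_tau (herm_of_isR hr)
  isR _ hv := h.isR_tau hr hv

theorem Sig.zero {g : W → W} (h : Sig g) : g 0 = 0 := by
  have := h.smul 0 0
  rwa [zero_smul, zero_smul] at this

theorem Sig.injective {g : W → W} (h : Sig g) : Function.Injective g := by
  intro u v huv
  have h1 : g (u + v) = 0 := by rw [h.add, huv, W_add_self]
  have h2 : u + v = 0 := herm_nondeg fun w => by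
    rw [← h.isom, h1, herm_zero_left]
  have h3 : u + v + v = 0 + v := by rw [h2]
  rwa [add_assoc, W_add_self, add_zero, zero_add] at h3

/-- number of elements of `R ∩ e 0 ^⊥` orthogonal to `p` -/
noncomputable def cnt (p : W) : ℕ :=
  open Classical in (Finset.univ.filter fun v : W => (wt v = 2 ∧ v 0 = 0) ∧ herm v p = 0).card

theorem herm_e0 (v : W) : herm v (e 0) = v 0 := herm_single_right v 0

theorem Sig.cnt_le {g : W → W} (h : Sig g) {a : F4} (ha : a ≠ 0) (h0 : g (e 0) = a • e 0) (p : W) :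
    cnt p ≤ cnt (g p) := by
  classical
  unfold cnt
  refine Finset.card_le_card_of_injOn g ?_ h.injective.injOn
  intro v hv
  rw [Finset.mem_coe, Finset.mem_filter] at hv
  rw [Finset.mem_coe, Finset.mem_filter]
  refine ⟨Finset.mem_univ _, ?_, by rw [h.isom]; exact hv.2.2⟩
  have h1 : g v 0 = 0 := by
    have h2 : herm (g v) (g (e 0)) = herm v (e 0) := h.isom _ _
    rw [h0, herm_smul_right, herm_e0, herm_e0, hv.2.1.2, mul_eq_zero, cj_eq_zero] at h2
    exact h2.resolve_left ha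
  refine ⟨?_, h1⟩
  rcases h.isR v (Or.inl hv.2.1.1) with h2 | ⟨h2, -⟩
  · exact h2
  · exact absurd h1 (wt_eq_six.1 h2 0)

theorem cnt_mono (h : Std H) {p q : W} (hpq : wt p = wt q) (hp : p 0 = 0) (hq : q 0 = 0) :
    cnt p ≤ cnt q := by
  obtain ⟨s, d, hs, hs0, hd, hd1, hw⟩ := exists_mono0 hpq hp hq
  obtain ⟨A, hA, hAv⟩ := mono' h.fr hs hd hd1
  have h1 : A • p = q := funext fun i => (hAv p i).trans (hw i).symm
  rw [← h1]
  refine (sig_of_mem h hA).cnt_le (hd 0) ?_ p
  funext i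
  show (A • e 0) i = _
  rw [hAv]
  have hs0' : s⁻¹ 0 = 0 := by rw [Equiv.Perm.inv_eq_iff_eq, hs0]
  by_cases hi : i = 0
  · subst hi; rw [hs0']; rfl
  · have : s⁻¹ i ≠ 0 := by
      intro hc
      rw [Equiv.Perm.inv_eq_iff_eq, hs0] at hc
      exact hi hc
    rw [e, Pi.single_eq_of_ne this, Pi.smul_apply, Pi.single_eq_of_ne hi, smul_zero, mul_zero]

theorem cnt_e1 : cnt (e 1) = 54 := by
  classical
  unfold cnt
  rw [card_W (p := fun a b c d e f => (wtN a b c d e f == 2 && a == .z) && b == .z) (by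
    intro v
    rw [Bool.and_eq_true, Bool.and_eq_true, beq_iff_eq, beq_iff_eq, beq_iff_eq, ← wt_eq']
    show _ ∧ herm v (Pi.single 1 1) = 0 ↔ _
    rw [herm_single_right]
    exact Iff.rfl)]
  decide +kernel

/-- `(0,1,1,1,0,0)` -/
def w3 : W := ![0, 1, 1, 1, 0, 0]
/-- `(0,1,1,1,1,1)` -/
def w5 : W := ![0, 1, 1, 1, 1, 1]

theorem cnt_w3 : cnt w3 = 18 := by
  classical
  unfold cnt
  rw [card_W (p := fun a b c d e f => (wtN a b c d e f == 2 && a == .z) && (b + c + d == .z)) (by
    intro v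
    have h : herm v w3 = v 1 + v 2 + v 3 := by
      rw [herm_eq]
      show v 0 * 0 + v 1 * 1 + v 2 * 1 + v 3 * 1 + v 4 * 0 + v 5 * 0 = _
      ring
    rw [Bool.and_eq_true, Bool.and_eq_true, beq_iff_eq, beq_iff_eq, beq_iff_eq, ← wt_eq', h]
    exact Iff.rfl)]
  decide +kernel

theorem cnt_w5 : cnt w5 = 30 := by
  classical
  unfold cnt
  rw [card_W (p := fun a b c d e f => (wtN a b c d e f == 2 && a == .z) &&
    (b + c + d + e + f == .z)) (by
    intro v
    have h : herm v w5 = v 1 + v 2 + v 3 + v 4 + v 5 := by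
      rw [herm_eq]
      show v 0 * 0 + v 1 * 1 + v 2 * 1 + v 3 * 1 + v 4 * 1 + v 5 * 1 = _
      ring
    rw [Bool.and_eq_true, Bool.and_eq_true, beq_iff_eq, beq_iff_eq, beq_iff_eq, ← wt_eq', h]
    exact Iff.rfl)]
  decide +kernel

theorem e_zero_of_ne {j : Fin 6} (hj : j ≠ 0) : e j 0 = 0 := Pi.single_eq_of_ne hj.symm _

/-- an element of the stabiliser permutes the coordinate lines -/
theorem Sig.wt_e (h : Std H) {g : W → W} (hg : Sig g) (h0 : g (e 0) = e 0) (j : Fin 6) :
    wt (g (e j)) = 1 := by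
  by_cases hj : j = 0
  · subst hj
    rw [h0]; exact ModOrb.wt_e 0
  · have h1 : cnt (e 1) ≤ cnt (e j) :=
      cnt_mono h ((ModOrb.wt_e 1).trans (ModOrb.wt_e j).symm) rfl (e_zero_of_ne hj)
    have h2 := hg.cnt_le (a := 1) one_ne_zero (by rw [one_smul]; exact h0) (e j)
    rw [cnt_e1] at h1
    have h3 : g (e j) 0 = 0 := by
      have h3' : herm (g (e j)) (g (e 0)) = herm (e j) (e 0) := hg.isom _ _
      rw [h0, herm_e0, herm_e0] at h3'
      rw [h3']
      exact e_zero_of_ne hj
    have h4 : herm (g (e j)) (g (e j)) ≠ 0 := by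
      rw [hg.isom, herm_self, ModOrb.wt_e]; decide
    rcases herm_self_ne h4 with h5 | h5 | h5
    · exact h5
    · have := cnt_mono h (p := g (e j)) (q := w3) (h5.trans (by decide)) h3 rfl
      rw [cnt_w3] at this
      omega
    · have := cnt_mono h (p := g (e j)) (q := w5) (h5.trans (by decide)) h3 rfl
      rw [cnt_w5] at this
      omega

theorem eq_sum (v : W) : v = ∑ j, v j • e j := by
  funext i
  rw [Finset.sum_apply, Finset.sum_eq_single i]
  · simp [e]
  · intro j _ hj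
    simp [e, Pi.single_eq_of_ne hj.symm]
  · intro h; exact absurd (Finset.mem_univ i) h

theorem Sig.sum {g : W → W} (hg : Sig g) (v : W) : g v = ∑ j, v j • g (e j) := by
  have h1 : ∀ (s : Finset (Fin 6)) (f : Fin 6 → W), g (∑ j ∈ s, f j) = ∑ j ∈ s, g (f j) := by
    intro s f
    induction s using Finset.cons_induction with
    | empty => simpa using hg.zero
    | cons a s ha ih => rw [Finset.sum_cons, Finset.sum_cons, hg.add, ih]
  conv_lhs => rw [eq_sum v]
  rw [h1]
  exact Finset.sum_congr rfl fun j _ => hg.smul _ _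

/-- The stabiliser of `e 0` in the stabiliser of `R` is monomial. -/
theorem Sig.mono (h : Std H) {g : W → W} (hg : Sig g) (h0 : g (e 0) = e 0) :
    ∃ (s : Equiv.Perm (Fin 6)) (d : Fin 6 → F4), s 0 = 0 ∧ d 0 = 1 ∧ (∀ i, d i ≠ 0) ∧
      ∏ i, d i = 1 ∧ ∀ v i, g v i = d i * v (s⁻¹ i) := by
  classical
  have h1 : ∀ j, ∃ (k : Fin 6) (a : F4), a ≠ 0 ∧ g (e j) = a • e k := by
    intro j
    have h2 := hg.wt_e h h0 j
    rw [← card_supp, Finset.card_eq_one] at h2
    obtain ⟨k, hk⟩ := h2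
    refine ⟨k, g (e j) k, mem_supp.1 (hk ▸ Finset.mem_singleton_self k), funext fun i => ?_⟩
    by_cases hi : i = k
    · subst hi
      simp [e]
    · have : i ∉ supp (g (e j)) := by rw [hk, Finset.mem_singleton]; exact hi
      rw [mem_supp, not_not] at this
      rw [this]
      simp [e, Pi.single_eq_of_ne hi]
  choose k a ha hka using h1
  have hinj : Function.Injective k := by
    intro i j hij
    by_contra hne
    have h2 : herm (g (e i)) (g (e j)) = 0 := by
      rw [hg.isom, e, herm_single_left, e, Pi.single_eq_of_ne hne, cj_zero]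
    rw [hka, hka, herm_smul_left, herm_smul_right, hij] at h2
    have h3 : herm (e (k j)) (e (k j)) = 1 := by
      rw [e, herm_single_left, Pi.single_eq_same, cj_one]
    rw [h3, mul_one, mul_eq_zero, cj_eq_zero] at h2
    rcases h2 with h2 | h2
    · exact ha i h2
    · exact ha j h2
  let s : Equiv.Perm (Fin 6) := Equiv.ofBijective k ((Fintype.bijective_iff_injective_and_card k).2
    ⟨hinj, rfl⟩)
  have hsk : ∀ j, s j = k j := fun j => rfl
  have hgv : ∀ v i, g v i = a (s⁻¹ i) * v (s⁻¹ i) := by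
    intro v i
    rw [hg.sum v, Finset.sum_apply, Finset.sum_eq_single (s⁻¹ i)]
    · have h2 : k (s⁻¹ i) = i := s.apply_symm_apply i
      rw [hka, h2]
      simp [e]
      ring
    · intro j _ hj
      have h2 : i ≠ k j := by
        rintro rfl
        apply hj
        exact (s.symm_apply_apply j).symm
      rw [hka]
      simp [e, Pi.single_eq_of_ne h2]
    · intro h; exact absurd (Finset.mem_univ _) h
  have e00 : (e 0 : W) 0 = 1 := rfl
  have hs0 : s 0 = 0 := by
    by_contra hc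
    have h2 : s⁻¹ 0 ≠ 0 := by
      intro h3
      rw [Equiv.Perm.inv_eq_iff_eq] at h3
      exact hc h3.symm
    have h3 := hgv (e 0) 0
    rw [h0, e00, e, Pi.single_eq_of_ne h2, mul_zero] at h3
    exact absurd h3 (by decide)
  have hs0' : s⁻¹ 0 = 0 := by rw [Equiv.Perm.inv_eq_iff_eq, hs0]
  refine ⟨s, fun i => a (s⁻¹ i), hs0, ?_, fun i => ha _, ?_, hgv⟩
  · have h3 := hgv (e 0) 0
    rw [h0, hs0', e00, mul_one] at h3
    show a (s⁻¹ 0) = 1
    rw [hs0', ← h3]
  · have h2 : IsR (fun _ => 1 : W) := Or.inr ⟨by decide, by decide⟩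
    have h3 := hg.isR _ h2
    have h4 : g (fun _ => 1 : W) = fun i => a (s⁻¹ i) := by
      funext i
      rw [hgv, mul_one]
    rw [h4] at h3
    rcases h3 with h3 | ⟨-, h3⟩
    · have h5 : wt (fun i => a (s⁻¹ i) : W) = 6 := wt_eq_six.2 fun i => ha _
      omega
    · exact h3

/-- The stabiliser of `R` in the unitary group is `H ∪ H τ`. -/
theorem Sig.cases (h : Std H) {g : W → W} (hg : Sig g) :
    (∃ A ∈ H, ∀ v, g v = A • v) ∨ (∃ A ∈ H, ∀ v, g v = A • tau u45 v) := by
  obtain ⟨B, hB, hBe⟩ := orb_odd h.fr (v := g (e 0)) (by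
    rw [hg.isom, herm_self, ModOrb.wt_e]; decide)
  have hg' : Sig (fun v => B⁻¹ • g v) := (sig_of_mem h (H.inv_mem hB)).comp hg
  have h0 : (fun v => B⁻¹ • g v) (e 0) = e 0 := by
    show B⁻¹ • g (e 0) = e 0
    rw [← hBe, inv_smul_smul]
  obtain ⟨s, d, hs0, hd0, hd, hd1, hgv⟩ := hg'.mono h h0
  by_cases hs : Equiv.Perm.sign s = 1
  · left
    obtain ⟨A, hA, hAv⟩ := mono' h.fr hs hd hd1
    refine ⟨B * A, H.mul_mem hB hA, fun v => ?_⟩
    have : B⁻¹ • g v = A • v := funext fun i => (hgv v i).trans (hAv v i).symm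
    rw [mul_smul, ← this, smul_inv_smul]
  · right
    have hs' : Equiv.Perm.sign s = -1 := (Int.units_eq_one_or _).resolve_left hs
    obtain ⟨A, hA, hAv⟩ := mono' h.fr (s := s * Equiv.swap 4 5) (d := d)
      (by rw [Equiv.Perm.sign_mul, sign_swap45, hs']; rfl) hd hd1
    refine ⟨B * A, H.mul_mem hB hA, fun v => ?_⟩
    have : B⁻¹ • g v = A • tau u45 v := by
      funext i
      rw [hAv, tau_u45, mul_inv_rev, Equiv.swap_inv, Equiv.Perm.mul_apply,
        Equiv.swap_apply_self]
      exact hgv v i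
    rw [mul_smul, ← this, smul_inv_smul]

/-- **Products of two transvections with centres in `R` are in `H`.** -/
theorem tau_tau_mem (h : Std H) {r r' : W} (hr : IsR r) (hr' : IsR r') :
    ∃ A ∈ H, ∀ v, A • v = tau r (tau r' v) := by
  have key : ∀ r, IsR r → ∃ A ∈ H, ∀ v, tau r v = A • tau u45 v := by
    intro r hr
    rcases (sig_tau h hr).cases h with ⟨A, hA, hAv⟩ | h1
    · exact (h.tau_not_mem hr hA fun v => (hAv v).symm).elim
    · exact h1
  obtain ⟨A, hA, hAv⟩ := key r hr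
  obtain ⟨B, hB, hBv⟩ := key r' hr'
  refine ⟨A * B⁻¹, H.mul_mem hA (H.inv_mem hB), fun v => ?_⟩
  have h1 : B⁻¹ • v = tau u45 (tau r' v) := by
    have h2 := hBv (tau r' v)
    rw [tau_tau (herm_of_isR hr')] at h2
    conv_lhs => rw [h2]
    rw [inv_smul_smul]
  rw [mul_smul, h1, hAv]

end Cfsg.Agent.R08.ModSig
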