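import Cfsg.Agent.R08.ModIso

/-!
# R08 (S1715), piece (0) Part B: transvections and the stabiliser of `R` (helper256)
-/

set_option autoImplicit false

namespace Cfsg.Agent.R08.ModTau

open Cfsg.Agent.SporRec.GF4 Cfsg.Agent.R08.ModVec Cfsg.Agent.R08.ModMono Cfsg.Agent.R08.Frame
open Cfsg.Agent.R08.ModOrb Cfsg.Agent.R08.ModIso

/-- transvection with centre `r` -/
def tau (r x : W) : W := x + herm x r • r

theorem tau_add (r x y : W) : tau r (x + y) = tau r x + tau r y := by
  unfold tau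
  rw [herm_add_left, add_smul]
  abel

theorem tau_smul (r : W) (a : F4) (x : W) : tau r (a • x) = a • tau r x := by
  unfold tau
  rw [herm_smul_left, smul_add, smul_smul]

theorem tau_of_perp {r x : W} (h : herm x r = 0) : tau r x = x := by
  unfold tau
  rw [h, zero_smul, add_zero]

theorem herm_tau_self {r : W} (hr : herm r r = 0) (x : W) : herm (tau r x) r = herm x r := by
  unfold tau
  rw [herm_add_left, herm_smul_left, hr, mul_zero, add_zero]

theorem tau_tau {r : W} (hr : herm r r = 0) (x : W) : tau r (tau r x) = x := by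
  conv_lhs => rw [tau]
  rw [herm_tau_self hr]
  unfold tau
  rw [add_assoc, W_add_self, add_zero]

theorem herm_tau {r : W} (hr : herm r r = 0) (x y : W) : herm (tau r x) (tau r y) = herm x y := by
  unfold tau
  rw [herm_add_left, herm_add_right, herm_add_right, herm_smul_left, herm_smul_left,
    herm_smul_right, herm_smul_right, hr, mul_zero, mul_zero, add_zero, herm_symm r y, cj_cj,
    mul_comm (herm x r), add_assoc, mul_comm _ (herm x r), add_self, add_zero]

/-- a multiple of the centre gives the same transvection -/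
theorem tau_smul_center {a : F4} (ha : a ≠ 0) (r x : W) : tau (a • r) x = tau r x := by
  unfold tau
  rw [herm_smul_right, smul_smul, mul_right_comm, cj_mul_self ha, one_mul]

theorem herm_of_isR {v : W} (h : IsR v) : herm v v = 0 := by
  rw [herm_self]
  rcases h with h | ⟨h, -⟩ <;> rw [h] <;> decide

theorem herm_of_isS {v : W} (h : IsS v) : herm v v = 0 := by
  rw [herm_self]
  rcases h with h | ⟨h, -⟩ <;> rw [h] <;> decide

theorem isR_ne_zero {v : W} (h : IsR v) : v ≠ 0 := by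
  rintro rfl
  have : wt (0 : W) = 0 := wt_eq_zero.2 rfl
  rcases h with h | ⟨h, -⟩ <;> omega

theorem isS_ne_zero {v : W} (h : IsS v) : v ≠ 0 := by
  rintro rfl
  have : wt (0 : W) = 0 := wt_eq_zero.2 rfl
  rcases h with h | ⟨h, -⟩ <;> omega

theorem isR_or_isS {v : W} (h : herm v v = 0) (h0 : v ≠ 0) : IsR v ∨ IsS v := by
  rcases herm_self_eq h h0 with h | h | h
  · exact Or.inl (Or.inl h)
  · exact Or.inr (Or.inl h)
  · by_cases h1 : ∏ i, v i = 1
    · exact Or.inl (Or.inr ⟨h, h1⟩)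
    · exact Or.inr (Or.inr ⟨h, h1⟩)

theorem not_isR_of_isS {v : W} (h : IsS v) : ¬ IsR v := by
  rintro h'
  rcases h with h | ⟨h, h1⟩ <;> rcases h' with h' | ⟨h', h1'⟩
  · omega
  · omega
  · omega
  · exact h1 h1'

/-- the situation after normalisation of the coordinates -/
structure Std (H : Subgroup SL) : Prop where
  fr : LinFrame F4 H
  orbR : ∀ v, Orb H u2 v ↔ IsR v
  orbS : ∀ v, Orb H u4 v ↔ IsS v

variable {H : Subgroup SL}

theorem Std.isR_smul (h : Std H) {A : SL} (hA : A ∈ H) {v : W} : IsR (A • v) ↔ IsR v := by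
  rw [← h.orbR, ← h.orbR]
  exact ⟨fun h1 => h1.trans (Orb.symm ⟨A, hA, rfl⟩), fun h1 => h1.trans ⟨A, hA, rfl⟩⟩

theorem Std.isS_smul (h : Std H) {A : SL} (hA : A ∈ H) {v : W} : IsS (A • v) ↔ IsS v := by
  rw [← h.orbS, ← h.orbS]
  exact ⟨fun h1 => h1.trans (Orb.symm ⟨A, hA, rfl⟩), fun h1 => h1.trans ⟨A, hA, rfl⟩⟩

theorem Std.transR (h : Std H) {v w : W} (hv : IsR v) (hw : IsR w) : ∃ A ∈ H, A • v = w :=
  ((h.orbR v).2 hv).symm.trans ((h.orbR w).2 hw)

theorem Std.transS (h : Std H) {v w : W} (hv : IsS v) (hw : IsS w) : ∃ A ∈ H, A • v = w :=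
  ((h.orbS v).2 hv).symm.trans ((h.orbS w).2 hw)

theorem isR_u2 : IsR u2 := Or.inl wt_u2
theorem isS_u4 : IsS u4 := Or.inl wt_u4

/-- fast test for `IsR` -/
def isRN (a b c d e f : F4) : Bool :=
  match wtN a b c d e f with
  | 2 => true
  | 6 => prN a b c d e f == .o
  | _ => false

theorem isR_iff (v : W) : IsR v ↔ isRN (v 0) (v 1) (v 2) (v 3) (v 4) (v 5) = true := by
  unfold IsR isRN
  rw [← wt_eq', ← prod_eq']
  have hle := wt_le v
  have hcase : wt v = 0 ∨ wt v = 1 ∨ wt v = 2 ∨ wt v = 3 ∨ wt v = 4 ∨ wt v = 5 ∨ wt v = 6 := by omega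
  rcases hcase with h | h | h | h | h | h | h <;> rw [h]
  · simp
  · simp
  · simp
  · simp
  · simp
  · simp
  · simp only [beq_iff_eq]
    constructor
    · rintro (h1 | h1)
      · omega
      · exact h1.2
    · intro h1; exact Or.inr ⟨trivial, h1⟩

theorem herm_u2 (v : W) : herm v u2 = v 0 + v 1 := by
  rw [herm_eq]
  show v 0 * 1 + v 1 * 1 + v 2 * 0 + v 3 * 0 + v 4 * 0 + v 5 * 0 = _
  ring

theorem tau_u2 (v : W) : tau u2 v = ![v 1, v 0, v 2, v 3, v 4, v 5] := by
  unfold tau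
  rw [herm_u2]
  have key : ∀ a b : F4, a + (a + b) * 1 = b := by decide
  have key' : ∀ a b : F4, b + (a + b) * 1 = a := by decide
  funext i
  fin_cases i
  · exact key _ _
  · exact key' _ _
  · show v 2 + (v 0 + v 1) * 0 = v 2
    rw [mul_zero, add_zero]
  · show v 3 + (v 0 + v 1) * 0 = v 3
    rw [mul_zero, add_zero]
  · show v 4 + (v 0 + v 1) * 0 = v 4
    rw [mul_zero, add_zero]
  · show v 5 + (v 0 + v 1) * 0 = v 5
    rw [mul_zero, add_zero]

theorem isR_tau_u2 {v : W} (hv : IsR v) : IsR (tau u2 v) := by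
  rw [isR_iff] at hv ⊢
  rw [tau_u2]
  show isRN (v 1) (v 0) (v 2) (v 3) (v 4) (v 5) = true
  unfold isRN at hv ⊢
  have e1 : wtN (v 1) (v 0) (v 2) (v 3) (v 4) (v 5) = wtN (v 0) (v 1) (v 2) (v 3) (v 4) (v 5) := by
    unfold wtN; ring
  have e2 : prN (v 1) (v 0) (v 2) (v 3) (v 4) (v 5) = prN (v 0) (v 1) (v 2) (v 3) (v 4) (v 5) := by
    unfold prN; ring
  rwa [e1, e2]

theorem smul_tau (h : Std H) {A : SL} (hA : A ∈ H) (r x : W) :
    A • tau r x = tau (A • r) (A • x) := by
  unfold tau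
  rw [smul_add, smul_comm, herm_smul h.fr hA]

/-- `R` is invariant under the transvections with centres in `R`. -/
theorem Std.isR_tau (h : Std H) {r v : W} (hr : IsR r) (hv : IsR v) : IsR (tau r v) := by
  obtain ⟨A, hA, rfl⟩ := h.transR isR_u2 hr
  obtain ⟨w, rfl⟩ : ∃ w, A • w = v := ⟨A⁻¹ • v, smul_inv_smul A v⟩
  rw [← smul_tau h hA, h.isR_smul hA]
  exact isR_tau_u2 ((h.isR_smul hA).1 hv)

/-- **third point rule** -/
theorem Std.isR_add (h : Std H) {x y : W} (hx : IsR x) (hy : IsR y) (hxy : herm x y = 1) :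
    IsR (x + y) := by
  have := h.isR_tau hy hx
  unfold tau at this
  rwa [hxy, one_smul] at this

/-! ### a transvection is not in `H` -/

/-- `(0,0,0,0,1,1)` -/
def u45 : W := ![0, 0, 0, 0, 1, 1]

theorem isR_u45 : IsR u45 := Or.inl (by decide)

theorem herm_u45 (v : W) : herm v u45 = v 4 + v 5 := by
  rw [herm_eq]
  show v 0 * 0 + v 1 * 0 + v 2 * 0 + v 3 * 0 + v 4 * 1 + v 5 * 1 = _
  ring

theorem tau_u45 (v : W) (i : Fin 6) : tau u45 v i = v (Equiv.swap 4 5 i) := by
  unfold tau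
  rw [herm_u45]
  have key : ∀ a b : F4, a + (a + b) * 1 = b := by decide
  have key' : ∀ a b : F4, b + (a + b) * 1 = a := by decide
  fin_cases i
  · show v 0 + (v 4 + v 5) * 0 = v 0
    rw [mul_zero, add_zero]
  · show v 1 + (v 4 + v 5) * 0 = v 1
    rw [mul_zero, add_zero]
  · show v 2 + (v 4 + v 5) * 0 = v 2
    rw [mul_zero, add_zero]
  · show v 3 + (v 4 + v 5) * 0 = v 3
    rw [mul_zero, add_zero]
  · exact key _ _
  · exact key' _ _

theorem sign_swap45 : Equiv.Perm.sign (Equiv.swap (4 : Fin 6) 5) = -1 :=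
  Equiv.Perm.sign_swap (by decide)

theorem mono_all (h : LinFrame F4 H) (ht : ∃ A ∈ H, ∀ v, A • v = tau u45 v)
    {s : Equiv.Perm (Fin 6)} {d : Fin 6 → F4} (hd : ∀ i, d i ≠ 0) (hp : ∏ i, d i = 1) :
    ∃ A ∈ H, ∀ (v : W) (i : Fin 6), (A • v) i = d i * v (s⁻¹ i) := by
  by_cases hs : Equiv.Perm.sign s = 1
  · exact mono' h hs hd hp
  · have hs' : Equiv.Perm.sign s = -1 := (Int.units_eq_one_or _).resolve_left hs
    obtain ⟨A, hA, hAv⟩ := mono' h (s := s * Equiv.swap 4 5) (d := d)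
      (by rw [Equiv.Perm.sign_mul, sign_swap45, hs']; rfl) hd hp
    obtain ⟨B, hB, hBv⟩ := ht
    refine ⟨A * B, H.mul_mem hA hB, fun v i => ?_⟩
    rw [mul_smul, hAv, hBv, tau_u45, mul_inv_rev, Equiv.swap_inv, Equiv.Perm.mul_apply,
      Equiv.swap_apply_self]

theorem tau_not_mem0 (h : LinFrame F4 H) : ¬ ∃ A ∈ H, ∀ v, A • v = tau u45 v := by
  classical
  intro ht
  let S := MulAction.stabilizer H (e 0)
  have h1 : ∀ x : Equiv.Perm (Fin 5) × (Fin 4 → F4ˣ), ∃ A : S, ∀ (v : W) (i : Fin 6),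
      (((A : H) : SL) • v) i = (![1, (x.2 0 : F4), x.2 1, x.2 2, x.2 3,
        ((x.2 0 * x.2 1 * x.2 2 * x.2 3)⁻¹ : F4ˣ)] : W) i *
        v ((Equiv.Perm.decomposeFin.symm (0, x.1))⁻¹ i) := by
    rintro ⟨s, d⟩
    obtain ⟨A, hA, hAv⟩ := mono_all h ht (s := Equiv.Perm.decomposeFin.symm (0, s))
      (d := ![1, (d 0 : F4), d 1, d 2, d 3, ((d 0 * d 1 * d 2 * d 3)⁻¹ : F4ˣ)]) (by
        intro i
        fin_cases i
        · exact one_ne_zero
        · exact (d 0).ne_zero
        · exact (d 1).ne_zero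
        · exact (d 2).ne_zero
        · exact (d 3).ne_zero
        · exact Units.ne_zero _) (by
        rw [prod_eq]
        show (1 : F4) * d 0 * d 1 * d 2 * d 3 * ((d 0 * d 1 * d 2 * d 3)⁻¹ : F4ˣ) = 1
        rw [one_mul, ← Units.val_mul, ← Units.val_mul, ← Units.val_mul, ← Units.val_mul,
          mul_inv_cancel, Units.val_one])
    refine ⟨⟨⟨A, hA⟩, ?_⟩, hAv⟩
    rw [MulAction.mem_stabilizer_iff]
    funext i
    show (A • e 0) i = e 0 i
    rw [hAv]
    by_cases hi : i = 0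
    · subst hi
      have : (Equiv.Perm.decomposeFin.symm (0, s))⁻¹ (0 : Fin 6) = 0 := by
        rw [Equiv.Perm.inv_eq_iff_eq, Equiv.Perm.decomposeFin_symm_apply_zero]
      rw [this]
      show (1 : F4) * e 0 0 = e 0 0
      rw [one_mul]
    · have : (Equiv.Perm.decomposeFin.symm (0, s))⁻¹ i ≠ 0 := by
        intro hc
        rw [Equiv.Perm.inv_eq_iff_eq, Equiv.Perm.decomposeFin_symm_apply_zero] at hc
        exact hi hc
      rw [e, Pi.single_eq_of_ne this, Pi.single_eq_of_ne hi, mul_zero]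
  choose φ hφ using h1
  have hinj : Function.Injective φ := by
    rintro ⟨s, d⟩ ⟨s', d'⟩ hh
    have k : ∀ (v : W) (i : Fin 6), (![1, (d 0 : F4), d 1, d 2, d 3,
        ((d 0 * d 1 * d 2 * d 3)⁻¹ : F4ˣ)] : W) i * v ((Equiv.Perm.decomposeFin.symm (0, s))⁻¹ i) =
        (![1, (d' 0 : F4), d' 1, d' 2, d' 3,
        ((d' 0 * d' 1 * d' 2 * d' 3)⁻¹ : F4ˣ)] : W) i *
          v ((Equiv.Perm.decomposeFin.symm (0, s'))⁻¹ i) := by
      intro v i
      rw [← hφ (s, d) v i, ← hφ (s', d') v i, hh]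
    have hne : ∀ (d : Fin 4 → F4ˣ) (i : Fin 6), (![1, (d 0 : F4), d 1, d 2, d 3,
        ((d 0 * d 1 * d 2 * d 3)⁻¹ : F4ˣ)] : W) i ≠ 0 := by
      intro d i
      fin_cases i
      · exact one_ne_zero
      · exact (d 0).ne_zero
      · exact (d 1).ne_zero
      · exact (d 2).ne_zero
      · exact (d 3).ne_zero
      · exact Units.ne_zero _
    have ks : ∀ i, (Equiv.Perm.decomposeFin.symm (0, s))⁻¹ i =
        (Equiv.Perm.decomposeFin.symm (0, s'))⁻¹ i := by
      intro i
      by_contra hc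
      have := k (e ((Equiv.Perm.decomposeFin.symm (0, s))⁻¹ i)) i
      rw [e, Pi.single_eq_same, Pi.single_eq_of_ne (Ne.symm hc), mul_one, mul_zero] at this
      exact hne d i this
    have ks' : s = s' := by
      have h2 : Equiv.Perm.decomposeFin.symm (0, s) = Equiv.Perm.decomposeFin.symm (0, s') :=
        inv_injective (Equiv.ext ks)
      have h3 := Equiv.Perm.decomposeFin.symm.injective h2
      exact congrArg Prod.snd h3
    have kd : ∀ i : Fin 6, (![1, (d 0 : F4), d 1, d 2, d 3,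
        ((d 0 * d 1 * d 2 * d 3)⁻¹ : F4ˣ)] : W) i = (![1, (d' 0 : F4), d' 1, d' 2, d' 3,
        ((d' 0 * d' 1 * d' 2 * d' 3)⁻¹ : F4ˣ)] : W) i := by
      intro i
      have := k (fun _ => 1) i
      simpa using this
    have kd' : d = d' := by
      funext i
      apply Units.ext
      fin_cases i
      · exact kd 1
      · exact kd 2
      · exact kd 3
      · exact kd 4
    rw [ks', kd']
  have hc := Nat.card_le_card_of_injective φ hinj
  have hS : Nat.card S = 4860 := card_stab h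
  rw [hS, Nat.card_prod, Nat.card_eq_fintype_card, Nat.card_eq_fintype_card,
    Fintype.card_perm, Fintype.card_fun, Fintype.card_units, F4.card_F4,
    Fintype.card_fin, Fintype.card_fin] at hc
  exact absurd hc (by decide)

/-- No transvection with centre in `R` is in `H`. -/
theorem Std.tau_not_mem (h : Std H) {r : W} (hr : IsR r) {A : SL} (hA : A ∈ H)
    (hAr : ∀ v, A • v = tau r v) : False := by
  obtain ⟨B, hB, rfl⟩ := h.transR isR_u45 hr
  refine tau_not_mem0 h.fr ⟨B⁻¹ * A * B, H.mul_mem (H.mul_mem (H.inv_mem hB) hA) hB, fun v => ?_⟩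
  rw [mul_smul, mul_smul, hAr, ← smul_tau h hB, inv_smul_smul]

end Cfsg.Agent.R08.ModTau
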