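import Cfsg.Agent.R08.ModSig

/-!
# R08 (S1715), piece (0) Part B: unipotent elements of `H` (helper256)
-/

set_option autoImplicit false

namespace Cfsg.Agent.R08.ModTriv

open Cfsg.Agent.SporRec.GF4 Cfsg.Agent.R08.ModVec Cfsg.Agent.R08.ModMono Cfsg.Agent.R08.Frame
open Cfsg.Agent.R08.ModOrb Cfsg.Agent.R08.ModIso Cfsg.Agent.R08.ModTau Cfsg.Agent.R08.ModSig

variable {H : Subgroup SL}

theorem sl_ext {A B : SL} (h : ∀ v : W, A • v = B • v) : A = B := by
  apply Matrix.SpecialLinearGroup.ext
  intro i j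
  have h3 := congrFun (h (Pi.single j 1)) i
  rw [smul_def, smul_def, Matrix.mulVec_single_one, Matrix.mulVec_single_one] at h3
  exact h3

theorem herm_e (v : W) (i : Fin 6) : herm v (e i) = v i := herm_single_right v i

theorem e_apply (i j : Fin 6) : e i j = if j = i then 1 else 0 := by
  unfold e
  by_cases h : j = i
  · subst h; simp
  · rw [if_neg h, Pi.single_eq_of_ne h]

/-- the vector `e i + a e j` -/
def pr2 (i j : Fin 6) (a : F4) : W := e i + a • e j

theorem isR_pr2 {i j : Fin 6} (hij : i ≠ j) {a : F4} (ha : a ≠ 0) : IsR (pr2 i j a) := by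
  left
  have h : supp (pr2 i j a) = {i, j} := by
    ext k
    rw [mem_supp, Finset.mem_insert, Finset.mem_singleton]
    show e i k + a * e j k ≠ 0 ↔ _
    rw [e_apply, e_apply]
    by_cases h1 : k = i
    · subst h1
      rw [if_pos rfl, if_neg hij]
      simp
    · by_cases h2 : k = j
      · subst h2
        rw [if_neg h1, if_pos rfl]
        simp [ha]
      · rw [if_neg h1, if_neg h2]
        simp [h1, h2]
  rw [← card_supp, h, Finset.card_pair hij]

theorem herm_pr2_u2 {i j : Fin 6} (hi : i ≠ 0 ∧ i ≠ 1) (hj : j ≠ 0 ∧ j ≠ 1) (a : F4) :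
    herm (pr2 i j a) u2 = 0 := by
  rw [herm_u2]
  show (e i 0 + a * e j 0) + (e i 1 + a * e j 1) = 0
  rw [e_apply, e_apply, e_apply, e_apply, if_neg hi.1.symm, if_neg hj.1.symm, if_neg hi.2.symm,
    if_neg hj.2.symm]
  simp

theorem wt_pr2_add {i j : Fin 6} (hij : i ≠ j) (hi : i ≠ 0 ∧ i ≠ 1) (hj : j ≠ 0 ∧ j ≠ 1) {a b : F4}
    (ha : a ≠ 0) (hb : b ≠ 0) : wt (pr2 i j a + b • u2) = 4 := by
  have h : supp (pr2 i j a + b • u2) = {0, 1, i, j} := by
    ext k
    rw [mem_supp, Finset.mem_insert, Finset.mem_insert, Finset.mem_insert, Finset.mem_singleton]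
    show (e i k + a * e j k) + b * u2 k ≠ 0 ↔ _
    rw [e_apply, e_apply]
    by_cases h0 : k = 0
    · subst h0
      rw [if_neg hi.1.symm, if_neg hj.1.symm]
      show (0 + a * 0) + b * 1 ≠ 0 ↔ _
      simp [hb]
    · by_cases h1 : k = 1
      · subst h1
        rw [if_neg hi.2.symm, if_neg hj.2.symm]
        show (0 + a * 0) + b * 1 ≠ 0 ↔ _
        simp [hb]
      · have hu : u2 k = 0 := by
          revert h0 h1; fin_cases k <;> decide
        rw [hu]
        by_cases h2 : k = i
        · subst h2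
          rw [if_pos rfl, if_neg hij]
          simp
        · by_cases h3 : k = j
          · subst h3
            rw [if_neg h2, if_pos rfl]
            simp [ha]
          · rw [if_neg h2, if_neg h3]
            simp [h0, h1, h2, h3]
  rw [← card_supp, h, Finset.card_insert_of_notMem, Finset.card_insert_of_notMem,
    Finset.card_pair hij]
  · simp [hi.2.symm, hj.2.symm]
  · simp [hi.1.symm, hj.1.symm]

theorem triv0 (h : Std H) {A : SL} (hA : A ∈ H) (h1 : A • u2 = u2)
    (h2 : ∀ w, herm w u2 = 0 → ∃ a : F4, A • w = w + a • u2) : A = 1 := by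
  have hg := sig_of_mem h hA
  have hfix : ∀ i j : Fin 6, i ≠ j → (i ≠ 0 ∧ i ≠ 1) → (j ≠ 0 ∧ j ≠ 1) → ∀ a : F4, a ≠ 0 →
      A • pr2 i j a = pr2 i j a := by
    intro i j hij hi hj a ha
    obtain ⟨b, hb⟩ := h2 _ (herm_pr2_u2 hi hj a)
    by_cases hb0 : b = 0
    · rw [hb, hb0, zero_smul, add_zero]
    · exfalso
      have h3 := (h.isR_smul hA).2 (isR_pr2 hij ha)
      rw [hb] at h3
      have h4 := wt_pr2_add hij hi hj ha hb0
      rcases h3 with h3 | ⟨h3, -⟩ <;> omega
  have hej : ∀ i j : Fin 6, i ≠ j → (i ≠ 0 ∧ i ≠ 1) → (j ≠ 0 ∧ j ≠ 1) → A • e j = e j := by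
    intro i j hij hi hj
    have a1 := hfix i j hij hi hj .o (by decide)
    have a2 := hfix i j hij hi hj .w (by decide)
    have a3 : A • (pr2 i j .o + pr2 i j .w) = pr2 i j .o + pr2 i j .w := by
      rw [smul_add, a1, a2]
    have a4 : pr2 i j .o + pr2 i j .w = F4.v • e j := by
      unfold pr2
      have : e i + F4.o • e j + (e i + F4.w • e j) = (e i + e i) + (F4.o + F4.w) • e j := by
        rw [add_smul]; abel
      rw [this, W_add_self, zero_add]
      rfl
    rw [a4, smul_comm] at a3
    have a5 := congrArg (fun x => F4.w • x) a3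
    simp only [smul_smul] at a5
    have a6 : F4.w * F4.v = 1 := rfl
    rwa [a6, one_smul, one_smul] at a5
  have e2 := hej 3 2 (by decide) (by decide) (by decide)
  have e3 := hej 2 3 (by decide) (by decide) (by decide)
  have e4 := hej 5 4 (by decide) (by decide) (by decide)
  have e5 := hej 4 5 (by decide) (by decide) (by decide)
  set y : W := A • e 0 with hy
  have hperp : ∀ j, j ≠ 0 → A • e j = e j → y j = 0 := by
    intro j hj hfj
    rw [← herm_e y j, hy]
    conv_lhs => rw [← hfj]
    rw [herm_smul h.fr hA, herm_e, e_apply, if_neg hj]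
  have y2 := hperp 2 (by decide) e2
  have y3 := hperp 3 (by decide) e3
  have y4 := hperp 4 (by decide) e4
  have y5 := hperp 5 (by decide) e5
  have y01 : y 0 + y 1 = 1 := by
    rw [← herm_u2, hy]
    conv_lhs => rw [← h1]
    rw [herm_smul h.fr hA, herm_u2]
    rfl
  have yn : y 0 * cj (y 0) + y 1 * cj (y 1) = 1 := by
    have h3 : herm y y = herm (e 0) (e 0) := herm_smul h.fr hA _ _
    rw [herm_eq y y, y2, y3, y4, y5, herm_e] at h3
    simp only [zero_mul, add_zero] at h3
    exact h3
  have key : ∀ a b : F4, a + b = 1 → a * cj a + b * cj b = 1 → (a = 1 ∧ b = 0) ∨ (a = 0 ∧ b = 1) := by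
    decide
  have u2e : u2 = e 0 + e 1 := by
    funext i; fin_cases i <;> rfl
  have e1y : A • e 1 = u2 + y := by
    have h3 : A • (u2 + e 0) = u2 + y := by rw [smul_add, h1]
    rw [← h3]
    congr 1
    rw [u2e, add_right_comm, W_add_self, zero_add]
  rcases key _ _ y01 yn with ⟨y0, y1⟩ | ⟨y0, y1⟩
  · have hy0 : y = e 0 := by
      funext i
      fin_cases i
      · exact y0
      · exact y1
      · exact y2
      · exact y3
      · exact y4
      · exact y5
    have hy1 : A • e 1 = e 1 := by
      rw [e1y, hy0, u2e, add_right_comm, W_add_self, zero_add]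
    apply sl_ext
    intro v
    rw [one_smul]
    have h3 : A • v = ∑ j, v j • (A • e j) := hg.sum v
    rw [h3]
    conv_rhs => rw [eq_sum v]
    refine Finset.sum_congr rfl fun j _ => ?_
    congr 1
    fin_cases j
    · exact hy0
    · exact hy1
    · exact e2
    · exact e3
    · exact e4
    · exact e5
  · exfalso
    have hy0 : y = e 1 := by
      funext i
      fin_cases i
      · exact y0
      · exact y1
      · exact y2
      · exact y3
      · exact y4
      · exact y5
    have hy1 : A • e 1 = e 0 := by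
      rw [e1y, hy0, u2e, add_assoc, W_add_self, add_zero]
    refine h.tau_not_mem isR_u2 hA fun v => ?_
    have h3 : A • v = ∑ j, v j • (A • e j) := hg.sum v
    have h4 := (sig_tau h isR_u2).sum v
    rw [h3, h4]
    refine Finset.sum_congr rfl fun j _ => ?_
    congr 1
    have t0 : tau u2 (e 0) = e 1 := by
      rw [tau_u2]; funext i; fin_cases i <;> rfl
    have t1 : tau u2 (e 1) = e 0 := by
      rw [tau_u2]; funext i; fin_cases i <;> rfl
    have tj : ∀ j : Fin 6, j ≠ 0 → j ≠ 1 → tau u2 (e j) = e j := by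
      intro j hj0 hj1
      apply tau_of_perp
      rw [herm_u2, e_apply, e_apply, if_neg hj0.symm, if_neg hj1.symm, add_zero]
    fin_cases j
    · exact hy0.trans t0.symm
    · exact hy1.trans t1.symm
    · exact e2.trans (tj 2 (by decide) (by decide)).symm
    · exact e3.trans (tj 3 (by decide) (by decide)).symm
    · exact e4.trans (tj 4 (by decide) (by decide)).symm
    · exact e5.trans (tj 5 (by decide) (by decide)).symm

/-- An element of `H` which fixes a vector `r` in `R` and acts trivially on `r^⊥ / ⟨r⟩` is trivial. -/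
theorem triv (h : Std H) {A : SL} (hA : A ∈ H) {r : W} (hr : IsR r) (h1 : A • r = r)
    (h2 : ∀ w, herm w r = 0 → ∃ a : F4, A • w = w + a • r) : A = 1 := by
  obtain ⟨B, hB, rfl⟩ := h.transR isR_u2 hr
  have h3 : B⁻¹ * A * B = 1 := by
    refine triv0 h (H.mul_mem (H.mul_mem (H.inv_mem hB) hA) hB) ?_ fun w hw => ?_
    · rw [mul_smul, mul_smul, h1, inv_smul_smul]
    · obtain ⟨a, ha⟩ := h2 (B • w) (by rw [herm_smul h.fr hB]; exact hw)
      refine ⟨a, ?_⟩
      rw [mul_smul, mul_smul, ha, smul_add, inv_smul_smul, smul_comm, inv_smul_smul]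
  have h4 : A = B * (B⁻¹ * A * B) * B⁻¹ := by group
  rw [h4, h3]; group

end Cfsg.Agent.R08.ModTriv
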