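import Mathlib
import Cfsg.Prelude.Def_Classical
import Cfsg.Agent.SporRec.GF4

/-!
# R08 (S1715), piece (0) Part B: vectors of `F4 ^ 6` (helper256)

The hermitian space `W = F4 ^ 6`, weights, the sets `R` (126 points) and `S` (567 points), kernel
checks over the 4096 vectors.
-/

set_option autoImplicit false

namespace Cfsg.Agent.R08.ModVec

open Cfsg.Agent.SporRec.GF4

/-- the six-dimensional space -/
abbrev W : Type := Fin 6 → F4

/-- the standard hermitian form -/
def herm (u v : W) : F4 := Cfsg.hermForm 6 F4 2 u v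

/-- the field automorphism -/
def cj : F4 → F4
  | .z => .z
  | .o => .o
  | .w => .v
  | .v => .w

theorem sq_eq_cj (a : F4) : a ^ 2 = cj a := by
  rw [pow_two]; cases a <;> rfl

theorem cj_add (a b : F4) : cj (a + b) = cj a + cj b := by
  rw [← sq_eq_cj, ← sq_eq_cj, ← sq_eq_cj]
  cases a <;> cases b <;> decide

theorem cj_mul (a b : F4) : cj (a * b) = cj a * cj b := by
  cases a <;> cases b <;> rfl

theorem cj_cj (a : F4) : cj (cj a) = a := by cases a <;> rfl

theorem cj_zero : cj 0 = 0 := rfl

theorem cj_one : cj 1 = 1 := rfl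

theorem cj_eq_zero {a : F4} : cj a = 0 ↔ a = 0 := by
  cases a <;> decide

theorem mul_cj {a : F4} (h : a ≠ 0) : a * cj a = 1 := by
  revert h; cases a <;> decide

theorem cj_mul_self {a : F4} (h : a ≠ 0) : cj a * a = 1 := by
  rw [mul_comm]; exact mul_cj h

theorem add_self (a : F4) : a + a = 0 := by cases a <;> rfl

theorem W_add_self (v : W) : v + v = 0 := funext fun i => add_self (v i)

theorem herm_def (u v : W) : herm u v = ∑ i, u i * cj (v i) := by
  unfold herm Cfsg.hermForm
  exact Finset.sum_congr rfl fun i _ => by rw [sq_eq_cj]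

theorem herm_eq (u v : W) : herm u v =
    u 0 * cj (v 0) + u 1 * cj (v 1) + u 2 * cj (v 2) + u 3 * cj (v 3) + u 4 * cj (v 4)
      + u 5 * cj (v 5) := by
  rw [herm_def, Fin.sum_univ_six]

theorem herm_add_left (u u' v : W) : herm (u + u') v = herm u v + herm u' v := by
  rw [herm_def, herm_def, herm_def, ← Finset.sum_add_distrib]
  exact Finset.sum_congr rfl fun i _ => by rw [Pi.add_apply, add_mul]

theorem herm_add_right (u v v' : W) : herm u (v + v') = herm u v + herm u v' := by
  rw [herm_def, herm_def, herm_def, ← Finset.sum_add_distrib]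
  exact Finset.sum_congr rfl fun i _ => by rw [Pi.add_apply, cj_add, mul_add]

theorem herm_smul_left (a : F4) (u v : W) : herm (a • u) v = a * herm u v := by
  rw [herm_def, herm_def, Finset.mul_sum]
  exact Finset.sum_congr rfl fun i _ => by rw [Pi.smul_apply, smul_eq_mul, mul_assoc]

theorem herm_smul_right (a : F4) (u v : W) : herm u (a • v) = cj a * herm u v := by
  rw [herm_def, herm_def, Finset.mul_sum]
  exact Finset.sum_congr rfl fun i _ => by
    rw [Pi.smul_apply, smul_eq_mul, cj_mul]; ring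

theorem cj_sum (f : Fin 6 → F4) : cj (∑ i, f i) = ∑ i, cj (f i) := by
  rw [Fin.sum_univ_six, Fin.sum_univ_six]; simp only [cj_add]

theorem herm_symm (u v : W) : herm v u = cj (herm u v) := by
  rw [herm_def, herm_def, cj_sum]
  exact Finset.sum_congr rfl fun i _ => by rw [cj_mul, cj_cj, mul_comm]

theorem herm_eq_zero_symm {u v : W} : herm u v = 0 ↔ herm v u = 0 := by
  rw [herm_symm u v, cj_eq_zero]

theorem herm_zero_left (v : W) : herm 0 v = 0 := by
  rw [herm_def]; simp

theorem herm_zero_right (v : W) : herm v 0 = 0 := by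
  rw [herm_def]; simp [cj_zero]

theorem herm_single_right (u : W) (i : Fin 6) : herm u (Pi.single i 1) = u i := by
  rw [herm_def, Finset.sum_eq_single i]
  · rw [Pi.single_eq_same, cj_one, mul_one]
  · intro j _ hj
    rw [Pi.single_eq_of_ne hj, cj_zero, mul_zero]
  · intro h; exact absurd (Finset.mem_univ i) h

theorem herm_single_left (u : W) (i : Fin 6) : herm (Pi.single i 1) u = cj (u i) := by
  rw [herm_symm, herm_single_right]

theorem herm_nondeg {u : W} (h : ∀ v, herm u v = 0) : u = 0 :=
  funext fun i => (herm_single_right u i).symm.trans (h _)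

/-- number of nonzero coordinates -/
def wt (v : W) : ℕ := (Finset.univ.filter fun i => v i ≠ 0).card

/-- `0` or `1` -/
def nz : F4 → ℕ
  | .z => 0
  | _ => 1

theorem nz_eq (a : F4) : nz a = if a ≠ 0 then 1 else 0 := by cases a <;> decide

theorem wt_eq (v : W) : wt v = nz (v 0) + nz (v 1) + nz (v 2) + nz (v 3) + nz (v 4) + nz (v 5) := by
  unfold wt
  rw [Finset.card_filter, Fin.sum_univ_six]
  simp only [nz_eq]

theorem prod_eq (v : W) : ∏ i, v i = v 0 * v 1 * v 2 * v 3 * v 4 * v 5 := Fin.prod_univ_six v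

/-- vectors over the 126 points -/
def IsR (v : W) : Prop := wt v = 2 ∨ (wt v = 6 ∧ ∏ i, v i = 1)

/-- vectors over the 567 points -/
def IsS (v : W) : Prop := wt v = 4 ∨ (wt v = 6 ∧ ∏ i, v i ≠ 1)

/-! ### kernel loops -/

/-- `∀` over the field -/
def all4 (p : F4 → Bool) : Bool := p .z && p .o && p .w && p .v

theorem of_all4 {p : F4 → Bool} (h : all4 p = true) (a : F4) : p a = true := by
  simp only [all4, Bool.and_eq_true] at h
  cases a
  · exact h.1.1.1
  · exact h.1.1.2
  · exact h.1.2
  · exact h.2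

/-- `∀` over the space -/
def allW (p : F4 → F4 → F4 → F4 → F4 → F4 → Bool) : Bool :=
  all4 fun a => all4 fun b => all4 fun c => all4 fun d => all4 fun e => all4 fun f => p a b c d e f

theorem of_allW {p : F4 → F4 → F4 → F4 → F4 → F4 → Bool} (h : allW p = true) (v : W) :
    p (v 0) (v 1) (v 2) (v 3) (v 4) (v 5) = true :=
  of_all4 (of_all4 (of_all4 (of_all4 (of_all4 (of_all4 h (v 0)) (v 1)) (v 2)) (v 3)) (v 4)) (v 5)

/-- sum over the field -/
def sum4 (p : F4 → ℕ) : ℕ := p .z + p .o + p .w + p .v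

theorem sum4_eq (p : F4 → ℕ) : ∑ a, p a = sum4 p := by
  have : (Finset.univ : Finset F4) = {.z, .o, .w, .v} := rfl
  rw [this]
  rw [Finset.sum_insert (by decide), Finset.sum_insert (by decide), Finset.sum_insert (by decide),
    Finset.sum_singleton]
  unfold sum4
  ring

/-- counting over the space -/
def cntW (p : F4 → F4 → F4 → F4 → F4 → F4 → Bool) : ℕ :=
  sum4 fun a => sum4 fun b => sum4 fun c => sum4 fun d => sum4 fun e => sum4 fun f =>
    bif p a b c d e f then 1 else 0

theorem sum_cons {n : ℕ} (f : (Fin (n + 1) → F4) → ℕ) :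
    ∑ v, f v = ∑ a : F4, ∑ v : Fin n → F4, f (Fin.cons a v) := by
  rw [← Fintype.sum_prod_type']
  exact (Fintype.sum_equiv (Fin.consEquiv (fun _ : Fin (n + 1) => F4)) _ _ fun _ => rfl).symm

theorem sum4_congr {p q : F4 → ℕ} (h : ∀ a, p a = q a) : sum4 p = sum4 q := by
  rw [show p = q from funext h]

theorem sum_cons4 {n : ℕ} (f : (Fin (n + 1) → F4) → ℕ) :
    ∑ v, f v = sum4 fun a => ∑ v : Fin n → F4, f (Fin.cons a v) :=
  (sum_cons f).trans (sum4_eq _)

theorem sum_W (f : W → ℕ) : ∑ v, f v = sum4 fun a => sum4 fun b => sum4 fun c => sum4 fun d =>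
    sum4 fun e => sum4 fun g => f ![a, b, c, d, e, g] := by
  refine (sum_cons4 (n := 5) f).trans (sum4_congr fun a => ?_)
  refine (sum_cons4 (n := 4) _).trans (sum4_congr fun b => ?_)
  refine (sum_cons4 (n := 3) _).trans (sum4_congr fun c => ?_)
  refine (sum_cons4 (n := 2) _).trans (sum4_congr fun d => ?_)
  refine (sum_cons4 (n := 1) _).trans (sum4_congr fun e => ?_)
  refine (sum_cons4 (n := 0) _).trans (sum4_congr fun g => ?_)
  rw [Fintype.sum_unique]
  refine congrArg f (funext fun i => ?_)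
  fin_cases i <;> rfl

theorem card_W {P : W → Prop} [DecidablePred P] {p : F4 → F4 → F4 → F4 → F4 → F4 → Bool}
    (hp : ∀ v : W, P v ↔ p (v 0) (v 1) (v 2) (v 3) (v 4) (v 5) = true) :
    (Finset.univ.filter P).card = cntW p := by
  rw [Finset.card_filter, sum_W]
  unfold cntW
  congr 1; funext a
  congr 1; funext b
  congr 1; funext c
  congr 1; funext d
  congr 1; funext e
  congr 1; funext g
  have h := hp ![a, b, c, d, e, g]
  have e1 : (![a, b, c, d, e, g] : W) 0 = a := rfl
  have e2 : (![a, b, c, d, e, g] : W) 1 = b := rfl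
  have e3 : (![a, b, c, d, e, g] : W) 2 = c := rfl
  have e4 : (![a, b, c, d, e, g] : W) 3 = d := rfl
  have e5 : (![a, b, c, d, e, g] : W) 4 = e := rfl
  have e6 : (![a, b, c, d, e, g] : W) 5 = g := rfl
  rw [e1, e2, e3, e4, e5, e6] at h
  cases hc : p a b c d e g
  · rw [hc] at h
    simp [h]
  · rw [hc] at h
    simp [h]

end Cfsg.Agent.R08.ModVec
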