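import Cfsg.Agent.R01.Closing2

/-!
Closing argument: third version.  The commuting graph on a class `D` is connected, from local hypotheses; the
field `ntrans` says that the centraliser of an involution `t` is not transitive on the members of a component
commuting with `t`.
-/

set_option autoImplicit false

namespace Cfsg.Agent.R08.NClosing

open Cfsg.Agent.R01.Closing
open Cfsg.Agent.R01.Closing2 (isolated prod_notMem_of_odd)

universe u

variable {G : Type u} [Group G]

/-- Hypotheses of the closing argument. -/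
structure Hyp (D : Set G) : Prop where
  sq : ∀ a ∈ D, a * a = 1
  ne : ∀ a ∈ D, a ≠ 1
  conj : ∀ g : G, ∀ a ∈ D, g * a * g⁻¹ ∈ D
  /-- products of two commuting members of `D` are not in `D` -/
  two : ∀ a ∈ D, ∀ b ∈ D, a ≠ b → a * b = b * a → a * b ∉ D
  /-- products of three commuting members of `D` are not in `D` -/
  prod : ∀ a ∈ D, ∀ b ∈ D, ∀ c ∈ D, a ≠ b → a ≠ c → b ≠ c → a * b = b * a → a * c = c * a →
    b * c = c * b → a * b * c ∉ D
  /-- an odd relation between commuting members of `D` -/
  odd : ∀ a ∈ D, ∀ b ∈ D, a ≠ b → a * b = b * a → ∃ l : List G, Odd l.length ∧ (∀ x ∈ l, x ∈ D) ∧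
    (∀ x ∈ l, ∀ y ∈ l, x * y = y * x) ∧ (∀ x ∈ l, x * a = a * x) ∧ (∀ x ∈ l, x * b = b * x) ∧
    l.prod = 1
  three : ∀ a ∈ D, ∀ b ∈ D, Conn D a b → a * b = b * a ∨ (a * b) ^ 3 = 1
  /-- an involution normalising a component centralises a member of it -/
  fixM : ∀ a ∈ D, ∀ t : G, t * t = 1 → t ∈ M D conj a → ∃ b ∈ D, Conn D a b ∧ t * b = b * t
  /-- `C(t)` is not transitive on the members of a component which commute with `t` -/
  ntrans : ∀ d ∈ D, ∀ t : G, t * t = 1 → t ≠ 1 → t * d = d * t →
    ∃ x ∈ D, ∃ y ∈ D, Conn D d x ∧ Conn D d y ∧ t * x = x * t ∧ t * y = y * t ∧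
      ∀ k, k * t = t * k → k * x * k⁻¹ ≠ y

variable {D : Set G}

theorem Hyp.conn_of_mem_M (h : Hyp D) {a f : G} (ha : a ∈ D) (hf : f ∈ D)
    (hfM : f ∈ M D h.conj a) : Conn D a f := by
  obtain ⟨b, hb, hab, hfb⟩ := h.fixM a ha f (h.sq f hf) hfM
  exact hab.trans (Conn.of_comm hb hf hfb.symm)

theorem Hyp.centM [Finite G] (hZ : ZStar.{u}) (h : Hyp D) {a b : G} (ha : a ∈ D) (hb : b ∈ D)
    (hne : a ≠ b) (hab : a * b = b * a) {g : G} (hg : g * (a * b) = a * b * g) :
    g ∈ M D h.conj a := by
  classical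
  have haa := h.sq a ha
  have hbb := h.sq b hb
  have hcab : Conn D a b := Conn.of_comm ha hb hab
  set K : Subgroup G := Subgroup.centralizer ({a * b} : Set G) with hK
  have hgK : g ∈ K := mem_cent.mpr hg
  have hzz : (a * b) * (a * b) = 1 := by
    calc (a * b) * (a * b) = a * (b * a) * b := by group
      _ = a * (a * b) * b := by rw [hab]
      _ = (a * a) * (b * b) := by group
      _ = 1 := by rw [haa, hbb, one_mul]
  have hz1 : a * b ≠ 1 := by
    intro h1
    exact hne ((eq_inv_of_mul_eq_one_left h1).trans (inv_eq_of_mul_eq_one_left hbb))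
  have haz : a * (a * b) = (a * b) * a := by
    rw [mul_assoc a b a, ← hab]
  have haK : a ∈ K := mem_cent.mpr haz
  have hzK : a * b ∈ K := mem_cent.mpr rfl
  -- the key local statement
  have hloc : ∀ k : K, (((⟨a, haK⟩ : K) * (k * ⟨a, haK⟩ * k⁻¹)) ^ 2 = 1 ∨
      ((⟨a, haK⟩ : K) * (k * ⟨a, haK⟩ * k⁻¹)) ^ 2 = ⟨a * b, hzK⟩) →
      k * ⟨a, haK⟩ * k⁻¹ = ⟨a, haK⟩ ∨ k * ⟨a, haK⟩ * k⁻¹ = (⟨a * b, hzK⟩ : K) * ⟨a, haK⟩ := by
    intro k hk
    obtain ⟨f, hf⟩ : ∃ f, f = (k : G) * a * (k : G)⁻¹ := ⟨_, rfl⟩
    have hfD : f ∈ D := by rw [hf]; exact h.conj k a ha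
    have hff := h.sq f hfD
    have hfi : f⁻¹ = f := inv_eq_of_mul_eq_one_left hff
    have hk2 : (a * f) ^ 2 = 1 ∨ (a * f) ^ 2 = a * b := by
      rcases hk with hk | hk
      · left
        have := congrArg Subtype.val hk
        rw [hf]; exact this
      · right
        have := congrArg Subtype.val hk
        rw [hf]; exact this
    have hkz : (k : G) * (a * b) * (k : G)⁻¹ = a * b := by
      have := mem_cent.mp k.2
      rw [this]; group
    -- `f` commutes with `a`
    have hfa : f * a = a * f := by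
      rcases hk2 with h2 | h2
      · -- (a f)^2 = 1
        have h3 : a * f * (a * f) = 1 := by rw [← pow_two]; exact h2
        have h4 : a * f = (a * f)⁻¹ := eq_inv_of_mul_eq_one_left h3
        rw [mul_inv_rev, hfi, inv_eq_of_mul_eq_one_left haa] at h4
        exact h4.symm
      · exfalso
        have h3 : a * f * (a * f) = a * b := by rw [← pow_two]; exact h2
        have h4 : f * a * f = b := by
          have h5 : a * (f * a * f) = a * b := by rw [← h3]; group
          exact mul_left_cancel h5
        have h6 : f ∈ M D h.conj a :=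
          mem_M_of_conj_eq h.conj (Conn.refl D a) hcab (by rw [hfi]; exact h4)
        have h7 := h.conn_of_mem_M ha hfD h6
        rcases h.three a ha f hfD h7 with h8 | h8
        · apply hne
          rw [← h4, ← h8, mul_assoc, hff, mul_one]
        · rw [pow_succ, h2] at h8
          -- a * b * (a * f) = 1
          have h9 : a * f = a * b := by
            have h10 : (a * b) * (a * f) = (a * b) * (a * b) := by rw [h8, hzz]
            exact mul_left_cancel h10
          rw [h9, pow_two, hzz] at h2
          exact hz1 h2.symm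
    have hfz : f * (a * b) = a * b * f := by
      have : f ∈ K := by rw [hf]; exact K.mul_mem (K.mul_mem k.2 haK) (K.inv_mem k.2)
      exact mem_cent.mp this
    have hfb : f * b = b * f := by
      have h1 : a * (f * b) = a * (b * f) := by
        calc a * (f * b) = (a * f) * b := by group
          _ = (f * a) * b := by rw [hfa]
          _ = f * (a * b) := by group
          _ = a * b * f := hfz
          _ = a * (b * f) := by group
      exact mul_left_cancel h1
    have hkb : (k : G) * b * (k : G)⁻¹ = f * (a * b) := by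
      have h1 : f * ((k : G) * b * (k : G)⁻¹) = a * b := by
        rw [hf, ← hkz]; group
      calc (k : G) * b * (k : G)⁻¹ = (f * f) * ((k : G) * b * (k : G)⁻¹) := by rw [hff, one_mul]
        _ = f * (f * ((k : G) * b * (k : G)⁻¹)) := by group
        _ = f * (a * b) := by rw [h1]
    have hfabD : f * a * b ∈ D := by
      rw [mul_assoc, ← hkb]; exact h.conj k b hb
    by_cases h1 : f = a
    · left
      apply Subtype.ext
      change (k : G) * a * (k : G)⁻¹ = a
      rw [← hf, h1]
    · by_cases h2 : f = b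
      · right
        apply Subtype.ext
        change (k : G) * a * (k : G)⁻¹ = a * b * a
        rw [← hf, h2, hab, mul_assoc, haa, mul_one]
      · exact absurd hfabD (h.prod f hfD a ha b hb h1 h2 hne hfa hfb hab)
  -- a Sylow 2-subgroup containing `a` and `a * b`
  have h4 : IsPGroup 2 (Subgroup.closure ({⟨a, haK⟩, ⟨a * b, hzK⟩} : Set K)) := by
    have hcomm : ∀ x ∈ ({⟨a, haK⟩, ⟨a * b, hzK⟩} : Set K),
        ∀ y ∈ ({⟨a, haK⟩, ⟨a * b, hzK⟩} : Set K), x * y = y * x := by
      intro x hx y hy
      rcases hx with rfl | rfl <;> rcases hy with rfl | rfl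
      · rfl
      · exact Subtype.ext haz
      · exact Subtype.ext haz.symm
      · rfl
    intro x
    refine ⟨1, ?_⟩
    rw [pow_one]
    have hx := x.2
    have : ∀ y ∈ Subgroup.closure ({⟨a, haK⟩, ⟨a * b, hzK⟩} : Set K), y ^ 2 = 1 := by
      intro y hy
      induction hy using Subgroup.closure_induction with
      | mem y hy =>
        rcases hy with rfl | rfl
        · rw [pow_two]; exact Subtype.ext haa
        · rw [pow_two]; exact Subtype.ext hzz
      | one => exact one_pow 2
      | mul y w hy hw ihy ihw =>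
        have hyw : Commute y w := by
          have := (Subgroup.isMulCommutative_closure hcomm).is_comm.comm ⟨y, hy⟩ ⟨w, hw⟩
          exact congrArg Subtype.val this
        rw [hyw.mul_pow, ihy, ihw, one_mul]
      | inv y hy ih => rw [inv_pow, ih, inv_one]
    exact Subtype.ext (this _ hx)
  obtain ⟨T, hT⟩ := h4.exists_le_sylow
  have haT : (⟨a, haK⟩ : K) ∈ T := hT (Subgroup.subset_closure (by simp))
  have hzT : (⟨a * b, hzK⟩ : K) ∈ T := hT (Subgroup.subset_closure (by simp))
  obtain ⟨O, hOn, hOodd, hO⟩ := exists_core hZ (K := K) ⟨a * b, hzK⟩ ⟨a, haK⟩ (by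
      rw [orderOf_eq_prime_iff]
      constructor
      · rw [pow_two]; exact Subtype.ext hzz
      · intro h1
        exact hz1 (congrArg Subtype.val h1)) (by
      intro k
      exact Subtype.ext (mem_cent.mp k.2)) (Subtype.ext haa) (by
      intro h1
      exact h.ne a ha (congrArg Subtype.val h1)) (by
      intro h1
      have h2 : a = a * b := congrArg Subtype.val h1
      exact h.ne b hb (mul_eq_left.mp h2.symm)) T haT hzT (by
      intro k hk
      exact isolated (⟨a * b, hzK⟩ : K) ⟨a, haK⟩ (Subtype.ext haa) (Subtype.ext hzz)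
        (Subtype.ext haz.symm) T T.2 haT hloc k hk)
  obtain ⟨l, hlodd, hlD, hlc, hla, hlb, hlprod⟩ := h.odd a ha b hb hne hab
  -- the elementary abelian group generated by `l`
  set A : Subgroup G := Subgroup.closure {x | x ∈ l} with hA
  have hAcomm : ∀ x ∈ A, ∀ y ∈ A, x * y = y * x := by
    intro x hx y hy
    have := (Subgroup.isMulCommutative_closure (k := {x | x ∈ l})
      (fun x hx y hy => hlc x hx y hy)).is_comm.comm ⟨x, hx⟩ ⟨y, hy⟩
    exact congrArg Subtype.val this
  have hAsq : ∀ x ∈ A, x ^ 2 = 1 := by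
    intro x hx
    induction hx using Subgroup.closure_induction with
    | mem y hy => rw [pow_two]; exact h.sq y (hlD y hy)
    | one => exact one_pow 2
    | mul y w hy hw ihy ihw =>
      have hyw : Commute y w := hAcomm y hy w hw
      rw [hyw.mul_pow, ihy, ihw, one_mul]
    | inv y hy ih => rw [inv_pow, ih, inv_one]
  have hAK : A ≤ K := by
    rw [hA, Subgroup.closure_le]
    intro x hx
    refine mem_cent.mpr ?_
    have h1 : Commute x a := hla x hx
    have h2 : Commute x b := hlb x hx
    exact h1.mul_right h2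
  have hlne : l ≠ [] := by
    intro h1
    rw [h1] at hlodd
    simp at hlodd
  obtain ⟨w, hw⟩ := List.exists_mem_of_ne_nil l hlne
  have hOM : O.map K.subtype ≤ M D h.conj a := by
    set Q : Subgroup G := O.map K.subtype with hQ
    have hQodd : ¬ 2 ∣ Nat.card Q := by
      have e1 : Nat.card Q = Nat.card O :=
        (Nat.card_congr (Subgroup.equivMapOfInjective O K.subtype
          (Subgroup.subtype_injective K)).toEquiv).symm
      rw [e1]
      intro h2
      exact (Nat.not_even_iff_odd.mpr hOodd) (even_iff_two_dvd.mpr h2)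
    have hAQ : A ≤ Subgroup.normalizer (Q : Set G) := by
      intro a' ha'
      rw [Subgroup.mem_normalizer_iff]
      intro q
      constructor
      · rintro ⟨o, ho, rfl⟩
        exact ⟨⟨a', hAK ha'⟩ * o * ⟨a', hAK ha'⟩⁻¹, hOn.conj_mem o ho _, rfl⟩
      · rintro ⟨o, ho, ho2⟩
        refine ⟨⟨a', hAK ha'⟩⁻¹ * o * ⟨a', hAK ha'⟩, ?_, ?_⟩
        · have := hOn.conj_mem o ho (⟨a', hAK ha'⟩⁻¹)
          rwa [inv_inv] at this
        · have ho3 : (o : G) = a' * q * a'⁻¹ := ho2
          change a'⁻¹ * (o : G) * a' = q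
          rw [ho3]; group
    have hAe : Cfsg.IsElementaryAbelian 2 A := by
      constructor
      · exact ⟨⟨fun a b => Subtype.ext (hAcomm a a.2 b b.2)⟩⟩
      · intro a ha
        exact hAsq a ha
    have hA1 : A ≠ ⊥ := by
      intro h1
      have h2 : w ∈ A := Subgroup.subset_closure hw
      rw [h1, Subgroup.mem_bot] at h2
      exact h.ne w (hlD w hw) h2
    have := Cfsg.Agent.Lib.CoprimeHyperplane.iSup_centralizer_hyperplane (p := 2) hAe hA1 hQodd hAQ
    rw [← this]
    refine iSup_le fun B => ?_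
    obtain ⟨B, hBA, hBi⟩ := B
    have hex : ∃ x ∈ l, x ∈ B := by
      by_contra hcon
      push Not at hcon
      have hlA : ∀ x ∈ l, x ∈ A := fun x hx => Subgroup.subset_closure hx
      -- lift the list to `A`
      let l' : List A := l.attach.map (fun x => ⟨x.1, hlA x.1 x.2⟩)
      have hl' : l'.map (Subtype.val) = l := by
        simp [l', List.map_map, Function.comp_def]
      have h1 : l'.prod ∈ B.subgroupOf A ↔ Even l'.length := by
        refine prod_notMem_of_odd (B.subgroupOf A) hBi l' ?_
        intro x hx hxB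
        have h2 : (x : G) ∈ l := by
          rw [← hl']
          exact List.mem_map_of_mem hx
        exact hcon x h2 (Subgroup.mem_subgroupOf.mp hxB)
      have h3 : l'.prod = 1 := by
        apply Subtype.ext
        have h4 : ((l'.prod : A) : G) = (l'.map (Subtype.val)).prod := by
          simp
        rw [h4, hl', hlprod]; rfl
      have h5 : l'.length = l.length := by simp [l']
      rw [h3, h5] at h1
      have h6 := h1.mp (one_mem _)
      exact (Nat.not_even_iff_odd.mpr hlodd) h6
    obtain ⟨x, hxl, hxB⟩ := hex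
    intro q hq
    have h1 : q * x = x * q := (Subgroup.mem_centralizer_iff.mp hq.2 x hxB).symm
    rw [M_eq_of_conn h.conj (Conn.of_comm ha (hlD x hxl) (hla x hxl).symm)]
    exact mem_M_of_comm h.conj h1
  obtain ⟨r, hr, hr2⟩ := hO ⟨g, hgK⟩
  have hrM : (r : G) ∈ M D h.conj a := hOM ⟨r, hr, rfl⟩
  have hrg : (r : G) * g ∈ M D h.conj a := by
    rcases hr2 with h1 | h1
    · have h2 : (r : G) * (g * a * g⁻¹) * (r : G)⁻¹ = a := congrArg Subtype.val h1
      refine mem_M_of_conj_eq h.conj (Conn.refl D a) (Conn.refl D a) ?_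
      calc (r : G) * g * a * ((r : G) * g)⁻¹ = (r : G) * (g * a * g⁻¹) * (r : G)⁻¹ := by group
        _ = a := h2
    · have h2 : (r : G) * (g * a * g⁻¹) * (r : G)⁻¹ = (a * b) * a := congrArg Subtype.val h1
      have h3 : (a * b) * a = b := by rw [hab, mul_assoc, haa, mul_one]
      rw [h3] at h2
      refine mem_M_of_conj_eq h.conj (Conn.refl D a) hcab ?_
      calc (r : G) * g * a * ((r : G) * g)⁻¹ = (r : G) * (g * a * g⁻¹) * (r : G)⁻¹ := by group
        _ = b := h2
  have := (M D h.conj a).mul_mem ((M D h.conj a).inv_mem hrM) hrg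
  simpa using this


/-- Members of different components have a product of odd order. -/
theorem Hyp.odd_of_not_conn [Finite G] (hZ : ZStar.{u}) (h : Hyp D) {a f : G} (ha : a ∈ D)
    (hf : f ∈ D) (hn : ¬ Conn D a f) : Odd (orderOf (a * f)) := by
  by_contra hodd
  rw [Nat.not_odd_iff_even] at hodd
  obtain ⟨z, hz1, hzz, hza, hzf, hcl⟩ := exists_of_even (h.sq a ha) (h.sq f hf) hodd
    (orderOf_pos (a * f)).ne'
  have hazD : a * z ∈ D := by
    rcases hcl with ⟨g, hg⟩ | ⟨g, hg⟩
    · rw [hg]; exact h.conj g a ha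
    · rw [hg]; exact h.conj g f hf
  have haa := h.sq a ha
  have h1 : a * (a * z) = z := by rw [← mul_assoc, haa, one_mul]
  have h2 : a * (a * z) = a * z * a := by rw [mul_assoc a z a, hza]
  have h3 : f ∈ M D h.conj a := by
    refine h.centM hZ ha hazD (fun h4 => hz1 ?_) h2 (g := f) (by rw [h1, hzf])
    have := congrArg (fun w => a * w) h4
    simp only [h1, haa] at this
    exact this.symm
  exact hn (h.conn_of_mem_M ha hf h3)

/-- No involution normalises two different components. -/
theorem Hyp.not_both [Finite G] (hZ : ZStar.{u}) (h : Hyp D) {a a' t : G} (ha : a ∈ D)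
    (ha' : a' ∈ D) (hn : ¬ Conn D a a') (ht : t * t = 1) (ht1 : t ≠ 1) (htM : t ∈ M D h.conj a)
    (htM' : t ∈ M D h.conj a') : False := by
  obtain ⟨d, hd, had, htd⟩ := h.fixM a ha t ht htM
  obtain ⟨x, hx, y, hy, hdx, hdy, htx, hty, hk⟩ := h.ntrans d hd t ht ht1 htd
  obtain ⟨b, hb, hab, htb⟩ := h.fixM a' ha' t ht htM'
  have hxb : ¬ Conn D x b := fun h1 => hn (had.trans (hdx.trans (h1.trans hab.symm)))
  have hyb : ¬ Conn D y b := fun h1 => hn (had.trans (hdy.trans (h1.trans hab.symm)))
  obtain ⟨g, hg, hg2⟩ := exists_of_odd (h.sq x hx) (h.sq b hb) (h.odd_of_not_conn hZ hx hb hxb)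
  obtain ⟨g', hg', hg2'⟩ := exists_of_odd (h.sq y hy) (h.sq b hb) (h.odd_of_not_conn hZ hy hb hyb)
  have ctg : t * g = g * t := hg2 t htx htb
  have ctg' : t * g' = g' * t := hg2' t hty htb
  -- k = g'⁻¹ g maps x to y and commutes with t
  have ckt : Commute t (g'⁻¹ * g) :=
    (Commute.inv_right (show Commute t g' from ctg')).mul_right (show Commute t g from ctg)
  refine hk (g'⁻¹ * g) ckt.symm ?_
  calc g'⁻¹ * g * x * (g'⁻¹ * g)⁻¹ = g'⁻¹ * (g * x * g⁻¹) * g' := by group
    _ = g'⁻¹ * (g' * y * g'⁻¹) * g' := by rw [hg, hg']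
    _ = y := by group

/-- **The closing theorem**: the commuting graph on `D` is connected. -/
theorem Hyp.conn [Finite G] (hZ : ZStar.{u}) (h : Hyp D)
    (hD : ∃ x ∈ D, ∃ y ∈ D, x ≠ y ∧ x * y = y * x) {a b : G} (ha : a ∈ D) (hb : b ∈ D) :
    Conn D a b := by
  obtain ⟨x, hx, y, hy, hxy, hcxy⟩ := hD
  have key : ∀ v ∈ D, Conn D x v := by
    intro v hv
    by_contra hn
    have hxx := h.sq x hx
    have hyy := h.sq y hy
    have hzz : (x * y) * (x * y) = 1 := by
      calc (x * y) * (x * y) = x * (y * x) * y := by group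
        _ = x * (x * y) * y := by rw [hcxy]
        _ = (x * x) * (y * y) := by group
        _ = 1 := by rw [hxx, hyy, one_mul]
    have hvv := h.sq v hv
    have hzD : x * y ∉ D := h.two x hx y hy hxy hcxy
    rcases Nat.even_or_odd (orderOf (x * y * v)) with he | ho
    · obtain ⟨w, hw1, hww, hwz, hwv, _⟩ := exists_of_even hzz hvv he (orderOf_pos _).ne'
      have h1 : w ∈ M D h.conj x := h.centM hZ hx hy hxy hcxy hwz
      have h2 : w ∈ M D h.conj v := mem_M_of_comm h.conj hwv
      exact h.not_both hZ hx hv hn hww hw1 h1 h2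
    · obtain ⟨g, hg, _⟩ := exists_of_odd hzz hvv ho
      apply hzD
      have h1 : x * y = g⁻¹ * v * g⁻¹⁻¹ := by rw [← hg]; group
      rw [h1]
      exact h.conj g⁻¹ v hv
  exact (key a ha).symm.trans (key b hb)

end Cfsg.Agent.R08.NClosing
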