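import Cfsg.Agent.R01.Component
import Cfsg.Agent.R01.IsLabel

/-!
# Maximal cliques of the 3510 transpositions (1): the subspace of a clique

`T` is a class of 3510 transpositions satisfying the local hypothesis of `Fi22`; the maximal cliques with 22
members are, in the label at each of their members, totally isotropic subspaces of dimension three.
-/

set_option autoImplicit false
set_option linter.unusedSectionVars false
set_option linter.dupNamespace false

namespace Cfsg.Agent.R08.NoFpf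

open Cfsg Cfsg.Agent.LieClassical.HermBasic
open Cfsg.Agent.R01.IsLabel (IsLabel exists_label)
open Cfsg.Agent.SporadicStructure.UnitTwo (two_eq_zero exists_omega)

variable {P : Type*} [Group P] {F : Type*} [Field F] [Fintype F] {hF : Fintype.card F = 2 ^ 2}
  {T : Set P}

/-- The class of transpositions. -/
structure Sys (hF : Fintype.card F = 2 ^ 2) (T : Set P) : Prop where
  loc : R01.Loc.Loc hF T
  sq : ∀ a ∈ T, a * a = 1
  conj : ∀ g : P, ∀ a ∈ T, g * a * g⁻¹ ∈ T
  braid : ∀ a ∈ T, ∀ b ∈ T, Commute a b ∨ a * b * a = b * a * b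
  card : T.ncard = 3510

/-- Maximal cliques with 22 members. -/
structure Cl (T S : Set P) : Prop where
  sub : S ⊆ T
  comm : ∀ a ∈ S, ∀ b ∈ S, Commute a b
  max : ∀ z ∈ T, (∀ a ∈ S, Commute z a) → z ∈ S
  card : S.ncard = 22

/-- Counting vectors by labelled members. -/
theorem ncard_image {x : P} {τ : (Fin 6 → F) → P} (hF : Fintype.card F = 2 ^ 2)
    (L : IsLabel F T x τ) (S : Set (Fin 6 → F))
    (hS : ∀ v ∈ S, v ≠ 0 ∧ hermForm 6 F 2 v v = 0) (hSc : ∀ v ∈ S, ∀ c : F, c ≠ 0 → c • v ∈ S) :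
    S.ncard = 3 * (τ '' S).ncard := by
  classical
  have hfin : S.Finite := Set.toFinite _
  set S' := hfin.toFinset with hS'
  have e1 : S.ncard = S'.card := Set.ncard_eq_toFinset_card S hfin
  have e2 : (τ '' S).ncard = (S'.image τ).card := by
    rw [← Set.ncard_coe_finset, Finset.coe_image, hS', hfin.coe_toFinset]
  rw [e1, e2, mul_comm, Finset.card_eq_sum_card_fiberwise (f := τ) (t := S'.image τ)
    (fun x hx => Finset.mem_coe.2 (Finset.mem_image_of_mem _ hx)), ← smul_eq_mul,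
    ← Finset.sum_const]
  apply Finset.sum_congr rfl
  intro y hy
  obtain ⟨v, hv, rfl⟩ := Finset.mem_image.1 hy
  have hvS : v ∈ S := by rwa [hS', hfin.mem_toFinset] at hv
  obtain ⟨hv0, hvv⟩ := hS v hvS
  have hfib : S'.filter (fun a => τ a = τ v) =
      (Finset.univ.filter (fun c : F => c ≠ 0)).image (fun c => c • v) := by
    ext w
    simp only [Finset.mem_filter, Finset.mem_image, Finset.mem_univ, true_and, hS',
      hfin.mem_toFinset]
    constructor
    · rintro ⟨hw, h⟩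
      obtain ⟨hw0, hww⟩ := hS w hw
      obtain ⟨c, hc, h⟩ := L.inj v w hv0 hw0 hvv hww h.symm
      exact ⟨c, hc, h.symm⟩
    · rintro ⟨c, hc, rfl⟩
      exact ⟨hSc v hvS c hc, L.smul v c hvv hc⟩
  rw [hfib, Finset.card_image_of_injective _ (smul_left_injective F hv0), Finset.filter_ne',
    Finset.card_erase_of_mem (Finset.mem_univ _), Finset.card_univ, hF]
  norm_num

theorem eq_of_perp {x : P} {τ : (Fin 6 → F) → P} (L : IsLabel F T x τ) {u v : Fin 6 → F}
    (hu : u ≠ 0 ∧ hermForm 6 F 2 u u = 0) (hv : v ≠ 0 ∧ hermForm 6 F 2 v v = 0) :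
    Commute (τ u) (τ v) ↔ hermForm 6 F 2 u v = 0 := L.comm u v hu.1 hv.1 hu.2 hv.2

section space

variable {a : P} {τ : (Fin 6 → F) → P} {S : Set P}

/-- the vectors of a clique -/
def WSet (τ : (Fin 6 → F) → P) (S : Set P) : Set (Fin 6 → F) :=
  {v | v = 0 ∨ (v ≠ 0 ∧ hermForm 6 F 2 v v = 0 ∧ τ v ∈ S)}

include hF in
theorem WSet_perp (L : IsLabel F T a τ) (hS : Cl T S) {u v : Fin 6 → F} (hu : u ∈ WSet τ S)
    (hv : v ∈ WSet τ S) : hermForm 6 F 2 u v = 0 := by
  rcases hu with rfl | ⟨hu0, huu, hu⟩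
  · exact herm_zero_left _
  rcases hv with rfl | ⟨hv0, hvv, hv⟩
  · exact herm_zero_right hF _
  exact (L.comm u v hu0 hv0 huu hvv).1 (hS.comm _ hu _ hv)

include hF in
theorem mem_WSet (L : IsLabel F T a τ) (hS : Cl T S) (ha : a ∈ S) {v : Fin 6 → F}
    (hvv : hermForm 6 F 2 v v = 0) (h : ∀ u ∈ WSet τ S, hermForm 6 F 2 v u = 0) :
    v ∈ WSet τ S := by
  by_cases hv0 : v = 0
  · exact Or.inl hv0
  right
  refine ⟨hv0, hvv, hS.max _ (L.mem v hv0 hvv).1 ?_⟩
  intro b hb
  by_cases hba : b = a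
  · rw [hba]; exact (L.mem v hv0 hvv).2.2
  obtain ⟨u, hu0, huu, rfl⟩ := L.surj b (hS.sub hb) hba (hS.comm b hb a ha)
  exact (L.comm v u hv0 hu0 hvv huu).2 (h u (Or.inr ⟨hu0, huu, hb⟩))

/-- The subspace of a clique at one of its members. -/
def W (hF : Fintype.card F = 2 ^ 2) (L : IsLabel F T a τ) (hS : Cl T S) (ha : a ∈ S) :
    Submodule F (Fin 6 → F) where
  carrier := WSet τ S
  zero_mem' := Or.inl rfl
  add_mem' := by
    intro u v hu hv
    have huu := WSet_perp (hF := hF) L hS hu hu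
    have hvv := WSet_perp (hF := hF) L hS hv hv
    have huv := WSet_perp (hF := hF) L hS hu hv
    have hvu := WSet_perp (hF := hF) L hS hv hu
    refine mem_WSet (hF := hF) L hS ha ?_ ?_
    · rw [herm_add_left, herm_add_right hF, herm_add_right hF, huu, hvv, huv, hvu]
      simp
    · intro w hw
      rw [herm_add_left, WSet_perp (hF := hF) L hS hu hw, WSet_perp (hF := hF) L hS hv hw, add_zero]
  smul_mem' := by
    intro c v hv
    refine mem_WSet (hF := hF) L hS ha ?_ ?_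
    · rw [herm_smul_left, herm_smul_right, WSet_perp (hF := hF) L hS hv hv]
      simp
    · intro w hw
      rw [herm_smul_left, WSet_perp (hF := hF) L hS hv hw, mul_zero]

variable (L : IsLabel F T a τ) (hS : Cl T S) (ha : a ∈ S)

theorem mem_W {v : Fin 6 → F} : v ∈ W hF L hS ha ↔
    v = 0 ∨ (v ≠ 0 ∧ hermForm 6 F 2 v v = 0 ∧ τ v ∈ S) := Iff.rfl

include L hS ha in
theorem W_perp {u v : Fin 6 → F} (hu : u ∈ W hF L hS ha) (hv : v ∈ W hF L hS ha) :
    hermForm 6 F 2 u v = 0 := WSet_perp (hF := hF) L hS hu hv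

theorem image_W : τ '' ((W hF L hS ha : Set (Fin 6 → F)) \ {0}) = S \ {a} := by
  ext b
  constructor
  · rintro ⟨v, ⟨hv, hv0⟩, rfl⟩
    rcases hv with h | ⟨h0, hvv, h⟩
    · exact absurd h hv0
    · exact ⟨h, (L.mem v h0 hvv).2.1⟩
  · rintro ⟨hb, hba⟩
    obtain ⟨v, h0, hvv, rfl⟩ := L.surj b (hS.sub hb) hba (hS.comm b hb a ha)
    exact ⟨v, ⟨Or.inr ⟨h0, hvv, hb⟩, h0⟩, rfl⟩

theorem finite_cl {T S : Set P} (hS : Cl T S) : S.Finite :=
  Set.finite_of_ncard_ne_zero (by rw [hS.card]; norm_num)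

theorem card_W : Nat.card (W hF L hS ha) = 4 ^ 3 := by
  have h1 := ncard_image hF L ((W hF L hS ha : Set (Fin 6 → F)) \ {0})
    (by
      rintro v ⟨hv, hv0⟩
      rcases hv with h | ⟨h0, hvv, h⟩
      · exact absurd h hv0
      · exact ⟨h0, hvv⟩)
    (by
      rintro v ⟨hv, hv0⟩ c hc
      exact ⟨(W hF L hS ha).smul_mem c hv, smul_ne_zero hc hv0⟩)
  have hfin := finite_cl hS
  rw [image_W, Set.ncard_sdiff_singleton_of_mem ha, hS.card,
    Set.ncard_sdiff_singleton_of_mem (show (0 : Fin 6 → F) ∈ (W hF L hS ha : Set (Fin 6 → F)) from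
      (W hF L hS ha).zero_mem)] at h1
  have h2 : Nat.card (W hF L hS ha) = (W hF L hS ha : Set (Fin 6 → F)).ncard :=
    Nat.card_coe_set_eq _
  rw [h2]
  omega

theorem finrank_W : Module.finrank F (W hF L hS ha) = 3 := by
  have h1 := card_W (hF := hF) L hS ha
  have h2 := Module.natCard_eq_pow_finrank (K := F) (V := W hF L hS ha)
  rw [h1, Nat.card_eq_fintype_card (α := F), hF] at h2
  have h3 : (2 ^ 2 : ℕ) ^ Module.finrank F (W hF L hS ha) = (2 ^ 2) ^ 3 := by
    rw [← h2]; norm_num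
  exact Nat.pow_right_injective (a := 2 ^ 2) (by norm_num) h3

end space

/-- A transposition outside the clique which commutes with a member commutes with exactly six. -/
theorem six (h : Sys hF T) {S : Set P} (hS : Cl T S) {a z : P} (ha : a ∈ S) (hz : z ∈ T)
    (hzS : z ∉ S) (hza : Commute z a) : {b | b ∈ S ∧ Commute z b}.ncard = 6 := by
  obtain ⟨τ, L⟩ := exists_label (h.loc a (hS.sub ha))
  have hne : z ≠ a := fun e => hzS (e ▸ ha)
  obtain ⟨s, hs0, hss, rfl⟩ := L.surj z hz hne hza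
  -- the functional
  let φ : W hF L hS ha →ₗ[F] F :=
    { toFun := fun v => hermForm 6 F 2 (v : Fin 6 → F) s
      map_add' := fun u v => by
        show hermForm 6 F 2 ((u : Fin 6 → F) + v) s = _
        rw [herm_add_left]
      map_smul' := fun c v => by
        show hermForm 6 F 2 (c • (v : Fin 6 → F)) s = _
        rw [herm_smul_left]; rfl }
  have hφ : φ ≠ 0 := by
    intro h0
    apply hzS
    refine hS.max _ hz ?_
    intro b hb
    by_cases hba : b = a
    · rw [hba]; exact hza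
    obtain ⟨u, hu0, huu, rfl⟩ := L.surj b (hS.sub hb) hba (hS.comm b hb a ha)
    have h1 : φ ⟨u, Or.inr ⟨hu0, huu, hb⟩⟩ = 0 := by rw [h0]; rfl
    exact ((L.comm u s hu0 hs0 huu hss).2 h1).symm
  have hsurj : Function.Surjective φ := LinearMap.surjective hφ
  have hcard : Nat.card (LinearMap.ker φ) = 16 := by
    have h1 := Submodule.card_eq_card_quotient_mul_card (LinearMap.ker φ)
    have h2 : Nat.card (_ ⧸ LinearMap.ker φ) = Nat.card F :=
      Nat.card_congr (φ.quotKerEquivOfSurjective hsurj).toEquiv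
    rw [card_W, h2, Nat.card_eq_fintype_card (α := F), hF] at h1
    omega
  -- the kernel as a set of vectors
  set K : Submodule F (Fin 6 → F) := (LinearMap.ker φ).map (W hF L hS ha).subtype with hK
  have hKmem : ∀ v, v ∈ K ↔ v ∈ W hF L hS ha ∧ hermForm 6 F 2 v s = 0 := by
    intro v
    constructor
    · rintro ⟨w, hw, rfl⟩
      exact ⟨w.2, hw⟩
    · rintro ⟨hv, hvs⟩
      exact ⟨⟨v, hv⟩, hvs, rfl⟩
  have hKcard : (K : Set (Fin 6 → F)).ncard = 16 := by
    rw [← hcard, ← Nat.card_coe_set_eq]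
    exact Nat.card_congr ((LinearMap.ker φ).equivMapOfInjective _
      (W hF L hS ha).injective_subtype).symm.toEquiv
  have h1 := ncard_image hF L ((K : Set (Fin 6 → F)) \ {0})
    (by
      rintro v ⟨hv, hv0⟩
      rcases ((hKmem v).1 hv).1 with h | ⟨h0, hvv, h⟩
      · exact absurd h hv0
      · exact ⟨h0, hvv⟩)
    (by
      rintro v ⟨hv, hv0⟩ c hc
      exact ⟨K.smul_mem c hv, smul_ne_zero hc hv0⟩)
  rw [Set.ncard_sdiff_singleton_of_mem (show (0 : Fin 6 → F) ∈ (K : Set (Fin 6 → F)) from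
      K.zero_mem), hKcard] at h1
  have h2 : {b | b ∈ S ∧ Commute (τ s) b} = insert a (τ '' ((K : Set (Fin 6 → F)) \ {0})) := by
    ext b
    constructor
    · rintro ⟨hb, hsb⟩
      by_cases hba : b = a
      · exact Or.inl hba
      right
      obtain ⟨u, hu0, huu, rfl⟩ := L.surj b (hS.sub hb) hba (hS.comm b hb a ha)
      refine ⟨u, ⟨(hKmem u).2 ⟨Or.inr ⟨hu0, huu, hb⟩, ?_⟩, hu0⟩, rfl⟩
      exact (L.comm u s hu0 hs0 huu hss).1 hsb.symm
    · rintro (rfl | ⟨u, ⟨hu, hu0⟩, rfl⟩)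
      · exact ⟨ha, hza⟩
      · obtain ⟨hu1, hus⟩ := (hKmem u).1 hu
        rcases hu1 with h | ⟨h0, huu, h⟩
        · exact absurd h hu0
        · exact ⟨h, ((L.comm u s h0 hs0 huu hss).2 hus).symm⟩
  have h3 : a ∉ τ '' ((K : Set (Fin 6 → F)) \ {0}) := by
    rintro ⟨u, ⟨hu, hu0⟩, h⟩
    rcases ((hKmem u).1 hu).1 with h4 | ⟨h0, huu, -⟩
    · exact hu0 h4
    · exact (L.mem u h0 huu).2.1 h
  rw [h2, Set.ncard_insert_of_notMem h3 ((Set.toFinite _).image _)]
  omega

end Cfsg.Agent.R08.NoFpf
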