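import Cfsg.Agent.R08.NoFpfA

/-!
# Maximal cliques of the 3510 transpositions (2): products of four members

Four different members of a maximal clique either lie in a hexad, or they determine the clique.  Hence no
product of four different members of a maximal clique `S` commutes with a transposition commuting with no member
of `S`.
-/

set_option autoImplicit false
set_option linter.unusedSectionVars false
set_option linter.dupNamespace false

namespace Cfsg.Agent.R08.NoFpf

open Cfsg Cfsg.Agent.LieClassical.HermBasic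
open Cfsg.Agent.R01.IsLabel (IsLabel exists_label)
open Cfsg.Agent.SporadicStructure.UnitTwo (two_eq_zero exists_omega)

variable {P : Type*} [Group P] {F : Type*} [Field F] [Fintype F] {hF : Fintype.card F = 2 ^ 2}
  {T : Set P}

theorem dichotomy (h : Sys hF T) {S : Set P} (hS : Cl T S) {a b c d : P} (ha : a ∈ S) (hb : b ∈ S)
    (hc : c ∈ S) (hd : d ∈ S) (nab : a ≠ b) (nac : a ≠ c) (nad : a ≠ d) (nbc : b ≠ c)
    (nbd : b ≠ d) (ncd : c ≠ d) :
    (∃ e ∈ S, ∃ f ∈ S, e ≠ f ∧ a * b * c * d = e * f) ∨
    (∀ S', Cl T S' → a ∈ S' → b ∈ S' → c ∈ S' → d ∈ S' → S' = S) := by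
  obtain ⟨τ, L⟩ := exists_label (h.loc a (hS.sub ha))
  obtain ⟨u, hu0, huu, rfl⟩ := L.surj b (hS.sub hb) nab.symm (hS.comm b hb a ha)
  obtain ⟨v, hv0, hvv, rfl⟩ := L.surj c (hS.sub hc) nac.symm (hS.comm c hc a ha)
  obtain ⟨w, hw0, hww, rfl⟩ := L.surj d (hS.sub hd) nad.symm (hS.comm d hd a ha)
  have huW : u ∈ W hF L hS ha := Or.inr ⟨hu0, huu, hb⟩
  have hvW : v ∈ W hF L hS ha := Or.inr ⟨hv0, hvv, hc⟩
  have hwW : w ∈ W hF L hS ha := Or.inr ⟨hw0, hww, hd⟩
  by_cases hdep : ∃ α β : F, w = α • u + β • v
  · left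
    obtain ⟨α, β, hw⟩ := hdep
    have hβ : β ≠ 0 := by
      rintro rfl
      rw [zero_smul, add_zero] at hw
      have hα : α ≠ 0 := by
        rintro rfl
        rw [zero_smul] at hw
        exact hw0 hw
      exact nbd (by rw [hw, L.smul u α huu hα])
    have hα : α ≠ 0 := by
      rintro rfl
      rw [zero_smul, zero_add] at hw
      exact ncd (by rw [hw, L.smul v β hvv hβ])
    set γ := β⁻¹ * α with hγ
    have hγ0 : γ ≠ 0 := mul_ne_zero (inv_ne_zero hβ) hα
    obtain ⟨u', hu'⟩ : ∃ u', u' = γ • u := ⟨_, rfl⟩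
    have hu'0 : u' ≠ 0 := by rw [hu']; exact smul_ne_zero hγ0 hu0
    have hu'W : u' ∈ W hF L hS ha := by rw [hu']; exact (W hF L hS ha).smul_mem _ huW
    have hu'u' : hermForm 6 F 2 u' u' = 0 := W_perp L hS ha hu'W hu'W
    have hb' : τ u' = τ u := by rw [hu']; exact L.smul u γ huu hγ0
    have hu'v : hermForm 6 F 2 u' v = 0 := W_perp L hS ha hu'W hvW
    have hne : ¬ ∃ c : F, v = c • u' := by
      rintro ⟨c, hcv⟩
      have hc0 : c ≠ 0 := by
        rintro rfl
        rw [zero_smul] at hcv
        exact hv0 hcv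
      apply nbc
      rw [← hb', hcv, L.smul u' c hu'u' hc0]
    have hwuv : w = β • (u' + v) := by
      rw [hw, hu', smul_add, smul_smul, hγ, mul_inv_cancel_left₀ hβ]
    have hsW : u' + v ∈ W hF L hS ha := (W hF L hS ha).add_mem hu'W hvW
    have hd' : τ w = τ (u' + v) := by
      rw [hwuv, L.smul _ β (W_perp L hS ha hsW hsW) hβ]
    obtain ⟨ω, hω⟩ := exists_omega hF
    have h6 : ω ≠ 0 := by
      rintro rfl
      simp at hω
    have hline := L.line u' v hu'0 hv0 hu'u' hvv hu'v hne ω hω
    have w3 : ω ≠ ω ^ 2 := by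
      intro h
      rw [← h] at hω
      have h2 := two_eq_zero hF
      have : (1 : F) = 0 := by linear_combination hω - ω * h2
      exact one_ne_zero this
    -- the two further points
    have hne0 : ∀ s : F, s • u' + v ≠ 0 := by
      intro s h0
      apply hne
      refine ⟨-s, ?_⟩
      rw [neg_smul]
      exact eq_neg_of_add_eq_zero_right h0
    have heW : ∀ s : F, s • u' + v ∈ W hF L hS ha := fun s =>
      (W hF L hS ha).add_mem ((W hF L hS ha).smul_mem _ hu'W) hvW
    have hmem : ∀ s : F, τ (s • u' + v) ∈ S := by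
      intro s
      rcases heW s with h | h
      · exact absurd h (hne0 s)
      · exact h.2.2
    refine ⟨τ (ω • u' + v), hmem ω, τ (ω ^ 2 • u' + v), hmem _, ?_, ?_⟩
    · intro heq
      obtain ⟨c, hc0, hc'⟩ := L.inj _ _ (hne0 ω) (hne0 _) (W_perp L hS ha (heW _) (heW _))
        (W_perp L hS ha (heW _) (heW _)) heq
      rw [smul_add, smul_smul] at hc'
      have h8 : (ω ^ 2 - c * ω) • u' + (1 - c) • v = 0 := by
        rw [sub_smul, sub_smul, one_smul]
        have : (ω ^ 2) • u' + v - ((c * ω) • u' + c • v) = 0 := by rw [hc', sub_self]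
        rw [← this]
        abel
      by_cases h9 : 1 - c = 0
      · have hc1 : c = 1 := by linear_combination -h9
        rw [hc1] at h8
        simp only [one_mul, sub_self, zero_smul, add_zero] at h8
        rcases smul_eq_zero.1 h8 with h10 | h10
        · exact w3 (sub_eq_zero.1 h10).symm
        · exact hu'0 h10
      · apply hne
        refine ⟨-((1 - c)⁻¹ * (ω ^ 2 - c * ω)), ?_⟩
        have h10 : (1 - c) • v = -((ω ^ 2 - c * ω) • u') := eq_neg_of_add_eq_zero_right h8
        rw [neg_smul, mul_smul, ← smul_neg, ← h10, inv_smul_smul₀ h9]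
    · rw [hb', ← hd'] at hline
      set e := τ (ω • u' + v) with he
      set f := τ (ω ^ 2 • u' + v) with hf
      have hcom := hS.comm
      have ea : a * a = 1 := h.sq a (hS.sub ha)
      have eS : e ∈ S := hmem ω
      have fS : f ∈ S := hmem _
      have ee : e * e = 1 := h.sq e (hS.sub eS)
      have ff : f * f = 1 := h.sq f (hS.sub fS)
      have hef : e * f = f * e := hcom e eS f fS
      have hei : e⁻¹ = e := inv_eq_of_mul_eq_one_left ee
      have hfi : f⁻¹ = f := inv_eq_of_mul_eq_one_left ff
      have hX : τ u * τ v * τ w = a * (e * f) := by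
        calc τ u * τ v * τ w = (τ u * τ v * τ w * e * f) * (f⁻¹ * e⁻¹) := by group
          _ = a * (f * e) := by rw [hline, hei, hfi]
          _ = a * (e * f) := by rw [hef]
      calc a * τ u * τ v * τ w = a * (τ u * τ v * τ w) := by group
        _ = a * (a * (e * f)) := by rw [hX]
        _ = e * f := by rw [← mul_assoc, ea, one_mul]
  · right
    intro S' hS' ha' hb' hc' hd'
    have hli : LinearIndependent F ![u, v, w] := by
      rw [Fintype.linearIndependent_iff]
      intro g hg
      rw [Fin.sum_univ_three] at hg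
      have hg' : g 0 • u + g 1 • v + g 2 • w = 0 := hg
      have h2 : g 2 = 0 := by
        by_contra h2
        apply hdep
        refine ⟨-((g 2)⁻¹ * g 0), -((g 2)⁻¹ * g 1), ?_⟩
        have h3 : g 2 • w = -(g 0 • u + g 1 • v) := eq_neg_of_add_eq_zero_right hg'
        have h4 : w = (g 2)⁻¹ • (g 2 • w) := (inv_smul_smul₀ h2 w).symm
        rw [h4, h3]
        module
      rw [h2, zero_smul, add_zero] at hg'
      have h1 : g 1 = 0 := by
        by_contra h1
        have h3 : g 1 • v = -(g 0 • u) := eq_neg_of_add_eq_zero_right hg'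
        have h4 : v = (-((g 1)⁻¹ * g 0)) • u := by
          have h5 : v = (g 1)⁻¹ • (g 1 • v) := (inv_smul_smul₀ h1 v).symm
          rw [h5, h3]
          module
        have h6 : -((g 1)⁻¹ * g 0) ≠ 0 := by
          intro h6
          rw [h6, zero_smul] at h4
          exact hv0 h4
        exact nbc (by rw [h4, L.smul u _ huu h6])
      rw [h1, zero_smul, add_zero] at hg'
      have h0 : g 0 = 0 := (smul_eq_zero.1 hg').resolve_right hu0
      intro i
      fin_cases i
      · exact h0
      · exact h1
      · exact h2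
    have hspan : ∀ {S'' : Set P} (hS'' : Cl T S'') (ha'' : a ∈ S''), u ∈ W hF L hS'' ha'' →
        v ∈ W hF L hS'' ha'' → w ∈ W hF L hS'' ha'' →
        Submodule.span F (Set.range ![u, v, w]) = W hF L hS'' ha'' := by
      intro S'' hS'' ha'' h1 h2 h3
      apply Submodule.eq_of_le_of_finrank_eq
      · rw [Submodule.span_le]
        rintro _ ⟨i, rfl⟩
        fin_cases i
        · exact h1
        · exact h2
        · exact h3
      · rw [finrank_W, finrank_span_eq_card hli, Fintype.card_fin]
    have e1 := hspan hS ha huW hvW hwW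
    have e2 := hspan hS' ha' (Or.inr ⟨hu0, huu, hb'⟩) (Or.inr ⟨hv0, hvv, hc'⟩)
      (Or.inr ⟨hw0, hww, hd'⟩)
    have i1 := image_W (hF := hF) L hS ha
    have i2 := image_W (hF := hF) L hS' ha'
    rw [← e1] at i1
    rw [← e2, i1] at i2
    ext y
    by_cases hy : y = a
    · rw [hy]; exact ⟨fun _ => ha, fun _ => ha'⟩
    · have : y ∈ S \ {a} ↔ y ∈ S' \ {a} := by rw [i2]
      simp only [Set.mem_sdiff, Set.mem_singleton_iff, hy, not_false_eq_true, and_true] at this
      exact this.symm

end Cfsg.Agent.R08.NoFpf
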