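import Cfsg.Agent.R08.NoFpfB

/-!
# Maximal cliques of the 3510 transpositions (3): no product of four members commutes
-/

set_option autoImplicit false
set_option linter.unusedSectionVars false
set_option linter.dupNamespace false

namespace Cfsg.Agent.R08.NoFpf

open Cfsg Cfsg.Agent.LieClassical.HermBasic

variable {P : Type*} [Group P] {F : Type*} [Field F] [Fintype F] {hF : Fintype.card F = 2 ^ 2}
  {T : Set P}

/-- conjugate of a set -/
def cj (g : P) (S : Set P) : Set P := (fun y => g * y * g⁻¹) '' S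

theorem mem_cj {g : P} {S : Set P} {y : P} : y ∈ cj g S ↔ g⁻¹ * y * g ∈ S := by
  constructor
  · rintro ⟨z, hz, rfl⟩
    have : g⁻¹ * (g * z * g⁻¹) * g = z := by group
    show g⁻¹ * (g * z * g⁻¹) * g ∈ S
    rw [this]
    exact hz
  · intro h
    exact ⟨_, h, by group⟩

theorem conj_mem_cj {g : P} {S : Set P} {y : P} (hy : y ∈ S) : g * y * g⁻¹ ∈ cj g S := ⟨y, hy, rfl⟩

theorem cj_cj (g k : P) (S : Set P) : cj g (cj k S) = cj (g * k) S := by
  ext y
  rw [mem_cj, mem_cj, mem_cj]
  have : k⁻¹ * (g⁻¹ * y * g) * k = (g * k)⁻¹ * y * (g * k) := by group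
  rw [this]

theorem cj_one (S : Set P) : cj 1 S = S := by
  ext y
  rw [mem_cj]
  simp

theorem ncard_cj (g : P) (S : Set P) : (cj g S).ncard = S.ncard :=
  Set.ncard_image_of_injective _ (fun x y hxy => by simpa using hxy)

theorem Sys.mem_conj (h : Sys hF T) (g : P) {y : P} : g⁻¹ * y * g ∈ T ↔ y ∈ T := by
  constructor
  · intro hy
    have h1 := h.conj g _ hy
    have h2 : g * (g⁻¹ * y * g) * g⁻¹ = y := by group
    rwa [h2] at h1
  · intro hy
    have h1 := h.conj g⁻¹ _ hy
    rwa [inv_inv] at h1

theorem Cl.cj (h : Sys hF T) {S : Set P} (hS : Cl T S) (g : P) : Cl T (cj g S) where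
  sub := by
    rintro _ ⟨y, hy, rfl⟩
    exact h.conj g y (hS.sub hy)
  comm := by
    rintro _ ⟨y, hy, rfl⟩ _ ⟨z, hz, rfl⟩
    exact (Commute.conj_iff g).2 (hS.comm y hy z hz)
  max := by
    intro z hz hc
    rw [mem_cj]
    refine hS.max _ ((h.mem_conj g).2 hz) ?_
    intro a ha
    have h1 := hc _ (conj_mem_cj (g := g) ha)
    have h2 : z = g * (g⁻¹ * z * g) * g⁻¹ := by group
    rw [h2] at h1
    exact (Commute.conj_iff g).1 h1
  card := by rw [ncard_cj, hS.card]

section K

variable (h : Sys hF T) {S : Set P} (hS : Cl T S) {x : P} (hx : x ∈ T)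
  (hxS : ∀ a ∈ S, ¬ Commute x a)

include h in
theorem Sys.inv {a : P} (ha : a ∈ T) : a⁻¹ = a := inv_eq_of_mul_eq_one_left (h.sq a ha)

include h hS in
theorem sqq {a b : P} (ha : a ∈ S) (hb : b ∈ S) : a * b * (a * b) = 1 := by
  have h1 : a * b = b * a := hS.comm a ha b hb
  calc a * b * (a * b) = a * (b * a) * b := by group
    _ = a * (a * b) * b := by rw [h1]
    _ = (a * a) * (b * b) := by group
    _ = 1 := by rw [h.sq a (hS.sub ha), h.sq b (hS.sub hb), one_mul]

include h hS hx hxS in
theorem brd {a : P} (ha : a ∈ S) : x * a * x = a * x * a :=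
  (h.braid x hx a (hS.sub ha)).resolve_left (hxS a ha)

include h hS hx hxS in
theorem X_ne {a b : P} (ha : a ∈ S) (hb : b ∈ S) (hab : a ≠ b) : ¬ Commute x (a * b) := by
  intro hc
  have hc' : x * (a * b) = a * b * x := hc
  have h1 : a * x * a = b * x * b := by
    have haa := h.sq a (hS.sub ha)
    have hbb := h.sq b (hS.sub hb)
    have hab' : a * b = b * a := hS.comm a ha b hb
    calc a * x * a = a * x * a * (b * b) := by rw [hbb, mul_one]
      _ = a * (x * (a * b)) * b := by group
      _ = a * (a * b * x) * b := by rw [hc']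
      _ = (a * a) * (b * x * b) := by group
      _ = b * x * b := by rw [haa, one_mul]
  rw [← brd h hS hx hxS ha, ← brd h hS hx hxS hb] at h1
  exact hab (mul_left_cancel (mul_right_cancel h1))

include h hS hx hxS in
theorem X_comm {a b : P} (ha : a ∈ S) (hb : b ∈ S) : Commute x (a * b * x * (a * b)) := by
  have haa := h.sq a (hS.sub ha)
  have hbb := h.sq b (hS.sub hb)
  have hab' : a * b = b * a := hS.comm a ha b hb
  have hxi := h.inv hx
  have hbi := h.inv (hS.sub hb)
  have h1 : Commute (x * b * x⁻¹) (x * a * x⁻¹) := (Commute.conj_iff x).2 (hS.comm b hb a ha)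
  rw [hxi, brd h hS hx hxS ha, brd h hS hx hxS hb] at h1
  have h2 : Commute (b * (b * x * b) * b⁻¹) (b * (a * x * a) * b⁻¹) := (Commute.conj_iff b).2 h1
  rw [hbi] at h2
  have e1 : b * (b * x * b) * b = x := by
    calc b * (b * x * b) * b = (b * b) * x * (b * b) := by group
      _ = x := by rw [hbb, one_mul, mul_one]
  have e2 : b * (a * x * a) * b = a * b * x * (a * b) := by
    calc b * (a * x * a) * b = (b * a) * x * (a * b) := by group
      _ = _ := by rw [← hab']
  rwa [e1, e2] at h2

/-- the clique `P_a` -/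
def Pc (x : P) (S : Set P) (a : P) : Set P := cj (a * x) S

include h hS hx hxS in
theorem conj_eq {a b : P} (ha : a ∈ S) (hb : b ∈ S) :
    a * x * b * (a * x)⁻¹ = a * b * x * (a * b) := by
  have hxi := h.inv hx
  have hai := h.inv (hS.sub ha)
  have hab' : a * b = b * a := hS.comm a ha b hb
  calc a * x * b * (a * x)⁻¹ = a * (x * b * x⁻¹) * a⁻¹ := by group
    _ = a * (x * b * x) * a := by rw [hxi, hai]
    _ = a * (b * x * b) * a := by rw [brd h hS hx hxS hb]
    _ = a * b * x * (b * a) := by group
    _ = _ := by rw [← hab']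

include h hS hx hxS in
theorem mem_Pc {a : P} (ha : a ∈ S) {y : P} :
    y ∈ Pc x S a ↔ ∃ b ∈ S, y = a * b * x * (a * b) := by
  constructor
  · rintro ⟨b, hb, rfl⟩
    exact ⟨b, hb, conj_eq h hS hx hxS ha hb⟩
  · rintro ⟨b, hb, rfl⟩
    exact ⟨b, hb, conj_eq h hS hx hxS ha hb⟩

include h hS in
theorem aa {a : P} (ha : a ∈ S) : a * a * x * (a * a) = x := by
  rw [h.sq a (hS.sub ha), one_mul, mul_one]

include h hS hx hxS in
theorem x_mem_Pc {a : P} (ha : a ∈ S) : x ∈ Pc x S a :=
  (mem_Pc h hS hx hxS ha).2 ⟨a, ha, (aa h hS ha).symm⟩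

/-- `p x p = q x q` if and only if `pq` commutes with `x` -/
theorem pq_iff {p q : P} (hp : p * p = 1) (hq : q * q = 1) :
    p * x * p = q * x * q ↔ Commute x (p * q) := by
  constructor
  · intro h1
    calc x * (p * q) = (p * p) * x * p * q := by rw [hp, one_mul]; group
      _ = p * (p * x * p) * q := by group
      _ = p * (q * x * q) * q := by rw [h1]
      _ = p * q * x * (q * q) := by group
      _ = p * q * x := by rw [hq, mul_one]
  · intro h1
    have h2 : x * (p * q) = p * q * x := h1
    calc p * x * p = p * x * p * (q * q) := by rw [hq, mul_one]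
      _ = p * (x * (p * q)) * q := by group
      _ = p * (p * q * x) * q := by rw [h2]
      _ = (p * p) * (q * x * q) := by group
      _ = q * x * q := by rw [hp, one_mul]

include h hS hx hxS in
theorem four_aux {a b c d : P} (ha : a ∈ S) (hb : b ∈ S) (hc : c ∈ S) (hd : d ∈ S) (nab : a ≠ b)
    (nac : a ≠ c) (nad : a ≠ d) (nbc : b ≠ c) (nbd : b ≠ d) (ncd : c ≠ d)
    (hcom : Commute x (a * b * c * d)) : Pc x S b = Pc x S a := by
  have cbc : b * c = c * b := hS.comm b hb c hc
  have cbd : b * d = d * b := hS.comm b hb d hd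
  have ccd : c * d = d * c := hS.comm c hc d hd
  rcases dichotomy h hS ha hb hc hd nab nac nad nbc nbd ncd with ⟨e, he, f, hf, hef, h1⟩ | h1
  · exfalso
    rw [h1] at hcom
    exact X_ne h hS hx hxS he hf hef hcom
  · have h2 := h1 (cj (a * x)⁻¹ (Pc x S b)) (((hS.cj h (b * x))).cj h (a * x)⁻¹)
    have key : ∀ y ∈ S, a * y * x * (a * y) ∈ Pc x S b → y ∈ cj (a * x)⁻¹ (Pc x S b) := by
      intro y hy hyP
      rw [mem_cj, inv_inv, conj_eq h hS hx hxS ha hy]
      exact hyP
    have h3 := h2 (key a ha ?_) (key b hb ?_) (key c hc ?_) (key d hd ?_)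
    · have h4 : cj (a * x) (cj (a * x)⁻¹ (Pc x S b)) = cj (a * x) S := by rw [h3]
      rw [cj_cj, mul_inv_cancel, cj_one] at h4
      exact h4
    · rw [aa h hS ha]; exact x_mem_Pc h hS hx hxS hb
    · refine (mem_Pc h hS hx hxS hb).2 ⟨a, ha, ?_⟩
      rw [show a * b = b * a from hS.comm a ha b hb]
    · refine (mem_Pc h hS hx hxS hb).2 ⟨d, hd, ?_⟩
      rw [pq_iff (sqq h hS ha hc) (sqq h hS hb hd)]
      have : a * c * (b * d) = a * b * c * d := by
        calc a * c * (b * d) = a * (c * b) * d := by group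
          _ = a * (b * c) * d := by rw [cbc]
          _ = _ := by group
      rwa [this]
    · refine (mem_Pc h hS hx hxS hb).2 ⟨c, hc, ?_⟩
      rw [pq_iff (sqq h hS ha hd) (sqq h hS hb hc)]
      have : a * d * (b * c) = a * b * c * d := by
        calc a * d * (b * c) = a * (d * b) * c := by group
          _ = a * (b * d) * c := by rw [cbd]
          _ = a * b * (d * c) := by group
          _ = a * b * (c * d) := by rw [ccd]
          _ = _ := by group
      rwa [this]

include h hS hx hxS in
theorem all_eq {a b : P} (ha : a ∈ S) (hb : b ∈ S) (nab : a ≠ b) (hP : Pc x S b = Pc x S a) :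
    ∀ g ∈ S, Pc x S g = Pc x S a := by
  intro g hg
  by_cases hga : g = a
  · rw [hga]
  by_cases hgb : g = b
  · rw [hgb]; exact hP
  have h1 : a * g * x * (a * g) ∈ Pc x S b := by
    rw [hP]
    exact (mem_Pc h hS hx hxS ha).2 ⟨g, hg, rfl⟩
  obtain ⟨k, hk, h2⟩ := (mem_Pc h hS hx hxS hb).1 h1
  rw [pq_iff (sqq h hS ha hg) (sqq h hS hb hk)] at h2
  have haa := h.sq a (hS.sub ha)
  have hbb := h.sq b (hS.sub hb)
  have hgg := h.sq g (hS.sub hg)
  have cga : g * a = a * g := hS.comm g hg a ha
  have cgb : g * b = b * g := hS.comm g hg b hb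
  have cba : b * a = a * b := hS.comm b hb a ha
  -- exclude the degenerate cases
  have hkb : k ≠ b := by
    rintro rfl
    rw [hbb, mul_one] at h2
    exact X_ne h hS hx hxS ha hg (fun e => hga e.symm) h2
  have hka : k ≠ a := by
    rintro rfl
    have : k * g * (b * k) = g * b := by
      calc k * g * (b * k) = k * g * (k * b) := by rw [cba]
        _ = k * (g * k) * b := by group
        _ = k * (k * g) * b := by rw [cga]
        _ = (k * k) * (g * b) := by group
        _ = g * b := by rw [haa, one_mul]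
    rw [this] at h2
    exact X_ne h hS hx hxS hg hb hgb h2
  have hkg : k ≠ g := by
    rintro rfl
    have : a * k * (b * k) = a * b := by
      calc a * k * (b * k) = a * k * (k * b) := by rw [← cgb]
        _ = a * (k * k) * b := by group
        _ = a * b := by rw [hgg, mul_one]
    rw [this] at h2
    exact X_ne h hS hx hxS ha hb nab h2
  refine four_aux h hS hx hxS ha hg hb hk (fun e => hga e.symm) nab (fun e => hka e.symm) hgb
    (fun e => hkg e.symm) (fun e => hkb e.symm) ?_
  have : a * g * b * k = a * g * (b * k) := by group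
  rw [this]
  exact h2

include h hS in
theorem mul_comm_closure {g k : P} (hg : g ∈ Subgroup.closure S) (hk : k ∈ Subgroup.closure S) :
    g * k = k * g := by
  induction hg using Subgroup.closure_induction with
  | mem a ha =>
    induction hk using Subgroup.closure_induction with
    | mem b hb => exact hS.comm a ha b hb
    | one => rw [mul_one, one_mul]
    | mul u v _ _ hu hv => exact (Commute.mul_right (show Commute a u from hu) hv)
    | inv u _ hu => exact (Commute.inv_right (show Commute a u from hu))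
  | one => rw [mul_one, one_mul]
  | mul u v _ _ hu hv => exact (Commute.mul_left (show Commute u k from hu) hv)
  | inv u _ hu => exact (Commute.inv_left (show Commute u k from hu))

include h hS in
theorem sq_closure {g : P} (hg : g ∈ Subgroup.closure S) : g * g = 1 := by
  induction hg using Subgroup.closure_induction with
  | mem a ha => exact h.sq a (hS.sub ha)
  | one => rw [mul_one]
  | mul u v hu' hv' hu hv =>
    have := mul_comm_closure h hS hu' hv'
    calc u * v * (u * v) = u * (v * u) * v := by group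
      _ = u * (u * v) * v := by rw [this]
      _ = (u * u) * (v * v) := by group
      _ = 1 := by rw [hu, hv, one_mul]
  | inv u _ hu => rw [← mul_inv_rev, hu, inv_one]

include h hS in
theorem isPGroup_closure : IsPGroup 2 (Subgroup.closure S) := by
  intro g
  refine ⟨1, ?_⟩
  apply Subtype.ext
  show ((g : P)) ^ (2 ^ 1) = 1
  rw [pow_one, pow_two]
  exact sq_closure h hS g.2

include h hS hx hxS in
/-- the planes are not all equal -/
theorem not_all_eq {a : P} (ha : a ∈ S) (hall : ∀ g ∈ S, Pc x S g = Pc x S a) : False := by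
  set E : Subgroup P := Subgroup.closure {p | ∃ c ∈ S, ∃ d ∈ S, p = c * d} with hE
  have hEle : E ≤ Subgroup.closure S := by
    rw [hE, Subgroup.closure_le]
    rintro _ ⟨c, hc, d, hd, rfl⟩
    exact mul_mem (Subgroup.subset_closure hc) (Subgroup.subset_closure hd)
  have hEp : IsPGroup 2 E := (isPGroup_closure h hS).to_le hEle
  have hmem : ∀ g ∈ E, ∀ y ∈ Pc x S a, g * y * g⁻¹ ∈ Pc x S a := by
    intro g hg
    induction hg using Subgroup.closure_induction with
    | mem g hg =>
      obtain ⟨c, hc, d, hd, rfl⟩ := hg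
      intro y hy
      rw [← hall d hd] at hy
      rw [← hall c hc]
      obtain ⟨s, hs, rfl⟩ := hy
      refine ⟨s, hs, ?_⟩
      have hdd := h.sq d (hS.sub hd)
      calc c * x * s * (c * x)⁻¹ = c * (1 : P) * x * s * (c * 1 * x)⁻¹ := by group
        _ = c * (d * d) * x * s * (c * (d * d) * x)⁻¹ := by rw [hdd]
        _ = c * d * (d * x * s * (d * x)⁻¹) * (c * d)⁻¹ := by group
    | one => intro y hy; simpa using hy
    | mul u v _ _ hu hv =>
      intro y hy
      have := hu _ (hv y hy)
      have e : u * v * y * (u * v)⁻¹ = u * (v * y * v⁻¹) * u⁻¹ := by group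
      rw [e]; exact this
    | inv u hu' hu =>
      intro y hy
      have hui : u⁻¹ = u := inv_eq_of_mul_eq_one_left (sq_closure h hS (hEle hu'))
      rw [hui]
      exact hu y hy
  let act : MulAction E {y // y ∈ Pc x S a} :=
    { smul := fun g y => ⟨(g : P) * y * (g : P)⁻¹, hmem g g.2 y y.2⟩
      one_smul := by
        intro y
        apply Subtype.ext
        show ((1 : E) : P) * y * ((1 : E) : P)⁻¹ = y
        simp
      mul_smul := by
        intro u v y
        apply Subtype.ext
        show ((u * v : E) : P) * y * ((u * v : E) : P)⁻¹ = u * ((v : P) * y * (v : P)⁻¹) * (u : P)⁻¹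
        rw [Subgroup.coe_mul]
        group }
  have hfin : (Pc x S a).Finite := (finite_cl (hS.cj h (a * x)))
  have : Finite {y // y ∈ Pc x S a} := hfin.to_subtype
  obtain ⟨n, hn⟩ := hEp.card_orbit (⟨x, x_mem_Pc h hS hx hxS ha⟩ : {y // y ∈ Pc x S a})
  have huniv : MulAction.orbit E (⟨x, x_mem_Pc h hS hx hxS ha⟩ : {y // y ∈ Pc x S a}) = Set.univ := by
    rw [Set.eq_univ_iff_forall]
    rintro ⟨y, hy⟩
    obtain ⟨b, hb, rfl⟩ := (mem_Pc h hS hx hxS ha).1 hy
    refine ⟨⟨a * b, Subgroup.subset_closure ⟨a, ha, b, hb, rfl⟩⟩, ?_⟩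
    apply Subtype.ext
    show a * b * x * (a * b)⁻¹ = a * b * x * (a * b)
    rw [inv_eq_of_mul_eq_one_left (sqq h hS ha hb)]
  rw [huniv, Nat.card_univ] at hn
  have hcard : Nat.card {y // y ∈ Pc x S a} = 22 := by
    have := (hS.cj h (a * x)).card
    rw [← Nat.card_coe_set_eq] at this
    exact this
  rw [hcard] at hn
  have h11 : 11 ∣ 2 ^ n := by rw [← hn]; norm_num
  have := (Nat.Prime.dvd_of_dvd_pow (by norm_num) h11)
  omega

include h hS hx hxS in
/-- no product of four different members of the clique commutes with `x` -/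
theorem four {a b c d : P} (ha : a ∈ S) (hb : b ∈ S) (hc : c ∈ S) (hd : d ∈ S) (nab : a ≠ b)
    (nac : a ≠ c) (nad : a ≠ d) (nbc : b ≠ c) (nbd : b ≠ d) (ncd : c ≠ d) :
    ¬ Commute x (a * b * c * d) := fun hcom =>
  not_all_eq h hS hx hxS ha (all_eq h hS hx hxS ha hb nab
    (four_aux h hS hx hxS ha hb hc hd nab nac nad nbc nbd ncd hcom))

end K

end Cfsg.Agent.R08.NoFpf
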