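import Cfsg.Agent.R08.NoFpfC

/-!
# Maximal cliques of the 3510 transpositions (4): counting
-/

set_option autoImplicit false
set_option linter.unusedSectionVars false
set_option linter.dupNamespace false

namespace Cfsg.Agent.R08.NoFpf

open Cfsg Cfsg.Agent.LieClassical.HermBasic
open Cfsg.Agent.R01.Component (Nb Near mem_Nb labels_of_loc ncard_Nb ncard_common ncard_Near)

variable {P : Type*} [Group P] {F : Type*} [Field F] [Fintype F] {hF : Fintype.card F = 2 ^ 2}
  {T : Set P}

/-- double counting -/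
theorem count [Finite P] (h : Sys hF T) {S : Set P} (hS : Cl T S) {A : Set P} (hA : A ⊆ T)
    (hAS : ∀ y ∈ A, y ∉ S) {k : ℕ} (hk : ∀ a ∈ S, {y | y ∈ A ∧ Commute y a}.ncard = k) :
    22 * k = 6 * {y | y ∈ A ∧ ∃ a ∈ S, Commute y a}.ncard := by
  classical
  have := Fintype.ofFinite P
  set B : Set P := {y | y ∈ A ∧ ∃ a ∈ S, Commute y a} with hB
  have key := Finset.sum_card_bipartiteAbove_eq_sum_card_bipartiteBelow (s := S.toFinset)
    (t := B.toFinset) (r := fun a y => Commute y a)
  have h1 : ∀ a ∈ S.toFinset, (B.toFinset.bipartiteAbove (fun a y => Commute y a) a).card = k := by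
    intro a ha
    rw [Set.mem_toFinset] at ha
    rw [← hk a ha, ← Set.ncard_coe_finset]
    congr 1
    ext y
    simp only [Finset.coe_bipartiteAbove, Set.mem_ofPred_eq, Set.mem_toFinset, hB]
    constructor
    · rintro ⟨⟨h1, -⟩, h2⟩; exact ⟨h1, h2⟩
    · rintro ⟨h1, h2⟩; exact ⟨⟨h1, a, ha, h2⟩, h2⟩
  have h2 : ∀ y ∈ B.toFinset, (S.toFinset.bipartiteBelow (fun a y => Commute y a) y).card = 6 := by
    intro y hy
    rw [Set.mem_toFinset] at hy
    obtain ⟨hy1, a, ha, hya⟩ := hy
    rw [← six h hS ha (hA hy1) (hAS y hy1) hya, ← Set.ncard_coe_finset]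
    congr 1
    ext b
    simp only [Finset.coe_bipartiteBelow, Set.mem_ofPred_eq, Set.mem_toFinset]
  rw [Finset.sum_congr rfl h1, Finset.sum_congr rfl h2, Finset.sum_const, Finset.sum_const,
    smul_eq_mul, smul_eq_mul, ← Set.ncard_eq_toFinset_card', ← Set.ncard_eq_toFinset_card',
    hS.card] at key
  omega

theorem Sys.near [Finite P] (h : Sys hF T) {a b : P} (ha : a ∈ T) (hb : b ∈ T) :
    ∃ m ∈ T, Commute m a ∧ Commute m b := by
  have hlab := labels_of_loc h.loc
  have h1 : (Near T a).ncard = 3510 := ncard_Near hF hlab ha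
  have h2 : Near T a = T := Set.eq_of_subset_of_ncard_le (fun e he => he.1)
    (by rw [h1, h.card]) (Set.toFinite _)
  have h3 : b ∈ Near T a := by rw [h2]; exact hb
  exact h3.2

/-- There is a transposition commuting with no member of the clique. -/
theorem exists_far [Finite P] (h : Sys hF T) {S : Set P} (hS : Cl T S) :
    ∃ x ∈ T, ∀ a ∈ S, ¬ Commute x a := by
  by_contra hcon
  push Not at hcon
  have hlab := labels_of_loc h.loc
  have h1 := count h hS (A := T \ S) (fun y hy => hy.1) (fun y hy => hy.2) (k := 672) ?_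
  · have h2 : {y | y ∈ T \ S ∧ ∃ a ∈ S, Commute y a} = T \ S := by
      ext y
      constructor
      · rintro ⟨hy, -⟩; exact hy
      · intro hy; exact ⟨hy, hcon y hy.1⟩
    rw [h2, Set.ncard_sdiff hS.sub (finite_cl hS), h.card, hS.card] at h1
    omega
  · intro a ha
    have h3 : {y | y ∈ T \ S ∧ Commute y a} = Nb T a \ (S \ {a}) := by
      ext y
      constructor
      · rintro ⟨⟨hy, hyS⟩, hya⟩
        exact ⟨⟨hy, fun e => hyS (e ▸ ha), hya⟩, fun h => hyS h.1⟩
      · rintro ⟨⟨hy, hne, hya⟩, hyS⟩
        exact ⟨⟨hy, fun h => hyS ⟨h, hne⟩⟩, hya⟩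
    have h4 : S \ {a} ⊆ Nb T a := fun y hy =>
      ⟨hS.sub hy.1, hy.2, hS.comm y hy.1 a ha⟩
    rw [h3, Set.ncard_sdiff h4 (Set.toFinite _), ncard_Nb hF hlab (hS.sub ha),
      Set.ncard_sdiff_singleton_of_mem ha, hS.card]

/-- the transpositions commuting with `x` and with no member of the clique -/
def Far (T S : Set P) (x : P) : Set P := {y | y ∈ Nb T x ∧ ∀ a ∈ S, ¬ Commute y a}

theorem ncard_Far [Finite P] (h : Sys hF T) {S : Set P} (hS : Cl T S) {x : P} (hx : x ∈ T)
    (hxS : ∀ a ∈ S, ¬ Commute x a) : (Far T S x).ncard = 231 := by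
  have hlab := labels_of_loc h.loc
  have h1 := count h hS (A := Nb T x) (fun y hy => hy.1)
    (fun y hy hyS => hxS y hyS hy.2.2.symm) (k := 126) ?_
  · have h2 : Far T S x = Nb T x \ {y | y ∈ Nb T x ∧ ∃ a ∈ S, Commute y a} := by
      ext y
      constructor
      · rintro ⟨hy, hn⟩
        refine ⟨hy, ?_⟩
        rintro ⟨-, a, ha, hya⟩
        exact hn a ha hya
      · rintro ⟨hy, hn⟩
        exact ⟨hy, fun a ha hya => hn ⟨hy, a, ha, hya⟩⟩
    rw [h2, Set.ncard_sdiff (fun y hy => hy.1) (Set.toFinite _), ncard_Nb hF hlab hx]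
    omega
  · intro a ha
    obtain ⟨m, hm, hmx, hma⟩ := h.near hx (hS.sub ha)
    exact ncard_common hF hlab hx (hS.sub ha) (fun e => hxS a ha e.symm) hm hma hmx

/-- The members of `Far` are the elements `abxab`. -/
theorem mem_Far [Finite P] (h : Sys hF T) {S : Set P} (hS : Cl T S) {x : P} (hx : x ∈ T)
    (hxS : ∀ a ∈ S, ¬ Commute x a) {y : P} (hy : y ∈ Far T S x) :
    ∃ a ∈ S, ∃ b ∈ S, a ≠ b ∧ y = a * b * x * (a * b) := by
  classical
  have := Fintype.ofFinite P
  set f : P × P → P := fun q => q.1 * q.2 * x * (q.1 * q.2) with hf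
  set O := S.toFinset.offDiag with hO
  have hcardS : S.toFinset.card = 22 := by rw [← Set.ncard_eq_toFinset_card', hS.card]
  have hOcard : O.card = 462 := by
    rw [hO, Finset.offDiag_card, hcardS]
  have hmemO : ∀ q, q ∈ O ↔ q.1 ∈ S ∧ q.2 ∈ S ∧ q.1 ≠ q.2 := by
    intro q
    rw [hO, Finset.mem_offDiag, Set.mem_toFinset, Set.mem_toFinset]
  -- the fibres have at most two members
  have hfib : ∀ z ∈ O.image f, (O.filter fun q => f q = z).card ≤ 2 := by
    intro z hz
    obtain ⟨⟨a, b⟩, hab, rfl⟩ := Finset.mem_image.1 hz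
    obtain ⟨ha, hb, nab⟩ := (hmemO _).1 hab
    simp only at ha hb nab
    refine (Finset.card_le_card (t := {(a, b), (b, a)}) ?_).trans Finset.card_le_two
    rintro ⟨c, d⟩ hcd
    rw [Finset.mem_filter] at hcd
    obtain ⟨hc, hd, ncd⟩ := (hmemO _).1 hcd.1
    simp only at hc hd ncd
    have h1 : c * d * x * (c * d) = a * b * x * (a * b) := hcd.2
    have hcom := (pq_iff (sqq h hS hc hd) (sqq h hS ha hb)).1 h1
    have haa := h.sq a (hS.sub ha)
    have hbb := h.sq b (hS.sub hb)
    have cab : a * b = b * a := hS.comm a ha b hb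
    have ccd : c * d = d * c := hS.comm c hc d hd
    have cac : a * c = c * a := hS.comm a ha c hc
    have cbd : b * d = d * b := hS.comm b hb d hd
    have cad : a * d = d * a := hS.comm a ha d hd
    have cbc : b * c = c * b := hS.comm b hb c hc
    simp only [Finset.mem_insert, Finset.mem_singleton, Prod.mk.injEq]
    by_cases e1 : c = a
    · subst e1
      by_cases e2 : d = b
      · exact Or.inl ⟨rfl, e2⟩
      · exfalso
        have : c * d * (c * b) = d * b := by
          calc c * d * (c * b) = (d * c) * (c * b) := by rw [ccd]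
            _ = d * (c * c) * b := by group
            _ = d * b := by rw [haa, mul_one]
        rw [this] at hcom
        exact X_ne h hS hx hxS hd hb e2 hcom
    by_cases e2 : c = b
    · subst e2
      by_cases e3 : d = a
      · exact Or.inr ⟨rfl, e3⟩
      · exfalso
        have : c * d * (a * c) = d * a := by
          calc c * d * (a * c) = (d * c) * (c * a) := by rw [ccd, cac]
            _ = d * (c * c) * a := by group
            _ = d * a := by rw [hbb, mul_one]
        rw [this] at hcom
        exact X_ne h hS hx hxS hd ha e3 hcom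
    by_cases e3 : d = a
    · subst e3
      exfalso
      have : c * d * (d * b) = c * b := by
        calc c * d * (d * b) = c * (d * d) * b := by group
          _ = c * b := by rw [haa, mul_one]
      rw [this] at hcom
      exact X_ne h hS hx hxS hc hb e2 hcom
    by_cases e4 : d = b
    · subst e4
      exfalso
      have : c * d * (a * d) = c * a := by
        calc c * d * (a * d) = c * d * (d * a) := by rw [cab]
          _ = c * (d * d) * a := by group
          _ = c * a := by rw [hbb, mul_one]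
      rw [this] at hcom
      exact X_ne h hS hx hxS hc ha e1 hcom
    exfalso
    refine four h hS hx hxS hc hd ha hb ncd e1 e2 e3 e4 nab ?_
    have : c * d * a * b = c * d * (a * b) := by group
    rw [this]
    exact hcom
  have hle := Finset.card_le_mul_card_image (s := O) (f := f) 2 hfib
  rw [hOcard] at hle
  -- the image is contained in `Far`
  have hsub : ((O.image f : Finset P) : Set P) ⊆ Far T S x := by
    intro z hz
    obtain ⟨⟨a, b⟩, hab, rfl⟩ := Finset.mem_image.1 (Finset.mem_coe.1 hz)
    obtain ⟨ha, hb, nab⟩ := (hmemO _).1 hab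
    simp only at ha hb nab
    have hinv : (a * b)⁻¹ = a * b := inv_eq_of_mul_eq_one_left (sqq h hS ha hb)
    have e0 : a * b * x * (a * b) = a * b * x * (a * b)⁻¹ := by rw [hinv]
    refine ⟨⟨?_, ?_, ?_⟩, ?_⟩
    · show a * b * x * (a * b) ∈ T
      rw [e0]
      exact h.conj _ _ hx
    · show a * b * x * (a * b) ≠ x
      intro e
      apply X_ne h hS hx hxS ha hb nab
      show x * (a * b) = a * b * x
      calc x * (a * b) = a * b * x * (a * b) * (a * b) := by rw [e]
        _ = a * b * x * ((a * b) * (a * b)) := by group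
        _ = a * b * x := by rw [sqq h hS ha hb, mul_one]
    · exact (X_comm h hS hx hxS ha hb).symm
    · intro c hc hcom
      apply hxS c hc
      have h1 : Commute (a * b * x * (a * b)⁻¹) (a * b * c * (a * b)⁻¹) := by
        have h2 : a * b * c * (a * b)⁻¹ = c := by
          rw [mul_inv_eq_iff_eq_mul]
          exact (Commute.mul_left (hS.comm a ha c hc) (hS.comm b hb c hc))
        rw [h2, ← e0]
        exact hcom
      exact (Commute.conj_iff _).1 h1
  have heq : ((O.image f : Finset P) : Set P) = Far T S x :=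
    Set.eq_of_subset_of_ncard_le hsub
      (by rw [ncard_Far h hS hx hxS, Set.ncard_coe_finset]; omega) (Set.toFinite _)
  rw [← heq] at hy
  obtain ⟨⟨a, b⟩, hab, rfl⟩ := Finset.mem_image.1 (Finset.mem_coe.1 hy)
  obtain ⟨ha, hb, nab⟩ := (hmemO _).1 hab
  exact ⟨a, ha, b, hb, nab, rfl⟩

/-- The end: an automorphism which fixes the clique. -/
theorem no_fpf_of_cl [Finite P] (h : Sys hF T) {S : Set P} (hS : Cl T S) (θ : P ≃* P)
    (hT : ∀ t ∈ T, θ t ∈ T) (h2 : ∀ t, θ (θ t) = t) (hne : ∀ t ∈ T, θ t ≠ t)
    (hcomm : ∀ t ∈ T, Commute (θ t) t) (hθS : ∀ a ∈ S, θ a ∈ S) : False := by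
  obtain ⟨x, hx, hxS⟩ := exists_far h hS
  have hfar : θ x ∈ Far T S x := by
    refine ⟨⟨hT x hx, hne x hx, hcomm x hx⟩, ?_⟩
    intro a ha hc
    apply hxS (θ a) (hθS a ha)
    have h1 := hc.map θ.toMonoidHom
    have h3 : θ.toMonoidHom (θ x) = x := h2 x
    rw [h3] at h1
    exact h1
  obtain ⟨a, ha, b, hb, nab, hab⟩ := mem_Far h hS hx hxS hfar
  have ha' := hθS a ha
  have hb' := hθS b hb
  have haa := h.sq a (hS.sub ha)
  have hbb := h.sq b (hS.sub hb)
  have cab : a * b = b * a := hS.comm a ha b hb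
  -- the square of `θ`
  have h3 : x = θ a * θ b * (a * b * x * (a * b)) * (θ a * θ b) := by
    have h4 := congrArg θ hab
    rw [h2, map_mul, map_mul, map_mul, hab] at h4
    exact h4
  have hcom : Commute x (θ a * θ b * (a * b)) := by
    rw [← pq_iff (sqq h hS ha' hb') (sqq h hS ha hb)]
    calc θ a * θ b * x * (θ a * θ b) =
        θ a * θ b * (θ a * θ b * (a * b * x * (a * b)) * (θ a * θ b)) * (θ a * θ b) := by
          conv_lhs => rw [h3]
      _ = (θ a * θ b * (θ a * θ b)) * (a * b * x * (a * b)) * ((θ a * θ b) * (θ a * θ b)) := by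
          group
      _ = a * b * x * (a * b) := by rw [sqq h hS ha' hb', one_mul, mul_one]
  by_cases e : θ a = b
  · have e' : θ b = a := by rw [← e, h2]
    -- `θ` fixes `a x a`
    have h4 : θ (a * x * a) = a * x * a := by
      rw [map_mul, map_mul, e, hab]
      calc b * (a * b * x * (a * b)) * b = (b * a) * b * x * a * (b * b) := by group
        _ = a * b * b * x * a := by rw [hbb, mul_one, cab]
        _ = a * (b * b) * x * a := by group
        _ = a * x * a := by rw [hbb, mul_one]
    have h5 : a * x * a ∈ T := by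
      have := h.conj a x hx
      rwa [h.inv (hS.sub ha)] at this
    exact hne _ h5 h4
  · have e1 : θ b ≠ a := fun h1 => e (by rw [← h1, h2])
    have e2 : θ a ≠ θ b := fun h1 => nab (θ.injective h1)
    refine four h hS hx hxS ha' hb' ha hb e2 (hne a (hS.sub ha)) e e1 (hne b (hS.sub hb)) nab ?_
    have : θ a * θ b * a * b = θ a * θ b * (a * b) := by group
    rw [this]
    exact hcom

end Cfsg.Agent.R08.NoFpf
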