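import Cfsg.Agent.R08.InvHerm

/-!
# R08 (S1715): `C_G(z)` is transitive on the pairs of elements over an `R`-point (helper878)

`exists_conj`: pairs `(t, t₁)`, `t, t₁ ∈ Q`, `v t ∈ R`, `v t₁ = c • v t` with `c ≠ 0, 1`.
-/

set_option autoImplicit false

namespace Cfsg.Agent.R08.PairConj

open Cfsg.Agent.R08.Iface Cfsg.Agent.R08.InvHerm

variable {F : Type*} [Field F] {G : Type*} [Group G] {Q M : Subgroup G} {z : G}

/-- The two elements of the field outside the prime field are exchanged by squaring. -/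
theorem eq_sq {c c' : F} (hF : Nat.card F = 4) (hc0 : c ≠ 0) (hc1 : c ≠ 1) (hc0' : c' ≠ 0)
    (hc1' : c' ≠ 1) (h : c ≠ c') : c' = c ^ 2 := by
  have key : ∀ x : F, x ≠ 0 → x ≠ 1 → x ^ 2 + x + 1 = 0 := by
    intro x h0 h1
    have h4 := pow4 hF x
    have h2 : x * (x - 1) * (x ^ 2 + x + 1) = 0 := by linear_combination h4
    exact (mul_eq_zero.1 h2).resolve_left (mul_ne_zero h0 (sub_ne_zero.2 h1))
  have e1 := key c hc0 hc1
  have e2 := key c' hc0' hc1'
  have e3 : (c - c') * (c + c' + 1) = 0 := by linear_combination e1 - e2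
  have e4 := (mul_eq_zero.1 e3).resolve_left (sub_ne_zero.2 h)
  have e5 := two_eq hF
  linear_combination e4 - e1 + (-c') * 0 * e5 + (0 : F) * e5

/-- signs -/
theorem exists_sign (L : Lab F Q M z) {t t1 : G} (ht : t ∈ Q) (ht1 : t1 ∈ Q) (hr : L.v t ≠ 0)
    {c : F} (h1 : L.v t1 = c • L.v t) (hc0 : c ≠ 0) (hc1 : c ≠ 1) (e e1 : Bool) :
    ∃ q ∈ Q, q * t * q⁻¹ = (if e then t * z else t) ∧
      q * t1 * q⁻¹ = (if e1 then t1 * z else t1) := by
  have hF := L.card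
  obtain ⟨y0, hy0⟩ := exists_dual hF hr
  have hc2 : c ^ 2 ≠ 0 := pow_ne_zero 2 hc0
  have hc21 : c ^ 2 ≠ 1 := by
    intro h
    have h3 := pow3 hF hc0
    apply hc1
    calc c = c ^ 2 * c := by rw [h, one_mul]
      _ = c ^ 3 := by ring
      _ = 1 := h3
  -- the action of an element with label `u • y0`
  have key : ∀ (u : F) (q : G), q ∈ Q → L.v q = u • y0 →
      H (L.v q) (L.v t) = u ∧ H (L.v q) (L.v t1) = c ^ 2 * u := by
    intro u q hq hv
    rw [hv, h1, H_smul_right hF, H_smul_left hF, hy0, mul_one]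
    exact ⟨rfl, rfl⟩
  have pos : ∀ {q x : G}, q ∈ Q → x ∈ Q → (H (L.v q) (L.v x) = 0 ∨ H (L.v q) (L.v x) = 1) →
      q * x * q⁻¹ = x := by
    intro q x hq hx h
    rw [(L.comm_iff q hq x hx).2 h, mul_inv_cancel_right]
  have neg : ∀ {q x : G}, q ∈ Q → x ∈ Q → H (L.v q) (L.v x) ≠ 0 → H (L.v q) (L.v x) ≠ 1 →
      q * x * q⁻¹ = x * z := by
    intro q x hq hx h0 h1'
    have h2 := (L.comm_z_iff hq hx).2 (not_or.2 ⟨h0, h1'⟩)
    have h3 := L.large.comm_z q hq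
    rw [h2, mul_assoc x q z, h3, ← mul_assoc, mul_inv_cancel_right]
  cases e <;> cases e1
  · exact ⟨1, Q.one_mem, by simp, by simp⟩
  · obtain ⟨q, hq, hv⟩ := L.v_surj ((1 : F) • y0)
    obtain ⟨a1, a2⟩ := key _ q hq hv
    refine ⟨q, hq, ?_, ?_⟩
    · simpa using pos hq ht (Or.inr a1)
    · have := neg hq ht1 (by rw [a2, mul_one]; exact hc2) (by rw [a2, mul_one]; exact hc21)
      simpa using this
  · obtain ⟨q, hq, hv⟩ := L.v_surj (c • y0)
    obtain ⟨a1, a2⟩ := key _ q hq hv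
    refine ⟨q, hq, ?_, ?_⟩
    · have := neg hq ht (by rw [a1]; exact hc0) (by rw [a1]; exact hc1)
      simpa using this
    · have h3 : c ^ 2 * c = 1 := by
        rw [← pow_succ]; exact pow3 hF hc0
      simpa using pos hq ht1 (Or.inr (a2.trans h3))
  · obtain ⟨q, hq, hv⟩ := L.v_surj ((c ^ 2) • y0)
    obtain ⟨a1, a2⟩ := key _ q hq hv
    have h4 : c ^ 2 * c ^ 2 = c := by
      rw [← pow_add]; exact pow4 hF c
    rw [h4] at a2
    refine ⟨q, hq, ?_, ?_⟩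
    · have := neg hq ht (by rw [a1]; exact hc2) (by rw [a1]; exact hc21)
      simpa using this
    · have := neg hq ht1 (by rw [a2]; exact hc0) (by rw [a2]; exact hc1)
      simpa using this

/-- `C_G(z)` is transitive on the pairs `(t, t₁)`. -/
theorem exists_conj (L : Lab F Q M z) (g : InvHerm.Geo F)
    (hsemi : ∀ c, c * z = z * c → c ∉ M → IsSemi (L.ρ c)) {t t1 t' t1' : G}
    (ht : t ∈ Q) (ht1 : t1 ∈ Q) (ht' : t' ∈ Q) (ht1' : t1' ∈ Q)
    (hr : IsR (L.v t)) (hr' : IsR (L.v t')) {c c' : F}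
    (h1 : L.v t1 = c • L.v t) (h1' : L.v t1' = c' • L.v t')
    (hc0 : c ≠ 0) (hc1 : c ≠ 1) (hc0' : c' ≠ 0) (hc1' : c' ≠ 1) :
    ∃ h, h * z = z * h ∧ h * t * h⁻¹ = t' ∧ h * t1 * h⁻¹ = t1' := by
  have hF := L.card
  -- the labels
  obtain ⟨k, hkz, hkt, hkt1⟩ : ∃ k, k * z = z * k ∧ L.ρ k (L.v t) = L.v t' ∧
      L.ρ k (L.v t1) = L.v t1' := by
    by_cases hcc : c = c'
    · obtain ⟨m, hm, h⟩ := L.transR _ _ hr hr'
      refine ⟨m, L.M_comm m hm, h, ?_⟩
      rw [h1, (L.isLin hm).smul, h, h1', hcc]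
    · obtain ⟨n, hnz, hn⟩ := L.exists_not_mem
      obtain ⟨m, hm, h⟩ := L.transR _ _ (L.pres n hnz _ hr) hr'
      have hmz := L.M_comm m hm
      refine ⟨m * n, Lab.mul_comm' hmz hnz, ?_, ?_⟩
      · rw [L.ρ_mul hmz hnz, h]
      · rw [L.ρ_mul hmz hnz, h1, (hsemi n hnz hn).smul, (L.isLin hm).smul, h, h1',
          eq_sq hF hc0 hc1 hc0' hc1' hcc]
  have e1 : k * t * k⁻¹ = t' ∨ k * t * k⁻¹ = t' * z := by
    apply (L.v_eq (L.ρ_surj_aux hkz ht) ht').1
    rw [L.v_conj k hkz t ht, hkt]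
  have e2 : k * t1 * k⁻¹ = t1' ∨ k * t1 * k⁻¹ = t1' * z := by
    apply (L.v_eq (L.ρ_surj_aux hkz ht1) ht1').1
    rw [L.v_conj k hkz t1 ht1, hkt1]
  obtain ⟨e, he⟩ : ∃ e : Bool, k * t * k⁻¹ = if e then t' * z else t' := by
    rcases e1 with h | h
    · exact ⟨false, by simpa using h⟩
    · exact ⟨true, by simpa using h⟩
  obtain ⟨e', he'⟩ : ∃ e : Bool, k * t1 * k⁻¹ = if e then t1' * z else t1' := by
    rcases e2 with h | h
    · exact ⟨false, by simpa using h⟩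
    · exact ⟨true, by simpa using h⟩
  obtain ⟨q, hq, hq1, hq2⟩ := exists_sign L ht' ht1' (g.ne _ hr') h1' hc0' hc1' e e'
  have hqz := L.large.comm_z q hq
  have hzz : z * z = 1 := L.large.z_sq
  have fin : ∀ {x y : G} {b : Bool}, k * x * k⁻¹ = (if b then y * z else y) →
      q * y * q⁻¹ = (if b then y * z else y) → (q * k) * x * (q * k)⁻¹ = y := by
    intro x y b hx hy
    have e : (q * k) * x * (q * k)⁻¹ = q * (k * x * k⁻¹) * q⁻¹ := by group
    rw [e, hx]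
    cases b
    · simpa using hy
    · simp only [if_true] at hy ⊢
      calc q * (y * z) * q⁻¹ = (q * y * q⁻¹) * (q * z) * q⁻¹ := by group
        _ = (y * z) * (z * q) * q⁻¹ := by rw [hy, hqz]
        _ = y * (z * z) := by group
        _ = y := by rw [hzz, mul_one]
  exact ⟨q * k, Lab.mul_comm' hqz hkz, fin he hq1, fin he' hq2⟩

end Cfsg.Agent.R08.PairConj
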