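import Cfsg.Agent.R08.SixHom

/-!
# R08, piece (6), concrete part: the four elements over a transvection
-/

set_option autoImplicit false
set_option linter.unusedSectionVars false

namespace Cfsg.Agent.R08.SixK

open Cfsg Cfsg.Agent.R08.Iface Cfsg.Agent.R08.SixIn Cfsg.Agent.LieClassical.HermBasic
open Cfsg.Agent.ClassicalGeometry.UnitTransv Cfsg.Agent.SporadicStructure.UnitTwo
open Cfsg.Agent.R08.SixGeo Cfsg.Agent.R08.SixHom

section Field

variable {F : Type*} [Field F] [Fintype F] (hF : Fintype.card F = 2 ^ 2)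
include hF

theorem H_self_eq (w : Fin 6 → F) : H w w = (wt w : F) := by
  classical
  rw [H_def, wt, ← Finset.sum_boole]
  apply Finset.sum_congr rfl
  intro i _
  by_cases h : w i = 0
  · simp [h]
  · rw [if_pos h]
    exact cube hF h

/-- an isotropic vector is an `R`-vector or an `S`-vector -/
theorem isR_or_isS {w : Fin 6 → F} (h0 : w ≠ 0) (h : H w w = 0) : IsR w ∨ IsS w := by
  classical
  rw [H_self_eq hF] at h
  have h2 := two_eq_zero hF
  have h1 : wt w % 2 = 0 := by
    by_contra hc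
    have h3 : wt w = 2 * (wt w / 2) + 1 := by omega
    rw [h3] at h
    push_cast at h
    rw [h2, zero_mul, zero_add] at h
    exact one_ne_zero h
  have h4 : wt w ≤ 6 := by
    rw [wt]
    calc _ ≤ (Finset.univ : Finset (Fin 6)).card := Finset.card_filter_le _ _
      _ = 6 := by simp
  have h5 : wt w ≠ 0 := by
    intro h6
    apply h0
    funext i
    by_contra h7
    rw [wt, Finset.card_eq_zero] at h6
    have : i ∈ Finset.univ.filter fun i => w i ≠ 0 := by simpa using h7
    rw [h6] at this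
    exact absurd this (Finset.notMem_empty i)
  have h8 : wt w = 2 ∨ wt w = 4 ∨ wt w = 6 := by omega
  rcases h8 with h9 | h9 | h9
  · exact Or.inl (Or.inl h9)
  · exact Or.inr (Or.inl h9)
  · by_cases hp : ∏ i, w i = 1
    · exact Or.inl (Or.inr ⟨h9, hp⟩)
    · exact Or.inr (Or.inr ⟨h9, hp⟩)

end Field

/-- the `R`-vector over `w` -/
def rv {F : Type*} [Field F] (w : Fin 4 → F) : Fin 6 → F := emb4 w (w 0 * w 1 * w 2 * w 3)

section Rv

variable {F : Type*} [Field F] [Fintype F] (hF : Fintype.card F = 2 ^ 2)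
include hF
variable {w : Fin 4 → F} (hw : hermForm 4 F 2 w w = 0) (hw0 : w ≠ 0)
include hw hw0

theorem isR_rv : IsR (rv w) := (isR_emb4 hF hw hw0 _).2 rfl

omit hw in
theorem rv_ne (c : F) : rv w ≠ c • r0 F := by
  intro h
  apply hw0
  rw [← top_emb4 w (w 0 * w 1 * w 2 * w 3)]
  show top (rv w) = 0
  rw [h, SixGeo.top_smul, top_r0, smul_zero]

omit hw0 hw in
theorem H_rv : H (r0 F) (rv w) = 0 := by
  have : r0 F = emb4 0 1 := by rw [emb4_zero, one_smul]
  rw [this, rv, H_emb4 hF, herm_zero_left]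

omit hF [Fintype F] hw hw0 in
theorem comb_eq (c e : F) : c • rv w + e • r0 F = emb4 (c • w) (c * (w 0 * w 1 * w 2 * w 3) + e) := by
  rw [rv, ← emb4_smul, emb4_add_r0]

theorem isR_comb {c : F} (hc : c ≠ 0) (e : F) : IsR (c • rv w + e • r0 F) ↔ e = 0 := by
  have h1 : hermForm 4 F 2 (c • w) (c • w) = 0 := by
    rw [herm_smul_left, herm_smul_right, hw, mul_zero, mul_zero]
  have h2 : c • w ≠ 0 := smul_ne_zero hc hw0
  rw [comb_eq, isR_emb4 hF h1 h2]
  simp only [Pi.smul_apply, smul_eq_mul]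
  have h3 := pow_three hF hc
  have h4 : c * w 0 * (c * w 1) * (c * w 2) * (c * w 3) = c * (w 0 * w 1 * w 2 * w 3) := by
    linear_combination (c * (w 0 * w 1 * w 2 * w 3)) * h3
  rw [h4]
  constructor
  · intro h
    linear_combination h
  · intro h
    rw [h, add_zero]

omit hw0 in
theorem H_comb (c e : F) : H (c • rv w + e • r0 F) (c • rv w + e • r0 F) = 0 := by
  rw [comb_eq, H_emb4 hF, herm_smul_left, herm_smul_right, hw, mul_zero, mul_zero]

omit hF [Fintype F] hw in
theorem comb_ne {c : F} (hc : c ≠ 0) (e : F) : c • rv w + e • r0 F ≠ 0 := by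
  intro h
  have h2 : c • w ≠ 0 := smul_ne_zero hc hw0
  apply h2
  rw [comb_eq] at h
  rw [← top_emb4 (c • w) (c * (w 0 * w 1 * w 2 * w 3) + e), h]
  funext i; fin_cases i <;> rfl

end Rv

section

variable {F : Type*} [Field F] [Fintype F] (hF : Fintype.card F = 2 ^ 2)
variable {G : Type*} [Group G] {Q M : Subgroup G} {z : G} {L : Lab F Q M z} {V K : Subgroup G}
include hF

/-- classes of elements of `Q` -/
theorem twoA_iff (I : In L) {x : G} (hx : x ∈ Q) (hs : H (L.v x) (L.v x) = 0) (h0 : L.v x ≠ 0) :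
    L.TwoA x ↔ IsR (L.v x) := by
  constructor
  · intro hA
    rcases isR_or_isS hF h0 hs with h | h
    · exact h
    · exact absurd (I.s_twoB x hx h) (I.disj x hA)
  · exact fun h => L.twoA_of_isR hx h

/-- `k` is one of the four elements -/
structure Sel (L : Lab F Q M z) (V K : Subgroup G) (k : G) : Prop where
  mem : k ∈ K
  out : k ∉ Q
  twoB : L.TwoB k
  twoA : ∀ a ∈ V, a ≠ 1 → L.TwoA (k * a)

section WithK

variable {w : Fin 4 → F} (hw : hermForm 4 F 2 w w = 0) (hw0 : w ≠ 0)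
variable (I : In L) (hV : Four L V) (hK : KGrp L (r0 F) (rv w) K)
include hK

omit hF [Fintype F] in
theorem V_le (hV : Four L V) {a : G} (ha : a ∈ V) : a ∈ K := by
  obtain ⟨c, hc⟩ := hV.lab a ha
  refine (hK.mem_Q a (hV.le ha)).2 ⟨c, 0, ?_⟩
  rw [hc, zero_smul, add_zero]

omit hF [Fintype F] in
theorem lab_mem {x : G} (hx : x ∈ Q) {e : F} (h : L.v x = e • r0 F) : x ∈ K := by
  refine (hK.mem_Q x hx).2 ⟨e, 0, ?_⟩
  rw [h, zero_smul, add_zero]

omit hF [Fintype F] in
theorem z_mem : z ∈ K := by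
  refine (hK.mem_Q z L.large.z_mem).2 ⟨0, 0, ?_⟩
  rw [L.v_z, zero_smul, zero_smul, add_zero]

omit hF [Fintype F] hK in
theorem lab_cases (hV : Four L V) {x : G} (hx : x ∈ Q) {e : F} (h : L.v x = e • r0 F) :
    ∃ a ∈ V, x = a ∨ x = z * a := by
  obtain ⟨a, ha, hal⟩ := hV.surj e
  refine ⟨a, ha, ?_⟩
  rcases (L.v_eq hx (hV.le ha)).1 (by rw [h, hal]) with h1 | h1
  · exact Or.inl h1
  · right
    rw [h1, L.large.comm_z a (hV.le ha)]

omit hF [Fintype F] in
theorem mul_mem_Q {x y : G} (hx : x ∈ K) (hy : y ∈ K) (hxQ : x ∉ Q) (hyQ : y ∉ Q) :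
    x * y ∈ Q := by
  apply L.mem_Q _ (L.M_comm _ (M.mul_mem (hK.le hx) (hK.le hy)))
  intro u
  have h1 : L.ρ x = L.ρ y := by
    funext u
    rw [hK.act x hx hxQ, hK.act y hy hyQ]
  rw [L.ρ_mul (L.M_comm x (hK.le hx)) (L.M_comm y (hK.le hy)), h1,
    ← L.ρ_mul (L.M_comm y (hK.le hy)) (L.M_comm y (hK.le hy)), hK.sq y hy, L.ρ_one]

omit hF [Fintype F] in
theorem mul_not_mem {x y : G} (hxQ : x ∉ Q) (hyQ : y ∈ Q) : x * y ∉ Q := by
  intro h
  exact hxQ ((Subgroup.mul_mem_cancel_right Q hyQ).1 h)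

include I

omit hF [Fintype F] in
/-- exactly one of `x`, `z x` is in `2A` -/
theorem twoB_of_not {x : G} (hx : x ∈ K) (hxQ : x ∉ Q) (h : ¬ L.TwoA x) :
    L.TwoB x ∧ L.TwoA (z * x) := by
  rcases hK.cls x hx hxQ with h1 | h1
  · exact absurd h1.1 h
  · exact h1

omit hF [Fintype F] in
theorem twoA_z {x : G} (hx : x ∈ K) (hxQ : x ∉ Q) : L.TwoA (z * x) ↔ ¬ L.TwoA x := by
  constructor
  · intro h h'
    rcases hK.cls x hx hxQ with h1 | h1
    · exact I.disj _ h h1.2
    · exact I.disj _ h' h1.1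
  · intro h
    exact (twoB_of_not I hK hx hxQ h).2

omit hF [Fintype F] in
theorem twoA_of_twoB {x : G} (hx : x ∈ K) (hxQ : x ∉ Q) (h : L.TwoB x) : L.TwoA (z * x) :=
  (twoA_z I hK hx hxQ).2 fun h' => I.disj _ h' h

omit hF [Fintype F] in
theorem twoB_z {x : G} (hx : x ∈ K) (hxQ : x ∉ Q) (h : L.TwoA x) : L.TwoB (z * x) := by
  rcases hK.cls x hx hxQ with h1 | h1
  · exact h1.2
  · exact absurd h1.1 (I.disj _ h)

include hw in
/-- (a) -/
theorem chi_in {k n : G} (hn : ∀ y, y ∈ K ↔ n * y * n⁻¹ ∈ K)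
    (hnk : n * k * n⁻¹ = z) {y : G} (hy : y ∈ K) (hyn : n * y * n⁻¹ ∈ Q) (h1 : y ≠ 1)
    (h2 : y ≠ k) : L.TwoA (k * y) ↔ L.TwoA y := by
  have e : n * (k * y) * n⁻¹ = z * (n * y * n⁻¹) := by rw [← hnk]; group
  rw [← L.twoA_conj_iff n (x := k * y), ← L.twoA_conj_iff n (x := y), e]
  set y' := n * y * n⁻¹ with hy'
  have hy'K : y' ∈ K := (hn y).1 hy
  have hz := L.large.z_mem
  have h3 : L.v (z * y') = L.v y' := by rw [L.v_mul z hz y' hyn, L.v_z, zero_add]
  have h4 : L.v y' ≠ 0 := by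
    intro h
    rcases (L.v_eq_zero y' hyn).1 h with h5 | h5
    · apply h1
      calc y = n⁻¹ * y' * n := by rw [hy']; group
        _ = 1 := by rw [h5]; group
    · apply h2
      calc y = n⁻¹ * y' * n := by rw [hy']; group
        _ = n⁻¹ * (n * k * n⁻¹) * n := by rw [h5, hnk]
        _ = k := by group
  have h5 : H (L.v y') (L.v y') = 0 := (L.sq_iff y' hyn).1 (hK.sq y' hy'K)
  rw [twoA_iff hF I (Q.mul_mem hz hyn) (by rw [h3]; exact h5) (by rw [h3]; exact h4),
    twoA_iff hF I hyn h5 h4, h3]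

omit hF [Fintype F] in
/-- (b) -/
theorem chi_out {k n : G} (hn : ∀ y, y ∈ K ↔ n * y * n⁻¹ ∈ K)
    (hnk : n * k * n⁻¹ = z) {y : G} (hy : y ∈ K) (hyn : n * y * n⁻¹ ∉ Q) :
    L.TwoA (k * y) ↔ ¬ L.TwoA y := by
  have e : n * (k * y) * n⁻¹ = z * (n * y * n⁻¹) := by rw [← hnk]; group
  rw [← L.twoA_conj_iff n (x := k * y), ← L.twoA_conj_iff n (x := y), e]
  exact twoA_z I hK ((hn y).1 hy) hyn

include hV in
include hw in
/-- existence of the selected elements in a coset -/
theorem exists_sel_aux {k : G} (hk : k ∈ K) (hkQ : k ∉ Q) (hB : L.TwoB k) :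
    ∃ l ∈ Q, (∃ e : F, L.v l = e • r0 F) ∧ Sel L V K (k * l) := by
  obtain ⟨n, hn, hnk⟩ := hK.conj k hk hB
  have hkV : ∀ a ∈ V, a ≠ k := by
    rintro a ha rfl
    exact hkQ (hV.le ha)
  by_cases hall : ∀ a ∈ V, n * a * n⁻¹ ∈ Q
  · refine ⟨1, Q.one_mem, ⟨0, by rw [L.v_one, zero_smul]⟩, ?_⟩
    rw [mul_one]
    refine ⟨hk, hkQ, hB, fun a ha ha1 => ?_⟩
    rw [chi_in hF hw I hK hn hnk (V_le hK hV ha) (hall a ha) ha1 (hkV a ha)]
    exact twoA_four hF hV ha ha1
  · push Not at hall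
    obtain ⟨b, hb, hbn⟩ := hall
    have hb1 : b ≠ 1 := by
      rintro rfl
      apply hbn
      rw [mul_one, mul_inv_cancel]
      exact Q.one_mem
    -- another element of `V`
    obtain ⟨ω, hω⟩ := exists_omega hF
    obtain ⟨w0, w1, -, -, -, -⟩ := omega_facts hF hω
    obtain ⟨cb, hcb0, hcb⟩ := four_lab_ne hF hV hb hb1
    obtain ⟨b', hb', hb'l⟩ := hV.surj (ω * cb)
    have hmulcb : ω * cb ≠ 0 := mul_ne_zero w0 hcb0
    have hb'1 : b' ≠ 1 := by
      rintro rfl
      rw [L.v_one] at hb'l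
      have := congrFun hb'l 4
      simp [r0, w0, hcb0] at this
    have hb'b : b' ≠ b := by
      rintro rfl
      rw [hb'l] at hcb
      have := congrFun hcb 4
      simp only [r0, Pi.smul_apply, smul_eq_mul] at this
      have h3 : cb * (ω - 1) = 0 := by
        simp at this
        linear_combination this
      rcases mul_eq_zero.1 h3 with h | h
      · exact hcb0 h
      · exact w1 (sub_eq_zero.1 h)
    have bb : b * b = 1 := four_sq hF hV hb
    have conjmul : ∀ x y : G, n * (x * y) * n⁻¹ = (n * x * n⁻¹) * (n * y * n⁻¹) := by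
      intro x y; group
    have h1 : ∃ a ∈ V, a ≠ 1 ∧ a ≠ b ∧ n * a * n⁻¹ ∈ Q := by
      by_cases h : n * b' * n⁻¹ ∈ Q
      · exact ⟨b', hb', hb'1, hb'b, h⟩
      · refine ⟨b * b', V.mul_mem hb hb', ?_, ?_, ?_⟩
        · intro h1
          apply hb'b
          calc b' = b * (b * b') := by rw [← mul_assoc, bb, one_mul]
            _ = b := by rw [h1, mul_one]
        · intro h1
          apply hb'1
          calc b' = b * (b * b') := by rw [← mul_assoc, bb, one_mul]
            _ = 1 := by rw [h1, bb]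
        · rw [conjmul]
          exact mul_mem_Q hK ((hn b).1 (V_le hK hV hb)) ((hn b').1 (V_le hK hV hb')) hbn h
    obtain ⟨a, ha, ha1, hab, han⟩ := h1
    have aa : a * a = 1 := four_sq hF hV ha
    have habn : n * (a * b) * n⁻¹ ∉ Q := by
      rw [conjmul]
      intro h
      exact hbn ((Subgroup.mul_mem_cancel_left Q han).1 h)
    have habK := V_le hK hV (V.mul_mem ha hb)
    have hab1 : a * b ≠ 1 := by
      intro h
      apply hab
      calc a = (a * b) * b := by rw [mul_assoc, bb, mul_one]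
        _ = b := by rw [h, one_mul]
    -- the values
    have ta : L.TwoA (k * a) := by
      rw [chi_in hF hw I hK hn hnk (V_le hK hV ha) han ha1 (hkV a ha)]
      exact twoA_four hF hV ha ha1
    have tb : ¬ L.TwoA (k * b) := by
      rw [chi_out I hK hn hnk (V_le hK hV hb) hbn]
      exact fun h => h (twoA_four hF hV hb hb1)
    have tab : ¬ L.TwoA (k * (a * b)) := by
      rw [chi_out I hK hn hnk habK habn]
      exact fun h => h (twoA_four hF hV (V.mul_mem ha hb) hab1)
    have hzQ := L.large.z_mem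
    have kz : k * z = z * k := hK.comm k hk z (z_mem hK)
    have mk : ∀ x ∈ V, k * x ∈ K ∧ k * x ∉ Q := fun x hx =>
      ⟨K.mul_mem hk (V_le hK hV hx), mul_not_mem hK hkQ (hV.le hx)⟩
    obtain ⟨ea, hea⟩ := hV.lab a ha
    refine ⟨z * a, Q.mul_mem hzQ (hV.le ha),
      ⟨ea, by rw [L.v_mul z hzQ a (hV.le ha), L.v_z, zero_add, hea]⟩, ?_⟩
    have e1 : k * (z * a) = z * (k * a) := by rw [← mul_assoc, kz, mul_assoc]
    rw [e1]
    refine ⟨K.mul_mem (z_mem hK) (mk a ha).1, ?_, twoB_z I hK (mk a ha).1 (mk a ha).2 ta, ?_⟩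
    · intro h
      exact (mk a ha).2 ((Subgroup.mul_mem_cancel_left Q hzQ).1 h)
    · intro x hx hx1
      rw [mul_assoc, mul_assoc, twoA_z I hK (mk _ (V.mul_mem ha hx)).1 (mk _ (V.mul_mem ha hx)).2]
      have hx' : x = a ∨ x = b ∨ x = a * b := by
        obtain ⟨cx, hcx0, hcx⟩ := four_lab_ne hF hV hx hx1
        obtain ⟨ca, hca0, hca⟩ := four_lab_ne hF hV ha ha1
        have hne : ca ≠ cb := by
          intro h
          apply hab
          exact four_eq hF hV ha hb (by rw [hca, hcb, h])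
        -- three nonzero elements
        by_cases h1 : cx = ca
        · left
          exact four_eq hF hV hx ha (by rw [hca, hcx, h1])
        by_cases h2 : cx = cb
        · right; left
          exact four_eq hF hV hx hb (by rw [hcb, hcx, h2])
        right; right
        apply four_eq hF hV hx (V.mul_mem ha hb)
        rw [L.v_mul a (hV.le ha) b (hV.le hb), hcx, hca, hcb, ← add_smul]
        congr 1
        -- `cx = ca + cb`
        have ha3 := pow_three hF hca0
        have hb3 := pow_three hF hcb0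
        have hx3 := pow_three hF hcx0
        have q1 : ca ^ 2 + ca * cb + cb ^ 2 = 0 := by
          have : (ca - cb) * (ca ^ 2 + ca * cb + cb ^ 2) = 0 := by linear_combination ha3 - hb3
          exact (mul_eq_zero.1 this).resolve_left (sub_ne_zero.2 hne)
        have q2 : cx ^ 2 + cx * ca + ca ^ 2 = 0 := by
          have : (cx - ca) * (cx ^ 2 + cx * ca + ca ^ 2) = 0 := by linear_combination hx3 - ha3
          exact (mul_eq_zero.1 this).resolve_left (sub_ne_zero.2 h1)
        have q3 : (cx - cb) * (cx + ca + cb) = 0 := by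
          linear_combination q2 - q1
        have q4 := (mul_eq_zero.1 q3).resolve_left (sub_ne_zero.2 h2)
        have h2' := two_eq_zero hF
        linear_combination q4 - (ca + cb) * h2'
      rcases hx' with rfl | rfl | rfl
      · rw [aa, mul_one]
        exact fun h => I.disj _ h hB
      · exact tab
      · rw [← mul_assoc a a b, aa, one_mul]
        exact tb

include hV in
include hw in
theorem exists_sel {k : G} (hk : k ∈ K) (hkQ : k ∉ Q) :
    ∃ l ∈ Q, (∃ e : F, L.v l = e • r0 F) ∧ Sel L V K (k * l) := by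
  rcases hK.cls k hk hkQ with h | h
  · have hzQ := L.large.z_mem
    have kz : k * z = z * k := hK.comm k hk z (z_mem hK)
    obtain ⟨l, hl, ⟨e, he⟩, hS⟩ := exists_sel_aux hF hw I hV hK
      (K.mul_mem hk (z_mem hK)) (mul_not_mem hK hkQ hzQ) (by rw [kz]; exact h.2)
    refine ⟨z * l, Q.mul_mem hzQ hl, ⟨e, ?_⟩, by rw [← mul_assoc]; exact hS⟩
    rw [L.v_mul z hzQ l hl, L.v_z, zero_add, he]
  · exact exists_sel_aux hF hw I hV hK hk hkQ h.1

include hV in
/-- uniqueness of the selected element in a coset -/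
theorem sel_unique {k l : G} (hk : Sel L V K k) (hl : l ∈ Q) {e : F} (he : L.v l = e • r0 F)
    (hkl : Sel L V K (k * l)) : l = 1 := by
  obtain ⟨a, ha, h | h⟩ := lab_cases hV hl he
  · by_contra h1
    rw [h] at hkl h1
    exact I.disj _ (hk.twoA a ha h1) hkl.twoB
  · exfalso
    rw [h] at hkl
    have kz : k * z = z * k := hK.comm k hk.mem z (z_mem hK)
    have e1 : k * (z * a) = z * (k * a) := by rw [← mul_assoc, kz, mul_assoc]
    rw [e1] at hkl
    have mk : ∀ x ∈ V, k * x ∈ K ∧ k * x ∉ Q := fun x hx =>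
      ⟨K.mul_mem hk.mem (V_le hK hV hx), mul_not_mem hK hk.out (hV.le hx)⟩
    by_cases ha1 : a = 1
    · rw [ha1, mul_one] at hkl
      exact I.disj _ (twoA_of_twoB I hK hk.mem hk.out hk.twoB) hkl.twoB
    · -- another element of `V`
      obtain ⟨ω, hω⟩ := exists_omega hF
      obtain ⟨w0, w1, -, -, -, -⟩ := omega_facts hF hω
      obtain ⟨ca, hca0, hca⟩ := four_lab_ne hF hV ha ha1
      obtain ⟨b, hb, hbl⟩ := hV.surj (ω * ca)
      have hb1 : b ≠ 1 := by
        rintro rfl
        rw [L.v_one] at hbl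
        have := congrFun hbl 4
        simp [r0, w0, hca0] at this
      have hba : b ≠ a := by
        rintro rfl
        rw [hbl] at hca
        have := congrFun hca 4
        simp only [r0, Pi.smul_apply, smul_eq_mul] at this
        have h3 : ca * (ω - 1) = 0 := by
          simp at this
          linear_combination this
        rcases mul_eq_zero.1 h3 with h | h
        · exact hca0 h
        · exact w1 (sub_eq_zero.1 h)
      have aa : a * a = 1 := four_sq hF hV ha
      have h2 := hkl.twoA b hb hb1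
      rw [mul_assoc, mul_assoc, twoA_z I hK (mk _ (V.mul_mem ha hb)).1
        (mk _ (V.mul_mem ha hb)).2] at h2
      apply h2
      apply hk.twoA _ (V.mul_mem ha hb)
      intro h3
      apply hba
      calc b = a * (a * b) := by rw [← mul_assoc, aa, one_mul]
        _ = a := by rw [h3, mul_one]

include hV in
include hw hw0 in
/-- the label of the product of two selected elements -/
theorem lab_step {k k₁ n : G} (hk : Sel L V K k) (hk₁ : Sel L V K k₁)
    (hn : ∀ y, y ∈ K ↔ n * y * n⁻¹ ∈ K) (hnk : n * k * n⁻¹ = z) {c e : F} (hc : c ≠ 0)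
    (h : L.v (k * k₁) = c • rv w + e • r0 F) : e = 0 ∧ n * (k * k₁) * n⁻¹ ∉ Q := by
  have hb : k * k₁ ∈ Q := mul_mem_Q hK hk.mem hk₁.mem hk.out hk₁.out
  have hkk : k * k = 1 := hK.sq k hk.mem
  -- the elements of `V`
  have hVn : ∀ a ∈ V, n * a * n⁻¹ ∈ Q := by
    intro a ha
    by_contra hcon
    by_cases ha1 : a = 1
    · apply hcon
      rw [ha1, mul_one, mul_inv_cancel]
      exact Q.one_mem
    · have := hk.twoA a ha ha1
      rw [chi_out I hK hn hnk (V_le hK hV ha) hcon] at this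
      exact this (twoA_four hF hV ha ha1)
  have conjmul : ∀ x y : G, n * (x * y) * n⁻¹ = (n * x * n⁻¹) * (n * y * n⁻¹) := by
    intro x y; group
  have labmul : ∀ (a : G) (ha : a ∈ V) (f : F), L.v a = f • r0 F →
      (L.TwoA (k * k₁ * a) ↔ e + f = 0) := by
    intro a ha f hf
    have h1 : L.v (k * k₁ * a) = c • rv w + (e + f) • r0 F := by
      rw [L.v_mul _ hb a (hV.le ha), h, hf, add_assoc, ← add_smul]
    rw [twoA_iff hF I (Q.mul_mem hb (hV.le ha)) (by rw [h1]; exact H_comb hF hw _ _)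
      (by rw [h1]; exact comb_ne hw0 hc _), h1]
    exact isR_comb hF hw hw0 hc _
  have he : e = 0 := by
    by_contra he
    obtain ⟨a, ha, hal⟩ := hV.surj e
    obtain ⟨ω, hω⟩ := exists_omega hF
    obtain ⟨w0, w1, -, -, -, -⟩ := omega_facts hF hω
    obtain ⟨a', ha', ha'l⟩ := hV.surj (ω * e)
    have h1 : L.TwoA (k * k₁ * a) := (labmul a ha e hal).2 (add_self hF e)
    have h2 : ¬ L.TwoA (k * k₁ * a') := by
      rw [labmul a' ha' _ ha'l]
      intro h3
      have h4 : e = ω * e := eq_of_add_eq_zero hF h3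
      have h5 : e * (ω - 1) = 0 := by linear_combination -h4
      rcases mul_eq_zero.1 h5 with h | h
      · exact he h
      · exact w1 (sub_eq_zero.1 h)
    have a1 : a ≠ 1 := by
      rintro rfl
      rw [L.v_one] at hal
      have := congrFun hal 4
      simp [r0, Ne.symm he] at this
    have a'1 : a' ≠ 1 := by
      rintro rfl
      rw [L.v_one] at ha'l
      have := congrFun ha'l 4
      simp [r0, he, w0] at this
    have m1 : ∀ x ∈ V, k₁ * x ∈ K := fun x hx => K.mul_mem hk₁.mem (V_le hK hV hx)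
    have o1 : ∀ x ∈ V, k₁ * x ∉ Q := fun x hx => mul_not_mem hK hk₁.out (hV.le hx)
    by_cases h3 : n * k₁ * n⁻¹ ∈ Q
    · apply h2
      rw [mul_assoc, chi_in hF hw I hK hn hnk (m1 a' ha')]
      · exact hk₁.twoA a' ha' a'1
      · rw [conjmul]
        exact Q.mul_mem h3 (hVn a' ha')
      · intro h4
        apply o1 a' ha'
        rw [h4]
        exact Q.one_mem
      · intro h4
        have h5 : k * k₁ = a' := by
          have a'a' := four_sq hF hV ha'
          calc k * k₁ = (k₁ * a') * k₁ := by rw [h4]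
            _ = (a' * k₁) * k₁ := by rw [hK.comm _ hk₁.mem _ (V_le hK hV ha')]
            _ = a' := by rw [mul_assoc, hK.sq _ hk₁.mem, mul_one]
        rw [h5, ha'l] at h
        have h6 := congrArg top h
        rw [SixGeo.top_smul, top_r0, smul_zero, comb_eq, top_emb4] at h6
        exact (smul_ne_zero hc hw0) h6.symm
    · rw [mul_assoc, chi_out I hK hn hnk (m1 a ha)] at h1
      · exact h1 (hk₁.twoA a ha a1)
      · rw [conjmul]
        intro h4
        exact h3 ((Subgroup.mul_mem_cancel_right Q (hVn a ha)).1 h4)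
  refine ⟨he, ?_⟩
  intro hcon
  have h1 : L.TwoA (k * k₁) := by
    have := (labmul 1 V.one_mem 0 (by rw [L.v_one, zero_smul])).2 (by rw [he, add_zero])
    rwa [mul_one] at this
  have h2 : L.TwoA (k * (k * k₁)) := by
    rw [chi_in hF hw I hK hn hnk (K.mul_mem hk.mem hk₁.mem) hcon]
    · exact h1
    · intro h3
      rw [h3, L.v_one] at h
      exact comb_ne hw0 hc _ h.symm
    · intro h3
      apply hk.out
      rw [← h3]; exact hb
  rw [← mul_assoc, hkk, one_mul] at h2
  exact I.disj _ h2 hk₁.twoB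

include hV in
include hw hw0 in
/-- **the selected elements** -/
theorem exists_four {ω : F} (hω : ω ^ 2 + ω + 1 = 0) : ∃ x : F → G, (∀ c, Sel L V K (x c)) ∧
    (∀ c d, x c * x d ∈ Q ∧ L.v (x c * x d) = (c + d) • rv w) ∧
    (∀ k, Sel L V K k → ∃ c, k = x c) ∧
    x 0 * x 1 * x ω * x (ω ^ 2) = z := by
  obtain ⟨w0, w1, w2, w3, -, -⟩ := omega_facts hF hω
  obtain ⟨k', hk', hk'Q⟩ := hK.exists_not_mem
  obtain ⟨l₀, hl₀, -, hS₀⟩ := exists_sel hF hw I hV hK hk' hk'Q
  set k := k' * l₀ with hkdef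
  obtain ⟨n, hn, hnk⟩ := hK.conj k hS₀.mem hS₀.twoB
  have hkk : k * k = 1 := hK.sq k hS₀.mem
  have key : ∀ c : F, ∃ y, Sel L V K y ∧ k * y ∈ Q ∧ L.v (k * y) = c • rv w := by
    intro c
    obtain ⟨q, hq, hql⟩ := L.v_surj (c • rv w)
    have hqK : q ∈ K := (hK.mem_Q q hq).2 ⟨0, c, by rw [hql, zero_smul, zero_add]⟩
    obtain ⟨l, hl, ⟨e, he⟩, hS⟩ := exists_sel hF hw I hV hK (K.mul_mem hS₀.mem hqK)
      (mul_not_mem hK hS₀.out hq)
    have h1 : k * (k * q * l) = q * l := by
      rw [← mul_assoc, ← mul_assoc, hkk, one_mul]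
    have h2 : L.v (k * (k * q * l)) = c • rv w + e • r0 F := by
      rw [h1, L.v_mul q hq l hl, hql, he]
    have h3 : k * (k * q * l) ∈ Q := by rw [h1]; exact Q.mul_mem hq hl
    by_cases hc : c = 0
    · refine ⟨k, hS₀, by rw [hkk]; exact Q.one_mem, ?_⟩
      rw [hkk, L.v_one, hc, zero_smul]
    · refine ⟨k * q * l, hS, h3, ?_⟩
      rw [h2, (lab_step hF hw hw0 I hV hK hS₀ hS hn hnk hc h2).1, zero_smul, add_zero]
  choose x hxS hxQ hxl using key
  have hcomm : ∀ a ∈ K, ∀ b ∈ K, a * b = b * a := hK.comm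
  have hprod : ∀ c d, x c * x d = (k * x c) * (k * x d) := by
    intro c d
    calc x c * x d = (k * k) * (x c * x d) := by rw [hkk, one_mul]
      _ = k * (k * x c) * x d := by group
      _ = k * (x c * k) * x d := by rw [hcomm k hS₀.mem (x c) (hxS c).mem]
      _ = _ := by group
  have hlab : ∀ c d, x c * x d ∈ Q ∧ L.v (x c * x d) = (c + d) • rv w := by
    intro c d
    rw [hprod]
    refine ⟨Q.mul_mem (hxQ c) (hxQ d), ?_⟩
    rw [L.v_mul _ (hxQ c) _ (hxQ d), hxl, hxl, add_smul]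
  have huniq : ∀ y, Sel L V K y → ∀ c, (∃ e : F, L.v (k * y) = c • rv w + e • r0 F) → y = x c := by
    rintro y hy c ⟨e, he⟩
    have h1 : x c * y ∈ Q := mul_mem_Q hK (hxS c).mem hy.mem (hxS c).out hy.out
    have h2 : x c * y = (k * x c) * (k * y) := by
      calc x c * y = (k * k) * (x c * y) := by rw [hkk, one_mul]
        _ = k * (k * x c) * y := by group
        _ = k * (x c * k) * y := by rw [hcomm k hS₀.mem (x c) (hxS c).mem]
        _ = _ := by group
    have h3 : L.v (x c * y) = e • r0 F := by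
      rw [h2, L.v_mul _ (hxQ c) _ (mul_mem_Q hK hS₀.mem hy.mem hS₀.out hy.out), hxl, he,
        ← add_assoc, L.add_self, zero_add]
    have hxx : x c * x c = 1 := hK.sq _ (hxS c).mem
    have h4 : x c * (x c * y) = y := by rw [← mul_assoc, hxx, one_mul]
    have h5 := sel_unique hF I hV hK (hxS c) h1 h3 (by rw [h4]; exact hy)
    rw [h5, mul_one] at h4
    exact h4.symm
  refine ⟨x, hxS, hlab, ?_, ?_⟩
  · intro y hy
    have h1 : k * y ∈ Q := mul_mem_Q hK hS₀.mem hy.mem hS₀.out hy.out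
    obtain ⟨a, b, hab⟩ := (hK.mem_Q _ h1).1 (K.mul_mem hS₀.mem hy.mem)
    exact ⟨b, huniq y hy b ⟨a, by rw [hab, add_comm]⟩⟩
  · have hx0 : x 0 = k := by
      refine (huniq k hS₀ 0 ⟨0, ?_⟩).symm
      rw [hkk, L.v_one, zero_smul, zero_smul, add_zero]
    have hb : ∀ c : F, c ≠ 0 → n * (k * x c) * n⁻¹ ∉ Q := fun c hc =>
      (lab_step hF hw hw0 I hV hK hS₀ (hxS c) hn hnk (e := 0) hc
        (by rw [hxl, zero_smul, add_zero])).2
    have e1 : x 0 * x 1 * x ω * x (ω ^ 2) = (k * x 1) * ((k * x ω) * (k * x (ω ^ 2))) := by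
      rw [hx0, ← hprod]
      group
    rw [e1]
    have hsum : L.v ((k * x 1) * ((k * x ω) * (k * x (ω ^ 2)))) = 0 := by
      rw [L.v_mul _ (hxQ _) _ (Q.mul_mem (hxQ _) (hxQ _)), L.v_mul _ (hxQ _) _ (hxQ _), hxl, hxl,
        hxl, ← add_smul, ← add_smul]
      have : (1 : F) + (ω + ω ^ 2) = 0 := by linear_combination hω
      rw [this, zero_smul]
    rcases (L.v_eq_zero _ (Q.mul_mem (hxQ _) (Q.mul_mem (hxQ _) (hxQ _)))).1 hsum with h | h
    · exfalso
      have conjmul : ∀ x y : G, n * (x * y) * n⁻¹ = (n * x * n⁻¹) * (n * y * n⁻¹) := by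
        intro x y; group
      have hKm : ∀ c, n * (k * x c) * n⁻¹ ∈ K := fun c =>
        (hn _).1 (K.mul_mem hS₀.mem (hxS c).mem)
      have h1 : n * ((k * x ω) * (k * x (ω ^ 2))) * n⁻¹ ∈ Q := by
        rw [conjmul]
        exact mul_mem_Q hK (hKm _) (hKm _) (hb _ w0) (hb _ w2)
      have h2 : n * ((k * x 1) * ((k * x ω) * (k * x (ω ^ 2)))) * n⁻¹ ∉ Q := by
        rw [conjmul]
        exact mul_not_mem hK (hb 1 one_ne_zero) h1
      apply h2
      rw [h, mul_one, mul_inv_cancel]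
      exact Q.one_mem
    · exact h

end WithK

end

end Cfsg.Agent.R08.SixK
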