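import Cfsg.Agent.R08.SixMap
import Cfsg.Agent.R08.SixK

/-!
# R08, piece (6), concrete part: `USix.LocAt` for `C_G(V) / V`
-/

set_option autoImplicit false
set_option linter.unusedSectionVars false

namespace Cfsg.Agent.R08.SixLoc

open Cfsg Cfsg.Agent.R08.Iface Cfsg.Agent.R08.SixIn Cfsg.Agent.LieClassical.HermBasic
open Cfsg.Agent.ClassicalGeometry.UnitTransv Cfsg.Agent.SporadicStructure.UnitTwo
open Cfsg.Agent.R08.SixGeo Cfsg.Agent.R08.SixHom Cfsg.Agent.R08.SixMap Cfsg.Agent.R08.SixK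

section Field

variable {F : Type*} [Field F] [Fintype F] (hF : Fintype.card F = 2 ^ 2)
include hF

theorem T_ne_one {w : Fin 4 → F} (hw : hermForm 4 F 2 w w = 0) (h0 : w ≠ 0) : T hF w hw ≠ 1 := by
  intro h
  obtain ⟨x, hx⟩ := exists_herm_ne_zero hF h0
  have h1 : hermForm 4 F 2 x w ≠ 0 := fun h2 => hx (herm_eq_zero_swap hF h2)
  have h2 := act_T hF w hw x
  rw [h, act_one] at h2
  have h3 : hermForm 4 F 2 x w • w = 0 := left_eq_add.1 h2
  exact (smul_ne_zero h1 h0) h3

theorem isR_self {r : Fin 6 → F} (hr : IsR r) : H r r = 0 := by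
  rw [H_self_eq hF]
  rcases hr with h | ⟨h, -⟩
  · rw [h]
    push_cast
    exact two_eq_zero hF
  · rw [h]
    push_cast
    linear_combination 3 * two_eq_zero hF

theorem isR_ne {r : Fin 6 → F} (hr : IsR r) : r ≠ 0 := by
  classical
  rintro rfl
  have : wt (0 : Fin 6 → F) = 0 := by
    rw [wt, Finset.card_eq_zero]
    ext i
    simp
  rcases hr with h | ⟨h, -⟩
  · omega
  · omega

theorem H_add_right (u w w' : Fin 6 → F) : H u (w + w') = H u w + H u w' :=
  herm_add_right hF u w w'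

omit hF [Fintype F] in
theorem H_add_left (u u' w : Fin 6 → F) : H (u + u') w = H u w + H u' w :=
  herm_add_left u u' w

theorem H_symm {u w : Fin 6 → F} (h : H u w = 0) : H w u = 0 := herm_eq_zero_swap hF h

theorem tr_smul {c : F} (hc : c ≠ 0) (r x : Fin 6 → F) : tr (c • r) x = tr r x := by
  rw [tr, tr, H_smul_right hF, smul_smul]
  congr 2
  have := pow_three hF hc
  linear_combination (H x r) * this

theorem tr_comm {r r' : Fin 6 → F} (h : H r r' = 0) (x : Fin 6 → F) :
    tr r (tr r' x) = tr r' (tr r x) := by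
  have h' := H_symm hF h
  simp only [tr, H_add_left, H_smul_left hF, h, h', mul_zero, add_zero]
  rw [add_right_comm]

/-- the action of `tr r0 (tr r')` on `r0 ^ ⊥ / r0` -/
theorem tr_r0 {r' : Fin 6 → F} (h0 : H (r0 F) r' = 0)
    (ht : hermForm 4 F 2 (top r') (top r') = 0) (x : Fin 4 → F) (b : F) :
    ∃ c, tr (r0 F) (tr r' (emb4 x b)) = emb4 (act (T hF (top r') ht) x) c := by
  have hr' := perp_r0 hF (H_symm hF h0)
  have e1 : tr r' (emb4 x b) = emb4 (x + hermForm 4 F 2 x (top r') • top r')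
      (b + hermForm 4 F 2 x (top r') * r' 4) := by
    have e2 : H (emb4 x b) r' = hermForm 4 F 2 x (top r') := by
      conv_lhs => rw [hr']
      rw [H_emb4 hF]
    rw [tr, e2, emb4_add, emb4_smul, ← hr']
  rw [e1, tr, emb4_add_r0, act_T]
  exact ⟨_, rfl⟩

/-- `r0` in the span of `r1`, `r2`: the action on `r0 ^ ⊥ / r0` -/
theorem tr_span {r₁ r₂ : Fin 6 → F} (h12 : H r₁ r₂ = 0) {a b : F} (ha : a ≠ 0) (hb : b ≠ 0) (h : r0 F = a • r₁ + b • r₂) {u : Fin 6 → F}
    (hu : H u (r0 F) = 0) : ∃ c : F, tr r₁ (tr r₂ u) = u + c • r0 F := by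
  have h21 := H_symm hF h12
  rw [h, H_add_right hF, H_smul_right hF, H_smul_right hF] at hu
  have ha3 := pow_three hF ha
  have hb3 := pow_three hF hb
  refine ⟨H u r₁ * a ^ 2, ?_⟩
  have h2 := two_eq_zero hF
  simp only [tr, H_add_left, H_smul_left hF, h21, mul_zero, add_zero]
  rw [h]
  -- `a ^ 2 * H u r₁ = b ^ 2 * H u r₂`
  have e1 : H u r₂ = H u r₁ * a ^ 2 * b := by
    linear_combination b * hu - (H u r₂) * hb3 - (H u r₁ * a ^ 2 * b) * h2
  rw [e1]
  funext i
  simp only [Pi.add_apply, Pi.smul_apply, smul_eq_mul]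
  linear_combination -(H u r₁ * r₁ i) * ha3

end Field

section

variable {F : Type*} [Field F] [Fintype F] (hF : Fintype.card F = 2 ^ 2)
variable {G : Type*} [Group G] {Q M : Subgroup G} {z : G} {L : Lab F Q M z} {V : Subgroup G}
variable {Y : Type*} [Group Y] {π : ↥(Subgroup.centralizer (V : Set G)) →* Y}
variable {z' : ↥(Subgroup.centralizer (V : Set G))}
include hF

/-- lifts of the members of the class -/
structure Lift (L : Lab F Q M z) (V : Subgroup G) (g : G) : Prop where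
  cvz : CVz V z g
  twoB : L.TwoB g
  sq : g * g = 1
  twoA : ∀ a ∈ V, a ≠ 1 → L.TwoA (g * a)

theorem exists_lift (I : In L) (hV : Four L V) (q : Quo V z π z')
    (y : ↥(Subgroup.centralizer ({π z'} : Set Y))) (hy : (y : Y) ∈ conjugatesOf (π z')) :
    ∃ g : CV V z, q.pr g = y ∧ Lift L V g := by
  rw [conjugatesOf, Set.mem_ofPred_eq, isConj_iff] at hy
  obtain ⟨c, hc⟩ := hy
  obtain ⟨h, rfl⟩ := q.surj c
  have h1 : π (h * z' * h⁻¹) = y := by rw [map_mul, map_mul, map_inv, hc]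
  have hg := CVz_of_lift hF I hV q (h * z' * h⁻¹) (by rw [h1]; exact y.2)
  have e : ((h * z' * h⁻¹ : ↥(Subgroup.centralizer (V : Set G))) : G) =
      (h : G) * z * (h : G)⁻¹ := by rw [← q.z']; rfl
  have hh := mem_cent_iff.1 h.2
  refine ⟨⟨_, hg⟩, Subtype.ext h1, hg, ⟨h, e⟩, ?_, ?_⟩
  · show ((h * z' * h⁻¹ : ↥(Subgroup.centralizer (V : Set G))) : G) * _ = 1
    rw [e]
    have := L.large.z_sq
    calc (h : G) * z * (h : G)⁻¹ * ((h : G) * z * (h : G)⁻¹) = h * (z * z) * (h : G)⁻¹ := by group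
      _ = 1 := by rw [this]; group
  · intro a ha ha1
    show L.TwoA (((h * z' * h⁻¹ : ↥(Subgroup.centralizer (V : Set G))) : G) * a)
    have e2 : (h : G) * z * (h : G)⁻¹ * a = h * (z * a) * (h : G)⁻¹ := by
      have := hh a ha
      calc (h : G) * z * (h : G)⁻¹ * a = h * z * (h : G)⁻¹ * (a * h) * (h : G)⁻¹ := by group
        _ = h * z * (h : G)⁻¹ * (h * a) * (h : G)⁻¹ := by rw [this]
        _ = _ := by group
    rw [e, e2, L.twoA_conj_iff]
    exact twoA_z_mul hF hV ha ha1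

/-- a lift in `Q` is `z` -/
theorem lift_Q (I : In L) (hV : Four L V) {g : G} (hg : Lift L V g) (hQ : g ∈ Q) : g = z := by
  have hp := perp_r0 hF (perp_of_comm hF hV hQ hg.cvz.c)
  set x := top (L.v g) with hx
  set b := L.v g 4 with hb
  have hsq := (L.sq_iff g hQ).1 hg.sq
  obtain ⟨ω, hω⟩ := exists_omega hF
  obtain ⟨w0, w1, -, -, -, -⟩ := omega_facts hF hω
  by_cases hx0 : x = 0
  · rw [hx0, emb4_zero] at hp
    by_cases hb0 : b = 0
    · rw [hb0, zero_smul] at hp
      rcases (L.v_eq_zero g hQ).1 hp with h | h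
      · exfalso
        obtain ⟨k, hk⟩ := hg.twoB
        apply L.large.z_ne
        calc z = k⁻¹ * (k * z * k⁻¹) * k := by group
          _ = 1 := by rw [← hk, h]; group
      · exact h
    · exfalso
      apply I.disj g _ hg.twoB
      apply L.twoA_of_isR hQ
      rw [hp]
      exact isR_r0 hF hb0
  · exfalso
    have hxx : hermForm 4 F 2 x x = 0 := by
      rw [hp, H_emb4 hF] at hsq
      exact hsq
    have key : ∀ c : F, c ≠ 0 → b + c = x 0 * x 1 * x 2 * x 3 := by
      intro c hc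
      obtain ⟨a, ha, hal⟩ := hV.surj c
      have ha1 : a ≠ 1 := by
        rintro rfl
        rw [L.v_one] at hal
        have := congrFun hal 4
        simp [r0, Ne.symm hc] at this
      have h1 : L.v (g * a) = emb4 x (b + c) := by
        rw [L.v_mul g hQ a (hV.le ha), hal, hp, emb4_add_r0]
      have h2 := hg.twoA a ha ha1
      rw [twoA_iff hF I (Q.mul_mem hQ (hV.le ha)) (by rw [h1, H_emb4 hF]; exact hxx)
        (by
          rw [h1]
          intro h3
          apply hx0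
          rw [← top_emb4 x (b + c), h3]
          funext i; fin_cases i <;> rfl), h1, isR_emb4 hF hxx hx0] at h2
      exact h2
    have h1 := key 1 one_ne_zero
    have h2 := key ω w0
    apply w1
    linear_combination h2 - h1

/-- a lift outside `Q` induces a transvection -/
theorem lift_not_Q (I : In L) (hV : Four L V) {g : CV V z} (hg : Lift L V g) (hQ : (g : G) ∉ Q) :
    ∃ w, ∃ hw : hermForm 4 F 2 w w = 0, w ≠ 0 ∧ rhoC hF I hV g = T hF w hw := by
  obtain ⟨ω, hω⟩ := exists_omega hF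
  obtain ⟨w0, w1, -, -, -, -⟩ := omega_facts hF hω
  obtain ⟨a, ha, hal⟩ := hV.surj (1 : F)
  obtain ⟨b, hb, hbl⟩ := hV.surj ω
  have ne1 : ∀ (x : G) (c : F), c ≠ 0 → L.v x = c • r0 F → x ≠ 1 := by
    rintro x c hc hx rfl
    rw [L.v_one] at hx
    have := congrFun hx 4
    simp [r0, Ne.symm hc] at this
  have ha1 := ne1 a 1 one_ne_zero hal
  have hb1 := ne1 b ω w0 hbl
  have hgM : (g : G) ∈ M := mem_M hF I hV g.2
  have hQV : ∀ x ∈ V, (g : G) * x ∉ Q := by
    intro x hx h
    exact hQ ((Subgroup.mul_mem_cancel_right Q (hV.le hx)).1 h)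
  have hMV : ∀ x ∈ V, (g : G) * x ∈ M := fun x hx => M.mul_mem hgM (L.Q_le (hV.le hx))
  have hρ : ∀ x ∈ V, ∀ w, L.ρ ((g : G) * x) w = L.ρ g w := by
    intro x hx w
    rw [L.ρ_mul g.2.cz (L.large.comm_z x (hV.le hx)), L.ρ_mem_Q (hV.le hx)]
  obtain ⟨r₁, r₂, hr₁, hr₂, h12, hne, hact⟩ := I.out _ (hMV a ha) (hQV a ha) (hg.twoA a ha ha1)
  obtain ⟨K, hK⟩ := I.K r₁ r₂ hr₁ hr₂ h12 hne
  have hgact : ∀ w, L.ρ g w = tr r₁ (tr r₂ w) := fun w => by rw [← hρ a ha, hact]
  have hKV : ∀ x ∈ V, x ≠ 1 → (g : G) * x ∈ K := fun x hx hx1 =>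
    hK.good _ (hMV x hx) (hg.twoA x hx hx1) fun w => by rw [hρ x hx, hgact]
  -- `r0` is in the span
  have hab : a⁻¹ * b ∈ K := by
    have h1 := K.mul_mem (K.inv_mem (hKV a ha ha1)) (hKV b hb hb1)
    have e : ((g : G) * a)⁻¹ * (g * b) = a⁻¹ * b := by group
    rwa [e] at h1
  have habV : a⁻¹ * b ∈ V := V.mul_mem (V.inv_mem ha) hb
  obtain ⟨c, d, hcd⟩ := (hK.mem_Q _ (hV.le habV)).1 hab
  rw [L.v_mul _ (Q.inv_mem (hV.le ha)) _ (hV.le hb), L.v_inv (hV.le ha), hal, hbl,
    ← add_smul] at hcd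
  have hs : (1 : F) + ω ≠ 0 := by
    intro h
    exact w1 (eq_of_add_eq_zero hF h).symm
  have hr0 : r0 F = ((1 + ω)⁻¹ * c) • r₁ + ((1 + ω)⁻¹ * d) • r₂ := by
    rw [mul_smul, mul_smul, ← smul_add, ← hcd, smul_smul, inv_mul_cancel₀ hs, one_smul]
  have h21 := H_symm hF h12
  -- the final argument for one of the two vectors a multiple of `r0`
  have fin : ∀ (s t : Fin 6 → F) (e : F), IsR s → IsR t → H s t = 0 → (∀ k : F, t ≠ k • s) →
      r0 F = e • s → (∀ w, L.ρ g w = tr s (tr t w)) →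
      ∃ w, ∃ hw : hermForm 4 F 2 w w = 0, w ≠ 0 ∧ rhoC hF I hV g = T hF w hw := by
    intro s t e hs ht hst hts he hgst
    have he0 : e ≠ 0 := by
      rintro rfl
      rw [zero_smul] at he
      exact r0_ne_zero he
    have h0t : H (r0 F) t = 0 := by rw [he, H_smul_left hF, hst, mul_zero]
    have htt := isR_self hF ht
    have htp := perp_r0 hF (H_symm hF h0t)
    have htop : hermForm 4 F 2 (top t) (top t) = 0 := by
      rw [htp, H_emb4 hF] at htt
      exact htt
    refine ⟨top t, htop, ?_, ?_⟩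
    · intro h0
      rw [h0, emb4_zero] at htp
      apply hts (t 4 * e)
      rw [mul_smul, ← he]
      exact htp
    · apply rhoC_eq
      intro x
      obtain ⟨c', hc'⟩ := tr_r0 hF h0t htop x 0
      refine ⟨0, c', ?_⟩
      rw [hgst, ← hc', he, tr_smul hF he0]
  by_cases hc0 : (1 + ω)⁻¹ * c = 0
  · rw [hc0, zero_smul, zero_add] at hr0
    refine fin r₂ r₁ _ hr₂ hr₁ h21 ?_ hr0 ?_
    · intro k hk
      have hk0 : k ≠ 0 := by
        rintro rfl
        rw [zero_smul] at hk
        exact isR_ne hF hr₁ hk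
      apply hne k⁻¹
      rw [hk, smul_smul, inv_mul_cancel₀ hk0, one_smul]
    · intro w
      rw [hgact, tr_comm hF h12]
  · by_cases hd0 : (1 + ω)⁻¹ * d = 0
    · rw [hd0, zero_smul, add_zero] at hr0
      exact fin r₁ r₂ _ hr₁ hr₂ h12 hne hr0 hgact
    · exfalso
      apply hQ
      rw [← rhoC_one_iff hF I hV]
      apply rhoC_eq
      intro x
      obtain ⟨c', hc'⟩ := tr_span hF h12 hc0 hd0 hr0 (emb4_perp hF x 0)
      refine ⟨0, 0 + c', ?_⟩
      rw [hgact, hc', emb4_add_r0, act_one]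

/-- **(6), concrete part** -/
theorem loc (I : In L) (hV : Four L V) (q : Quo V z π z') :
    USix.Loc hF (conjugatesOf (π z')) (π z') (rho hF I hV q) (beta hF I hV q) := by
  have hsurj := q.pr_surj hF I hV
  have hzz := L.large.z_sq
  have hz1 : π z' ≠ 1 := by
    intro h
    rw [q.ker, q.z'] at h
    exact hV.nz h
  have coe_iff : ∀ g : CV V z, ((q.pr g : Y) = 1 ↔ (g : G) ∈ V) := fun g => q.ker (toC g)
  have coe_u : ∀ g : CV V z, ((q.pr g : Y) = π z' ↔ (g : G) * z ∈ V) := by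
    intro g
    have h2 : π z' * π z' = 1 := by
      rw [← map_mul, q.ker]
      have : ((z' * z' : ↥(Subgroup.centralizer (V : Set G))) : G) = z * z := by rw [← q.z']; rfl
      rw [this, hzz]
      exact V.one_mem
    have h3 : (q.pr g : Y) = π z' ↔ (q.pr g : Y) * π z' = 1 := by
      constructor
      · intro h; rw [h, h2]
      · intro h
        rw [mul_eq_one_iff_eq_inv] at h
        rw [h, inv_eq_iff_mul_eq_one, h2]
    rw [h3, q.coe_pr, ← map_mul, q.ker]
    have e3 : ((toC g * z' : ↥(Subgroup.centralizer (V : Set G))) : G) = (g : G) * (z' : G) := rfl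
    rw [e3, q.z']
  constructor
  · exact mem_conjugatesOf_self
  · rw [← map_mul, q.ker]
    have : ((z' * z' : ↥(Subgroup.centralizer (V : Set G))) : G) = z * z := by rw [← q.z']; rfl
    rw [this, hzz]
    exact V.one_mem
  · exact hz1
  · -- surj
    intro B
    obtain ⟨g, hg⟩ := rhoC_surj hF I hV B
    exact ⟨q.pr g, by rw [rho_pr, hg]⟩
  · -- add
    intro p p' hp hp'
    obtain ⟨g, rfl⟩ := hsurj p
    obtain ⟨g', rfl⟩ := hsurj p'
    rw [rho_one_iff] at hp hp'
    rw [← map_mul, beta_pr hF I hV q _ hp, beta_pr hF I hV q _ hp',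
      beta_pr hF I hV q _ (by rw [Subgroup.coe_mul]; exact Q.mul_mem hp hp'), Subgroup.coe_mul,
      L.v_mul _ hp _ hp', SixGeo.top_add]
  · -- ker
    intro p hp
    obtain ⟨g, rfl⟩ := hsurj p
    rw [rho_one_iff] at hp
    rw [beta_pr hF I hV q _ hp, coe_iff, coe_u]
    have hl := lab_eq hF hV g hp
    constructor
    · intro h
      rw [h, emb4_zero] at hl
      obtain ⟨a, ha, h1 | h1⟩ := lab_cases hV hp hl
      · left; rw [h1]; exact ha
      · right
        rw [h1, mul_assoc, four_cz hV ha, ← mul_assoc, hzz, one_mul]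
        exact ha
    · rintro (h | h)
      · obtain ⟨c, hc⟩ := hV.lab _ h
        rw [hc, SixGeo.top_smul, top_r0, smul_zero]
      · obtain ⟨c, hc⟩ := hV.lab _ h
        rw [L.v_mul _ hp _ L.large.z_mem, L.v_z, add_zero] at hc
        rw [hc, SixGeo.top_smul, top_r0, smul_zero]
  · -- bsurj
    intro v
    obtain ⟨x, hx, hxl⟩ := L.v_surj (emb4 v 0)
    have hp : CVz V z x := CVz_of_perp hF hV hx (by rw [hxl]; exact emb4_perp hF v 0)
    refine ⟨q.pr ⟨x, hp⟩, (rho_one_iff hF I hV q ⟨x, hp⟩).2 hx, ?_⟩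
    rw [beta_pr hF I hV q ⟨x, hp⟩ hx]
    show top (L.v x) = v
    rw [hxl, top_emb4]
  · -- conj
    intro c p hp
    obtain ⟨g, rfl⟩ := hsurj p
    obtain ⟨h, rfl⟩ := hsurj c
    rw [rho_one_iff] at hp
    have h1 : ((h * g * h⁻¹ : CV V z) : G) ∈ Q := by
      rw [Subgroup.coe_mul, Subgroup.coe_mul, Subgroup.coe_inv]
      exact L.large.conj_mem h h.2.cz g hp
    rw [← map_mul, ← map_inv, ← map_mul, beta_pr hF I hV q _ h1, beta_pr hF I hV q _ hp, rho_pr,
      Subgroup.coe_mul, Subgroup.coe_mul, Subgroup.coe_inv, L.v_conj h h.2.cz g hp]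
    conv_lhs => rw [lab_eq hF hV g hp]
    obtain ⟨c, hc⟩ := rhoC_spec hF I hV h (top (L.v g)) (L.v g 4)
    rw [hc, top_emb4]
  · -- psq
    intro p hp
    obtain ⟨g, rfl⟩ := hsurj p
    rw [rho_one_iff] at hp
    have h1 : q.pr g * q.pr g = 1 ↔ (g : G) * g = 1 := by
      rw [← map_mul, q.pr_one_iff, Subgroup.coe_mul]
      constructor
      · intro h
        rcases L.large.sq g hp with h2 | h2
        · exact h2
        · rw [h2] at h
          exact absurd h hV.nz
      · intro h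
        rw [h]
        exact V.one_mem
    rw [h1, beta_pr hF I hV q _ hp, L.sq_iff _ hp]
    conv_lhs => rw [lab_eq hF hV g hp]
    rw [H_emb4 hF]
  · -- only
    intro y hy
    obtain ⟨g, rfl, hg⟩ := exists_lift hF I hV q y hy
    by_cases hQ : (g : G) ∈ Q
    · left
      rw [coe_u, lift_Q hF I hV hg hQ, hzz]
      exact V.one_mem
    · right
      rw [rho_pr]
      exact lift_not_Q hF I hV hg hQ
  · -- four
    intro w hw hw0
    obtain ⟨ω, hω⟩ := exists_omega hF
    obtain ⟨w0, w1, w2, w3, -, -⟩ := omega_facts hF hω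
    have hRR := isR_rv hF hw hw0
    obtain ⟨K, hK⟩ := I.K (r0 F) (rv w) (isR_r0_one hF) hRR (H_rv hF)
      (fun c => rv_ne hF hw0 c)
    obtain ⟨x, hxS, hxx, hxu, hxp⟩ := exists_four hF hw hw0 I hV hK hω
    -- elements of `K` lie in `C_G(V) ∩ C_G(z)`
    have hKC : ∀ k ∈ K, CVz V z k := fun k hk =>
      ⟨fun a ha => hK.comm k hk a (V_le hK hV ha), L.M_comm k (hK.le hk)⟩
    have hrho : ∀ k (hk : k ∈ K), k ∉ Q → rhoC hF I hV ⟨k, hKC k hk⟩ = T hF w hw := by
      intro k hk hkQ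
      apply rhoC_eq
      intro u
      have htop : top (rv w) = w := by rw [rv, top_emb4]
      obtain ⟨c', hc'⟩ := tr_r0 hF (H_rv hF) (by rw [htop]; exact hw) u 0
      refine ⟨0, c', ?_⟩
      show L.ρ k (emb4 u 0) = _
      rw [hK.act k hk hkQ, hc']
      congr 1
      rw [act_T, act_T, htop]
    have hxQ := fun c => (hxS c).out
    have hxK := fun c => (hxS c).mem
    -- members of the class
    have hconj : ∀ k, Sel L V K k → ∀ hk : CVz V z k, (q.pr ⟨k, hk⟩ : Y) ∈ conjugatesOf (π z') := by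
      intro k hS hk
      obtain ⟨g, hg, hgz⟩ := I.cent V hV k (hK.le hS.mem) hS.out hS.twoB hk.c hS.twoA
      rw [conjugatesOf, Set.mem_ofPred_eq, isConj_iff]
      have hgc : g ∈ Subgroup.centralizer (V : Set G) := mem_cent_iff.2 hg
      refine ⟨π ⟨g, hgc⟩, ?_⟩
      rw [q.coe_pr, ← map_inv, ← map_mul, ← map_mul]
      congr 1
      apply Subtype.ext
      show g * (z' : G) * g⁻¹ = k
      rw [q.z', hgz]
    -- injectivity
    have hinj : ∀ c d, q.pr ⟨x c, hKC _ (hxK c)⟩ = q.pr ⟨x d, hKC _ (hxK d)⟩ → c = d := by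
      intro c d h
      by_contra hcd
      have h1 : q.pr (⟨x c, hKC _ (hxK c)⟩ * ⟨x d, hKC _ (hxK d)⟩⁻¹) = 1 := by
        rw [map_mul, map_inv, h, mul_inv_cancel]
      rw [q.pr_one_iff, Subgroup.coe_mul, Subgroup.coe_inv] at h1
      have h2 : (x d)⁻¹ = x d := inv_eq_of_mul_eq_one_left (hK.sq _ (hxK d))
      change x c * (x d)⁻¹ ∈ V at h1
      rw [h2] at h1
      obtain ⟨e, he⟩ := hV.lab _ h1
      rw [(hxx c d).2] at he
      have h3 : c + d ≠ 0 := fun h3 => hcd (eq_of_add_eq_zero hF h3)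
      have h4 := congrArg top he
      rw [SixGeo.top_smul, SixGeo.top_smul, top_r0, smul_zero, rv, top_emb4] at h4
      exact (smul_ne_zero h3 hw0) h4
    -- the four elements
    let cc : Fin 4 → F := ![0, 1, ω, ω ^ 2]
    have w4 : ω ^ 2 ≠ ω := fun h => w1 (mul_right_cancel₀ w0 (by linear_combination h))
    have hcc : Function.Injective cc := by
      intro i j hij
      change (![0, 1, ω, ω ^ 2] : Fin 4 → F) i = (![0, 1, ω, ω ^ 2] : Fin 4 → F) j at hij
      fin_cases i <;> fin_cases j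
      · rfl
      · exact absurd hij.symm one_ne_zero
      · exact absurd hij.symm w0
      · exact absurd hij.symm w2
      · exact absurd hij one_ne_zero
      · rfl
      · exact absurd hij.symm w1
      · exact absurd hij.symm w3
      · exact absurd hij w0
      · exact absurd hij w1
      · rfl
      · exact absurd hij.symm w4
      · exact absurd hij w2
      · exact absurd hij w3
      · exact absurd hij w4
      · rfl
    refine ⟨fun i => q.pr ⟨x (cc i), hKC _ (hxK _)⟩, ?_, ?_, ?_, ?_, ?_, ?_⟩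
    · intro i j hij
      exact hcc (hinj _ _ hij)
    · intro i
      refine ⟨hconj _ (hxS _) _, ?_⟩
      rw [rho_pr]
      exact hrho _ (hxK _) (hxQ _)
    · intro y hy hρ
      obtain ⟨g, rfl, hg⟩ := exists_lift hF I hV q y hy
      rw [rho_pr] at hρ
      have hgQ : (g : G) ∉ Q := by
        intro h
        rw [(rhoC_one_iff hF I hV g).2 h] at hρ
        exact T_ne_one hF hw hw0 hρ.symm
      have h1 : rhoC hF I hV (g * (⟨x 0, hKC _ (hxK 0)⟩ : CV V z)⁻¹) = 1 := by
        rw [map_mul, map_inv, hρ, hrho _ (hxK 0) (hxQ 0), mul_inv_cancel]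
      rw [rhoC_one_iff, Subgroup.coe_mul, Subgroup.coe_inv] at h1
      change (g : G) * (x 0)⁻¹ ∈ Q at h1
      have h0M := hK.le (hxK 0)
      have hgact : ∀ u, L.ρ g u = tr (r0 F) (tr (rv w) u) := by
        intro u
        rw [← hK.act _ (hxK 0) (hxQ 0)]
        have e : (g : G) = ((g : G) * (x 0)⁻¹) * x 0 := by group
        conv_lhs => rw [e]
        rw [L.ρ_mul (L.large.comm_z _ h1) (L.M_comm _ h0M), L.ρ_mem_Q h1]
      have hgM : (g : G) ∈ M := mem_M hF I hV g.2
      obtain ⟨a, ha, hal⟩ := hV.surj (1 : F)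
      have ha1 : a ≠ 1 := by
        rintro rfl
        rw [L.v_one] at hal
        have := congrFun hal 4
        simp [r0] at this
      have h2 : (g : G) * a ∈ K := by
        apply hK.good _ (M.mul_mem hgM (L.Q_le (hV.le ha))) (hg.twoA a ha ha1)
        intro u
        rw [L.ρ_mul g.2.cz (L.large.comm_z a (hV.le ha)), L.ρ_mem_Q (hV.le ha), hgact]
      have h3 : (g : G) ∈ K := (Subgroup.mul_mem_cancel_right K (V_le hK hV ha)).1 h2
      obtain ⟨c, hc⟩ := hxu g ⟨h3, hgQ, hg.twoB, hg.twoA⟩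
      have h4 : ∃ i, cc i = c := by
        rcases cases_four hF hω c with h | h | h | h
        · exact ⟨0, h.symm⟩
        · exact ⟨1, h.symm⟩
        · exact ⟨2, h.symm⟩
        · exact ⟨3, h.symm⟩
      obtain ⟨i, rfl⟩ := h4
      refine ⟨i, ?_⟩
      congr 1
      exact Subtype.ext hc
    · intro i j
      rw [← map_mul, ← map_mul]
      congr 1
      apply Subtype.ext
      exact hK.comm _ (hxK _) _ (hxK _)
    · rw [← map_mul, ← map_mul, ← map_mul, q.coe_pr]
      congr 1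
      apply Subtype.ext
      rw [q.z']
      exact hxp
    · intro i j
      refine ⟨cc i + cc j, ?_⟩
      rw [← map_mul, beta_pr]
      · show top (L.v (x (cc i) * x (cc j))) = _
        rw [(hxx _ _).2, SixGeo.top_smul, rv, top_emb4]
      · exact (hxx _ _).1

/-- **(6), concrete part** -/
theorem locAt (I : In L) (hV : Four L V)
    (π : ↥(Subgroup.centralizer (V : Set G)) →* Y) (hs : Function.Surjective π)
    (hk : ∀ x, π x = 1 ↔ (x : G) ∈ V) (z' : ↥(Subgroup.centralizer (V : Set G)))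
    (hz' : (z' : G) = z) : USix.LocAt hF (conjugatesOf (π z')) (π z') :=
  ⟨_, _, loc hF I hV ⟨hs, hk, hz'⟩⟩

end

end Cfsg.Agent.R08.SixLoc
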