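import Cfsg.Agent.R08.USixMain
import Cfsg.Agent.S1616
import Cfsg.Agent.S0278
import Cfsg.Agent.S0280
import Cfsg.Agent.LieClassical.SympCount
import Cfsg.Agent.SporadicStructure.PsuMatch
import Cfsg.Agent.MonsterX.MonsterPack

/-!
A finite group with the local structure `Loc` at an involution is `PSU 6 2`.
-/

set_option autoImplicit false
set_option linter.unusedSectionVars false

namespace Cfsg.Agent.R08.USix

open Cfsg Cfsg.Agent.LieClassical.HermBasic Cfsg.Agent.ClassicalGeometry.UnitTransv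
open Cfsg.Agent.SporadicStructure.UnitTwo Cfsg.Agent.R01.PSUSix Cfsg.Agent.R08.Herm4
open Cfsg.Agent.R01.Closing

section Numbers

theorem pow_two_unique {a b x y : ℕ} (hx : Odd x) (hy : Odd y) (h : 2 ^ a * x = 2 ^ b * y) :
    a = b := by
  have key : ∀ {a b x y : ℕ}, Odd x → Odd y → 2 ^ a * x = 2 ^ b * y → a ≤ b := by
    intro a b x y hx hy h
    by_contra hlt
    push Not at hlt
    obtain ⟨c, rfl⟩ := Nat.exists_eq_add_of_lt hlt
    rw [show b + c + 1 = b + (c + 1) by ring, pow_add, mul_assoc] at h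
    have h1 := Nat.eq_of_mul_eq_mul_left (pow_pos (by norm_num) b) h
    rw [← h1, pow_succ] at hy
    have h2 : Even (2 ^ c * 2 * x) := by
      rw [mul_comm (2 ^ c), mul_assoc]
      exact even_two_mul _
    exact (Nat.not_even_iff_odd.2 hy) h2
  exact le_antisymm (key hx hy h) (key hy hx h.symm)

theorem odd_prod (n : ℕ) (f : ℕ → ℕ) (h : ∀ i, Odd (f i)) : Odd (∏ i ∈ Finset.range n, f i) :=
  Finset.prod_induction f Odd (fun _ _ ha hb => ha.mul hb) odd_one (fun i _ => h i)

theorem odd_unit (i : ℕ) : Odd (if Even i then 2 ^ (i + 1) + 1 else 2 ^ (i + 1) - 1) := by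
  have h1 : Even (2 ^ (i + 1)) := by
    rw [pow_succ, mul_comm]
    exact even_two_mul _
  split_ifs
  · exact h1.add_one
  · exact Nat.Even.sub_odd (Nat.one_le_two_pow) h1 odd_one

theorem card_SU_four {F : Type*} [Field F] [Fintype F] (hF : Fintype.card F = 2 ^ 2) :
    Nat.card (SU 4 F 2) = 25920 := by
  have h := Cfsg.Agent.S0278.result hF 4 (by norm_num)
  simp only [Finset.prod_range_succ, Finset.prod_range_zero] at h
  norm_num [Nat.even_iff] at h
  omega

end Numbers

variable {Y : Type*} [Group Y] {F : Type*} [Field F] [Fintype F]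
variable {hF : Fintype.card F = 2 ^ 2} {D : Set Y} {u : Y}
variable {ρ : Subgroup.centralizer ({u} : Set Y) →* SU 4 F 2}
variable {β : Subgroup.centralizer ({u} : Set Y) → (Fin 4 → F)}

namespace Loc

variable (L : Loc hF D u ρ β)
include L

/-- The kernel has order `2 ^ 9`. -/
theorem card_ker [Finite Y] : Nat.card ρ.ker = 2 ^ 9 := by
  classical
  let f : ρ.ker →* Multiplicative (Fin 4 → F) :=
    MonoidHom.mk' (fun p => Multiplicative.ofAdd (β (p : Subgroup.centralizer ({u} : Set Y))))
      (by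
        intro p q
        have h := L.add p q p.2 q.2
        rw [Subgroup.coe_mul, h]
        rfl)
  have hsurj : Function.Surjective f := by
    intro v
    obtain ⟨p, hp, hb⟩ := L.bsurj (Multiplicative.toAdd v)
    exact ⟨⟨p, MonoidHom.mem_ker.2 hp⟩, by
      change Multiplicative.ofAdd (β p) = v
      rw [hb]; rfl⟩
  have hk : Nat.card f.ker = 2 := by
    have hu : uu u ∈ ρ.ker := MonoidHom.mem_ker.2 L.rho_u
    have h1 : ∀ x : ρ.ker, x ∈ f.ker ↔ x = 1 ∨ x = ⟨uu u, hu⟩ := by
      intro x
      rw [MonoidHom.mem_ker]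
      have h2 : f x = 1 ↔ β (x : Subgroup.centralizer ({u} : Set Y)) = 0 := Iff.rfl
      rw [h2, L.beta_zero x.2]
      constructor
      · rintro (h | h)
        · exact Or.inl (Subtype.ext h)
        · exact Or.inr (Subtype.ext h)
      · rintro (h | h)
        · left; rw [h]; rfl
        · right; rw [h]
    have h3 : (f.ker : Set ρ.ker) = {1, ⟨uu u, hu⟩} := by
      ext x
      rw [SetLike.mem_coe, h1, Set.mem_insert_iff, Set.mem_singleton_iff]
    have h4 : Nat.card f.ker = (f.ker : Set ρ.ker).ncard := by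
      rw [← Nat.card_coe_set_eq]; rfl
    rw [h4, h3, Set.ncard_pair]
    intro h5
    apply L.uu_ne
    exact (congrArg Subtype.val h5).symm
  have h1 := Subgroup.card_mul_index f.ker
  rw [hk, Subgroup.index_ker, MonoidHom.range_eq_top.2 hsurj] at h1
  have h2 : Nat.card (⊤ : Subgroup (Multiplicative (Fin 4 → F))) = 256 := by
    rw [Nat.card_congr Subgroup.topEquiv.toEquiv, Nat.card_congr Multiplicative.toAdd,
      Nat.card_eq_fintype_card, Fintype.card_fun, hF]
    rfl
  rw [h2] at h1
  omega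

theorem card_centralizer [Finite Y] :
    Nat.card (Subgroup.centralizer ({u} : Set Y)) = 2 ^ 15 * 405 := by
  have h1 := Subgroup.card_mul_index ρ.ker
  rw [L.card_ker, Subgroup.index_ker, MonoidHom.range_eq_top.2 L.surj,
    Nat.card_congr Subgroup.topEquiv.toEquiv, card_SU_four hF] at h1
  rw [← h1]
  norm_num

end Loc

/-- `O₂` is not central. -/
theorem not_central (L : Loc hF D u ρ β) (hD2 : ∀ d ∈ D, d * d = 1)
    (hDc : ∀ g : Y, ∀ d ∈ D, g * d * g⁻¹ ∈ D) :
    ¬ pCore 2 ↥(Subgroup.closure {y : Y | y ∈ D ∧ y ≠ u ∧ Commute u y}) ≤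
      Subgroup.center ↥(Subgroup.closure {y : Y | y ∈ D ∧ y ≠ u ∧ Commute u y}) := by
  intro hcen
  set E := Subgroup.closure {y : Y | y ∈ D ∧ y ≠ u ∧ Commute u y} with hE
  have hEC : E ≤ Subgroup.centralizer ({u} : Set Y) := by
    rw [hE, Subgroup.closure_le]
    intro y hy
    exact mem_cent.2 hy.2.2.symm
  let j : E →* Subgroup.centralizer ({u} : Set Y) := Subgroup.inclusion hEC
  set P := (ρ.comp j).ker with hP
  have hPp : IsPGroup 2 P := by
    intro p
    refine ⟨2, ?_⟩
    have h1 : ρ (j p) = 1 := p.2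
    have h2 : β (j p * j p) = 0 := by rw [L.add _ _ h1 h1, vadd_self hF]
    have h3 := (L.beta_zero (by rw [map_mul, h1, one_mul])).1 h2
    have h4 : j p * j p * (j p * j p) = 1 := by
      rcases h3 with h3 | h3
      · rw [h3, one_mul]
      · rw [h3, L.uu_sq]
    apply Subtype.ext
    apply Subtype.ext
    have h5 : ((p : E) : Y) * (p : E) * (((p : E) : Y) * (p : E)) = 1 := congrArg Subtype.val h4
    change (((p : E) : Y)) ^ (2 ^ 2) = 1
    rw [← h5, show (2 ^ 2 : ℕ) = 2 + 2 from rfl, pow_add, pow_two]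
  have hPle : P ≤ Subgroup.center E :=
    (Cfsg.Agent.Lib.Cores.le_pCore inferInstance hPp).trans hcen
  -- two members over a point
  obtain ⟨ω, hω⟩ := exists_omega hF
  have S := std_HB hF hω
  have n1 : (![1, 1, 0, 0] : Fin 4 → F) ≠ 0 := fun h => by
    have := congrFun h 0
    simp at this
  obtain ⟨x, hinj, hx, -⟩ := L.exists_four S.ww n1
  have hmem : ∀ (z : Subgroup.centralizer ({u} : Set Y)) (w : Fin 4 → F), Ov hF D ρ z w →
      (z : Y) ∈ E := by
    intro z w hz
    refine Subgroup.subset_closure ⟨hz.1, L.ab_ne (⟨z.2, hz⟩ : Ab hF D ρ (z : Y) w), ?_⟩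
    exact (mem_cent.1 z.2).symm
  have hne : x 0 ≠ x 1 := fun h => absurd (hinj h) (by decide)
  obtain ⟨-, hr, h2⟩ := L.same_fiber hD2 (hx 0) (hx 1)
  obtain ⟨-, k, hk, hb⟩ := h2 hne
  obtain ⟨s, hs, hws, hs0⟩ := exists_iso_ne hF S.ww n1
  obtain ⟨y, -, hy, -⟩ := L.exists_four hs hs0
  let pe : E := ⟨((x 0 * x 1 : Subgroup.centralizer ({u} : Set Y)) : Y),
    mul_mem (hmem _ _ (hx 0)) (hmem _ _ (hx 1))⟩
  let ye : E := ⟨(y 0 : Y), hmem _ _ (hy 0)⟩
  have hpe : pe ∈ P := MonoidHom.mem_ker.2 (by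
    have : (j pe : Subgroup.centralizer ({u} : Set Y)) = x 0 * x 1 := Subtype.ext rfl
    rw [MonoidHom.comp_apply, this, hr])
  have hc := Subgroup.mem_center_iff.1 (hPle hpe) ye
  have hc1 : (ye : Y) * (pe : Y) = (pe : Y) * (ye : Y) := congrArg (fun e : E => (e : Y)) hc
  have hc' : y 0 * (x 0 * x 1) = x 0 * x 1 * y 0 := Subtype.ext hc1
  have h3 := L.conj (y 0) _ hr
  obtain ⟨-, -, hs', hry⟩ := hy 0
  rw [hc', mul_inv_cancel_right, hb, hry, act_T, herm_smul_left] at h3
  have h4 := left_eq_add.1 h3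
  rcases smul_eq_zero.1 h4 with h5 | h5
  · exact (mul_ne_zero hk hws) h5
  · exact hs0 h5

theorem three_class [Finite Y] (h : LocAt hF (conjugatesOf u) u) :
    IsThreeTranspositionClass (conjugatesOf u) := by
  have G := glob_of_locAt h
  refine ⟨⟨?_, ?_⟩, ⟨u, mem_conjugatesOf_self, rfl⟩, ?_⟩
  · intro d hd
    exact orderOf_eq_prime_iff.2 ⟨by rw [pow_two]; exact G.sq d hd, G.ne_one hd⟩
  · intro d hd e he
    rcases G.three' hd he with h1 | h1
    · left
      have hdd := G.sq d hd
      have hee := G.sq e he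
      rw [pow_two]
      calc d * e * (d * e) = d * (e * d) * e := by group
        _ = d * (d * e) * e := by rw [h1]
        _ = (d * d) * (e * e) := by group
        _ = 1 := by rw [hdd, hee, one_mul]
    · exact Or.inr h1
  · exact G.closure_eq_top (fun a ha g => G.conj g a ha) ⟨u, mem_conjugatesOf_self⟩

/-- **Main theorem**: the local structure characterises `PSU 6 2`. -/
theorem main [Finite Y] (h : LocAt hF (conjugatesOf u) u) : Nonempty (Y ≃* PSU 6 F 2) := by
  have G := glob_of_locAt h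
  have hne : (conjugatesOf u).Nonempty := ⟨u, mem_conjugatesOf_self⟩
  obtain ⟨ρ, β, L⟩ := id h
  have htr : ∀ a ∈ conjugatesOf u, ∀ b ∈ conjugatesOf u, ∃ g : Y, g * a * g⁻¹ = b := by
    intro a ha b hb
    exact isConj_iff.1 (IsConj.trans (IsConj.symm ha) hb)
  have hperf : commutator Y = ⊤ := G.perfect hne htr
  -- the order
  obtain ⟨k, hk⟩ : Odd (Nat.card (conjugatesOf u)) := G.odd_card L.mem
  have hcardY : Nat.card Y = 2 ^ 15 * (405 * (2 * k + 1)) := by
    rw [← Cfsg.Agent.MonsterX.MonsterPack.card_conjugatesOf_mul u, hk, L.card_centralizer]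
    ring
  have hodd : Odd (405 * (2 * k + 1)) := by
    refine Odd.mul (by decide) ⟨k, rfl⟩
  have h16 := Cfsg.Agent.S1616.result (G := Y)
    (fun N hN hs => G.eq_bot_of_solvable hne N hN hs)
    (by rw [hperf]; exact hperf) (three_class h) u mem_conjugatesOf_self
    (not_central L G.sq G.conj)
  rcases h16 with ⟨n, ⟨e⟩⟩ | ⟨F', hFf, hFt, n, hF', ⟨e⟩⟩
  · -- symplectic
    exfalso
    have h1 := Nat.card_congr e.toEquiv
    rw [hcardY, Cfsg.Agent.LieClassical.SympCount.card_symplecticGroup] at h1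
    simp only [ZMod.card] at h1
    have h2 := pow_two_unique hodd (odd_prod n _ (fun i => ?_)) h1
    · have h3 : n ≤ 3 ∨ 4 ≤ n := by omega
      rcases h3 with h3 | h3
      · have : n ^ 2 ≤ 3 ^ 2 := Nat.pow_le_pow_left h3 2
        omega
      · have : 4 ^ 2 ≤ n ^ 2 := Nat.pow_le_pow_left h3 2
        omega
    · have h4 : Even (2 ^ (2 * (i + 1))) := by
        rw [show 2 * (i + 1) = (2 * i + 1) + 1 by ring, pow_succ, mul_comm]
        exact even_two_mul _
      exact Nat.Even.sub_odd (Nat.one_le_two_pow) h4 odd_one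
  · -- unitary
    have hF'' : Fintype.card F' = 2 ^ 2 := hF'
    have h1 := Nat.card_congr e.toEquiv
    have hn2 : 2 ≤ n := by
      by_contra hlt
      have hn : n = 0 ∨ n = 1 := by omega
      have hsub : Subsingleton (Matrix.SpecialLinearGroup (Fin n) F') := by
        rcases hn with rfl | rfl
        · infer_instance
        · refine ⟨fun A B => ?_⟩
          ext i j
          have hA := A.det_coe
          have hB := B.det_coe
          rw [Matrix.det_fin_one] at hA hB
          have hi : i = 0 := Subsingleton.elim _ _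
          have hj : j = 0 := Subsingleton.elim _ _
          rw [hi, hj, hA, hB]
      have hsub2 : Subsingleton (PSU n F' 2) := by
        refine ⟨fun a b => ?_⟩
        induction a using QuotientGroup.induction_on with
        | H a =>
        induction b using QuotientGroup.induction_on with
        | H b =>
          have : a = b := Subtype.ext (Subsingleton.elim _ _)
          rw [this]
      have h2 : Nat.card (PSU n F' 2) = 1 := Nat.card_unique
      rw [h2, hcardY] at h1
      omega
    have h2 := Cfsg.Agent.S0280.result hF'' n hn2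
    rw [← h1, hcardY] at h2
    have hg : Odd (Nat.gcd n (2 + 1)) := by
      have : Nat.gcd n (2 + 1) ∣ 3 := Nat.gcd_dvd_right n 3
      rcases (Nat.dvd_prime Nat.prime_three).1 this with h3 | h3
      · rw [h3]; exact odd_one
      · rw [h3]; decide
    have h3 : 2 ^ 15 * (Nat.gcd n (2 + 1) * (3 * (405 * (2 * k + 1)))) =
        2 ^ (n * (n - 1) / 2) * ∏ i ∈ Finset.range n,
          (if Even i then 2 ^ (i + 1) + 1 else 2 ^ (i + 1) - 1) := by
      rw [← h2]
      ring
    have h4 := pow_two_unique (hg.mul ((by decide : Odd 3).mul hodd))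
      (odd_prod n _ odd_unit) h3
    have h5 : n = 6 := by
      have h6 : n * (n - 1) = 30 ∨ n * (n - 1) = 31 := by omega
      have h7 : n ≤ 5 ∨ n = 6 ∨ 7 ≤ n := by omega
      rcases h7 with h7 | h7 | h7
      · have : n * (n - 1) ≤ 5 * 4 := Nat.mul_le_mul h7 (by omega)
        omega
      · exact h7
      · have : 7 * 6 ≤ n * (n - 1) := Nat.mul_le_mul h7 (by omega)
        omega
    subst h5
    obtain ⟨e'⟩ := Cfsg.Agent.SporadicStructure.PsuMatch.psu_iso_of_card (F := F') (K := F)
      (by rw [hF'', hF]) 6 2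
    exact ⟨e.trans e'⟩

end Cfsg.Agent.R08.USix
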