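import Cfsg.Agent.R08.SevenFin
import Cfsg.Agent.R08.SixLoc
import Cfsg.Agent.R08.USixFinal

/-!
# R08 (S1715): from the system of (1)-(6) to the hypotheses of Theorem X (helper398)

`exists_all`: `t, r ∈ Q`, `L' ≤ C_G(t)` of index two, perfect, `φ : L' →* Spor.Fi22` with kernel `{1, t}`, `φ r` a
transposition, and an element `n` of `C_G(z)` interchanging `t` and `r` which is coherent: it maps the `L'`-conjugates
of `r` commuting with `r` (different from `r`) to `L'`-conjugates of `r`.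
-/

set_option autoImplicit false
set_option linter.unusedSectionVars false

namespace Cfsg.Agent.R08.SevenAll

open Cfsg Cfsg.Agent.SporRec.GF4 Cfsg.Agent.R08 Cfsg.Agent.R08.Iface Cfsg.Agent.R08.SixIn
open Cfsg.Agent.R08.SevenCtx Cfsg.Agent.R08.SevenCtx.Ctx Cfsg.Agent.R08.SevenFin
open Cfsg.Agent.R08.Geo

universe u

variable {G : Type u} [Group G] {Q M : Subgroup G} {z t r y : G}

/-! ### the quotient `C_G(V) / V` -/

/-- `V` as a normal subgroup of `C_G(V)` -/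
theorem normal_V {L : Lab F4 Q M z} (h : Ctx L t r) :
    (h.V.subgroupOf (Subgroup.centralizer (h.V : Set G))).Normal := by
  constructor
  intro n hn g
  rw [Subgroup.mem_subgroupOf] at hn ⊢
  have h1 : (n : G) * g = g * n := (Subgroup.mem_centralizer_iff.1 g.2) _ hn
  have h2 : ((g * n * g⁻¹ : Subgroup.centralizer (h.V : Set G)) : G) = n := by
    show (g : G) * n * (g : G)⁻¹ = n
    rw [← h1, mul_assoc, mul_inv_cancel, mul_one]
  rw [h2]
  exact hn

/-- `C_G(V) / V` is `PSU 6 2`. -/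
theorem exists_psu [Finite G] {L : Lab F4 Q M z} (I : In L) (h : Ctx L t r) :
    ∃ (Y : Type u) (_ : Group Y) (π : Subgroup.centralizer (h.V : Set G) →* Y),
      Function.Surjective π ∧ (∀ c, π c = 1 ↔ (c : G) ∈ h.V) ∧ Nonempty (Y ≃* PSU 6 F4 2) := by
  have hn := normal_V h
  let N := h.V.subgroupOf (Subgroup.centralizer (h.V : Set G))
  let π := QuotientGroup.mk' N
  have hs : Function.Surjective π := QuotientGroup.mk'_surjective N
  have hk : ∀ c, π c = 1 ↔ (c : G) ∈ h.V := by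
    intro c
    rw [← Subgroup.mem_subgroupOf]
    exact QuotientGroup.eq_one_iff c
  have hz : z ∈ Subgroup.centralizer (h.V : Set G) := h.mem_cent.2 ⟨h.tz.symm, h.rz.symm⟩
  have hF : Fintype.card F4 = 2 ^ 2 := F4.card_F4
  have hloc := SixLoc.locAt (hF := hF) I h.four π hs hk ⟨z, hz⟩ rfl
  exact ⟨_, inferInstance, π, hs, hk, USix.main hloc⟩

/-! ### outer elements -/

section Outer

variable {L : Lab F4 Q M z}

/-- an element of `C_G(z) ∩ C_G(t)` outside `M` mapping `r` to `r t` -/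
theorem exists_sigma (h : Ctx L t r) (hsemi : ∀ c, c * z = z * c → c ∉ M → IsSemi (L.ρ c)) :
    ∃ c, c * z = z * c ∧ c * t = t * c ∧ c ∉ M ∧ c * r * c⁻¹ = r * t := by
  obtain ⟨c0, hc0, hc0M⟩ := L.exists_not_mem
  have h1 : Iface.IsR (L.v (c0 * t * c0⁻¹)) := by
    rw [L.v_conj c0 hc0 t h.tQ]
    exact L.pres c0 hc0 _ h.isR_t
  obtain ⟨m, hm, hmt⟩ := Geo.exists_conj_R L (L.ρ_surj_aux hc0 h.tQ) h.tQ h1 h.isR_t
  have hmz := L.M_comm m hm
  have hcz : (m * c0) * z = z * (m * c0) := Lab.mul_comm' hmz hc0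
  have hct : (m * c0) * t = t * (m * c0) := by
    apply comm_of_conj
    calc m * c0 * t * (m * c0)⁻¹ = m * (c0 * t * c0⁻¹) * m⁻¹ := by group
      _ = t := hmt
  have hcM : m * c0 ∉ M := by
    intro hh
    apply hc0M
    have := M.mul_mem (M.inv_mem hm) hh
    rwa [inv_mul_cancel_left] at this
  rcases h.conj_r hsemi hcz hct with ⟨hh, -⟩ | ⟨-, h2 | h2⟩
  · exact absurd hh hcM
  · exact ⟨_, hcz, hct, hcM, h2⟩
  · obtain ⟨y, hy, -, -, hyt, hyr⟩ := h.exists_y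
    have hyz := L.large.comm_z y hy
    refine ⟨m * c0 * y, Lab.mul_comm' hcz hyz, Lab.mul_comm' hct hyt, ?_, ?_⟩
    · intro hh
      apply hcM
      have := M.mul_mem hh (M.inv_mem (L.Q_le hy))
      rwa [mul_inv_cancel_right] at this
    · have e : m * c0 * y * r * (m * c0 * y)⁻¹ = m * c0 * (y * r * y⁻¹) * (m * c0)⁻¹ := by group
      have e2 : m * c0 * (r * z) * (m * c0)⁻¹ = (m * c0 * r * (m * c0)⁻¹) *
        (m * c0 * z * (m * c0)⁻¹) := by group
      rw [e, hyr, e2, h2, conj_of_comm hcz, mul_assoc, h.zz, mul_one]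

/-- an element of `C_G(z)` interchanging `t` and `r` -/
theorem exists_n (h : Ctx L t r) (hsemi : ∀ c, c * z = z * c → c ∉ M → IsSemi (L.ρ c)) :
    ∃ n, n * z = z * n ∧ n * t * n⁻¹ = r ∧ n * r * n⁻¹ = t := by
  obtain ⟨c, hcz, hct, hcM, -⟩ := exists_sigma h hsemi
  obtain ⟨m, hm, hmρ⟩ := L.scal F4.w (by decide)
  have hmz := L.M_comm m hm
  have hnz : (m * c) * z = z * (m * c) := Lab.mul_comm' hmz hcz
  have hct' : L.ρ c (r0 F4) = r0 F4 := by
    rw [← h.vt, ← L.v_conj c hcz t h.tQ, conj_of_comm hct]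
  have e1 : L.v (m * c * t * (m * c)⁻¹) = L.v r := by
    rw [L.v_conj _ hnz t h.tQ, L.ρ_mul hmz hcz, h.vt, hct', hmρ, h.vr]
  have e2 : L.v (m * c * r * (m * c)⁻¹) = L.v t := by
    rw [L.v_conj _ hnz r h.rQ, L.ρ_mul hmz hcz, h.vr, (hsemi c hcz hcM).smul, hct', hmρ, h.vt,
      smul_smul]
    have : F4.w * F4.w ^ 2 = 1 := by decide
    rw [this, one_smul]
  have hz : z * z = 1 := L.large.z_sq
  rw [L.v_eq (L.ρ_surj_aux hnz h.tQ) h.rQ] at e1
  rw [L.v_eq (L.ρ_surj_aux hnz h.rQ) h.tQ] at e2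
  have key : ∃ q, q * z = z * q ∧ (q * (m * c)) * t * (q * (m * c))⁻¹ = r ∧
      ((q * (m * c)) * r * (q * (m * c))⁻¹ = t ∨ (q * (m * c)) * r * (q * (m * c))⁻¹ = t * z) := by
    rcases e1 with e1 | e1
    · exact ⟨1, by rw [one_mul, mul_one], by rw [one_mul]; exact e1, by rw [one_mul]; exact e2⟩
    · obtain ⟨q, hq, k1, k2⟩ := h.flip_r
      have hqz := L.large.comm_z q hq
      refine ⟨q, hqz, ?_, ?_⟩
      · have e : q * (m * c) * t * (q * (m * c))⁻¹ = q * (m * c * t * (m * c)⁻¹) * q⁻¹ := by group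
        rw [e, e1]
        exact conj_flip hqz k2 hz
      · have e : q * (m * c) * r * (q * (m * c))⁻¹ = q * (m * c * r * (m * c)⁻¹) * q⁻¹ := by group
        rw [e]
        rcases e2 with e2 | e2
        · left; rw [e2, k1]
        · right
          have e3 : q * (t * z) * q⁻¹ = (q * t * q⁻¹) * (q * z * q⁻¹) := by group
          rw [e2, e3, k1, conj_of_comm hqz]
  obtain ⟨q, hqz, k1, k2⟩ := key
  have hqnz : (q * (m * c)) * z = z * (q * (m * c)) := Lab.mul_comm' hqz hnz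
  rcases k2 with k2 | k2
  · exact ⟨_, hqnz, k1, k2⟩
  · obtain ⟨p, hp, j1, j2⟩ := h.flip_t
    have hpz := L.large.comm_z p hp
    refine ⟨p * (q * (m * c)), Lab.mul_comm' hpz hqnz, ?_, ?_⟩
    · have e : p * (q * (m * c)) * t * (p * (q * (m * c)))⁻¹ =
        p * (q * (m * c) * t * (q * (m * c))⁻¹) * p⁻¹ := by group
      rw [e, k1, j2]
    · have e : p * (q * (m * c)) * r * (p * (q * (m * c)))⁻¹ =
        p * (q * (m * c) * r * (q * (m * c))⁻¹) * p⁻¹ := by group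
      rw [e, k2]
      exact conj_flip hpz j1 hz

end Outer

/-! ### coherence -/

open Cfsg.Agent.R01 in
/-- Transitivity on the commuting pairs of transpositions of `Fi22`. -/
theorem pair_trans {a b a' b' : Spor.Fi22} (ha : a ∈ Fi22Facts.T) (hb : b ∈ Fi22Facts.T)
    (hab : a ≠ b) (hc : a * b = b * a) (ha' : a' ∈ Fi22Facts.T) (hb' : b' ∈ Fi22Facts.T)
    (hab' : a' ≠ b') (hc' : a' * b' = b' * a') :
    ∃ g : Spor.Fi22, g * a * g⁻¹ = a' ∧ g * b * g⁻¹ = b' := by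
  have hF := Strong.tFacts
  obtain ⟨x1, x2, x3, x4, y1, y2, hx, -⟩ := hF.elat a ha b hb hab hc
  obtain ⟨x1', x2', x3', x4', y1', y2', hx', -⟩ := hF.elat a' ha' b' hb' hab' hc'
  obtain ⟨g, h1, h2, -⟩ := hF.tri a b x1 a' b' x1' hx.t hx'.t
  exact ⟨g, h1, h2⟩

section Coh

variable [Finite G] {L : Lab F4 Q M z} {L' : Subgroup (Subgroup.centralizer ({t} : Set G))}

/-- elements mapping `r` to `t r` are not in `L'` -/
theorem not_mem_of_swap (h : Ctx L t r) (hC : Concl t r L') (hyt : y * t = t * y)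
    (hyL : (⟨y, Subgroup.mem_centralizer_singleton_iff.2 hyt⟩ :
      Subgroup.centralizer ({t} : Set G)) ∉ L') (hT : T123 t r y z)
    (x : Subgroup.centralizer ({t} : Set G)) (hx : (x : G) * r * (x : G)⁻¹ = t * r) : x ∉ L' := by
  intro hxL
  obtain ⟨g, hg, hgr⟩ := hT.t3
  have hn := hC.normal
  let g' : Subgroup.centralizer ({t} : Set G) := ⟨g, Subgroup.mem_centralizer_singleton_iff.2 hg⟩
  let y' : Subgroup.centralizer ({t} : Set G) := ⟨y, Subgroup.mem_centralizer_singleton_iff.2 hyt⟩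
  have h1 : (g' * y' * g'⁻¹)⁻¹ * x ∈ L' := by
    apply hC.cent_le
    show ((g * y * g⁻¹)⁻¹ * (x : G)) * r = r * ((g * y * g⁻¹)⁻¹ * x)
    apply comm_of_conj
    calc ((g * y * g⁻¹)⁻¹ * (x : G)) * r * ((g * y * g⁻¹)⁻¹ * (x : G))⁻¹
        = (g * y * g⁻¹)⁻¹ * ((x : G) * r * (x : G)⁻¹) * (g * y * g⁻¹) := by group
      _ = (g * y * g⁻¹)⁻¹ * ((g * y * g⁻¹) * r * (g * y * g⁻¹)⁻¹) * (g * y * g⁻¹) := by
          rw [hx, hgr]
      _ = r := by group
  have h2 : g' * y' * g'⁻¹ ∈ L' := by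
    have h3 := L'.mul_mem hxL (L'.inv_mem h1)
    have e : x * ((g' * y' * g'⁻¹)⁻¹ * x)⁻¹ = g' * y' * g'⁻¹ := by group
    rwa [e] at h3
  have h3 := hn.conj_mem _ h2 g'⁻¹
  have e : g'⁻¹ * (g' * y' * g'⁻¹) * g'⁻¹⁻¹ = y' := by group
  rw [e] at h3
  exact hyL h3

/-- `z t r` is `L'`-conjugate to `r` -/
theorem exists_w (h : Ctx L t r) (hsemi : ∀ c, c * z = z * c → c ∉ M → IsSemi (L.ρ c))
    (hC : Concl t r L') (hyt : y * t = t * y) (hyz : y * z = z * y) (hyr : y * r * y⁻¹ = r * z)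
    (hyL : (⟨y, Subgroup.mem_centralizer_singleton_iff.2 hyt⟩ :
      Subgroup.centralizer ({t} : Set G)) ∉ L') (hT : T123 t r y z) :
    ∃ w ∈ L', (w : G) * r * (w : G)⁻¹ = r * t * z := by
  obtain ⟨c, hcz, hct, hcM, hcr⟩ := exists_sigma h hsemi
  have hc : (⟨c, Subgroup.mem_centralizer_singleton_iff.2 hct⟩ :
      Subgroup.centralizer ({t} : Set G)) ∉ L' :=
    not_mem_of_swap h hC hyt hyL hT _ (by rw [h.tr]; exact hcr)
  refine ⟨_, (Subgroup.mul_mem_iff_of_index_two hC.index).2 (iff_of_false hc hyL), ?_⟩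
  show (c * y) * r * (c * y)⁻¹ = r * t * z
  have e : (c * y) * r * (c * y)⁻¹ = c * (y * r * y⁻¹) * c⁻¹ := by group
  have e2 : c * (r * z) * c⁻¹ = (c * r * c⁻¹) * (c * z * c⁻¹) := by group
  rw [e, hyr, e2, hcr, conj_of_comm hcz]

/-- **Coherence**, with explicit conjugating elements. -/
theorem coherent (h : Ctx L t r) (hsemi : ∀ c, c * z = z * c → c ∉ M → IsSemi (L.ρ c))
    (hC : Concl t r L') (hyt : y * t = t * y) (hyz : y * z = z * y) (hyr : y * r * y⁻¹ = r * z)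
    (hyL : (⟨y, Subgroup.mem_centralizer_singleton_iff.2 hyt⟩ :
      Subgroup.centralizer ({t} : Set G)) ∉ L') (hT : T123 t r y z)
    {n : G} (hnz : n * z = z * n) (hn1 : n * t * n⁻¹ = r) (hn2 : n * r * n⁻¹ = t)
    {a : Subgroup.centralizer ({t} : Set G)} (ha : a ∈ L')
    (hne : (a : G) * r * (a : G)⁻¹ ≠ r)
    (hcomm : ((a : G) * r * (a : G)⁻¹) * r = r * ((a : G) * r * (a : G)⁻¹)) :
    ∃ b : Subgroup.centralizer ({t} : Set G), b ∈ L' ∧
      (b : G) * r * (b : G)⁻¹ = n * ((a : G) * r * (a : G)⁻¹) * n⁻¹ := by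
  obtain ⟨w, hw, hwr⟩ := exists_w h hsemi hC hyt hyz hyr hyL hT
  obtain ⟨φ, hφs, hφk, hφr⟩ := hC.phi
  have hrH : r ∈ Subgroup.centralizer ({t} : Set G) :=
    Subgroup.mem_centralizer_singleton_iff.2 h.tr.symm
  have hrL : (⟨r, hrH⟩ : Subgroup.centralizer ({t} : Set G)) ∈ L' := hC.cent_le _ rfl
  set r' : L' := ⟨⟨r, hrH⟩, hrL⟩ with hr'
  have hrT := hφr r' rfl
  let a' : L' := ⟨a, ha⟩
  let w' : L' := ⟨w, hw⟩
  have hTc := Cfsg.Agent.R01.Strong.tFacts.conj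
  have hcenter : ∀ x : L', ((x : Subgroup.centralizer ({t} : Set G)) : G) * t = t * x := fun x =>
    Subgroup.mem_centralizer_singleton_iff.1 (x : Subgroup.centralizer ({t} : Set G)).2
  -- equality of images
  have hφeq : ∀ x x' : L', φ x = φ x' ↔
      ((x : Subgroup.centralizer ({t} : Set G)) : G) = x' ∨
      ((x : Subgroup.centralizer ({t} : Set G)) : G) = t * x' := by
    intro x x'
    rw [← mul_inv_eq_one, ← map_inv, ← map_mul, hφk, mul_inv_eq_one]
    apply or_congr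
    · exact ⟨fun hh => by rw [hh], fun hh => Subtype.ext (Subtype.ext hh)⟩
    · show ((x : Subgroup.centralizer ({t} : Set G)) : G) *
        ((x' : Subgroup.centralizer ({t} : Set G)) : G)⁻¹ = t ↔ _
      rw [mul_inv_eq_iff_eq_mul]
  -- no element of `L'` maps `r` to `t r`
  have hno : ∀ x : L', ((x : Subgroup.centralizer ({t} : Set G)) : G) * r *
      ((x : Subgroup.centralizer ({t} : Set G)) : G)⁻¹ ≠ t * r := fun x hx =>
    not_mem_of_swap h hC hyt hyL hT x hx x.2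
  -- the images in `Fi22`
  have h1 : φ (a' * r' * a'⁻¹) ∈ Cfsg.Agent.R01.Fi22Facts.T := by
    rw [map_mul, map_mul, map_inv]; exact hTc _ _ hrT
  have h2 : φ (w' * r' * w'⁻¹) ∈ Cfsg.Agent.R01.Fi22Facts.T := by
    rw [map_mul, map_mul, map_inv]; exact hTc _ _ hrT
  have ea : (((a' * r' * a'⁻¹ : L') : Subgroup.centralizer ({t} : Set G)) : G) =
    (a : G) * r * (a : G)⁻¹ := rfl
  have ew : (((w' * r' * w'⁻¹ : L') : Subgroup.centralizer ({t} : Set G)) : G) =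
    (w : G) * r * (w : G)⁻¹ := rfl
  have hne1 : φ r' ≠ φ (a' * r' * a'⁻¹) := by
    intro hh
    rcases (hφeq _ _).1 hh with e | e
    · exact hne (by rw [← ea, ← e])
    · apply hno a'
      have e' : r = t * ((a : G) * r * (a : G)⁻¹) := e
      show (a : G) * r * (a : G)⁻¹ = t * r
      nth_rewrite 2 [e']
      rw [← mul_assoc, h.tt, one_mul]
  have hrtzr : r * t * z ≠ r := by
    intro e
    apply h.tzne
    rw [mul_assoc] at e
    exact mul_eq_left.1 e
  have hne2 : φ r' ≠ φ (w' * r' * w'⁻¹) := by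
    intro hh
    rcases (hφeq _ _).1 hh with e | e
    · have e' : r = (w : G) * r * (w : G)⁻¹ := e
      rw [hwr] at e'
      exact hrtzr e'.symm
    · apply hno w'
      have e' : r = t * ((w : G) * r * (w : G)⁻¹) := e
      show (w : G) * r * (w : G)⁻¹ = t * r
      nth_rewrite 2 [e']
      rw [← mul_assoc, h.tt, one_mul]
  have hc1 : φ r' * φ (a' * r' * a'⁻¹) = φ (a' * r' * a'⁻¹) * φ r' := by
    rw [← map_mul, ← map_mul]
    congr 1
    exact Subtype.ext (Subtype.ext hcomm.symm)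
  have hrx0 : r * (r * t * z) = (r * t * z) * r := by
    calc r * (r * t * z) = r * ((r * t) * z) := rfl
      _ = r * ((t * r) * z) := by rw [h.tr]
      _ = (r * t) * (r * z) := by group
      _ = (r * t) * (z * r) := by rw [h.rz]
      _ = _ := by group
  have hc2 : φ r' * φ (w' * r' * w'⁻¹) = φ (w' * r' * w'⁻¹) * φ r' := by
    rw [← map_mul, ← map_mul]
    congr 1
    apply Subtype.ext
    apply Subtype.ext
    show r * ((w : G) * r * (w : G)⁻¹) = ((w : G) * r * (w : G)⁻¹) * r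
    rw [hwr, hrx0]
  obtain ⟨k, hk1, hk2⟩ := pair_trans hrT h2 hne2 hc2 hrT h1 hne1 hc1
  obtain ⟨c, rfl⟩ := hφs k
  set c' : G := ((c : Subgroup.centralizer ({t} : Set G)) : G) with hc'
  -- `c` centralises `r`
  have hcr : c' * r * c'⁻¹ = r := by
    rw [← map_inv, ← map_mul, ← map_mul, hφeq] at hk1
    rcases hk1 with e | e
    · exact e
    · exact absurd e (hno c)
  have hcx : c' * (r * t * z) * c'⁻¹ = (a : G) * r * (a : G)⁻¹ := by
    rw [← map_inv, ← map_mul, ← map_mul, hφeq] at hk2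
    rcases hk2 with e | e
    · have e' : c' * ((w : G) * r * (w : G)⁻¹) * c'⁻¹ = (a : G) * r * (a : G)⁻¹ := e
      rw [hwr] at e'
      exact e'
    · exfalso
      have e' : c' * ((w : G) * r * (w : G)⁻¹) * c'⁻¹ = t * ((a : G) * r * (a : G)⁻¹) := e
      apply hno (a'⁻¹ * c * w')
      show ((a : G)⁻¹ * c' * w) * r * ((a : G)⁻¹ * c' * w)⁻¹ = t * r
      have hat : (a : G) * t = t * a := Subgroup.mem_centralizer_singleton_iff.1 a.2
      calc ((a : G)⁻¹ * c' * w) * r * ((a : G)⁻¹ * c' * w)⁻¹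
          = (a : G)⁻¹ * (c' * ((w : G) * r * (w : G)⁻¹) * c'⁻¹) * a := by group
        _ = (a : G)⁻¹ * (t * ((a : G) * r * (a : G)⁻¹)) * a := by rw [e']
        _ = (a : G)⁻¹ * (t * a) * r := by group
        _ = (a : G)⁻¹ * (a * t) * r := by rw [hat]
        _ = t * r := by group
  -- the element `n c n⁻¹`
  have hnx0 : n * (r * t * z) * n⁻¹ = r * t * z := by
    calc n * (r * t * z) * n⁻¹ = (n * r * n⁻¹) * (n * t * n⁻¹) * (n * z * n⁻¹) := by group
      _ = t * r * z := by rw [hn1, hn2, conj_of_comm hnz]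
      _ = r * t * z := by rw [h.tr]
  have hct : c' * t = t * c' := hcenter c
  have hcr' : c' * r = r * c' := comm_of_conj hcr
  have hd1 : (n * c' * n⁻¹) * t = t * (n * c' * n⁻¹) := by
    apply comm_of_conj
    calc n * c' * n⁻¹ * t * (n * c' * n⁻¹)⁻¹ = n * (c' * (n⁻¹ * t * n) * c'⁻¹) * n⁻¹ := by group
      _ = n * (c' * r * c'⁻¹) * n⁻¹ := by
          rw [show n⁻¹ * t * n = r by rw [← hn2]; group]
      _ = t := by rw [hcr, hn2]
  have hd2 : (n * c' * n⁻¹) * r = r * (n * c' * n⁻¹) := by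
    apply comm_of_conj
    calc n * c' * n⁻¹ * r * (n * c' * n⁻¹)⁻¹ = n * (c' * (n⁻¹ * r * n) * c'⁻¹) * n⁻¹ := by group
      _ = n * (c' * t * c'⁻¹) * n⁻¹ := by
          rw [show n⁻¹ * r * n = t by rw [← hn1]; group]
      _ = r := by rw [conj_of_comm hct, hn1]
  have hdL := hC.cent_le ⟨n * c' * n⁻¹, Subgroup.mem_centralizer_singleton_iff.2 hd1⟩ hd2
  refine ⟨⟨n * c' * n⁻¹, Subgroup.mem_centralizer_singleton_iff.2 hd1⟩ * w,
    L'.mul_mem hdL hw, ?_⟩
  show ((n * c' * n⁻¹) * w) * r * ((n * c' * n⁻¹) * w)⁻¹ = _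
  calc ((n * c' * n⁻¹) * (w : G)) * r * ((n * c' * n⁻¹) * w)⁻¹
      = n * c' * (n⁻¹ * ((w : G) * r * (w : G)⁻¹) * n) * c'⁻¹ * n⁻¹ := by group
    _ = n * c' * (n⁻¹ * (r * t * z) * n) * c'⁻¹ * n⁻¹ := by rw [hwr]
    _ = n * (c' * (r * t * z) * c'⁻¹) * n⁻¹ := by
        rw [show n⁻¹ * (r * t * z) * n = r * t * z by
          nth_rewrite 1 [← hnx0]; group]
        group
    _ = n * ((a : G) * r * (a : G)⁻¹) * n⁻¹ := by rw [hcx]

end Coh

/-- **The output of (1)-(7)**: the hypotheses of Theorem X. -/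
theorem exists_all [Finite G] (L : Lab F4 Q M z) (I : In L)
    (hT : ∀ t r y : G, Ctx L t r → y ∈ Q → Iface.IsR (L.v y) → Iface.H (L.v y) (r0 F4) = 1 →
      T123 t r y z) :
    ∃ (t r : G) (_ : Ctx L t r) (L' : Subgroup (Subgroup.centralizer ({t} : Set G))) (r' : L')
      (n : G), Concl t r L' ∧ ((r' : Subgroup.centralizer ({t} : Set G)) : G) = r ∧
      n * z = z * n ∧ n * t * n⁻¹ = r ∧ n * r * n⁻¹ = t ∧
      ∀ x : L', IsConj r' x → x ≠ r' → Commute x r' →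
        ∃ y : L', IsConj r' y ∧ ((y : Subgroup.centralizer ({t} : Set G)) : G) =
          n * ((x : Subgroup.centralizer ({t} : Set G)) : G) * n⁻¹ := by
  obtain ⟨t, r, h⟩ := exists_ctx L
  obtain ⟨Y, _, π, hs, hk, ⟨e⟩⟩ := exists_psu I h
  obtain ⟨y, hy, hyR, hyH, hyt, hyr⟩ := h.exists_y
  have hT' := hT t r y h hy hyR hyH
  obtain ⟨L', hC, hyL⟩ := step7 L h I.semi π hs hk e hy hyR hyt hyr hT'
  obtain ⟨n, hnz, hn1, hn2⟩ := exists_n h I.semi
  have hrH : r ∈ Subgroup.centralizer ({t} : Set G) :=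
    Subgroup.mem_centralizer_singleton_iff.2 h.tr.symm
  have hrL : (⟨r, hrH⟩ : Subgroup.centralizer ({t} : Set G)) ∈ L' := hC.cent_le _ rfl
  refine ⟨t, r, h, L', ⟨⟨r, hrH⟩, hrL⟩, n, hC, rfl, hnz, hn1, hn2, ?_⟩
  intro x hx hxr hxc
  obtain ⟨a, rfl⟩ := isConj_iff.1 hx
  have hyz : y * z = z * y := L.large.comm_z y hy
  obtain ⟨b, hb, hbe⟩ := coherent h I.semi hC hyt hyz hyr hyL hT' hnz hn1 hn2
    (a := (a : Subgroup.centralizer ({t} : Set G))) a.2
    (fun hh => hxr (Subtype.ext (Subtype.ext hh)))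
    (congrArg (fun v : L' => ((v : Subgroup.centralizer ({t} : Set G)) : G)) hxc.eq)
  exact ⟨⟨b, hb⟩ * ⟨⟨r, hrH⟩, hrL⟩ * ⟨b, hb⟩⁻¹, isConj_iff.2 ⟨⟨b, hb⟩, rfl⟩, hbe⟩

end Cfsg.Agent.R08.SevenAll
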