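import Cfsg.Agent.R08.Iface
import Cfsg.Agent.R01.PSUSix

/-!
# R08, piece (6), concrete part: the input (helper919)

`In L`: what is needed of (1)-(5) in order to show that `Y = C_G(V) / V`, `V` a four group of
elements with labels in `F r0` (`z ∉ V`), has at `u = z V` the local structure `USix.LocAt`.
-/

set_option autoImplicit false

namespace Cfsg.Agent.R08.SixIn

open Cfsg Cfsg.Agent.R08.Iface

variable {F : Type*} [Field F] {G : Type*} [Group G] {Q M : Subgroup G} {z : G}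

/-- the base `R`-vector `(0, 0, 0, 0, 1, 1)` -/
def r0 (F : Type*) [Field F] : Fin 6 → F := ![0, 0, 0, 0, 1, 1]

/-- `K` is the group `K(Λ)`, `Λ = ⟨r, r'⟩`, of order `2 ^ 6` -/
structure KGrp (L : Lab F Q M z) (r r' : Fin 6 → F) (K : Subgroup G) : Prop where
  le : K ≤ M
  comm : ∀ x ∈ K, ∀ y ∈ K, x * y = y * x
  sq : ∀ x ∈ K, x * x = 1
  mem_Q : ∀ x ∈ Q, x ∈ K ↔ ∃ a b : F, L.v x = a • r + b • r'
  act : ∀ x ∈ K, x ∉ Q → ∀ w, L.ρ x w = tr r (tr r' w)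
  exists_not_mem : ∃ x ∈ K, x ∉ Q
  cls : ∀ x ∈ K, x ∉ Q → (L.TwoA x ∧ L.TwoB (z * x)) ∨ (L.TwoB x ∧ L.TwoA (z * x))
  good : ∀ x ∈ M, L.TwoA x → (∀ w, L.ρ x w = tr r (tr r' w)) → x ∈ K
  conj : ∀ b ∈ K, L.TwoB b → ∃ n, (∀ y, y ∈ K ↔ n * y * n⁻¹ ∈ K) ∧ n * b * n⁻¹ = z

/-- `V` is a complement to `⟨z⟩` in the preimage of `F r0` -/
structure Four (L : Lab F Q M z) (V : Subgroup G) : Prop where
  le : V ≤ Q
  lab : ∀ x ∈ V, ∃ a : F, L.v x = a • r0 F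
  nz : z ∉ V
  surj : ∀ a : F, ∃ x ∈ V, L.v x = a • r0 F

/-- the facts of (1)-(5) used in (6) -/
structure In (L : Lab F Q M z) : Prop where
  /-- (1) -/
  disj : ∀ x, L.TwoA x → ¬ L.TwoB x
  /-- (2) -/
  semi : ∀ c, c * z = z * c → c ∉ M → IsSemi (L.ρ c)
  /-- (1) -/
  s_twoB : ∀ x ∈ Q, IsS (L.v x) → L.TwoB x
  /-- (4a) for elements of the class `2A` -/
  out : ∀ a ∈ M, a ∉ Q → L.TwoA a → ∃ r r', IsR r ∧ IsR r' ∧ H r r' = 0 ∧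
    (∀ c : F, r' ≠ c • r) ∧ ∀ w, L.ρ a w = tr r (tr r' w)
  /-- (3), (4) -/
  K : ∀ r r', IsR r → IsR r' → H r r' = 0 → (∀ c : F, r' ≠ c • r) →
    ∃ K : Subgroup G, KGrp L r r' K
  /-- (3.8) -/
  cent : ∀ V : Subgroup G, Four L V → ∀ x ∈ M, x ∉ Q → L.TwoB x →
    (∀ a ∈ V, x * a = a * x) → (∀ a ∈ V, a ≠ 1 → L.TwoA (x * a)) →
    ∃ g, (∀ a ∈ V, g * a = a * g) ∧ g * z * g⁻¹ = x

end Cfsg.Agent.R08.SixIn
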