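import Cfsg.Agent.R08.Geo5
import Cfsg.Agent.R08.FusQ
import Cfsg.Agent.R08.SixIn

/-!
# R08 (S1715), piece (7), concrete part: the four group `V = {1, t, r, t r}` and its centraliser (helper398)

`t, r ∈ Q` with labels `r0`, `w • r0`.
* `Ctx.four`: `V` in the sense of `SixIn.Four`;
* `Ctx.fix`: elements of `C_G(z)` fixing the labels can be corrected by elements of `Q` to centralise `V`;
* `Ctx.V_le_commutator`: `V ≤ [C_G(V), C_G(V)]`, `Ctx.perf`.
-/

set_option autoImplicit false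
set_option linter.unusedSectionVars false

namespace Cfsg.Agent.R08.SevenCtx

open Cfsg Cfsg.Agent.SporRec.GF4 Cfsg.Agent.R08 Cfsg.Agent.R08.Iface Cfsg.Agent.R08.SixIn
open Cfsg.Agent.R08.Geo Cfsg.Agent.R08.ModVec

variable {G : Type*} [Group G] {Q M : Subgroup G} {z t r : G}

theorem isR_r0 : Iface.IsR (r0 F4) := by
  rw [Geo.isR_iff]
  decide

theorem r0_ne : r0 F4 ≠ 0 := Geo.R_ne_zero isR_r0

theorem H_r0_r0 : Iface.H (r0 F4) (r0 F4) = 0 := Geo.H_self_R isR_r0

/-- `t`, `r` of labels `r0`, `w r0` -/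
structure Ctx (L : Lab F4 Q M z) (t r : G) : Prop where
  tQ : t ∈ Q
  rQ : r ∈ Q
  vt : L.v t = r0 F4
  vr : L.v r = F4.w • r0 F4

theorem exists_ctx (L : Lab F4 Q M z) : ∃ t r, Ctx L t r := by
  obtain ⟨t, ht, h1⟩ := L.v_surj (r0 F4)
  obtain ⟨r, hr, h2⟩ := L.v_surj (F4.w • r0 F4)
  exact ⟨t, r, ht, hr, h1, h2⟩

namespace Ctx

variable {L : Lab F4 Q M z}

theorem w_ne : F4.w ≠ (0 : F4) := by decide

theorem isR_t (h : Ctx L t r) : Iface.IsR (L.v t) := by rw [h.vt]; exact isR_r0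

theorem isR_r (h : Ctx L t r) : Iface.IsR (L.v r) := by
  rw [h.vr]; exact Geo.isR_smul w_ne isR_r0

theorem tt (h : Ctx L t r) : t * t = 1 := (L.sq_iff t h.tQ).2 (Geo.H_self_R h.isR_t)

theorem rr (h : Ctx L t r) : r * r = 1 := (L.sq_iff r h.rQ).2 (Geo.H_self_R h.isR_r)

theorem zz (_h : Ctx L t r) : z * z = 1 := L.large.z_sq

theorem tz (h : Ctx L t r) : t * z = z * t := L.large.comm_z t h.tQ

theorem rz (h : Ctx L t r) : r * z = z * r := L.large.comm_z r h.rQ

theorem tr (h : Ctx L t r) : t * r = r * t := by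
  rw [L.comm_iff t h.tQ r h.rQ, h.vt, h.vr, Geo.H_smul_right, H_r0_r0, mul_zero]
  exact Or.inl rfl

theorem v_tr (h : Ctx L t r) : L.v (t * r) = F4.v • r0 F4 := by
  rw [L.v_mul t h.tQ r h.rQ, h.vt, h.vr]
  nth_rewrite 1 [← one_smul F4 (r0 F4)]
  rw [← add_smul]
  rfl

theorem isR_tr (h : Ctx L t r) : Iface.IsR (L.v (t * r)) := by
  rw [h.v_tr]; exact Geo.isR_smul (by decide) isR_r0

theorem trQ (h : Ctx L t r) : t * r ∈ Q := Q.mul_mem h.tQ h.rQ

theorem v_ne {x : G} (hx : Iface.IsR (L.v x)) : x ≠ 1 ∧ x ≠ z := by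
  refine ⟨?_, ?_⟩
  · rintro rfl
    rw [L.v_one] at hx
    exact Geo.R_ne_zero hx rfl
  · rintro rfl
    rw [L.v_z] at hx
    exact Geo.R_ne_zero hx rfl

theorem t1 (h : Ctx L t r) : t ≠ 1 := (v_ne h.isR_t).1
theorem tnz (h : Ctx L t r) : t ≠ z := (v_ne h.isR_t).2
theorem r1 (h : Ctx L t r) : r ≠ 1 := (v_ne h.isR_r).1
theorem rnz (h : Ctx L t r) : r ≠ z := (v_ne h.isR_r).2
theorem tr1 (h : Ctx L t r) : t * r ≠ 1 := (v_ne h.isR_tr).1
theorem trnz (h : Ctx L t r) : t * r ≠ z := (v_ne h.isR_tr).2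

theorem rt (h : Ctx L t r) : r ≠ t := by
  intro e
  apply h.tr1
  rw [e, h.tt]

/-- the four group -/
def V (h : Ctx L t r) : Subgroup G where
  carrier := {x | x = 1 ∨ x = t ∨ x = r ∨ x = t * r}
  one_mem' := Or.inl rfl
  mul_mem' := by
    have e1 := h.tt
    have e2 := h.rr
    have e3 := h.tr
    have e4 : t * (t * r) = r := by rw [← mul_assoc, e1, one_mul]
    have e5 : r * (t * r) = t := by rw [e3, ← mul_assoc, e2, one_mul]
    have e6 : t * r * t = r := by rw [e3, mul_assoc, e1, mul_one]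
    have e7 : t * r * r = t := by rw [mul_assoc, e2, mul_one]
    have e8 : t * r * (t * r) = 1 := by rw [mul_assoc, e5, e1]
    rintro a b (rfl | rfl | rfl | rfl) (rfl | rfl | rfl | rfl) <;>
      simp only [Set.mem_setOf_eq, one_mul, mul_one, e1, e2, e4, e5, e6, e7, e8, true_or, or_true]
    rw [e3]
    simp
  inv_mem' := by
    have e1 : t⁻¹ = t := inv_eq_of_mul_eq_one_left h.tt
    have e2 : r⁻¹ = r := inv_eq_of_mul_eq_one_left h.rr
    rintro a (rfl | rfl | rfl | rfl)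
    · left; rw [inv_one]
    · right; left; rw [e1]
    · right; right; left; rw [e2]
    · right; right; right; rw [mul_inv_rev, e1, e2, h.tr]

theorem mem_V (h : Ctx L t r) {x : G} : x ∈ h.V ↔ x = 1 ∨ x = t ∨ x = r ∨ x = t * r := Iff.rfl

theorem four (h : Ctx L t r) : Four L h.V where
  le := by
    intro x hx
    rcases h.mem_V.1 hx with rfl | rfl | rfl | rfl
    · exact Q.one_mem
    · exact h.tQ
    · exact h.rQ
    · exact h.trQ
  lab := by
    intro x hx
    rcases h.mem_V.1 hx with rfl | rfl | rfl | rfl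
    · exact ⟨0, by rw [L.v_one, zero_smul]⟩
    · exact ⟨1, by rw [h.vt, one_smul]⟩
    · exact ⟨_, h.vr⟩
    · exact ⟨_, h.v_tr⟩
  nz := by
    intro hx
    rcases h.mem_V.1 hx with e | e | e | e
    · exact L.large.z_ne e
    · exact h.tnz e.symm
    · exact h.rnz e.symm
    · exact h.trnz e.symm
  surj := by
    intro a
    cases a
    · exact ⟨1, h.V.one_mem, by rw [L.v_one]; exact (zero_smul F4 _).symm⟩
    · exact ⟨t, Or.inr (Or.inl rfl), by rw [h.vt]; exact (one_smul F4 _).symm⟩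
    · exact ⟨r, Or.inr (Or.inr (Or.inl rfl)), h.vr⟩
    · exact ⟨t * r, Or.inr (Or.inr (Or.inr rfl)), h.v_tr⟩

theorem mem_cent (h : Ctx L t r) {x : G} :
    x ∈ Subgroup.centralizer (h.V : Set G) ↔ x * t = t * x ∧ x * r = r * x := by
  rw [Subgroup.mem_centralizer_iff]
  constructor
  · intro hx
    exact ⟨(hx t (Or.inr (Or.inl rfl))).symm, (hx r (Or.inr (Or.inr (Or.inl rfl)))).symm⟩
  · rintro ⟨h1, h2⟩ y hy
    rcases h.mem_V.1 hy with rfl | rfl | rfl | rfl
    · rw [one_mul, mul_one]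
    · exact h1.symm
    · exact h2.symm
    · rw [mul_assoc, ← h2, ← mul_assoc, ← h1, mul_assoc]

/-! ### flips -/

theorem conj_of_comm {q x : G} (h : q * x = x * q) : q * x * q⁻¹ = x := by
  rw [h, mul_assoc, mul_inv_cancel, mul_one]

theorem comm_of_conj {q x : G} (h : q * x * q⁻¹ = x) : q * x = x * q :=
  mul_inv_eq_iff_eq_mul.1 h

theorem conj_z (L : Lab F4 Q M z) {q x : G} (hq : q ∈ Q) (h : q * x = x * q * z) :
    q * x * q⁻¹ = x * z := by
  rw [h, mul_assoc, mul_assoc, ← mul_assoc q z, L.large.comm_z q hq, mul_assoc, mul_inv_cancel,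
    mul_one]

/-- `y` inverts `r` to `r z` and fixes `t` -/
theorem conj_one (h : Ctx L t r) {q : G} (hq : q ∈ Q) (hv : Iface.H (L.v q) (r0 F4) = 1) :
    q * t = t * q ∧ q * r * q⁻¹ = r * z := by
  constructor
  · rw [L.comm_iff q hq t h.tQ, h.vt]
    exact Or.inr hv
  · apply conj_z L hq
    rw [L.comm_z_iff hq h.rQ, h.vr, Geo.H_smul_right, hv, mul_one]
    rintro (h | h) <;> exact absurd h (by decide)

theorem conj_w (h : Ctx L t r) {q : G} (hq : q ∈ Q) (hv : Iface.H (L.v q) (r0 F4) = F4.w) :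
    q * t * q⁻¹ = t * z ∧ q * r = r * q := by
  constructor
  · apply conj_z L hq
    rw [L.comm_z_iff hq h.tQ, h.vt, hv]
    rintro (h | h) <;> exact absurd h (by decide)
  · rw [L.comm_iff q hq r h.rQ, h.vr, Geo.H_smul_right, hv]
    exact Or.inr (by decide)

theorem conj_zero (h : Ctx L t r) {q : G} (hq : q ∈ Q) (hv : Iface.H (L.v q) (r0 F4) = 0) :
    q * t = t * q ∧ q * r = r * q := by
  constructor
  · rw [L.comm_iff q hq t h.tQ, h.vt]
    exact Or.inl hv
  · rw [L.comm_iff q hq r h.rQ, h.vr, Geo.H_smul_right, hv, mul_zero]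
    exact Or.inl rfl

theorem flip_r (h : Ctx L t r) : ∃ q ∈ Q, q * t * q⁻¹ = t ∧ q * r * q⁻¹ = r * z := by
  obtain ⟨u, hu⟩ := Geo.exists_H' r0_ne 1
  obtain ⟨q, hq, rfl⟩ := L.v_surj u
  obtain ⟨h1, h2⟩ := h.conj_one hq hu
  exact ⟨q, hq, conj_of_comm h1, h2⟩

theorem flip_t (h : Ctx L t r) : ∃ q ∈ Q, q * t * q⁻¹ = t * z ∧ q * r * q⁻¹ = r := by
  obtain ⟨u, hu⟩ := Geo.exists_H' r0_ne F4.w
  obtain ⟨q, hq, rfl⟩ := L.v_surj u
  obtain ⟨h1, h2⟩ := h.conj_w hq hu
  exact ⟨q, hq, h1, conj_of_comm h2⟩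

/-- Elements fixing the labels of `t` and `r` can be corrected to centralise `t` and `r`. -/
theorem fix (h : Ctx L t r) {m : G} (hm : m * z = z * m) (h1 : L.ρ m (L.v t) = L.v t)
    (h2 : L.ρ m (L.v r) = L.v r) :
    ∃ q ∈ Q, (q * m) * t = t * (q * m) ∧ (q * m) * r = r * (q * m) := by
  rw [← L.v_conj m hm t h.tQ, L.v_eq (L.ρ_surj_aux hm h.tQ) h.tQ] at h1
  rw [← L.v_conj m hm r h.rQ, L.v_eq (L.ρ_surj_aux hm h.rQ) h.rQ] at h2
  have hz : z * z = 1 := L.large.z_sq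
  -- first correct `t`
  have key : ∃ q ∈ Q, (q * m) * t * (q * m)⁻¹ = t ∧
      ((q * m) * r * (q * m)⁻¹ = r ∨ (q * m) * r * (q * m)⁻¹ = r * z) := by
    rcases h1 with h1 | h1
    · exact ⟨1, Q.one_mem, by rw [one_mul]; exact h1, by rw [one_mul]; exact h2⟩
    · obtain ⟨q, hq, e1, e2⟩ := h.flip_t
      refine ⟨q, hq, ?_, ?_⟩
      · have e : q * m * t * (q * m)⁻¹ = q * (m * t * m⁻¹) * q⁻¹ := by group
        rw [e, h1]
        exact conj_flip (L.large.comm_z q hq) e1 hz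
      · have e : q * m * r * (q * m)⁻¹ = q * (m * r * m⁻¹) * q⁻¹ := by group
        rw [e]
        rcases h2 with h2 | h2
        · left; rw [h2, e2]
        · right
          have e3 : q * (r * z) * q⁻¹ = (q * r * q⁻¹) * (q * z * q⁻¹) := by group
          rw [h2, e3, e2, conj_of_comm (L.large.comm_z q hq)]
  obtain ⟨q, hq, k1, k2⟩ := key
  rcases k2 with k2 | k2
  · exact ⟨q, hq, comm_of_conj k1, comm_of_conj k2⟩
  · obtain ⟨p, hp, e1, e2⟩ := h.flip_r
    refine ⟨p * q, Q.mul_mem hp hq, comm_of_conj ?_, comm_of_conj ?_⟩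
    · have e : p * q * m * t * (p * q * m)⁻¹ = p * (q * m * t * (q * m)⁻¹) * p⁻¹ := by group
      rw [e, k1, e1]
    · have e : p * q * m * r * (p * q * m)⁻¹ = p * (q * m * r * (q * m)⁻¹) * p⁻¹ := by group
      rw [e, k2]
      exact conj_flip (L.large.comm_z p hp) e2 hz

/-! ### the commutator subgroup of the centraliser -/

theorem comm_mem {X : Subgroup G} {a b : G} (ha : a ∈ X) (hb : b ∈ X) :
    a * b * a⁻¹ * b⁻¹ ∈ ⁅X, X⁆ := by
  have := Subgroup.commutator_mem_commutator ha hb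
  rwa [commutatorElement_def] at this

/-- Every `R`-vector orthogonal to `r0` and independent of it is the label of a commutator. -/
theorem exists_comm (h : Ctx L t r) {s : W} (hs : Iface.IsR s) (hsr : Iface.H s (r0 F4) = 0)
    (hn : Ind (r0 F4) s) :
    ∃ x ∈ ⁅Subgroup.centralizer (h.V : Set G), Subgroup.centralizer (h.V : Set G)⁆,
      x ∈ Q ∧ L.v x = s := by
  obtain ⟨u, hu, hus⟩ := Geo.exists_H r0_ne hn 1
  obtain ⟨x, hx, rfl⟩ := L.v_surj u
  obtain ⟨m, hm, hρ⟩ := L.tau (r0 F4) s isR_r0 hs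
  have hmz := L.M_comm m hm
  have e1 : L.ρ m (r0 F4) = r0 F4 := by
    rw [hρ]
    unfold Iface.tr
    rw [Geo.H_zero_symm.1 hsr, zero_smul, add_zero, H_r0_r0, zero_smul, add_zero]
  obtain ⟨q, hq, k1, k2⟩ := h.fix hmz (by rw [h.vt, e1]) (by rw [h.vr, Geo.ρ_smul L hm, e1])
  have hcm : q * m ∈ Subgroup.centralizer (h.V : Set G) := h.mem_cent.2 ⟨k1, k2⟩
  have hxm : x ∈ Subgroup.centralizer (h.V : Set G) := h.mem_cent.2 (h.conj_zero hx hu)
  have hqmz : (q * m) * z = z * (q * m) := Lab.mul_comm' (L.large.comm_z q hq) hmz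
  have hxQ := L.large.conj_mem _ hqmz x hx
  refine ⟨_, comm_mem hcm hxm, Q.mul_mem hxQ (Q.inv_mem hx), ?_⟩
  rw [L.v_mul _ hxQ _ (Q.inv_mem hx), L.v_inv hx, L.v_conj _ hqmz x hx,
    L.ρ_mul (L.large.comm_z q hq) hmz, L.ρ_mem_Q hq, hρ]
  unfold Iface.tr
  rw [hus, one_smul, Geo.H_add_left, hu, hsr, add_zero, zero_smul, add_zero]
  rw [add_right_comm, L.add_self, zero_add]

theorem z_mem_comm (h : Ctx L t r) :
    z ∈ ⁅Subgroup.centralizer (h.V : Set G), Subgroup.centralizer (h.V : Set G)⁆ := by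
  obtain ⟨x, hx, hv⟩ := L.v_surj (![1, 0, 0, 0, 0, 0] : W)
  obtain ⟨y, hy, hv'⟩ := L.v_surj (![F4.w, 0, 0, 0, 0, 0] : W)
  have hx1 := h.conj_zero hx (by rw [hv, Geo.H_of]; decide)
  have hy1 := h.conj_zero hy (by rw [hv', Geo.H_of]; decide)
  have hc := comm_mem (h.mem_cent.2 hx1) (h.mem_cent.2 hy1)
  have h2 : x * y = y * x * z := by
    rw [L.comm_z_iff hx hy, hv, hv', Geo.H_of]
    rintro (h | h) <;> exact absurd h (by decide)
  have h3 : x * y * x⁻¹ * y⁻¹ = z := by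
    rw [h2]
    have hzx : z * x⁻¹ = x⁻¹ * z := (Lab.inv_comm (L.large.comm_z x hx)).symm
    have hzy : z * y⁻¹ = y⁻¹ * z := (Lab.inv_comm (L.large.comm_z y hy)).symm
    calc y * x * z * x⁻¹ * y⁻¹ = y * x * (z * x⁻¹) * y⁻¹ := by group
      _ = y * (z * y⁻¹) := by rw [hzx]; group
      _ = z := by rw [hzy]; group
  rwa [h3] at hc

theorem V_le_commutator (h : Ctx L t r) :
    h.V ≤ ⁅Subgroup.centralizer (h.V : Set G), Subgroup.centralizer (h.V : Set G)⁆ := by
  have key : ∀ c : F4, c ≠ 0 → ∀ y ∈ Q, L.v y = c • r0 F4 →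
      y ∈ ⁅Subgroup.centralizer (h.V : Set G), Subgroup.centralizer (h.V : Set G)⁆ := by
    intro c hc y hy hv
    have hone : Iface.IsR (![1, 1, 1, 1, 1, 1] : W) := by rw [Geo.isR_iff]; decide
    have htwo : Iface.IsR (![1, 1, 0, 0, 0, 0] : W) := by rw [Geo.isR_iff]; decide
    have hthr : Iface.IsR (![0, 0, 1, 1, 0, 0] : W) := by rw [Geo.isR_iff]; decide
    have hind : ∀ s : W, s 0 ≠ 0 ∨ s 2 ≠ 0 → Ind (r0 F4) (c • s) := by
      rintro s (hs | hs) b hb
      · have h1 := congrFun hb 0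
        rw [Pi.smul_apply, Pi.smul_apply, smul_eq_mul, smul_eq_mul] at h1
        have h2 : (r0 F4) 0 = 0 := rfl
        rw [h2, mul_zero] at h1
        exact (mul_ne_zero hc hs) h1
      · have h1 := congrFun hb 2
        rw [Pi.smul_apply, Pi.smul_apply, smul_eq_mul, smul_eq_mul] at h1
        have h2 : (r0 F4) 2 = 0 := rfl
        rw [h2, mul_zero] at h1
        exact (mul_ne_zero hc hs) h1
    obtain ⟨x1, hx1, hq1, hv1⟩ := h.exists_comm (Geo.isR_smul hc hone)
      (by rw [Geo.H_smul_left, Geo.H_of, mul_eq_zero]; right; decide)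
      (hind _ (Or.inl (by decide)))
    obtain ⟨x2, hx2, hq2, hv2⟩ := h.exists_comm (Geo.isR_smul hc htwo)
      (by rw [Geo.H_smul_left, Geo.H_of, mul_eq_zero]; right; decide)
      (hind _ (Or.inl (by decide)))
    obtain ⟨x3, hx3, hq3, hv3⟩ := h.exists_comm (Geo.isR_smul hc hthr)
      (by rw [Geo.H_smul_left, Geo.H_of, mul_eq_zero]; right; decide)
      (hind _ (Or.inr (by decide)))
    have hsum : L.v (x1 * x2 * x3) = L.v y := by
      rw [L.v_mul _ (Q.mul_mem hq1 hq2) _ hq3, L.v_mul _ hq1 _ hq2, hv1, hv2, hv3, hv, ← smul_add,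
        ← smul_add]
      congr 1
      funext i
      fin_cases i <;> decide
    have hmem := Subgroup.mul_mem _ (Subgroup.mul_mem _ hx1 hx2) hx3
    rcases (L.v_eq hy (Q.mul_mem (Q.mul_mem hq1 hq2) hq3)).1 hsum.symm with e | e
    · rw [e]; exact hmem
    · rw [e]; exact Subgroup.mul_mem _ hmem h.z_mem_comm
  intro x hx
  rcases h.mem_V.1 hx with rfl | rfl | rfl | rfl
  · exact Subgroup.one_mem _
  · exact key 1 (by decide) _ h.tQ (by rw [h.vt, one_smul])
  · exact key F4.w (by decide) _ h.rQ h.vr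
  · exact key F4.v (by decide) _ h.trQ h.v_tr

/-- `C_G(V)` is perfect if `C_G(V) / V` is. -/
theorem perf (h : Ctx L t r) {Y : Type*} [Group Y]
    (π : Subgroup.centralizer (h.V : Set G) →* Y) (hs : Function.Surjective π)
    (hk : ∀ c, π c = 1 → (c : G) ∈ h.V) (hY : commutator Y = ⊤) :
    commutator (Subgroup.centralizer (h.V : Set G)) = ⊤ := by
  have hmap : (commutator (Subgroup.centralizer (h.V : Set G))).map
      (Subgroup.centralizer (h.V : Set G)).subtype =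
      ⁅Subgroup.centralizer (h.V : Set G), Subgroup.centralizer (h.V : Set G)⁆ := by
    rw [commutator_def, Subgroup.map_commutator, ← MonoidHom.range_eq_map, Subgroup.range_subtype]
  rw [eq_top_iff]
  intro x _
  have h1 : π x ∈ commutator Y := by rw [hY]; trivial
  have h2 : commutator Y ≤ Subgroup.map π (commutator (Subgroup.centralizer (h.V : Set G))) := by
    rw [commutator_def, commutator_def, Subgroup.map_commutator,
      Subgroup.map_top_of_surjective π hs]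
  obtain ⟨x', hx', hxx⟩ := h2 h1
  have h3 : π (x * x'⁻¹) = 1 := by rw [map_mul, map_inv, hxx, mul_inv_cancel]
  have h4 := h.V_le_commutator (hk _ h3)
  rw [← hmap] at h4
  obtain ⟨y, hy, hye⟩ := h4
  have h5 : y = x * x'⁻¹ := Subtype.ext hye
  rw [h5] at hy
  have h6 : x = (x * x'⁻¹) * x' := by group
  rw [h6]
  exact mul_mem hy hx'

end Ctx

end Cfsg.Agent.R08.SevenCtx
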