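import Cfsg.Agent.R08.SevenCtx

/-!
# R08 (S1715), piece (7): the Sylow 2-subgroup of `C_G(t)` and the data for the transfer lemma (helper398)

* `Ctx.exists_sylow`: a Sylow 2-subgroup `P` of `C_G(t)` centralises `z` and contains `C_Q(t)`;
* `Ctx.sub`: the subgroup `{x ∈ P | x r x⁻¹ ∈ {r, r t z}}` of index 2;
* `Ctx.exists_y`: the element `y ∈ Q`.
-/

set_option autoImplicit false
set_option linter.unusedSectionVars false

namespace Cfsg.Agent.R08.SevenCtx

open Cfsg Cfsg.Agent.SporRec.GF4 Cfsg.Agent.R08 Cfsg.Agent.R08.Iface Cfsg.Agent.R08.SixIn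
open Cfsg.Agent.R08.Geo Cfsg.Agent.R08.ModVec

variable {G : Type*} [Group G] {Q M : Subgroup G} {z t r : G}

namespace Ctx

variable {L : Lab F4 Q M z}

/-- The elements of `C_G(z)` centralising `C_Q(t)`. -/
theorem eq_of_cent (h : Ctx L t r)
    (hsemi : ∀ c, c * z = z * c → c ∉ M → IsSemi (L.ρ c)) {c : G} (hc : c * z = z * c)
    (hcent : ∀ q ∈ Q, q * t = t * q → c * q = q * c) : c = 1 ∨ c = z ∨ c = t ∨ c = t * z := by
  -- `ρ c` fixes all vectors with `H w r0 ∈ {0, 1}`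
  have hfix : ∀ w : W, Iface.H w (r0 F4) = 0 ∨ Iface.H w (r0 F4) = 1 → L.ρ c w = w := by
    intro w hw
    obtain ⟨x, hx, rfl⟩ := L.v_surj w
    rw [← L.v_conj c hc x hx, conj_of_comm (hcent x hx ((L.comm_iff x hx t h.tQ).2 (by
      rw [h.vt]; exact hw)))]
  have hM : c ∈ M := by
    by_contra hM
    have h1 := (hsemi c hc hM).smul F4.w (r0 F4)
    rw [hfix (r0 F4) (Or.inl H_r0_r0), hfix (F4.w • r0 F4) (Or.inl (by
      rw [Geo.H_smul_left, H_r0_r0, mul_zero]))] at h1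
    have h2 := congrFun h1 4
    exact absurd h2 (by decide)
  obtain ⟨w1, hw1⟩ := Geo.exists_H' r0_ne 1
  have hall : ∀ w : W, L.ρ c w = w := by
    intro w
    have h1 : w = (w + Iface.H w (r0 F4) • w1) + Iface.H w (r0 F4) • w1 := by
      rw [add_assoc, L.add_self, add_zero]
    have h2 : L.ρ c (w + Iface.H w (r0 F4) • w1) = w + Iface.H w (r0 F4) • w1 := by
      apply hfix
      left
      rw [Geo.H_add_left, Geo.H_smul_left, hw1, mul_one]
      exact ModVec.add_self _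
    rw [h1, L.ρ_add hc, h2, Geo.ρ_smul L hM, hfix w1 (Or.inr hw1)]
  have hcQ : c ∈ Q := L.mem_Q c hc hall
  -- the label of `c` is orthogonal to all `w` with `H w r0 ∈ {0, 1}`
  have hv : ∀ w : W, Iface.H w (r0 F4) = 0 ∨ Iface.H w (r0 F4) = 1 →
      Iface.H (L.v c) w = 0 ∨ Iface.H (L.v c) w = 1 := by
    intro w hw
    obtain ⟨x, hx, rfl⟩ := L.v_surj w
    rw [← L.comm_iff c hcQ x hx]
    exact hcent x hx ((L.comm_iff x hx t h.tQ).2 (by rw [h.vt]; exact hw))
  by_cases h0 : L.v c = 0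
  · rcases (L.v_eq_zero c hcQ).1 h0 with e | e
    · exact Or.inl e
    · exact Or.inr (Or.inl e)
  · have hdep : ∃ a : F4, L.v c = a • r0 F4 := by
      by_contra hcon
      push Not at hcon
      obtain ⟨u, hu, hu'⟩ := Geo.exists_H r0_ne hcon F4.w
      have h1 := hv u (Or.inl hu)
      rw [Geo.H_symm, hu'] at h1
      rcases h1 with h1 | h1 <;> exact absurd h1 (by decide)
    obtain ⟨a, ha⟩ := hdep
    have h1 := hv w1 (Or.inr hw1)
    rw [ha, Geo.H_smul_left, Geo.H_one_symm.1 hw1, mul_one] at h1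
    rcases h1 with h1 | h1
    · rw [h1, zero_smul] at ha
      exact absurd ha h0
    · rw [h1, one_smul, ← h.vt, L.v_eq hcQ h.tQ] at ha
      exact Or.inr (Or.inr ha)

theorem tzne (h : Ctx L t r) : t * z ≠ 1 := by
  intro e
  apply h.tnz
  calc t = t * (z * z) := by rw [h.zz, mul_one]
    _ = (t * z) * z := by rw [mul_assoc]
    _ = z := by rw [e, one_mul]

theorem not_twoB_t [Finite G] (h : Ctx L t r) : ¬ L.TwoB t :=
  FusQ.not_twoB_of_isR L h.tQ h.isR_t

theorem not_twoB_tz [Finite G] (h : Ctx L t r) : ¬ L.TwoB (t * z) := by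
  apply FusQ.not_twoB_of_isR L (Q.mul_mem h.tQ L.large.z_mem)
  rw [L.v_mul t h.tQ z L.large.z_mem, L.v_z, add_zero]
  exact h.isR_t

/-- A Sylow 2-subgroup of `C_G(t)` inside `C_G(z)`. -/
theorem exists_sylow [Finite G] (h : Ctx L t r)
    (hsemi : ∀ c, c * z = z * c → c ∉ M → IsSemi (L.ρ c)) :
    ∃ P : Sylow 2 (Subgroup.centralizer ({t} : Set G)),
      (∀ x ∈ (P : Subgroup (Subgroup.centralizer ({t} : Set G))), (x : G) * z = z * x) ∧
      ∀ q : Subgroup.centralizer ({t} : Set G), (q : G) ∈ Q →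
        q ∈ (P : Subgroup (Subgroup.centralizer ({t} : Set G))) := by
  classical
  have hQp : IsPGroup 2 (Q.subgroupOf (Subgroup.centralizer ({t} : Set G))) := by
    rintro ⟨x, hx⟩
    refine ⟨2, Subtype.ext (Subtype.ext ?_)⟩
    have hx' : (x : G) ∈ Q := hx
    show (x : G) ^ (2 ^ 2) = 1
    have e : (x : G) ^ (2 ^ 2) = ((x : G) * x) * (x * x) := by
      have h3 : ((x : G) * x) * (x * x) = x * x * x * x := by rw [← mul_assoc]
      rw [h3]
      norm_num [pow_succ]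
    rcases L.large.sq x hx' with h1 | h1
    · rw [e, h1, one_mul]
    · rw [e, h1, L.large.z_sq]
  obtain ⟨P, hP⟩ := hQp.exists_le_sylow
  have hPQ : ∀ q : Subgroup.centralizer ({t} : Set G), (q : G) ∈ Q →
      q ∈ (P : Subgroup (Subgroup.centralizer ({t} : Set G))) := fun q hq => hP hq
  refine ⟨P, ?_, hPQ⟩
  have htz : t ∈ Subgroup.centralizer ({t} : Set G) :=
    Subgroup.mem_centralizer_singleton_iff.2 rfl
  have hzt : z ∈ Subgroup.centralizer ({t} : Set G) :=
    Subgroup.mem_centralizer_singleton_iff.2 h.tz.symm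
  let H := Subgroup.centralizer ({t} : Set G)
  let z' : H := ⟨z, hzt⟩
  let P' : Subgroup H := (P : Subgroup H)
  let C0 : Subgroup H := Subgroup.centralizer ({z'} : Set H)
  let T : Subgroup P' := C0.subgroupOf P'
  by_contra hcon
  push Not at hcon
  obtain ⟨x0, hx0, hx0z⟩ := hcon
  have hTtop : T < ⊤ := by
    rw [lt_top_iff_ne_top]
    intro e
    apply hx0z
    have h1 : (⟨x0, hx0⟩ : P') ∈ T := by rw [e]; trivial
    have h2 := Subgroup.mem_centralizer_singleton_iff.1 (Subgroup.mem_subgroupOf.1 h1)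
    exact congrArg (fun y : H => (y : G)) h2
  have hfact : Fact (Nat.Prime 2) := ⟨Nat.prime_two⟩
  have hnil : Group.IsNilpotent P' := P.isPGroup'.isNilpotent
  have hnc := Group.normalizerCondition_of_isNilpotent (G := P') T hTtop
  obtain ⟨n, hn, hnT⟩ := SetLike.exists_of_lt hnc
  -- `n z n⁻¹` centralises `T ≥ C_Q(t)`
  have hzQ : ∀ q ∈ Q, q * t = t * q → ∃ q' : P', ((q' : H) : G) = q ∧ q' ∈ T := by
    intro q hq hqt
    have hqH : q ∈ H := Subgroup.mem_centralizer_singleton_iff.2 hqt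
    refine ⟨⟨⟨q, hqH⟩, hPQ ⟨q, hqH⟩ hq⟩, rfl, ?_⟩
    rw [Subgroup.mem_subgroupOf, Subgroup.mem_centralizer_singleton_iff]
    exact Subtype.ext (L.large.comm_z q hq)
  have hTz : ∀ x : P', x ∈ T → ((x : H) : G) * z = z * ((x : H) : G) := by
    intro x hx
    have h2 := Subgroup.mem_centralizer_singleton_iff.1 (Subgroup.mem_subgroupOf.1 hx)
    exact congrArg (fun y : H => (y : G)) h2
  set n' : G := ((n : H) : G) with hn'
  have hcent : ∀ q ∈ Q, q * t = t * q → (n' * z * n'⁻¹) * q = q * (n' * z * n'⁻¹) := by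
    intro q hq hqt
    obtain ⟨q', hq', hqT⟩ := hzQ q hq hqt
    have h1 : n⁻¹ * q' * n ∈ T := by
      have := (Subgroup.mem_normalizer_iff.1 (Subgroup.inv_mem _ hn) q').1 hqT
      rwa [inv_inv] at this
    have h2 := hTz _ h1
    have h3 : (((n⁻¹ * q' * n : P') : H) : G) = n'⁻¹ * q * n' := by
      rw [← hq']; rfl
    rw [h3] at h2
    calc (n' * z * n'⁻¹) * q = n' * (z * (n'⁻¹ * q * n')) * n'⁻¹ := by group
      _ = n' * ((n'⁻¹ * q * n') * z) * n'⁻¹ := by rw [h2]
      _ = q * (n' * z * n'⁻¹) := by group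
  have hcz : (n' * z * n'⁻¹) * z = z * (n' * z * n'⁻¹) :=
    hcent z L.large.z_mem h.tz.symm
  have hnt : n' * t = t * n' := Subgroup.mem_centralizer_singleton_iff.1 (n : H).2
  have hB : L.TwoB (n' * z * n'⁻¹) := ⟨n', rfl⟩
  apply hnT
  rw [Subgroup.mem_subgroupOf, Subgroup.mem_centralizer_singleton_iff]
  apply Subtype.ext
  show n' * z = z * n'
  rcases h.eq_of_cent hsemi hcz hcent with e | e | e | e
  · exfalso
    apply L.large.z_ne
    calc z = n'⁻¹ * (n' * z * n'⁻¹) * n' := by group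
      _ = 1 := by rw [e]; group
  · exact mul_inv_eq_iff_eq_mul.1 e
  · rw [e] at hB
    exact absurd hB h.not_twoB_t
  · rw [e] at hB
    exact absurd hB h.not_twoB_tz

/-! ### the action on `r` -/

/-- the elements of `C_G(z) ∩ C_G(t)` permute `{r, r z, r t, r t z}` -/
theorem conj_r (h : Ctx L t r) (hsemi : ∀ c, c * z = z * c → c ∉ M → IsSemi (L.ρ c)) {x : G}
    (hxz : x * z = z * x) (hxt : x * t = t * x) :
    (x ∈ M ∧ (x * r * x⁻¹ = r ∨ x * r * x⁻¹ = r * z)) ∨
      (x ∉ M ∧ (x * r * x⁻¹ = r * t ∨ x * r * x⁻¹ = r * t * z)) := by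
  have h1 : L.ρ x (r0 F4) = r0 F4 := by
    rw [← h.vt, ← L.v_conj x hxz t h.tQ, conj_of_comm hxt]
  have h2 : L.v (x * r * x⁻¹) = L.ρ x (F4.w • r0 F4) := by
    rw [L.v_conj x hxz r h.rQ, h.vr]
  have h3 := L.ρ_surj_aux hxz h.rQ
  by_cases hM : x ∈ M
  · left
    refine ⟨hM, ?_⟩
    rw [Geo.ρ_smul L hM, h1, ← h.vr, L.v_eq h3 h.rQ] at h2
    exact h2
  · right
    refine ⟨hM, ?_⟩
    have h4 : L.v (r * t) = F4.w ^ 2 • r0 F4 := by
      rw [← h.tr, h.v_tr]
      rfl
    rw [(hsemi x hxz hM).smul, h1, ← h4, L.v_eq h3 (Q.mul_mem h.rQ h.tQ)] at h2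
    exact h2

/-- the elements of `C_G(t)` with `x r x⁻¹ ∈ {r, r t z}`, `x z = z x` -/
def sub (h : Ctx L t r) : Subgroup (Subgroup.centralizer ({t} : Set G)) where
  carrier := {x | (x : G) * z = z * x ∧ ((x : G) * r * (x : G)⁻¹ = r ∨
    (x : G) * r * (x : G)⁻¹ = r * t * z)}
  one_mem' := ⟨by simp, Or.inl (by simp)⟩
  mul_mem' := by
    rintro a b ⟨ha, ha'⟩ ⟨hb, hb'⟩
    have hat : (a : G) * t = t * a := Subgroup.mem_centralizer_singleton_iff.1 a.2
    have hrtz : (a : G) * (r * t * z) * (a : G)⁻¹ = ((a : G) * r * (a : G)⁻¹) * t * z := by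
      calc (a : G) * (r * t * z) * (a : G)⁻¹
          = ((a : G) * r * (a : G)⁻¹) * ((a : G) * t * (a : G)⁻¹) * ((a : G) * z * (a : G)⁻¹) := by
            group
        _ = _ := by rw [conj_of_comm hat, conj_of_comm ha]
    have e : ((a * b : Subgroup.centralizer ({t} : Set G)) : G) * r *
        ((a * b : Subgroup.centralizer ({t} : Set G)) : G)⁻¹ =
        (a : G) * ((b : G) * r * (b : G)⁻¹) * (a : G)⁻¹ := by
      rw [Subgroup.coe_mul]; group
    have ezz : r * t * z * t * z = r := by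
      calc r * t * z * t * z = r * (t * (z * t)) * z := by group
        _ = r * (t * (t * z)) * z := by rw [h.tz]
        _ = r * (t * t) * (z * z) := by group
        _ = r := by rw [h.tt, h.zz]; group
    refine ⟨?_, ?_⟩
    · rw [Subgroup.coe_mul, mul_assoc, hb, ← mul_assoc, ha, mul_assoc]
    · rw [e]
      rcases hb' with hb' | hb' <;> rw [hb']
      · exact ha'
      · rw [hrtz]
        rcases ha' with ha' | ha' <;> rw [ha']
        · exact Or.inr rfl
        · left; exact ezz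
  inv_mem' := by
    rintro a ⟨ha, ha'⟩
    have hat : (a : G) * t = t * a := Subgroup.mem_centralizer_singleton_iff.1 a.2
    have hainv : (a : G)⁻¹ * z = z * (a : G)⁻¹ := Lab.inv_comm ha
    have hatinv : (a : G)⁻¹ * t = t * (a : G)⁻¹ := Lab.inv_comm hat
    refine ⟨hainv, ?_⟩
    rw [Subgroup.coe_inv, inv_inv]
    rcases ha' with ha' | ha'
    · left
      calc (a : G)⁻¹ * r * a = (a : G)⁻¹ * ((a : G) * r * (a : G)⁻¹) * a := by rw [ha']
        _ = r := by group
    · right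
      have h1 : (a : G)⁻¹ * (r * t * z) * a = r := by
        rw [← ha']; group
      have h2 : (a : G)⁻¹ * (r * t * z) * a = ((a : G)⁻¹ * r * a) * t * z := by
        calc (a : G)⁻¹ * (r * t * z) * a = (a : G)⁻¹ * r * (t * (z * a)) := by group
          _ = (a : G)⁻¹ * r * (t * (a * z)) := by rw [ha]
          _ = (a : G)⁻¹ * r * ((t * a) * z) := by group
          _ = (a : G)⁻¹ * r * ((a * t) * z) := by rw [hat]
          _ = _ := by group
      rw [h2] at h1
      calc (a : G)⁻¹ * r * a = (((a : G)⁻¹ * r * a) * t * z) * (z * t) := by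
            calc (a : G)⁻¹ * r * a = ((a : G)⁻¹ * r * a) * (t * t) := by rw [h.tt, mul_one]
              _ = ((a : G)⁻¹ * r * a) * (t * (z * z) * t) := by rw [h.zz, mul_one]
              _ = _ := by group
        _ = r * (z * t) := by rw [h1]
        _ = r * t * z := by rw [← h.tz]; group

theorem mem_sub (h : Ctx L t r) {x : Subgroup.centralizer ({t} : Set G)} :
    x ∈ h.sub ↔ (x : G) * z = z * x ∧ ((x : G) * r * (x : G)⁻¹ = r ∨
      (x : G) * r * (x : G)⁻¹ = r * t * z) := Iff.rfl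

/-- the element `y` -/
theorem exists_y (h : Ctx L t r) : ∃ y ∈ Q, Iface.IsR (L.v y) ∧ Iface.H (L.v y) (r0 F4) = 1 ∧
    y * t = t * y ∧ y * r * y⁻¹ = r * z := by
  obtain ⟨y, hy, hv⟩ := L.v_surj (![0, 0, 0, 1, 1, 0] : W)
  have h1 : Iface.H (L.v y) (r0 F4) = 1 := by rw [hv, Geo.H_of]; decide
  obtain ⟨h2, h3⟩ := h.conj_one hy h1
  exact ⟨y, hy, by rw [hv, Geo.isR_iff]; decide, h1, h2, h3⟩

/-- `sub ∩ P` has index 2 in `P`. -/
theorem relIndex (h : Ctx L t r) (hsemi : ∀ c, c * z = z * c → c ∉ M → IsSemi (L.ρ c))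
    {y : G} (hyt : y * t = t * y) (hyz : y * z = z * y) (hyr : y * r * y⁻¹ = r * z)
    (P : Subgroup (Subgroup.centralizer ({t} : Set G)))
    (hP : ∀ x ∈ P, (x : G) * z = z * x)
    (hyP : (⟨y, Subgroup.mem_centralizer_singleton_iff.2 hyt⟩ :
      Subgroup.centralizer ({t} : Set G)) ∈ P) : (h.sub ⊓ P).relIndex P = 2 := by
  rw [Subgroup.inf_relIndex_right, Subgroup.relIndex, Subgroup.index_eq_two_iff]
  refine ⟨⟨_, hyP⟩, fun b => ?_⟩
  have hbz := hP b.1 b.2
  have hbt : ((b : Subgroup.centralizer ({t} : Set G)) : G) * t = t * b :=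
    Subgroup.mem_centralizer_singleton_iff.1 b.1.2
  set b' : G := ((b : Subgroup.centralizer ({t} : Set G)) : G) with hb'
  have hrz1 : r * z ≠ r := by
    intro e
    exact L.large.z_ne (mul_eq_left.1 e)
  have hrtz1 : r * z ≠ r * t * z := by
    intro e
    apply h.t1
    have e1 : r * z * z = r * t * z * z := by rw [e]
    rw [mul_assoc, mul_assoc (r * t), h.zz, mul_one, mul_one] at e1
    exact mul_eq_left.1 e1.symm
  have hrt1 : r * t ≠ r := by
    intro e
    exact h.t1 (mul_eq_left.1 e)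
  have hrt2 : r * t ≠ r * t * z := by
    intro e
    exact L.large.z_ne (mul_eq_left.1 e.symm)
  have hrtz3 : r * t * z ≠ r := by
    intro e
    apply h.tzne
    rw [mul_assoc] at e
    exact mul_eq_left.1 e
  have e1 : (((b * ⟨_, hyP⟩ : P) : Subgroup.centralizer ({t} : Set G)) : G) = b' * y := rfl
  have e2 : (b' * y) * r * (b' * y)⁻¹ = (b' * r * b'⁻¹) * z := by
    calc (b' * y) * r * (b' * y)⁻¹ = b' * (y * r * y⁻¹) * b'⁻¹ := by group
      _ = b' * (r * z) * b'⁻¹ := by rw [hyr]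
      _ = (b' * r * b'⁻¹) * (b' * z * b'⁻¹) := by group
      _ = _ := by rw [conj_of_comm hbz]
  have e3 : (b' * y) * z = z * (b' * y) := Lab.mul_comm' hbz hyz
  rw [Subgroup.mem_subgroupOf, Subgroup.mem_subgroupOf, h.mem_sub, h.mem_sub, e1, e2]
  rcases h.conj_r hsemi hbz hbt with ⟨-, h1 | h1⟩ | ⟨-, h1 | h1⟩
  · right
    rw [h1]
    exact ⟨⟨hbz, Or.inl rfl⟩, fun hh => hh.2.elim hrz1 hrtz1⟩
  · left
    have e4 : r * z * z = r := by rw [mul_assoc, h.zz, mul_one]
    rw [h1, e4]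
    exact ⟨⟨e3, Or.inl rfl⟩, fun hh => hh.2.elim hrz1 hrtz1⟩
  · left
    rw [h1]
    exact ⟨⟨e3, Or.inr rfl⟩, fun hh => hh.2.elim hrt1 hrt2⟩
  · right
    rw [h1]
    have e4 : r * t * z * z = r * t := by rw [mul_assoc, h.zz, mul_one]
    rw [e4]
    exact ⟨⟨hbz, Or.inr rfl⟩, fun hh => hh.2.elim hrt1 hrt2⟩

end Ctx

end Cfsg.Agent.R08.SevenCtx
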