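import Cfsg.Agent.R08.SevenStrong
import Cfsg.Agent.R08.SevenSyl

/-!
# R08 (S1715), piece (7): the subgroup of index two of `C_G(t)` (helper398)

Inputs: `Ctx L t r`, the elements of `C_G(z) \ M` act semilinearly, `C_G(V) / V ≃* PSU 6 F4 2`, and the facts `T123`
on the conjugates of `y` under `C_G(t)`.
-/

set_option autoImplicit false
set_option linter.unusedSectionVars false

namespace Cfsg.Agent.R08.SevenFin

open Cfsg Cfsg.Agent.SporRec.GF4 Cfsg.Agent.R08 Cfsg.Agent.R08.Iface Cfsg.Agent.R08.SixIn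
open Cfsg.Agent.R08.SevenCtx Cfsg.Agent.R08.SevenCtx.Ctx

universe u

variable {G : Type u} [Group G] {Q M : Subgroup G} {z t r y : G}

/-- The facts on the conjugates of `y` in `C_G(t)`. -/
structure T123 (t r y z : G) : Prop where
  t1 : ∀ g, g * t = t * g → (g * y * g⁻¹) * z = z * (g * y * g⁻¹) →
    (g * y * g⁻¹) * r = r * (g * y * g⁻¹) → False
  t2 : ∀ g, g * t = t * g → (g * y * g⁻¹) * z = z * (g * y * g⁻¹) →
    (g * y * g⁻¹) * r * (g * y * g⁻¹)⁻¹ = r * t * z → False
  t3 : ∃ g, g * t = t * g ∧ (g * y * g⁻¹) * r * (g * y * g⁻¹)⁻¹ = t * r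

/-- the conclusion of (7) -/
structure Concl (t r : G) (L' : Subgroup (Subgroup.centralizer ({t} : Set G))) : Prop where
  index : L'.index = 2
  normal : L'.Normal
  cent_le : ∀ x : Subgroup.centralizer ({t} : Set G), (x : G) * r = r * x → x ∈ L'
  perf : commutator L' = ⊤
  qs : IsQuasisimple L'
  hcent : ∀ x : Subgroup.centralizer ({t} : Set G), (∀ c ∈ L', c * x = x * c) ↔
    x = 1 ∨ (x : G) = t
  phi : ∃ φ : L' →* Spor.Fi22, Function.Surjective φ ∧
    (∀ x : L', φ x = 1 ↔ x = 1 ∨ ((x : Subgroup.centralizer ({t} : Set G)) : G) = t) ∧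
    ∀ x : L', ((x : Subgroup.centralizer ({t} : Set G)) : G) = r →
      φ x ∈ Cfsg.Agent.R01.Fi22Facts.T

theorem step7 [Finite G] (L : Lab F4 Q M z) (h : Ctx L t r)
    (hsemi : ∀ c, c * z = z * c → c ∉ M → IsSemi (L.ρ c)) {Y : Type*} [Group Y]
    (π : Subgroup.centralizer (h.V : Set G) →* Y) (hs : Function.Surjective π)
    (hk : ∀ c, π c = 1 ↔ (c : G) ∈ h.V) (e : Y ≃* PSU 6 F4 2)
    (hy : y ∈ Q) (hyR : Iface.IsR (L.v y)) (hyt : y * t = t * y) (hyr : y * r * y⁻¹ = r * z)
    (hT : T123 t r y z) :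
    ∃ L' : Subgroup (Subgroup.centralizer ({t} : Set G)), Concl t r L' ∧
      (⟨y, Subgroup.mem_centralizer_singleton_iff.2 hyt⟩ :
        Subgroup.centralizer ({t} : Set G)) ∉ L' := by
  classical
  have hU : IsSimpleGroup (PSU 6 F4 2) :=
    Cfsg.Agent.S0283.result (q := 2) F4.card_F4 6 (by norm_num) (by norm_num)
  have hUc : commutator (PSU 6 F4 2) = ⊤ := by
    rcases hU.eq_bot_or_eq_top_of_normal (commutator (PSU 6 F4 2)) inferInstance with h1 | h1
    · exfalso
      -- then `C_G(V)` is solvable; but `z` is a commutator and `z ∉ V`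
      have hz := h.z_mem_comm
      have h2 : ∀ x ∈ ⁅Subgroup.centralizer (h.V : Set G), Subgroup.centralizer (h.V : Set G)⁆,
          x ∈ h.V := by
        have hle : ⁅Subgroup.centralizer (h.V : Set G), Subgroup.centralizer (h.V : Set G)⁆ ≤
            h.V := by
          rw [Subgroup.commutator_le]
          intro a ha b hb
          have h3 : (π ⟨a, ha⟩ * π ⟨b, hb⟩ * (π ⟨a, ha⟩)⁻¹ * (π ⟨b, hb⟩)⁻¹) = 1 := by
            apply e.injective
            rw [map_one]
            have h4 : e (π ⟨a, ha⟩ * π ⟨b, hb⟩ * (π ⟨a, ha⟩)⁻¹ * (π ⟨b, hb⟩)⁻¹) ∈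
                commutator (PSU 6 F4 2) := by
              rw [map_mul, map_mul, map_mul, map_inv, map_inv, commutator_def]
              exact Subgroup.commutator_mem_commutator (Subgroup.mem_top _) (Subgroup.mem_top _)
            rw [h1, Subgroup.mem_bot] at h4
            exact h4
          rw [← map_inv, ← map_inv, ← map_mul, ← map_mul, ← map_mul, hk] at h3
          rw [commutatorElement_def]
          exact h3
        exact hle
      exact h.four.nz (h2 z hz)
    · exact h1
  have hYc : commutator Y = ⊤ := by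
    rw [eq_top_iff]
    intro x _
    have h1 : e x ∈ commutator (PSU 6 F4 2) := by rw [hUc]; trivial
    have h2 : commutator (PSU 6 F4 2) ≤ Subgroup.map e.toMonoidHom (commutator Y) := by
      rw [commutator_def, commutator_def, Subgroup.map_commutator,
        Subgroup.map_top_of_surjective e.toMonoidHom e.surjective]
    obtain ⟨x', hx', hxx⟩ := h2 h1
    have h3 : x' = x := e.injective hxx
    rwa [← h3]
  have hperf := h.perf π hs (fun c hc => (hk c).1 hc) hYc
  -- the group `H = C_G(t)`
  let H := Subgroup.centralizer ({t} : Set G)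
  have htH : t ∈ H := Subgroup.mem_centralizer_singleton_iff.2 rfl
  have hrH : r ∈ H := Subgroup.mem_centralizer_singleton_iff.2 h.tr.symm
  have hyH : y ∈ H := Subgroup.mem_centralizer_singleton_iff.2 hyt
  let t' : H := ⟨t, htH⟩
  let r' : H := ⟨r, hrH⟩
  let y' : H := ⟨y, hyH⟩
  let X := Subgroup.centralizer ({r'} : Set H)
  have hX : ∀ x : X, (((x : H) : G)) ∈ Subgroup.centralizer (h.V : Set G) := by
    intro x
    rw [h.mem_cent]
    refine ⟨Subgroup.mem_centralizer_singleton_iff.1 (x : H).2, ?_⟩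
    have h1 := Subgroup.mem_centralizer_singleton_iff.1 x.2
    exact congrArg (fun w : H => (w : G)) h1
  have hX' : ∀ x : Subgroup.centralizer (h.V : Set G), ∃ hx : (x : G) ∈ H,
      (⟨(x : G), hx⟩ : H) ∈ X := by
    intro x
    obtain ⟨h1, h2⟩ := h.mem_cent.1 x.2
    refine ⟨Subgroup.mem_centralizer_singleton_iff.2 h1, ?_⟩
    rw [Subgroup.mem_centralizer_singleton_iff]
    exact Subtype.ext h2
  let f : X ≃* Subgroup.centralizer (h.V : Set G) :=
    { toFun := fun x => ⟨((x : H) : G), hX x⟩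
      invFun := fun x => ⟨⟨(x : G), (hX' x).1⟩, (hX' x).2⟩
      left_inv := fun x => rfl
      right_inv := fun x => rfl
      map_mul' := fun x x' => rfl }
  have hfX : commutator X = ⊤ := by
    have h1 : Subgroup.map f.symm.toMonoidHom
        (commutator (Subgroup.centralizer (h.V : Set G))) = commutator X := by
      rw [commutator_def, commutator_def, Subgroup.map_commutator,
        Subgroup.map_top_of_surjective f.symm.toMonoidHom f.symm.surjective]
    rw [← h1, hperf, Subgroup.map_top_of_surjective f.symm.toMonoidHom f.symm.surjective]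
  let πX : X →* PSU 6 F4 2 := (e.toMonoidHom.comp π).comp f.toMonoidHom
  have hrz1 : r * z ≠ r := fun e => L.large.z_ne (mul_eq_left.1 e)
  have hyz : y * z = z * y := L.large.comm_z y hy
  have hyp : Seven.Hyp F4 t' r' y' πX :=
    { card := F4.card_F4
      tc := fun x => Subtype.ext (Subgroup.mem_centralizer_singleton_iff.1 x.2)
      tt := Subtype.ext h.tt
      t1 := fun hh => h.t1 (congrArg Subtype.val hh)
      rr := Subtype.ext h.rr
      r1 := fun hh => h.r1 (congrArg Subtype.val hh)
      rt := fun hh => h.rt (congrArg Subtype.val hh)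
      surj := by
        intro w
        obtain ⟨v, hv⟩ := hs (e.symm w)
        refine ⟨f.symm v, ?_⟩
        show e (π (f (f.symm v))) = w
        rw [f.apply_symm_apply, hv, e.apply_symm_apply]
      ker := by
        intro c
        have h1 : πX c = 1 ↔ π (f c) = 1 := by
          show e (π (f c)) = 1 ↔ _
          rw [map_eq_one_iff e e.injective]
        rw [h1, hk, h.mem_V]
        show ((c : H) : G) = 1 ∨ ((c : H) : G) = t ∨ ((c : H) : G) = r ∨ ((c : H) : G) = t * r ↔ _
        have h2 : ∀ w : H, ((c : H) : G) = (w : G) ↔ (c : H) = w := fun w =>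
          ⟨fun hh => Subtype.ext hh, fun hh => congrArg Subtype.val hh⟩
        exact or_congr (h2 1) (or_congr (h2 t') (or_congr (h2 r') (h2 (t' * r'))))
      perf := hfX
      swap := by
        obtain ⟨g, hg, hgr⟩ := hT.t3
        exact ⟨⟨g, Subgroup.mem_centralizer_singleton_iff.2 hg⟩, Subtype.ext hgr⟩
      nwc := by
        refine ⟨y', Subtype.ext ?_, fun hh => ?_, fun hh => ?_⟩
        · show y * r * y⁻¹ * r = r * (y * r * y⁻¹)
          rw [hyr, mul_assoc, ← h.rz]
        · have h1 : y * r * y⁻¹ = r := congrArg Subtype.val hh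
          rw [hyr] at h1
          exact hrz1 h1
        · have h1 : y * r * y⁻¹ = t * r := congrArg Subtype.val hh
          rw [hyr, h.tr] at h1
          exact h.tnz (mul_left_cancel h1).symm }
  obtain ⟨P, hPz, hPQ⟩ := h.exists_sylow hsemi
  have hyP : y' ∈ (P : Subgroup H) := hPQ y' hy
  have hyo : orderOf y' = 2 := by
    apply orderOf_eq_prime
    · rw [pow_two]
      exact Subtype.ext ((L.sq_iff y hy).2 (Geo.H_self_R hyR))
    · intro hh
      exact (v_ne hyR).1 (congrArg Subtype.val hh)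
  have hQi := h.relIndex hsemi hyt hyz hyr P hPz hyP
  have hnot : ∀ g : H, g * y' * g⁻¹ ∉ h.sub ⊓ (P : Subgroup H) := by
    intro g hg
    obtain ⟨h1, h2⟩ := h.mem_sub.1 hg.1
    have hgt : (g : G) * t = t * g := Subgroup.mem_centralizer_singleton_iff.1 g.2
    rcases h2 with h2 | h2
    · exact hT.t1 g hgt h1 (comm_of_conj h2)
    · exact hT.t2 g hgt h1 h2
  obtain ⟨L', hi, hyL, hn, hc, hp, hq, hce, φ, hφs, hφk, hφr⟩ :=
    Seven.final hyp hyo P (h.sub ⊓ (P : Subgroup H)) inf_le_right hQi hyP hnot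
  have hone : ∀ x : H, x = t' ↔ (x : G) = t := fun x =>
    ⟨fun hh => congrArg Subtype.val hh, fun hh => Subtype.ext hh⟩
  refine ⟨L', ⟨hi, hn, ?_, hp, hq, ?_, φ, hφs, ?_, ?_⟩, hyL⟩
  · intro x hx
    exact hc (Subgroup.mem_centralizer_singleton_iff.2 (Subtype.ext hx))
  · intro x
    rw [hce x, hone]
  · intro x
    rw [hφk x, hone]
    apply or_congr _ Iff.rfl
    exact ⟨fun hh => Subtype.ext hh, fun hh => congrArg Subtype.val hh⟩
  · rintro ⟨x, hxL⟩ hx
    have h1 : x = r' := Subtype.ext hx
    subst h1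
    exact hφr hxL

end Cfsg.Agent.R08.SevenFin
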