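import Cfsg.Agent.R08.ThreeOut
import Cfsg.Agent.R08.SixLoc

/-!
# R08, piece (6), concrete part: the input from `Sys`
-/

set_option autoImplicit false
set_option linter.unusedSectionVars false

namespace Cfsg.Agent.R08.SixBridge

open Cfsg.Agent.R08.Iface Cfsg.Agent.R08.InvHerm Cfsg.Agent.R08.ThreeDuo Cfsg.Agent.R08.SixIn

section

variable {F : Type*} [Field F] [Fintype F] (hF : Fintype.card F = 2 ^ 2)
  {G : Type*} [Group G] (S : Sys.Sys F G) (g : Geo3 F) {b : G}
  (hb : b ∈ S.Z) (hA : ∀ x, (S.lab b hb).TwoA x ↔ x ∈ S.A)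
  (hB : ∀ x, (S.lab b hb).TwoB x ↔ x ∈ S.Z)
include hF g hA hB

/-- the input of (6) -/
theorem inOf : In (S.lab b hb) where
  disj x h1 h2 := S.not_Z x ((hA x).1 h1) ((hB x).1 h2)
  semi := S.semi b hb
  s_twoB x hx hs := (hB x).2 (S.tS b hb x hx hs)
  out a ha haQ haA := by
    have hcard := (S.lab b hb).card
    have haa : a * a ∈ S.Q b := by
      obtain ⟨k, h1, h2⟩ := haA
      have h4 := ((S.lab b hb).sq_iff _ h1).2 (g.iso _ h2)
      have : a * a = 1 := by
        calc a * a = k * (k⁻¹ * a * k * (k⁻¹ * a * k)) * k⁻¹ := by group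
          _ = 1 := by rw [h4]; group
      rw [this]
      exact (S.Q b).one_mem
    obtain ⟨s, s', p, hov⟩ := InvM.exists_over g.toGeo (S.lab b hb) (S.even b hb) ha haQ haa
    have l : Line s s' := ⟨p.h1, p.h2, p.perp, p.ne⟩
    refine ⟨s, s', p.h1, p.h2, p.perp, p.ne, fun w => ?_⟩
    rw [hov w, ThreeK.tr_tr_eq hcard l, add_assoc]
  K r r' h1 h2 h3 h4 := ThreeOut.fieldK S g hb hA hB r r' h1 h2 h3 h4
  cent V hV x hx hxQ hxB _ hxA :=
    ThreeOut.fieldCent S g hb hA hB (SixGeo.isR_r0_one hF) V hV x hx hxQ hxB hxA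

end

/-! ### four-groups over an arbitrary `R`-vector -/

/-- `V` is a complement to `⟨z⟩` in the preimage of `F r` -/
structure FourAt {F : Type*} [Field F] {G : Type*} [Group G] {Q M : Subgroup G} {z : G}
    (L : Lab F Q M z) (r : Fin 6 → F) (V : Subgroup G) : Prop where
  le : V ≤ Q
  lab : ∀ x ∈ V, ∃ a : F, L.v x = a • r
  nz : z ∉ V
  surj : ∀ a : F, ∃ x ∈ V, L.v x = a • r

section

variable {F : Type*} [Field F] {G : Type*} [Group G] {Q M : Subgroup G} {z : G}
  {L : Lab F Q M z} {V : Subgroup G} {r : Fin 6 → F}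

/-- transport by `m ∈ M` -/
theorem FourAt.cj (hV : FourAt L r V) {m : G} (hm : m ∈ M) (hr : L.ρ m r = r0 F) :
    Four L (Lab.cj m V) := by
  have hmz := L.M_comm m hm
  have hmv : ∀ x ∈ V, ∀ a : F, L.v x = a • r → L.v (m * x * m⁻¹) = a • r0 F := by
    intro x hx a ha
    rw [L.v_conj m hmz x (hV.le hx), ha, (L.isLin hm).smul, hr]
  constructor
  · intro x hx
    rw [Lab.mem_cj] at hx
    have := L.large.conj_mem m hmz _ (hV.le hx)
    have e : m * (m⁻¹ * x * m) * m⁻¹ = x := by group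
    rwa [e] at this
  · intro x hx
    rw [Lab.mem_cj] at hx
    obtain ⟨a, ha⟩ := hV.lab _ hx
    have := hmv _ hx a ha
    have e : m * (m⁻¹ * x * m) * m⁻¹ = x := by group
    rw [e] at this
    exact ⟨a, this⟩
  · intro h
    rw [Lab.mem_cj] at h
    apply hV.nz
    have e : m⁻¹ * z * m = z := by
      have := Lab.inv_comm hmz
      rw [this]; group
    rwa [e] at h
  · intro a
    obtain ⟨x, hx, ha⟩ := hV.surj a
    exact ⟨m * x * m⁻¹, Lab.conj_mem_cj.2 hx, hmv x hx a ha⟩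

/-- the isomorphism of the centralisers -/
def cjC (m : G) (V : Subgroup G) :
    ↥(Subgroup.centralizer ((Lab.cj m V : Subgroup G) : Set G)) →*
      ↥(Subgroup.centralizer (V : Set G)) where
  toFun x := ⟨m⁻¹ * x * m, by
    rw [SixMap.mem_cent_iff]
    intro a ha
    have h1 := SixMap.mem_cent_iff.1 x.2 (m * a * m⁻¹) (Lab.conj_mem_cj.2 ha)
    calc m⁻¹ * (x : G) * m * a = m⁻¹ * ((x : G) * (m * a * m⁻¹)) * m := by group
      _ = m⁻¹ * ((m * a * m⁻¹) * x) * m := by rw [h1]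
      _ = _ := by group⟩
  map_one' := by
    apply Subtype.ext
    show m⁻¹ * 1 * m = 1
    group
  map_mul' x y := by
    apply Subtype.ext
    show m⁻¹ * ((x : G) * y) * m = (m⁻¹ * x * m) * (m⁻¹ * y * m)
    group

theorem coe_cjC (m : G) (V : Subgroup G)
    (x : ↥(Subgroup.centralizer ((Lab.cj m V : Subgroup G) : Set G))) :
    (cjC m V x : G) = m⁻¹ * x * m := rfl

theorem cjC_surj (m : G) (V : Subgroup G) : Function.Surjective (cjC m V) := by
  intro y
  refine ⟨⟨m * y * m⁻¹, ?_⟩, ?_⟩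
  · rw [SixMap.mem_cent_iff]
    intro a ha
    rw [Lab.mem_cj] at ha
    have h1 := SixMap.mem_cent_iff.1 y.2 _ ha
    calc m * (y : G) * m⁻¹ * a = m * ((y : G) * (m⁻¹ * a * m)) * m⁻¹ := by group
      _ = m * ((m⁻¹ * a * m) * y) * m⁻¹ := by rw [h1]
      _ = _ := by group
  · apply Subtype.ext
    rw [coe_cjC]
    show m⁻¹ * (m * (y : G) * m⁻¹) * m = y
    group

end

section

variable {F : Type*} [Field F] [Fintype F] (hF : Fintype.card F = 2 ^ 2)
variable {G : Type*} [Group G] {Q M : Subgroup G} {z : G} {L : Lab F Q M z} {V : Subgroup G}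
variable {Y : Type*} [Group Y]
include hF

/-- **(6), concrete part, for an arbitrary `R`-vector** -/
theorem locAt (I : In L) {r : Fin 6 → F} (hr : IsR r) (hV : FourAt L r V)
    (π : ↥(Subgroup.centralizer (V : Set G)) →* Y) (hs : Function.Surjective π)
    (hk : ∀ x, π x = 1 ↔ (x : G) ∈ V) (z' : ↥(Subgroup.centralizer (V : Set G)))
    (hz' : (z' : G) = z) : USix.LocAt hF (conjugatesOf (π z')) (π z') := by
  obtain ⟨m, hm, hmr⟩ := L.transR r (r0 F) hr (SixGeo.isR_r0_one hF)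
  have hV' := hV.cj hm hmr
  obtain ⟨z'', hz''⟩ := cjC_surj m V z'
  have hzz : (z'' : G) = z := by
    have h1 := coe_cjC m V z''
    rw [hz'', hz'] at h1
    have hmz := L.M_comm m hm
    calc (z'' : G) = m * (m⁻¹ * z'' * m) * m⁻¹ := by group
      _ = m * z * m⁻¹ := by rw [← h1]
      _ = z := by rw [hmz, mul_inv_cancel_right]
  have key := SixLoc.locAt hF I hV' (π.comp (cjC m V)) (hs.comp (cjC_surj m V)) (by
    intro x
    rw [MonoidHom.comp_apply, hk, coe_cjC, Lab.mem_cj]) z'' hzz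
  rwa [MonoidHom.comp_apply, hz''] at key

end

end Cfsg.Agent.R08.SixBridge
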