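import Cfsg.Agent.R08.SixLoc
import Cfsg.Agent.R08.SevenCtx
import Cfsg.Agent.R08.USixFinal

/-!
# R08, piece (6): `C_G(V) / V ≃* PSU 6 F4 2`, and the field `hz` of `CloseLab.Hyp`
-/

set_option autoImplicit false
set_option linter.unusedSectionVars false

namespace Cfsg.Agent.R08.SixGlue

open Cfsg Cfsg.Agent.SporRec.GF4 Cfsg.Agent.R08 Cfsg.Agent.R08.Iface Cfsg.Agent.R08.SixIn
open Cfsg.Agent.R08.SevenCtx

section

variable {F : Type*} [Field F] [Fintype F] (hF : Fintype.card F = 2 ^ 2)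
variable {G : Type*} [Group G] {Q M : Subgroup G} {z : G} {L : Lab F Q M z} {V : Subgroup G}
include hF

omit hF in
theorem H_w1 : Cfsg.hermForm 4 F 2 (![1, 1, 0, 0] : Fin 4 → F) ![1, 1, 0, 0] = 1 + 1 := by
  rw [SixGeo.herm_four]
  simp

/-- an element of `C_G(V)` moving `z` into `M ∖ Q` -/
theorem exists_move (I : In L) (hV : Four L V) : ∃ k r1, (∀ a ∈ V, k * a = a * k) ∧
    k * z * k⁻¹ ∈ M ∧ IsR r1 ∧ H (r0 F) r1 = 0 ∧ (∀ a : F, r1 ≠ a • r0 F) ∧
    ∀ w, L.ρ (k * z * k⁻¹) w = tr (r0 F) (tr r1 w) := by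
  have hw : Cfsg.hermForm 4 F 2 (![1, 1, 0, 0] : Fin 4 → F) ![1, 1, 0, 0] = 0 := by
    rw [H_w1]
    exact SporadicStructure.UnitTwo.add_self hF 1
  have hw0 : (![1, 1, 0, 0] : Fin 4 → F) ≠ 0 := by
    intro h
    have := congrFun h 0
    simp at this
  have hRR := SixK.isR_rv hF hw hw0
  obtain ⟨ω, hω⟩ := SporadicStructure.UnitTwo.exists_omega hF
  obtain ⟨K, hK⟩ := I.K (r0 F) (SixK.rv ![1, 1, 0, 0]) (SixGeo.isR_r0_one hF) hRR (SixK.H_rv hF)
    (fun c => SixK.rv_ne hF hw0 c)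
  obtain ⟨x, hxS, -, -, -⟩ := SixK.exists_four hF hw hw0 I hV hK hω
  have hx := hxS 0
  obtain ⟨k, hk, hkz⟩ := I.cent V hV (x 0) (hK.le hx.mem) hx.out hx.twoB
    (fun a ha => hK.comm _ hx.mem a (SixK.V_le hK hV ha)) hx.twoA
  refine ⟨k, SixK.rv ![1, 1, 0, 0], hk, ?_, hRR, SixK.H_rv hF, fun c => SixK.rv_ne hF hw0 c, ?_⟩
  · rw [hkz]; exact hK.le hx.mem
  · intro w
    rw [hkz, hK.act _ hx.mem hx.out]

/-- the quotient `C_G(V) / V` -/
theorem exists_equiv [Finite G] (I : In L) (hV : Four L V) :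
    ∃ π : ↥(Subgroup.centralizer (V : Set G)) →* PSU 6 F 2, Function.Surjective π ∧
      (∀ c, π c = 1 ↔ (c : G) ∈ V) ∧
      ∃ z' : ↥(Subgroup.centralizer (V : Set G)), (z' : G) = z ∧
        USix.LocAt hF (conjugatesOf (π z')) (π z') := by
  have hcomm : ∀ x : ↥(Subgroup.centralizer (V : Set G)), ∀ a ∈ V, (x : G) * a = a * x :=
    fun x => SixMap.mem_cent_iff.1 x.2
  have hn : (V.subgroupOf (Subgroup.centralizer (V : Set G))).Normal := by
    constructor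
    intro n hn g
    rw [Subgroup.mem_subgroupOf] at hn ⊢
    have h1 := hcomm g n hn
    have e : ((g * n * g⁻¹ : ↥(Subgroup.centralizer (V : Set G))) : G) = n := by
      show (g : G) * n * (g : G)⁻¹ = n
      rw [h1, mul_inv_cancel_right]
    rw [e]; exact hn
  have hk : ∀ c, QuotientGroup.mk' (V.subgroupOf (Subgroup.centralizer (V : Set G))) c = 1 ↔
      (c : G) ∈ V := by
    intro c
    rw [← MonoidHom.mem_ker, QuotientGroup.ker_mk', Subgroup.mem_subgroupOf]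
  have hs := QuotientGroup.mk'_surjective (V.subgroupOf (Subgroup.centralizer (V : Set G)))
  have hz : z ∈ Subgroup.centralizer (V : Set G) :=
    SixMap.mem_cent_iff.2 fun a ha => (SixHom.four_cz hV ha).symm
  have hl := SixLoc.locAt hF I hV _ hs hk ⟨z, hz⟩ rfl
  obtain ⟨e⟩ := USix.main hl
  have hs' : Function.Surjective (e.toMonoidHom.comp
      (QuotientGroup.mk' (V.subgroupOf (Subgroup.centralizer (V : Set G))))) :=
    e.surjective.comp hs
  have hk' : ∀ c, (e.toMonoidHom.comp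
      (QuotientGroup.mk' (V.subgroupOf (Subgroup.centralizer (V : Set G))))) c = 1 ↔
      (c : G) ∈ V := by
    intro c
    rw [← hk c]
    exact map_eq_one_iff e e.injective
  exact ⟨_, hs', hk', ⟨z, hz⟩, rfl, SixLoc.locAt hF I hV _ hs' hk' ⟨z, hz⟩ rfl⟩

end

section

variable {G : Type*} [Group G] {Q M : Subgroup G} {z t r : G} {L : Lab F4 Q M z}

/-- the field `hz` of `CloseLab.Hyp` -/
theorem hz (I : In L) (h : Ctx L t r) : ∃ k r1, k * t = t * k ∧ k * z * k⁻¹ ∈ M ∧ Iface.IsR r1 ∧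
    Iface.H r1 (L.v t) = 0 ∧ (∀ a : F4, r1 ≠ a • L.v t) ∧
    ∀ w, L.ρ (k * z * k⁻¹) w = Iface.tr (L.v t) (Iface.tr r1 w) := by
  have hF : Fintype.card F4 = 2 ^ 2 := F4.card_F4
  obtain ⟨k, r1, hk, h1, h2, h3, h4, h5⟩ := exists_move hF I h.four
  refine ⟨k, r1, hk t (h.mem_V.2 (Or.inr (Or.inl rfl))), h1, h2, ?_, ?_, ?_⟩
  · rw [h.vt]; exact SixLoc.H_symm hF h3
  · rw [h.vt]; exact h4
  · rw [h.vt]; exact h5

/-- `C_G(V)` maps onto `PSU 6 F4 2` with kernel `V` -/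
theorem exists_pi [Finite G] (I : In L) (h : Ctx L t r) :
    ∃ π : ↥(Subgroup.centralizer (h.V : Set G)) →* PSU 6 F4 2, Function.Surjective π ∧
      ∀ c, π c = 1 ↔ (c : G) ∈ h.V := by
  obtain ⟨π, h1, h2, -⟩ := exists_equiv (F := F4) F4.card_F4 I h.four
  exact ⟨π, h1, h2⟩

end

end Cfsg.Agent.R08.SixGlue
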