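import Cfsg.Agent.R08.T7c
import Cfsg.Agent.R08.SevenCtx

/-!
# R08 (S1715), piece (7): (T1)-(T3) in the language of helper398's `SevenCtx.Ctx` (helper261)
-/

set_option autoImplicit false

namespace Cfsg.Agent.R08.T7

open Cfsg.Agent.SporRec.GF4 Cfsg.Agent.R08 Cfsg.Agent.R08.Iface Cfsg.Agent.R08.Geo
open Cfsg.Agent.R08.SixIn (In)

variable {G : Type*} [Group G] {Q M : Subgroup G} {z t r : G} {L : Lab F4 Q M z}

theorem toCtx (h : SevenCtx.Ctx L t r) : Ctx L t r := ⟨h.tQ, h.vt, h.rQ, h.vr⟩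

theorem t1 [Finite G] (h : SevenCtx.Ctx L t r) (I : In L) {y : G} (hy : y ∈ Q)
    (hyR : IsR (L.v y)) (hH : H (L.v y) (SixIn.r0 F4) = 1) :
    ∀ g, g * t = t * g → (g * y * g⁻¹) * z = z * (g * y * g⁻¹) →
      (g * y * g⁻¹) * r = r * (g * y * g⁻¹) → False :=
  fun _ h1 h2 h3 => (toCtx h).T1 I hy hyR hH h1 h2 h3

theorem t2 (h : SevenCtx.Ctx L t r)
    (hO : ∀ a, a * z = z * a → a ∉ M → L.TwoA a → ¬ L.TwoA (z * a)) {y : G} (hy : y ∈ Q)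
    (hyR : IsR (L.v y)) (hH : H (L.v y) (SixIn.r0 F4) = 1) :
    ∀ g, g * t = t * g → (g * y * g⁻¹) * z = z * (g * y * g⁻¹) →
      (g * y * g⁻¹) * r * (g * y * g⁻¹)⁻¹ = r * t * z → False := by
  intro g h1 h2 h3
  have c := toCtx h
  refine c.T2 hO hy hyR hH h1 h2 ?_
  rw [h3, ← c.comm, mul_assoc, mul_assoc, z_comm L c.hr]

theorem t3 (h : SevenCtx.Ctx L t r) (I : In L) {y : G} (hy : y ∈ Q) (hyR : IsR (L.v y))
    (hH : H (L.v y) (SixIn.r0 F4) = 1) :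
    ∃ g, g * t = t * g ∧ (g * y * g⁻¹) * r * (g * y * g⁻¹)⁻¹ = t * r := by
  have c := toCtx h
  obtain ⟨g, x, hg, -, -, -, hyx, hgx⟩ := c.exists_x I hy hyR hH
  have hgt : g * t = t * g := by
    calc g * t = g * t * g⁻¹ * g := by group
      _ = t * g := by rw [hg]
  have hyt : y * t = t * y := comm_of_H1 L hy c.ht (by rw [c.vt]; exact hH)
  have e1 : (g * y * g⁻¹) * (g * x * g⁻¹) * (g * y * g⁻¹)⁻¹ = (g * x * g⁻¹) * t := by
    calc (g * y * g⁻¹) * (g * x * g⁻¹) * (g * y * g⁻¹)⁻¹ = g * (y * x * y⁻¹) * g⁻¹ := by group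
      _ = g * (x * t) * g⁻¹ := by rw [hyx]
      _ = (g * x * g⁻¹) * (g * t * g⁻¹) := by group
      _ = _ := by rw [hg]
  refine ⟨g, hgt, ?_⟩
  rcases hgx with h1 | h1
  · rw [h1] at e1
    rw [e1, c.comm]
  · rw [h1] at e1
    have e2 : (g * y * g⁻¹) * t * (g * y * g⁻¹)⁻¹ = t := by
      calc (g * y * g⁻¹) * t * (g * y * g⁻¹)⁻¹
          = (g * y * g⁻¹) * (g * t * g⁻¹) * (g * y * g⁻¹)⁻¹ := by rw [hg]
        _ = g * (y * t) * y⁻¹ * g⁻¹ := by group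
        _ = g * (t * y) * y⁻¹ * g⁻¹ := by rw [hyt]
        _ = g * t * g⁻¹ := by group
        _ = t := hg
    have e3 : (g * y * g⁻¹) * (t * r) * (g * y * g⁻¹)⁻¹ =
        ((g * y * g⁻¹) * t * (g * y * g⁻¹)⁻¹) * ((g * y * g⁻¹) * r * (g * y * g⁻¹)⁻¹) := by group
    rw [e3, e2] at e1
    have e4 : t * r * t = t * (r * t) := mul_assoc _ _ _
    rw [e4] at e1
    rw [mul_left_cancel e1, c.comm]

end Cfsg.Agent.R08.T7
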