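import Cfsg.Agent.R08.SevenAll
import Cfsg.Agent.R08.T7d
import Cfsg.Agent.R08.InvBase
import Cfsg.Agent.R08.SixBridge
import Cfsg.Agent.R08.SixGlue

/-!
# R08 (S1715): the output of (1)-(7) from a labelled extraspecial group (helper398)

* `exists_in`: some labelling satisfies `SixIn.In`;
* `exists_out`: the hypotheses of Theorem X (with coherence) at `t ∈ Q`;
* `close`: given a subgroup `K ≥ C_G(t)` for which `r` and `t r` are `K`-conjugate to `t`: `K = G`.
-/

set_option autoImplicit false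
set_option linter.unusedSectionVars false

namespace Cfsg.Agent.R08.SevenOut

open Cfsg Cfsg.Agent.SporRec.GF4 Cfsg.Agent.R08 Cfsg.Agent.R08.Iface Cfsg.Agent.R08.SixIn
open Cfsg.Agent.R08.SevenCtx Cfsg.Agent.R08.SevenCtx.Ctx Cfsg.Agent.R08.SevenFin

universe u

variable {G : Type u} [Group G] [Finite G] {Q M : Subgroup G} {z : G} (L : Lab F4 Q M z)
  (hnwc : ∃ g : G, g * z * g⁻¹ ∈ Q ∧ g * z * g⁻¹ ≠ z)
  (even : ∀ f : M →* ℤˣ, (∀ m : M, (m : G) ∈ Q → f m = 1) → ∀ m, f m = 1)

include L hnwc even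

/-- A labelling with all the facts of (1)-(5). -/
theorem exists_in : ∃ L1 : Lab F4 Q M z, In L1 := by
  have hz : z ∈ (TwoSys.sysOf L hnwc even).Z := L.twoB_self
  have h1 := SixBridge.inOf F4.card_F4 (TwoSys.sysOf L hnwc even) ThreeOut.geo3 hz
    (TwoSys.LL_twoA L L.twoB_self) (TwoSys.LL_twoB L L.twoB_self)
  have key : ∀ (Q' M' : Subgroup G) (L' : Lab F4 Q' M' z), In L' → Q' = Q → M' = M →
      ∃ L1 : Lab F4 Q M z, In L1 := by
    rintro Q' M' L' h' rfl rfl
    exact ⟨L', h'⟩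
  exact key _ _ _ h1 (InvBase.QQ_z L) (InvBase.MM_z L)

theorem t123 (I : In L) {t r y : G} (h : Ctx L t r) (hy : y ∈ Q) (hyR : Iface.IsR (L.v y))
    (hH : Iface.H (L.v y) (r0 F4) = 1) : T123 t r y z where
  t1 := T7.t1 h I hy hyR hH
  t2 := T7.t2 h (fun _ ha haM hA hzA => haM (L.Q_le (InvBase.out L hnwc even ha hA hzA))) hy hyR hH
  t3 := T7.t3 h I hy hyR hH

/-- **The output of (1)-(7)**: the hypotheses of Theorem X. -/
theorem exists_out (I : In L) :
    ∃ (t r : G) (_ : Ctx L t r) (L' : Subgroup (Subgroup.centralizer ({t} : Set G))) (r' : L')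
      (n : G), Concl t r L' ∧ ((r' : Subgroup.centralizer ({t} : Set G)) : G) = r ∧
      n * z = z * n ∧ n * t * n⁻¹ = r ∧ n * r * n⁻¹ = t ∧
      ∀ x : L', IsConj r' x → x ≠ r' → Commute x r' →
        ∃ y : L', IsConj r' y ∧ ((y : Subgroup.centralizer ({t} : Set G)) : G) =
          n * ((x : Subgroup.centralizer ({t} : Set G)) : G) * n⁻¹ :=
  SevenAll.exists_all L I fun _ _ _ h hy hyR hH => t123 L hnwc even I h hy hyR hH

/-- **Closing**: the subgroup from Theorem X is the whole group. -/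
theorem close (I : In L) {t r : G} (h : Ctx L t r) (K : Subgroup G)
    (hK : Subgroup.centralizer ({t} : Set G) ≤ K) (hr : ∃ k ∈ K, k * t * k⁻¹ = r)
    (htr : ∃ k ∈ K, k * t * k⁻¹ = t * r) : K = ⊤ := by
  have hyp : CloseLab.Hyp L K t r :=
    { tQ := h.tQ
      tR := h.isR_t
      cent := hK
      rQ := h.rQ
      rv := ⟨F4.w, by rw [h.vr, h.vt]⟩
      rv1 := by
        rw [h.vr, h.vt]
        intro e
        exact absurd (congrFun e 4) (by decide)
      rv0 := Geo.R_ne_zero h.isR_r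
      rK := hr
      trK := htr
      hz := SixGlue.hz I h }
  exact hyp.eq_top (Geo.geoLab L) (InvBase.good L hnwc even) (InvBase.common L hnwc)
    (fun x hx _ hs => FusQ.twoB_of_isS L hnwc hx hs)
    (fun w hw hH => Geo.R_or_S hH hw)
    (InvBase.inM L hnwc even) (InvBase.outM L hnwc even)
    (FusQ.not_twoB_of_isR L h.tQ h.isR_t) (fun w hw => Geo.H_self_R hw)

end Cfsg.Agent.R08.SevenOut
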