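import Cfsg.Agent.R08.Seven
import Cfsg.Agent.R01.Strong

/-!
Step (7) of S1715 with the recognition theorem of `Fi22` inserted (strong form: the involution `r` is mapped to a
transposition).
-/

set_option autoImplicit false

namespace Cfsg.Agent.R08.Seven

open Cfsg

universe u

/-- The strong recognition theorem. -/
theorem recT : RecT.{u} Cfsg.Agent.R01.Fi22Facts.T := by
  intro G _ _ d hd hq _ K _ _ hK ⟨e⟩ hn
  exact Cfsg.Agent.R01.Strong.strong d hd hq K hK e hn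

theorem isSimple_fi22 : IsSimpleGroup Spor.Fi22 := Cfsg.Agent.R01.Fi22Facts.isSimple

variable {H : Type u} [Group H] {K : Type} [Field K] [Fintype K] {t r y : H}
  {π : Subgroup.centralizer ({r} : Set H) →* PSU 6 K 2}

/-- Step (7), final form: `φ r` is a transposition, `T = conjugatesOf (gen a)`. -/
theorem final [Finite H] (h : Hyp K t r y π)
    (hy : orderOf y = 2) (P : Sylow 2 H) (Q : Subgroup H) (hQP : Q ≤ (P : Subgroup H))
    (hQi : Q.relIndex (P : Subgroup H) = 2) (hyP : y ∈ (P : Subgroup H))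
    (hyQ : ∀ g : H, g * y * g⁻¹ ∉ Q) :
    ∃ L : Subgroup H, L.index = 2 ∧ y ∉ L ∧
      L.Normal ∧ Subgroup.centralizer ({r} : Set H) ≤ L ∧ commutator L = ⊤ ∧ IsQuasisimple L ∧
      (∀ x : H, (∀ c ∈ L, c * x = x * c) ↔ x = 1 ∨ x = t) ∧
      ∃ φ : L →* Spor.Fi22, Function.Surjective φ ∧
        (∀ x : L, φ x = 1 ↔ (x : H) = 1 ∨ (x : H) = t) ∧
        ∀ hr : r ∈ L, φ ⟨r, hr⟩ ∈ Cfsg.Agent.R01.Fi22Facts.T :=
  mainT recT isSimple_fi22 h hy P Q hQP hQi hyP hyQ

end Cfsg.Agent.R08.Seven
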