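import Cfsg.Agent.R08.SixIn

/-!
# R08, piece (6), concrete part: geometry of `r0 ^ ⊥ / r0`

For an isotropic `x ≠ 0` of `F ^ 4` the vector `emb4 x b` is an `R`-vector iff `b = ∏ x i`.
-/

set_option autoImplicit false

namespace Cfsg.Agent.R08.SixGeo

open Cfsg Cfsg.Agent.R08.Iface Cfsg.Agent.R08.SixIn Cfsg.Agent.LieClassical.HermBasic
open Cfsg.Agent.ClassicalGeometry.UnitTransv Cfsg.Agent.SporadicStructure.UnitTwo

section

variable {F : Type*} [Field F]

/-- the first four coordinates -/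
def top (w : Fin 6 → F) : Fin 4 → F := ![w 0, w 1, w 2, w 3]

/-- the vector `(x, b, b)` -/
def emb4 (x : Fin 4 → F) (b : F) : Fin 6 → F := ![x 0, x 1, x 2, x 3, b, b]

theorem top_emb4 (x : Fin 4 → F) (b : F) : top (emb4 x b) = x := by
  funext i; fin_cases i <;> rfl

theorem emb4_zero (b : F) : emb4 (0 : Fin 4 → F) b = b • r0 F := by
  funext i; fin_cases i <;> simp [emb4, r0]

theorem emb4_add (x y : Fin 4 → F) (b c : F) : emb4 (x + y) (b + c) = emb4 x b + emb4 y c := by
  funext i; fin_cases i <;> simp [emb4]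

theorem emb4_smul (a : F) (x : Fin 4 → F) (b : F) : emb4 (a • x) (a * b) = a • emb4 x b := by
  funext i; fin_cases i <;> simp [emb4]

theorem emb4_add_r0 (x : Fin 4 → F) (b c : F) : emb4 x b + c • r0 F = emb4 x (b + c) := by
  rw [← emb4_zero, ← emb4_add, add_zero]

theorem top_add (u w : Fin 6 → F) : top (u + w) = top u + top w := by
  funext i; fin_cases i <;> rfl

theorem top_smul (a : F) (w : Fin 6 → F) : top (a • w) = a • top w := by
  funext i; fin_cases i <;> rfl

theorem top_r0 : top (r0 F) = 0 := by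
  funext i; fin_cases i <;> rfl

theorem emb4_inj {x y : Fin 4 → F} {b c : F} (h : emb4 x b = emb4 y c) : x = y ∧ b = c := by
  constructor
  · rw [← top_emb4 x b, h, top_emb4]
  · exact congrFun h 4

theorem r0_ne_zero : r0 F ≠ 0 := by
  intro h
  have := congrFun h 4
  simp [r0] at this

theorem H_six (u w : Fin 6 → F) : H u w = u 0 * w 0 ^ 2 + u 1 * w 1 ^ 2 + u 2 * w 2 ^ 2 +
    u 3 * w 3 ^ 2 + u 4 * w 4 ^ 2 + u 5 * w 5 ^ 2 := by
  rw [H_def, Fin.sum_univ_six]

theorem herm_four (u w : Fin 4 → F) : hermForm 4 F 2 u w = u 0 * w 0 ^ 2 + u 1 * w 1 ^ 2 +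
    u 2 * w 2 ^ 2 + u 3 * w 3 ^ 2 := by
  rw [herm_def, Fin.sum_univ_four]

end

section

variable {F : Type*} [Field F] [Fintype F] (hF : Fintype.card F = 2 ^ 2)
include hF

theorem H_r0 (w : Fin 6 → F) : H w (r0 F) = w 4 + w 5 := by
  rw [H_six]
  show w 0 * 0 ^ 2 + w 1 * 0 ^ 2 + w 2 * 0 ^ 2 + w 3 * 0 ^ 2 + w 4 * 1 ^ 2 + w 5 * 1 ^ 2 = _
  ring

theorem perp_r0 {w : Fin 6 → F} (h : H w (r0 F) = 0) : w = emb4 (top w) (w 4) := by
  rw [H_r0 hF] at h
  have h1 : w 4 = w 5 := eq_of_add_eq_zero hF h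
  funext i
  fin_cases i
  · rfl
  · rfl
  · rfl
  · rfl
  · rfl
  · exact h1.symm

theorem emb4_perp (x : Fin 4 → F) (b : F) : H (emb4 x b) (r0 F) = 0 := by
  rw [H_r0 hF]
  exact add_self hF b

theorem H_emb4 (x y : Fin 4 → F) (b c : F) :
    H (emb4 x b) (emb4 y c) = hermForm 4 F 2 x y := by
  rw [H_six, herm_four]
  show x 0 * y 0 ^ 2 + x 1 * y 1 ^ 2 + x 2 * y 2 ^ 2 + x 3 * y 3 ^ 2 + b * c ^ 2 + b * c ^ 2 = _
  linear_combination (b * c ^ 2) * two_eq_zero hF

/-- the weight as a sum -/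
theorem wt_emb4 (x : Fin 4 → F) (b : F) [DecidableEq F] : wt (emb4 x b) =
    (if x 0 ≠ 0 then 1 else 0) + (if x 1 ≠ 0 then 1 else 0) + (if x 2 ≠ 0 then 1 else 0) +
    (if x 3 ≠ 0 then 1 else 0) + (if b ≠ 0 then 1 else 0) + (if b ≠ 0 then 1 else 0) := by
  classical
  rw [wt, Finset.card_filter, Fin.sum_univ_six]
  simp only [emb4]
  congr

theorem cube {a : F} (ha : a ≠ 0) : a * a ^ 2 = 1 := by
  have := pow_three hF ha
  linear_combination this

/-- **the `R`-vectors of `r0 ^ ⊥`** -/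
theorem isR_emb4 {x : Fin 4 → F} (hx : hermForm 4 F 2 x x = 0) (h0 : x ≠ 0) (b : F) :
    IsR (emb4 x b) ↔ b = x 0 * x 1 * x 2 * x 3 := by
  classical
  have h2 := two_eq_zero hF
  rw [herm_four] at hx
  rw [IsR, wt_emb4 hF, Fin.prod_univ_six]
  show (_ ∨ _ ∧ x 0 * x 1 * x 2 * x 3 * b * b = 1) ↔ _
  have odd1 : (1 : F) ≠ 0 := one_ne_zero
  have odd3 : (1 : F) + 1 + 1 ≠ 0 := fun h => odd1 (by linear_combination h - h2)
  by_cases e0 : x 0 = 0 <;> by_cases e1 : x 1 = 0 <;> by_cases e2 : x 2 = 0 <;>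
    by_cases e3 : x 3 = 0
  -- all coordinates zero
  · exfalso
    apply h0
    funext i
    fin_cases i
    · exact e0
    · exact e1
    · exact e2
    · exact e3
  · rw [e0, e1, e2, cube hF e3] at hx
    exact absurd (by linear_combination hx) odd1
  · rw [e0, e1, e3, cube hF e2] at hx
    exact absurd (by linear_combination hx) odd1
  · by_cases hb : b = 0 <;> simp [e0, e1, e2, e3, hb]
  · rw [e0, e2, e3, cube hF e1] at hx
    exact absurd (by linear_combination hx) odd1
  · by_cases hb : b = 0 <;> simp [e0, e1, e2, e3, hb]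
  · by_cases hb : b = 0 <;> simp [e0, e1, e2, e3, hb]
  · rw [e0, cube hF e1, cube hF e2, cube hF e3] at hx
    exact absurd (by linear_combination hx) odd3
  · rw [e1, e2, e3, cube hF e0] at hx
    exact absurd (by linear_combination hx) odd1
  · by_cases hb : b = 0 <;> simp [e0, e1, e2, e3, hb]
  · by_cases hb : b = 0 <;> simp [e0, e1, e2, e3, hb]
  · rw [e1, cube hF e0, cube hF e2, cube hF e3] at hx
    exact absurd (by linear_combination hx) odd3
  · by_cases hb : b = 0 <;> simp [e0, e1, e2, e3, hb]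
  · rw [e2, cube hF e0, cube hF e1, cube hF e3] at hx
    exact absurd (by linear_combination hx) odd3
  · rw [e3, cube hF e0, cube hF e1, cube hF e2] at hx
    exact absurd (by linear_combination hx) odd3
  · have hP : x 0 * x 1 * x 2 * x 3 ≠ 0 := mul_ne_zero (mul_ne_zero (mul_ne_zero e0 e1) e2) e3
    by_cases hb : b = 0
    · rw [hb]
      constructor
      · rintro (h | ⟨-, h⟩)
        · simp [e0, e1, e2, e3] at h
        · simp at h
      · intro h
        exact absurd h.symm hP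
    · have h3 := cube hF hb
      simp only [ne_eq, e0, e1, e2, e3, hb, not_false_eq_true, if_true]
      constructor
      · rintro (h | ⟨-, h⟩)
        · omega
        · linear_combination (-b) * h + (x 0 * x 1 * x 2 * x 3) * h3
      · intro h
        right
        refine ⟨trivial, ?_⟩
        rw [← h]
        linear_combination h3

theorem isR_r0 {b : F} (hb : b ≠ 0) : IsR (b • r0 F) := by
  classical
  rw [← emb4_zero, IsR, wt_emb4 hF]
  left
  simp [hb]

theorem isR_r0_one : IsR (r0 F) := by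
  have := isR_r0 hF (one_ne_zero (α := F))
  rwa [one_smul] at this

end

end Cfsg.Agent.R08.SixGeo
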