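import Cfsg.Agent.R08.SixGeo

/-!
# R08, piece (6), concrete part: the action of `C_G(V) ∩ C_G(z)` on `r0 ^ ⊥ / r0`
-/

set_option autoImplicit false
set_option linter.unusedSectionVars false

namespace Cfsg.Agent.R08.SixHom

open Cfsg Cfsg.Agent.R08.Iface Cfsg.Agent.R08.SixIn Cfsg.Agent.LieClassical.HermBasic
open Cfsg.Agent.ClassicalGeometry.UnitTransv Cfsg.Agent.SporadicStructure.UnitTwo
open Cfsg.Agent.R08.SixGeo

section Stab

variable {F : Type*} [Field F] [Fintype F] (hF : Fintype.card F = 2 ^ 2)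
include hF

theorem r0_eq : r0 F = Cfsg.Agent.R01.PSUSix.u0 F 4 := by
  funext i
  fin_cases i <;> simp [r0, Cfsg.Agent.R01.PSUSix.u0, Fin.append, Fin.addCases]

theorem H_eq (u w : Fin 6 → F) : H u w = hermForm 6 F 2 u w := rfl

/-- The element of `SU 4 2` induced on `r0 ^ ⊥ / r0` by an element of `SU 6 2` fixing `r0`. -/
theorem exists_blk {g : SU 6 F 2} (hg : act g (r0 F) = r0 F) :
    ∃ B : SU 4 F 2, ∀ x b, ∃ c, act g (emb4 x b) = emb4 (act B x) c := by
  obtain ⟨ω, hω⟩ := exists_omega hF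
  have hmem := Cfsg.Agent.R01.PSUSix.stab_le (m := 4) hF hω le_rfl (g := g)
    (by rw [← r0_eq hF]; exact hg)
  have key : ∀ g : SU 6 F 2, g ∈ Cfsg.Agent.R01.PSUSix.Ru hF (Cfsg.Agent.R01.PSUSix.u0 F 4) →
      act g (r0 F) = r0 F ∧ ∃ B : SU 4 F 2, ∀ x b, ∃ c, act g (emb4 x b) = emb4 (act B x) c := by
    intro g hg
    refine Subgroup.closure_induction (p := fun g _ => act g (r0 F) = r0 F ∧
      ∃ B : SU 4 F 2, ∀ x b, ∃ c, act g (emb4 x b) = emb4 (act B x) c) ?_ ?_ ?_ ?_ hg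
    · rintro _ ⟨w, hw, hwu, rfl⟩
      have hwr : H w (r0 F) = 0 := by rw [r0_eq hF]; exact hwu
      have hwe := perp_r0 hF hwr
      have hw4 : hermForm 4 F 2 (top w) (top w) = 0 := by
        have h1 : H w w = 0 := hw
        rw [hwe, H_emb4 hF] at h1
        exact h1
      refine ⟨?_, T hF (top w) hw4, fun x b => ?_⟩
      · apply act_T_of_perp
        exact herm_eq_zero_swap hF hwr
      · refine ⟨b + hermForm 4 F 2 x (top w) * w 4, ?_⟩
        have h1 : hermForm 6 F 2 (emb4 x b) w = hermForm 4 F 2 x (top w) := by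
          have : H (emb4 x b) w = hermForm 4 F 2 x (top w) := by
            conv_lhs => rw [hwe]
            rw [H_emb4 hF]
          exact this
        rw [act_T, act_T, h1, emb4_add, emb4_smul, ← hwe]
    · exact ⟨act_one _, 1, fun x b => ⟨b, by rw [act_one, act_one]⟩⟩
    · rintro g₁ g₂ - - ⟨h1, B₁, hB₁⟩ ⟨h2, B₂, hB₂⟩
      refine ⟨by rw [act_mul, h2, h1], B₁ * B₂, fun x b => ?_⟩
      obtain ⟨c, hc⟩ := hB₂ x b
      obtain ⟨d, hd⟩ := hB₁ (act B₂ x) c
      exact ⟨d, by rw [act_mul, hc, hd, act_mul]⟩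
    · rintro g - ⟨h1, B, hB⟩
      have h1' : act g⁻¹ (r0 F) = r0 F := by
        conv_lhs => rw [← h1]
        rw [act_inv_act]
      refine ⟨h1', B⁻¹, fun x b => ?_⟩
      obtain ⟨c, hc⟩ := hB (act B⁻¹ x) 0
      rw [act_act_inv] at hc
      refine ⟨b - c, ?_⟩
      have h2 : (emb4 x b : Fin 6 → F) = emb4 x c + (b - c) • r0 F := by
        rw [emb4_add_r0]; congr 1; ring
      rw [h2, act_add, act_smul, h1', ← hc, act_inv_act, emb4_add_r0]
      congr 1; ring
  exact (key g hmem).2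

end Stab

section

variable {F : Type*} [Field F] [Fintype F] (hF : Fintype.card F = 2 ^ 2)
variable {G : Type*} [Group G] {Q M : Subgroup G} {z : G} {L : Lab F Q M z}
include hF

/-- the action of `m ∈ M` fixing `r0` on `r0 ^ ⊥ / r0` -/
theorem exists_act {m : G} (hm : m ∈ M) (h0 : L.ρ m (r0 F) = r0 F) :
    ∃ B : SU 4 F 2, ∀ x b, ∃ c, L.ρ m (emb4 x b) = emb4 (act B x) c := by
  obtain ⟨A, hA, hAm⟩ := L.lin m hm
  have hact : ∀ w, act (⟨A, hA⟩ : SU 6 F 2) w = L.ρ m w := fun w => (hAm w).symm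
  obtain ⟨B, hB⟩ := exists_blk hF (g := (⟨A, hA⟩ : SU 6 F 2)) (by rw [hact]; exact h0)
  refine ⟨B, fun x b => ?_⟩
  obtain ⟨c, hc⟩ := hB x b
  exact ⟨c, by rw [← hact, hc]⟩

end

/-! ### elements centralising `V` and `z` -/

/-- `g` centralises `V` and `z` -/
structure CVz {G : Type*} [Group G] (V : Subgroup G) (z g : G) : Prop where
  c : ∀ a ∈ V, g * a = a * g
  cz : g * z = z * g

section

variable {G : Type*} [Group G] {V : Subgroup G} {z : G}

theorem CVz.one : CVz V z 1 := ⟨fun a _ => by rw [one_mul, mul_one], by rw [one_mul, mul_one]⟩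

theorem CVz.mul {g h : G} (hg : CVz V z g) (hh : CVz V z h) : CVz V z (g * h) := by
  constructor
  · intro a ha
    rw [mul_assoc, hh.c a ha, ← mul_assoc, hg.c a ha, mul_assoc]
  · rw [mul_assoc, hh.cz, ← mul_assoc, hg.cz, mul_assoc]

theorem CVz.inv {g : G} (hg : CVz V z g) : CVz V z g⁻¹ := by
  constructor
  · intro a ha
    have := hg.c a ha
    calc g⁻¹ * a = g⁻¹ * (a * g) * g⁻¹ := by group
      _ = g⁻¹ * (g * a) * g⁻¹ := by rw [this]
      _ = a * g⁻¹ := by group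
  · have := hg.cz
    calc g⁻¹ * z = g⁻¹ * (z * g) * g⁻¹ := by group
      _ = g⁻¹ * (g * z) * g⁻¹ := by rw [this]
      _ = z * g⁻¹ := by group

end

section

variable {F : Type*} [Field F] [Fintype F] (hF : Fintype.card F = 2 ^ 2)
variable {G : Type*} [Group G] {Q M : Subgroup G} {z : G} {L : Lab F Q M z} {V : Subgroup G}
include hF

theorem H_smul_right (a : F) (u w : Fin 6 → F) : H u (a • w) = a ^ 2 * H u w := by
  rw [H_six, H_six]
  simp only [Pi.smul_apply, smul_eq_mul]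
  ring

theorem H_smul_left (a : F) (u w : Fin 6 → F) : H (a • u) w = a * H u w := by
  rw [H_six, H_six]
  simp only [Pi.smul_apply, smul_eq_mul]
  ring

theorem omega_facts {ω : F} (hω : ω ^ 2 + ω + 1 = 0) : ω ≠ 0 ∧ ω ≠ 1 ∧ ω ^ 2 ≠ 0 ∧ ω ^ 2 ≠ 1 ∧
    ω ^ 2 * ω = 1 ∧ ω ^ 2 * ω ^ 2 = ω := by
  have h2 := two_eq_zero hF
  have h0 : ω ≠ 0 := by
    rintro rfl
    simp at hω
  have h1 : ω ≠ 1 := by
    rintro rfl
    exact one_ne_zero (α := F) (by linear_combination hω - h2)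
  have h3 : ω ^ 2 * ω = 1 := by linear_combination (ω - 1) * hω
  refine ⟨h0, h1, pow_ne_zero 2 h0, ?_, h3, by linear_combination ω * h3⟩
  intro h4
  rw [h4, one_mul] at h3
  exact h1 h3

theorem cases_four {ω : F} (hω : ω ^ 2 + ω + 1 = 0) (a : F) :
    a = 0 ∨ a = 1 ∨ a = ω ∨ a = ω ^ 2 := by
  have h2 := two_eq_zero hF
  by_cases h0 : a = 0
  · exact Or.inl h0
  by_cases h1 : a = 1
  · exact Or.inr (Or.inl h1)
  right; right
  have h3 := pow_three hF h0
  have h4 : (a - 1) * (a ^ 2 + a + 1) = 0 := by linear_combination h3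
  have h5 : a ^ 2 + a + 1 = 0 := (mul_eq_zero.1 h4).resolve_left (sub_ne_zero.2 h1)
  have h6 : (a - ω) * (a - ω ^ 2) = 0 := by
    have h7 : ω ^ 3 = 1 := by linear_combination (ω - 1) * hω
    linear_combination h5 + h7 - a * hω
  rcases mul_eq_zero.1 h6 with h | h
  · exact Or.inl (sub_eq_zero.1 h)
  · exact Or.inr (sub_eq_zero.1 h)

theorem H_self_r0 (a b : F) : H (a • r0 F) (b • r0 F) = 0 := by
  rw [← emb4_zero, ← emb4_zero, H_emb4 hF, herm_zero_left]

theorem four_sq (hV : Four L V) {a : G} (ha : a ∈ V) : a * a = 1 := by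
  obtain ⟨c, hc⟩ := hV.lab a ha
  rw [L.sq_iff a (hV.le ha), hc]
  exact H_self_r0 hF c c

theorem four_comm (hV : Four L V) {a b : G} (ha : a ∈ V) (hb : b ∈ V) : a * b = b * a := by
  obtain ⟨c, hc⟩ := hV.lab a ha
  obtain ⟨d, hd⟩ := hV.lab b hb
  rw [L.comm_iff a (hV.le ha) b (hV.le hb), hc, hd]
  exact Or.inl (H_self_r0 hF c d)

omit hF [Fintype F] in
theorem four_cz (hV : Four L V) {a : G} (ha : a ∈ V) : a * z = z * a :=
  L.large.comm_z a (hV.le ha)

theorem four_CVz (hV : Four L V) {a : G} (ha : a ∈ V) : CVz V z a :=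
  ⟨fun _ hb => four_comm hF hV ha hb, four_cz hV ha⟩

/-- an element of `V` is determined by its label -/
theorem four_eq (hV : Four L V) {a b : G} (ha : a ∈ V) (hb : b ∈ V) (h : L.v a = L.v b) :
    a = b := by
  rcases (L.v_eq (hV.le ha) (hV.le hb)).1 h with h1 | h1
  · exact h1
  · exfalso
    apply hV.nz
    have : z = b⁻¹ * a := by rw [h1]; group
    rw [this]
    exact V.mul_mem (V.inv_mem hb) ha

theorem four_lab_ne (hV : Four L V) {a : G} (ha : a ∈ V) (h1 : a ≠ 1) :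
    ∃ c : F, c ≠ 0 ∧ L.v a = c • r0 F := by
  obtain ⟨c, hc⟩ := hV.lab a ha
  refine ⟨c, ?_, hc⟩
  rintro rfl
  rw [zero_smul] at hc
  exact h1 (four_eq hF hV ha V.one_mem (by rw [hc, L.v_one]))

/-- elements of `z V`, except `z`, are in the class `2A` -/
theorem twoA_z_mul (hV : Four L V) {a : G} (ha : a ∈ V) (h1 : a ≠ 1) : L.TwoA (z * a) := by
  obtain ⟨c, hc, hl⟩ := four_lab_ne hF hV ha h1
  have hzQ := L.large.z_mem
  apply L.twoA_of_isR (Q.mul_mem hzQ (hV.le ha))
  rw [L.v_mul z hzQ a (hV.le ha), L.v_z, zero_add, hl]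
  exact isR_r0 hF hc

theorem twoA_four (hV : Four L V) {a : G} (ha : a ∈ V) (h1 : a ≠ 1) : L.TwoA a := by
  obtain ⟨c, hc, hl⟩ := four_lab_ne hF hV ha h1
  apply L.twoA_of_isR (hV.le ha)
  rw [hl]
  exact isR_r0 hF hc

omit hF [Fintype F] in
/-- `C_G(V) ∩ C_G(z)` fixes `F r0` -/
theorem fix (hV : Four L V) {g : G} (hg : CVz V z g) (a : F) :
    L.ρ g (a • r0 F) = a • r0 F := by
  obtain ⟨x, hx, hxl⟩ := hV.surj a
  rw [← hxl, ← L.v_conj g hg.cz x (hV.le hx), hg.c x hx, mul_inv_cancel_right]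

omit hF [Fintype F] in
theorem fix_one (hV : Four L V) {g : G} (hg : CVz V z g) : L.ρ g (r0 F) = r0 F := by
  have := fix hV hg (1 : F)
  rwa [one_smul] at this

/-- `C_G(V) ∩ C_G(z) ≤ M` -/
theorem mem_M (I : In L) (hV : Four L V) {g : G} (hg : CVz V z g) : g ∈ M := by
  by_contra hcon
  have hs := I.semi g hg.cz hcon
  obtain ⟨ω, hω⟩ := exists_omega hF
  obtain ⟨h0, h1, -, -, -, -⟩ := omega_facts hF hω
  have h3 := hs.smul ω (r0 F)
  rw [fix hV hg, fix_one hV hg] at h3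
  have h4 := congrFun h3 4
  simp [r0] at h4
  have h5 : ω * (ω - 1) = 0 := by linear_combination -h4
  rcases mul_eq_zero.1 h5 with h | h
  · exact h0 h
  · exact h1 (sub_eq_zero.1 h)

/-- elements of `Q` centralising `V` -/
theorem perp_of_comm (hV : Four L V) {x : G} (hx : x ∈ Q) (hc : ∀ a ∈ V, x * a = a * x) :
    H (L.v x) (r0 F) = 0 := by
  obtain ⟨ω, hω⟩ := exists_omega hF
  obtain ⟨h0, h1, h2, h3, -, -⟩ := omega_facts hF hω
  obtain ⟨a, ha, hal⟩ := hV.surj 1
  obtain ⟨b, hb, hbl⟩ := hV.surj ω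
  have e1 := (L.comm_iff x hx a (hV.le ha)).1 (hc a ha)
  have e2 := (L.comm_iff x hx b (hV.le hb)).1 (hc b hb)
  rw [hal, one_smul] at e1
  rw [hbl, H_smul_right hF] at e2
  rcases e1 with e1 | e1
  · exact e1
  · rw [e1, mul_one] at e2
    rcases e2 with e2 | e2
    · exact absurd e2 h2
    · exact absurd e2 h3

theorem comm_of_perp (hV : Four L V) {x : G} (hx : x ∈ Q) (h : H (L.v x) (r0 F) = 0) :
    ∀ a ∈ V, x * a = a * x := by
  intro a ha
  obtain ⟨c, hc⟩ := hV.lab a ha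
  rw [L.comm_iff x hx a (hV.le ha), hc, H_smul_right hF, h, mul_zero]
  exact Or.inl rfl

theorem CVz_of_perp (hV : Four L V) {x : G} (hx : x ∈ Q) (h : H (L.v x) (r0 F) = 0) :
    CVz V z x := ⟨comm_of_perp hF hV hx h, L.large.comm_z x hx⟩

/-- Correction of an element of `M` fixing `r0` by an element of `Q`. -/
theorem exists_adjust (hV : Four L V) {m : G} (hm : m ∈ M) (h0 : L.ρ m (r0 F) = r0 F) :
    ∃ q ∈ Q, CVz V z (q * m) := by
  obtain ⟨ω, hω⟩ := exists_omega hF
  obtain ⟨w0, w1, w2, w3, w4, w5⟩ := omega_facts hF hω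
  have hmz := L.M_comm m hm
  obtain ⟨a, ha, hal⟩ := hV.surj 1
  obtain ⟨b, hb, hbl⟩ := hV.surj ω
  rw [one_smul] at hal
  have hfix : ∀ c : F, L.ρ m (c • r0 F) = c • r0 F := by
    intro c
    rw [(L.isLin hm).smul, h0]
  -- the action on `V`
  have hmv : ∀ x ∈ V, m * x * m⁻¹ = x ∨ m * x * m⁻¹ = x * z := by
    intro x hx
    obtain ⟨c, hc⟩ := hV.lab x hx
    have hmx : m * x * m⁻¹ ∈ Q := L.large.conj_mem m hmz x (hV.le hx)
    rw [← L.v_eq hmx (hV.le hx), L.v_conj m hmz x (hV.le hx), hc, hfix]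
  -- it is enough to centralise `a` and `b`
  have key : ∀ q ∈ Q, (q * m) * a * (q * m)⁻¹ = a → (q * m) * b * (q * m)⁻¹ = b →
      CVz V z (q * m) := by
    intro q hq h1 h2
    have hgz : q * m * z = z * (q * m) := by
      rw [mul_assoc, hmz, ← mul_assoc, L.large.comm_z q hq, mul_assoc]
    refine ⟨?_, hgz⟩
    intro x hx
    obtain ⟨c, hc⟩ := hV.lab x hx
    have hx' : x = 1 ∨ x = a ∨ x = b ∨ x = a * b := by
      have hab : L.v (a * b) = ω ^ 2 • r0 F := by
        rw [L.v_mul a (hV.le ha) b (hV.le hb), hal, hbl]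
        have : ω ^ 2 = 1 + ω := by
          have := two_eq_zero hF
          linear_combination hω - (1 + ω) * this
        rw [this, add_smul, one_smul]
      rcases cases_four hF hω c with h | h | h | h
      · left
        exact four_eq hF hV hx V.one_mem (by rw [hc, h, zero_smul, L.v_one])
      · right; left
        exact four_eq hF hV hx ha (by rw [hc, h, one_smul, hal])
      · right; right; left
        exact four_eq hF hV hx hb (by rw [hc, h, hbl])
      · right; right; right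
        exact four_eq hF hV hx (V.mul_mem ha hb) (by rw [hc, h, hab])
    have e1 : (q * m) * a = a * (q * m) := mul_inv_eq_iff_eq_mul.1 h1
    have e2 : (q * m) * b = b * (q * m) := mul_inv_eq_iff_eq_mul.1 h2
    rcases hx' with rfl | rfl | rfl | rfl
    · rw [mul_one, one_mul]
    · exact e1
    · exact e2
    · rw [← mul_assoc, e1, mul_assoc, e2, ← mul_assoc]
  -- elements of `Q` with prescribed `h`
  have hq : ∀ h : F, ∃ q ∈ Q, H (L.v q) (r0 F) = h := by
    intro h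
    obtain ⟨q, hq, hql⟩ := L.v_surj ![0, 0, 0, 0, h, 0]
    refine ⟨q, hq, ?_⟩
    rw [hql, H_r0 hF]
    simp
  have fixq : ∀ q ∈ Q, ∀ x ∈ V, H (L.v q) (L.v x) = 0 ∨ H (L.v q) (L.v x) = 1 →
      q * x * q⁻¹ = x := by
    intro q hq x hx h
    rw [(L.comm_iff q hq x (hV.le hx)).2 h, mul_inv_cancel_right]
  have movq : ∀ q ∈ Q, ∀ x ∈ V, ¬ (H (L.v q) (L.v x) = 0 ∨ H (L.v q) (L.v x) = 1) →
      q * x * q⁻¹ = x * z := by
    intro q hq x hx h
    rw [(L.comm_z_iff hq (hV.le hx)).2 h]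
    have := L.large.comm_z q hq
    rw [mul_assoc x q z, this, ← mul_assoc, mul_inv_cancel_right]
  have hzz : z * z = 1 := by
    have := L.v_z
    rw [L.sq_iff z L.large.z_mem, this]
    rw [H_six]; simp
  have conj_z : ∀ q ∈ Q, ∀ x, q * (x * z) * q⁻¹ = (q * x * q⁻¹) * z := by
    intro q hq x
    have := L.large.comm_z q hq
    calc q * (x * z) * q⁻¹ = q * x * (z * q⁻¹) := by group
      _ = q * x * (q⁻¹ * z) := by
        congr 1
        rw [eq_inv_mul_iff_mul_eq, ← mul_assoc, this, mul_inv_cancel_right]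
      _ = _ := by group
  have expand : ∀ q x : G, (q * m) * x * (q * m)⁻¹ = q * (m * x * m⁻¹) * q⁻¹ := by
    intro q x; group
  rcases hmv a ha with h1 | h1 <;> rcases hmv b hb with h2 | h2
  · obtain ⟨q, hq, hq1⟩ := hq 0
    refine ⟨q, hq, key q hq ?_ ?_⟩
    · rw [expand, h1]
      apply fixq q hq a ha
      rw [hal, hq1]; exact Or.inl rfl
    · rw [expand, h2]
      apply fixq q hq b hb
      rw [hbl, H_smul_right hF, hq1, mul_zero]; exact Or.inl rfl
  · obtain ⟨q, hq, hq1⟩ := hq 1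
    refine ⟨q, hq, key q hq ?_ ?_⟩
    · rw [expand, h1]
      apply fixq q hq a ha
      rw [hal, hq1]; exact Or.inr rfl
    · rw [expand, h2, conj_z q hq, movq q hq b hb, mul_assoc, hzz, mul_one]
      rw [hbl, H_smul_right hF, hq1, mul_one]
      rintro (h | h)
      · exact w2 h
      · exact w3 h
  · obtain ⟨q, hq, hq1⟩ := hq ω
    refine ⟨q, hq, key q hq ?_ ?_⟩
    · rw [expand, h1, conj_z q hq, movq q hq a ha, mul_assoc, hzz, mul_one]
      rw [hal, hq1]
      rintro (h | h)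
      · exact w0 h
      · exact w1 h
    · rw [expand, h2]
      apply fixq q hq b hb
      rw [hbl, H_smul_right hF, hq1, w4]; exact Or.inr rfl
  · obtain ⟨q, hq, hq1⟩ := hq (ω ^ 2)
    refine ⟨q, hq, key q hq ?_ ?_⟩
    · rw [expand, h1, conj_z q hq, movq q hq a ha, mul_assoc, hzz, mul_one]
      rw [hal, hq1]
      rintro (h | h)
      · exact w2 h
      · exact w3 h
    · rw [expand, h2, conj_z q hq, movq q hq b hb, mul_assoc, hzz, mul_one]
      rw [hbl, H_smul_right hF, hq1, w5]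
      rintro (h | h)
      · exact w0 h
      · exact w1 h

end

end Cfsg.Agent.R08.SixHom
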