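import Cfsg.Agent.R01.PSUSix

/-!
Local structure at an involution `u` of a class `D`, as in `PSU 6 2` at a transvection.
-/

set_option autoImplicit false
set_option linter.unusedSectionVars false

namespace Cfsg.Agent.R08.USix

open Cfsg Cfsg.Agent.LieClassical.HermBasic Cfsg.Agent.ClassicalGeometry.UnitTransv
open Cfsg.Agent.SporadicStructure.UnitTwo Cfsg.Agent.R01.PSUSix

variable {Y : Type*} [Group Y] {F : Type*} [Field F] [Fintype F]

/-- Local structure of the set `D` at the involution `u`: the centraliser `X` of `u` maps onto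
`SU 4 2` by `ρ`, the kernel `P` modulo `u` is the natural module by `β`, squaring on `P` is the
hermitian norm, and the members of `D` in `X` are `u` and, over each transvection, four commuting
elements with product `u`. -/
structure Loc (hF : Fintype.card F = 2 ^ 2) (D : Set Y) (u : Y)
    (ρ : Subgroup.centralizer ({u} : Set Y) →* SU 4 F 2)
    (β : Subgroup.centralizer ({u} : Set Y) → (Fin 4 → F)) : Prop where
  mem : u ∈ D
  sq : u * u = 1
  ne : u ≠ 1
  surj : Function.Surjective ρ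
  add : ∀ p q, ρ p = 1 → ρ q = 1 → β (p * q) = β p + β q
  ker : ∀ p, ρ p = 1 → (β p = 0 ↔ (p : Y) = 1 ∨ (p : Y) = u)
  bsurj : ∀ v, ∃ p, ρ p = 1 ∧ β p = v
  conj : ∀ c p, ρ p = 1 → β (c * p * c⁻¹) = act (ρ c) (β p)
  psq : ∀ p, ρ p = 1 → (p * p = 1 ↔ hermForm 4 F 2 (β p) (β p) = 0)
  only : ∀ y : Subgroup.centralizer ({u} : Set Y), (y : Y) ∈ D →
    (y : Y) = u ∨ ∃ w, ∃ hw : hermForm 4 F 2 w w = 0, w ≠ 0 ∧ ρ y = T hF w hw
  four : ∀ w (hw : hermForm 4 F 2 w w = 0), w ≠ 0 →
    ∃ x : Fin 4 → Subgroup.centralizer ({u} : Set Y), Function.Injective x ∧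
      (∀ i, (x i : Y) ∈ D ∧ ρ (x i) = T hF w hw) ∧
      (∀ y : Subgroup.centralizer ({u} : Set Y), (y : Y) ∈ D → ρ y = T hF w hw → ∃ i, y = x i) ∧
      (∀ i j, x i * x j = x j * x i) ∧
      ((x 0 * x 1 * x 2 * x 3 : Subgroup.centralizer ({u} : Set Y)) : Y) = u ∧
      ∀ i j, ∃ k : F, β (x i * x j) = k • w

/-- The local structure exists. -/
def LocAt (hF : Fintype.card F = 2 ^ 2) (D : Set Y) (u : Y) : Prop :=
  ∃ (ρ : Subgroup.centralizer ({u} : Set Y) →* SU 4 F 2)
    (β : Subgroup.centralizer ({u} : Set Y) → (Fin 4 → F)), Loc hF D u ρ β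

end Cfsg.Agent.R08.USix
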