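import Cfsg.Agent.R08.SixHom
import Cfsg.Agent.R08.USixDef

/-!
# R08, piece (6), concrete part: the maps `ρ` and `β`
-/

set_option autoImplicit false
set_option linter.unusedSectionVars false

namespace Cfsg.Agent.R08.SixMap

open Cfsg Cfsg.Agent.R08.Iface Cfsg.Agent.R08.SixIn Cfsg.Agent.LieClassical.HermBasic
open Cfsg.Agent.ClassicalGeometry.UnitTransv Cfsg.Agent.SporadicStructure.UnitTwo
open Cfsg.Agent.R08.SixGeo Cfsg.Agent.R08.SixHom

/-- `C_G(V) ∩ C_G(z)` -/
def CV {G : Type*} [Group G] (V : Subgroup G) (z : G) : Subgroup G where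
  carrier := {g | CVz V z g}
  mul_mem' := fun ha hb => CVz.mul ha hb
  one_mem' := CVz.one
  inv_mem' := fun ha => CVz.inv ha

section Blk

variable {F : Type*} [Field F] [Fintype F] (hF : Fintype.card F = 2 ^ 2)
variable {G : Type*} [Group G] {Q M : Subgroup G} {z : G} {L : Lab F Q M z} {V : Subgroup G}
variable (I : In L) (hV : Four L V)
include hF I hV

theorem exists_blk' (g : CV V z) :
    ∃ B : SU 4 F 2, ∀ x b, ∃ c, L.ρ g (emb4 x b) = emb4 (act B x) c :=
  exists_act hF (mem_M hF I hV g.2) (fix_one hV g.2)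

/-- the action on `r0 ^ ⊥ / r0` -/
noncomputable def blk (g : CV V z) : SU 4 F 2 := Classical.choose (exists_blk' hF I hV g)

theorem blk_spec (g : CV V z) (x : Fin 4 → F) (b : F) :
    ∃ c, L.ρ g (emb4 x b) = emb4 (act (blk hF I hV g) x) c :=
  Classical.choose_spec (exists_blk' hF I hV g) x b

theorem blk_top (g : CV V z) (x : Fin 4 → F) (b : F) :
    top (L.ρ g (emb4 x b)) = act (blk hF I hV g) x := by
  obtain ⟨c, hc⟩ := blk_spec hF I hV g x b
  rw [hc, top_emb4]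

theorem blk_eq (g : CV V z) (B : SU 4 F 2)
    (h : ∀ x, ∃ b c, L.ρ g (emb4 x b) = emb4 (act B x) c) : blk hF I hV g = B := by
  apply ext_act
  intro x
  obtain ⟨b, c, hc⟩ := h x
  rw [← blk_top hF I hV g x b, hc, top_emb4]

/-- the action as a homomorphism -/
noncomputable def rhoC : CV V z →* SU 4 F 2 :=
  MonoidHom.mk' (blk hF I hV) (by
    intro g h
    apply blk_eq
    intro x
    obtain ⟨c, hc⟩ := blk_spec hF I hV h x 0
    obtain ⟨d, hd⟩ := blk_spec hF I hV g (act (blk hF I hV h) x) c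
    refine ⟨0, d, ?_⟩
    rw [Subgroup.coe_mul, L.ρ_mul g.2.cz h.2.cz, hc, hd, act_mul])

theorem rhoC_def (g : CV V z) : rhoC hF I hV g = blk hF I hV g := rfl

theorem rhoC_spec (g : CV V z) (x : Fin 4 → F) (b : F) :
    ∃ c, L.ρ g (emb4 x b) = emb4 (act (rhoC hF I hV g) x) c := blk_spec hF I hV g x b

theorem rhoC_eq (g : CV V z) (B : SU 4 F 2)
    (h : ∀ x, ∃ b c, L.ρ g (emb4 x b) = emb4 (act B x) c) : rhoC hF I hV g = B :=
  blk_eq hF I hV g B h

/-- the kernel -/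
theorem rhoC_one_iff (g : CV V z) : rhoC hF I hV g = 1 ↔ (g : G) ∈ Q := by
  constructor
  · intro h
    apply L.mem_Q g g.2.cz
    apply L.triv g (mem_M hF I hV g.2) (r0 F) (isR_r0_one hF) (fix_one hV g.2)
    intro w hw
    have hwe := perp_r0 hF hw
    obtain ⟨c, hc⟩ := rhoC_spec hF I hV g (top w) (w 4)
    rw [h, act_one, ← hwe] at hc
    refine ⟨c - w 4, ?_⟩
    rw [hc]
    conv_rhs => rw [hwe]
    rw [emb4_add_r0]
    congr 1
    have : (emb4 (top w) (w 4) : Fin 6 → F) 4 = w 4 := rfl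
    rw [this]
    ring
  · intro h
    apply rhoC_eq
    intro x
    exact ⟨0, 0, by rw [L.ρ_mem_Q h, act_one]⟩

theorem rhoC_surj : Function.Surjective (rhoC hF I hV) := by
  rw [← MonoidHom.range_eq_top, eq_top_iff, ← R_eq_top hF (le_refl 4), R, Subgroup.closure_le]
  rintro _ ⟨v, hv, hv0, rfl⟩
  set r' := emb4 v (v 0 * v 1 * v 2 * v 3) with hr'
  have hR' : IsR r' := (isR_emb4 hF hv hv0 _).2 rfl
  obtain ⟨m, hm, hmt⟩ := L.tau (r0 F) r' (isR_r0_one hF) hR'
  have h0r' : H (r0 F) r' = 0 := by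
    have : r0 F = emb4 0 1 := by rw [emb4_zero, one_smul]
    rw [this, hr', H_emb4 hF, herm_zero_left]
  have h00 : H (r0 F) (r0 F) = 0 := by
    have := H_self_r0 hF (1 : F) 1
    rwa [one_smul] at this
  have hm0 : L.ρ m (r0 F) = r0 F := by
    rw [hmt, tr, tr, h0r', zero_smul, add_zero, h00, zero_smul, add_zero]
  obtain ⟨q, hq, hqm⟩ := exists_adjust hF hV hm hm0
  refine ⟨⟨q * m, hqm⟩, ?_⟩
  apply rhoC_eq
  intro x
  refine ⟨0, ?_⟩
  have e : L.ρ ((⟨q * m, hqm⟩ : CV V z) : G) (emb4 x 0) = L.ρ m (emb4 x 0) := by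
    show L.ρ (q * m) _ = _
    rw [L.ρ_mul (L.large.comm_z q hq) (L.M_comm m hm), L.ρ_mem_Q hq]
  rw [e, hmt, act_T]
  have e1 : tr r' (emb4 x 0) = emb4 (x + hermForm 4 F 2 x v • v)
      (0 + hermForm 4 F 2 x v * (v 0 * v 1 * v 2 * v 3)) := by
    rw [tr, hr', H_emb4 hF, emb4_add, emb4_smul]
  rw [e1, tr, emb4_add_r0]
  exact ⟨_, rfl⟩

end Blk

/-! ### the quotient -/

/-- `Y` is the quotient `C_G(V) / V` -/
structure Quo {G : Type*} [Group G] {Y : Type*} [Group Y] (V : Subgroup G) (z : G)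
    (π : ↥(Subgroup.centralizer (V : Set G)) →* Y)
    (z' : ↥(Subgroup.centralizer (V : Set G))) : Prop where
  surj : Function.Surjective π
  ker : ∀ x, π x = 1 ↔ (x : G) ∈ V
  z' : (z' : G) = z

section Lift

variable {F : Type*} [Field F] [Fintype F] (hF : Fintype.card F = 2 ^ 2)
variable {G : Type*} [Group G] {Q M : Subgroup G} {z : G} {L : Lab F Q M z} {V : Subgroup G}
variable {Y : Type*} [Group Y] {π : ↥(Subgroup.centralizer (V : Set G)) →* Y}
variable {z' : ↥(Subgroup.centralizer (V : Set G))}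

theorem mem_cent_iff {g : G} : g ∈ Subgroup.centralizer (V : Set G) ↔ ∀ a ∈ V, g * a = a * g := by
  rw [Subgroup.mem_centralizer_iff]
  exact ⟨fun h a ha => (h a ha).symm, fun h a ha => (h a ha).symm⟩

/-- elements of `C_G(V) ∩ C_G(z)` in `C_G(V)` -/
def toC (g : CV V z) : ↥(Subgroup.centralizer (V : Set G)) := ⟨g, mem_cent_iff.2 g.2.c⟩

theorem Quo.comm (q : Quo V z π z') (g : CV V z) :
    π (toC g) ∈ Subgroup.centralizer ({π z'} : Set Y) := by
  rw [Subgroup.mem_centralizer_singleton_iff, ← map_mul, ← map_mul]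
  congr 1
  apply Subtype.ext
  show (g : G) * (z' : G) = (z' : G) * (g : G)
  rw [q.z', g.2.cz]

/-- the projection to `C_Y(u)` -/
def Quo.pr (q : Quo V z π z') : CV V z →* ↥(Subgroup.centralizer ({π z'} : Set Y)) :=
  MonoidHom.mk' (fun g => ⟨π (toC g), q.comm g⟩) (by
    intro g h
    apply Subtype.ext
    show π (toC (g * h)) = π (toC g) * π (toC h)
    rw [← map_mul]
    rfl)

theorem Quo.coe_pr (q : Quo V z π z') (g : CV V z) : (q.pr g : Y) = π (toC g) := rfl

theorem Quo.pr_one_iff (q : Quo V z π z') (g : CV V z) : q.pr g = 1 ↔ (g : G) ∈ V := by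
  rw [← Subtype.coe_inj, q.coe_pr]
  exact q.ker (toC g)

include hF

/-- lifts of elements of `C_Y(u)` centralise `z` -/
theorem CVz_of_lift (I : In L) (hV : Four L V) (q : Quo V z π z')
    (g : ↥(Subgroup.centralizer (V : Set G))) (hg : π g ∈ Subgroup.centralizer ({π z'} : Set Y)) :
    CVz V z g := by
  have hc := mem_cent_iff.1 g.2
  refine ⟨hc, ?_⟩
  rw [Subgroup.mem_centralizer_singleton_iff] at hg
  have h1 : π (g * z' * g⁻¹ * z'⁻¹) = 1 := by
    rw [map_mul, map_mul, map_mul, map_inv, map_inv, hg]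
    group
  rw [q.ker] at h1
  have e : ((g * z' * g⁻¹ * z'⁻¹ : ↥(Subgroup.centralizer (V : Set G))) : G) =
      (g : G) * z * (g : G)⁻¹ * z⁻¹ := by
    rw [← q.z']; rfl
  rw [e] at h1
  set a := (g : G) * z * (g : G)⁻¹ * z⁻¹ with ha
  by_cases ha1 : a = 1
  · rw [ha1] at ha
    have h2 : (g : G) * z * (g : G)⁻¹ = z := by
      calc (g : G) * z * (g : G)⁻¹ = ((g : G) * z * (g : G)⁻¹ * z⁻¹) * z := by group
        _ = z := by rw [← ha, one_mul]
    exact mul_inv_eq_iff_eq_mul.1 h2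
  · exfalso
    have h2 : z * a = (g : G) * z * (g : G)⁻¹ := by
      rw [← four_cz hV h1, ha]; group
    apply I.disj _ (twoA_z_mul hF hV h1 ha1)
    exact ⟨g, h2⟩

theorem Quo.pr_surj (I : In L) (hV : Four L V) (q : Quo V z π z') :
    Function.Surjective q.pr := by
  rintro ⟨y, hy⟩
  obtain ⟨g, rfl⟩ := q.surj y
  exact ⟨⟨g, CVz_of_lift hF I hV q g hy⟩, rfl⟩

/-- the homomorphism `ρ` -/
noncomputable def rho (I : In L) (hV : Four L V) (q : Quo V z π z') :
    ↥(Subgroup.centralizer ({π z'} : Set Y)) →* SU 4 F 2 :=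
  q.pr.liftOfSurjective (q.pr_surj hF I hV) ⟨rhoC hF I hV, by
    intro g hg
    rw [MonoidHom.mem_ker] at hg ⊢
    rw [rhoC_one_iff]
    exact hV.le ((q.pr_one_iff g).1 hg)⟩

theorem rho_pr (I : In L) (hV : Four L V) (q : Quo V z π z') (g : CV V z) :
    rho hF I hV q (q.pr g) = rhoC hF I hV g :=
  MonoidHom.liftOfRightInverse_comp_apply _ _ _ _ g

/-- the map `β` -/
noncomputable def beta (I : In L) (hV : Four L V) (q : Quo V z π z')
    (y : ↥(Subgroup.centralizer ({π z'} : Set Y))) : Fin 4 → F :=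
  top (L.v (Function.surjInv (q.pr_surj hF I hV) y : CV V z))

theorem beta_pr (I : In L) (hV : Four L V) (q : Quo V z π z') (g : CV V z) (hg : (g : G) ∈ Q) :
    beta hF I hV q (q.pr g) = top (L.v g) := by
  set s := Function.surjInv (q.pr_surj hF I hV) (q.pr g) with hs
  have h1 : q.pr s = q.pr g := Function.surjInv_eq (q.pr_surj hF I hV) (q.pr g)
  have h2 : q.pr (g⁻¹ * s) = 1 := by rw [map_mul, map_inv, h1, inv_mul_cancel]
  rw [q.pr_one_iff] at h2
  obtain ⟨c, hc⟩ := hV.lab _ h2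
  have h3 : (s : G) = g * (g⁻¹ * s : CV V z) := by
    rw [Subgroup.coe_mul, Subgroup.coe_inv]; group
  show top (L.v s) = _
  rw [h3, L.v_mul _ hg _ (hV.le h2), hc, SixGeo.top_add, SixGeo.top_smul, top_r0, smul_zero, add_zero]

theorem rho_one_iff (I : In L) (hV : Four L V) (q : Quo V z π z') (g : CV V z) :
    rho hF I hV q (q.pr g) = 1 ↔ (g : G) ∈ Q := by
  rw [rho_pr, rhoC_one_iff]

/-- label of an element of `Q` in `C_G(V)` -/
theorem lab_eq (hV : Four L V) (g : CV V z) (hg : (g : G) ∈ Q) :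
    L.v g = emb4 (top (L.v g)) (L.v g 4) :=
  perp_r0 hF (perp_of_comm hF hV hg g.2.c)

end Lift

end Cfsg.Agent.R08.SixMap
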