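import Cfsg.Agent.R08.Geo5
import Cfsg.Agent.R08.SixIn

/-!
# R08 (S1715), piece (7), concrete part: basic facts on `C_G(t)` and `C_G(V)` (helper261)

`r0 = (0, 0, 0, 0, 1, 1)`, `t, r ∈ Q` with labels `r0`, `ω r0`.
* `cent_perp`: the centraliser of the preimage of `r0^⊥` is the preimage of `F r0`;
* `exists_sylow`: a subgroup `X` which contains the preimage of `r0^⊥` has a Sylow 2-subgroup which
  centralises `z` and contains `Q ∩ X`;
* `exists_conj_std`: pairs with labels `α s`, `β s` are conjugate to `(t, r)` or `(t, t r)`.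
-/

set_option autoImplicit false

namespace Cfsg.Agent.R08.T7

open Cfsg.Agent.SporRec.GF4 Cfsg.Agent.R08 Cfsg.Agent.R08.Iface Cfsg.Agent.R08.Geo
open Cfsg.Agent.R08.SixIn (In Four KGrp)
open Cfsg.Agent.R08.ModVec (W)

/-- the base vector -/
def r0 : W := SixIn.r0 F4

theorem r0_eq : r0 = (V6.mk .z .z .z .z .o .o).w := rfl

theorem isR_r0 : IsR r0 := by rw [r0_eq, isR_iff, V6.of_w]; decide

theorem H_r0 : H r0 r0 = 0 := H_self_R isR_r0

theorem r0_ne : r0 ≠ 0 := R_ne_zero isR_r0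

theorem F4_cases (a : F4) : a = 0 ∨ a = 1 ∨ a = F4.w ∨ a = F4.v := by
  cases a
  · exact Or.inl rfl
  · exact Or.inr (Or.inl rfl)
  · exact Or.inr (Or.inr (Or.inl rfl))
  · exact Or.inr (Or.inr (Or.inr rfl))

theorem smul_r0_inj {a b : F4} (h : a • r0 = b • r0) : a = b := by
  have := congrFun h 4
  change a * F4.o = b * F4.o at this
  have m2 : ∀ x : F4, x * F4.o = x := fun x => mul_one x
  rwa [m2, m2] at this

variable {G : Type*} [Group G] {Q M : Subgroup G} {z : G} {L : Lab F4 Q M z}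

section Basic

variable (L)
include L

theorem comm_of_H {x y : G} (hx : x ∈ Q) (hy : y ∈ Q) (h : H (L.v x) (L.v y) = 0) :
    x * y = y * x := (L.comm_iff x hx y hy).2 (Or.inl h)

theorem comm_of_H1 {x y : G} (hx : x ∈ Q) (hy : y ∈ Q) (h : H (L.v x) (L.v y) = 1) :
    x * y = y * x := (L.comm_iff x hx y hy).2 (Or.inr h)

/-- conjugation by an element of `Q`, sign `+` -/
theorem conj_fix {q x : G} (hq : q ∈ Q) (hx : x ∈ Q)
    (h : H (L.v q) (L.v x) = 0 ∨ H (L.v q) (L.v x) = 1) : q * x * q⁻¹ = x := by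
  rw [(L.comm_iff q hq x hx).2 h, mul_assoc, mul_inv_cancel, mul_one]

/-- conjugation by an element of `Q`, sign `-` -/
theorem conj_neg {q x : G} (hq : q ∈ Q) (hx : x ∈ Q)
    (h : ¬ (H (L.v q) (L.v x) = 0 ∨ H (L.v q) (L.v x) = 1)) : q * x * q⁻¹ = x * z := by
  have h1 := (L.comm_z_iff hq hx).2 h
  rw [h1, mul_assoc, mul_assoc, ← mul_assoc q z, L.large.comm_z q hq, mul_assoc, mul_inv_cancel,
    mul_one]

theorem z_comm {x : G} (hx : x ∈ Q) : x * z = z * x := L.large.comm_z x hx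

theorem zz : z * z = 1 := L.large.z_sq

theorem z_mem : z ∈ Q := L.large.z_mem

theorem z_ne : z ≠ 1 := L.large.z_ne

theorem sq_of_twoA {x : G} (h : L.TwoA x) : x * x = 1 := by
  obtain ⟨g, h1, h2⟩ := h
  have h3 := (L.sq_iff _ h1).2 (H_self_R h2)
  have h4 : x * x = g * ((g⁻¹ * x * g) * (g⁻¹ * x * g)) * g⁻¹ := by group
  rw [h4, h3]
  group

theorem sq_of_twoB {x : G} (h : L.TwoB x) : x * x = 1 := by
  obtain ⟨g, rfl⟩ := h
  have h4 : g * z * g⁻¹ * (g * z * g⁻¹) = g * (z * z) * g⁻¹ := by group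
  rw [h4, zz L]
  group

theorem twoB_ne {x : G} (h : L.TwoB x) : x ≠ 1 := by
  rintro rfl
  obtain ⟨g, h1⟩ := h
  apply z_ne L
  have : z = g⁻¹ * (g * z * g⁻¹) * g := by group
  rw [this, ← h1]; group

theorem twoA_ne {x : G} (h : L.TwoA x) : x ≠ 1 := by
  rintro rfl
  obtain ⟨g, h1, h2⟩ := h
  have : g⁻¹ * 1 * g = 1 := by group
  rw [this, L.v_one] at h2
  exact R_ne_zero h2 rfl

end Basic

theorem isPGroup (L : Lab F4 Q M z) : IsPGroup 2 Q := by
  intro x
  refine ⟨2, ?_⟩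
  apply Subtype.ext
  show (x : G) ^ (2 ^ 2) = 1
  have h1 : (x : G) ^ (2 ^ 2) = (x * x) * (x * x) := by
    rw [show (2 : ℕ) ^ 2 = 2 + 2 from rfl, pow_add, pow_two]
  rw [h1]
  rcases L.large.sq x x.2 with h | h
  · rw [h, one_mul]
  · rw [h, L.large.z_sq]

/-- an element of the class `2A` in `Q` has a label in `R` -/
theorem isR_of_twoA (I : In L) {x : G} (hx : x ∈ Q) (h : L.TwoA x) : IsR (L.v x) := by
  have h1 := (L.sq_iff x hx).1 (sq_of_twoA L h)
  by_cases h0 : L.v x = 0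
  · exfalso
    rcases (L.v_eq_zero x hx).1 h0 with h2 | h2
    · exact twoA_ne L h h2
    · rw [h2] at h
      exact I.disj z h L.twoB_self
  · rcases R_or_S h1 h0 with h2 | h2
    · exact h2
    · exact absurd (I.s_twoB x hx h2) (I.disj x h)

/-- If `c ∈ C_G(z)` commutes with `x ∈ Q` then it fixes the label. -/
theorem ρ_eq_of_comm {c x : G} (hc : c * z = z * c) (hx : x ∈ Q) (h : c * x = x * c) :
    L.ρ c (L.v x) = L.v x := by
  rw [← L.v_conj c hc x hx, h, mul_assoc, mul_inv_cancel, mul_one]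

/-- An element of `C_G(z)` which fixes `r0` and `ω r0` lies in `M`. -/
theorem mem_M_of_fix (I : In L) {c : G} (hc : c * z = z * c) (h1 : L.ρ c r0 = r0)
    (h2 : L.ρ c (F4.w • r0) = F4.w • r0) : c ∈ M := by
  by_contra hM
  have h3 := (I.semi c hc hM).smul F4.w r0
  rw [h1, h2] at h3
  exact absurd (smul_r0_inj h3) (by decide)

/-- **Centraliser lemma**: the centraliser in `C_G(z)` of the preimage of `r0^⊥`. -/
theorem cent_perp (I : In L) {c : G} (hc : c * z = z * c)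
    (h : ∀ q ∈ Q, H (L.v q) r0 = 0 → c * q = q * c) : c ∈ Q ∧ ∃ a : F4, L.v c = a • r0 := by
  have hfix : ∀ w : W, H w r0 = 0 → L.ρ c w = w := by
    intro w hw
    obtain ⟨q, hq, rfl⟩ := L.v_surj w
    exact ρ_eq_of_comm hc hq (h q hq hw)
  have h1 := hfix r0 H_r0
  have hM : c ∈ M := mem_M_of_fix I hc h1 (hfix _ (by rw [H_smul_left, H_r0, mul_zero]))
  have hQ : c ∈ Q := by
    apply L.mem_Q c hc
    apply L.triv c hM r0 isR_r0 h1
    intro w hw
    exact ⟨0, by rw [zero_smul, add_zero]; exact hfix w hw⟩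
  refine ⟨hQ, ?_⟩
  by_contra hcon
  push Not at hcon
  obtain ⟨u, hu1, hu2⟩ := exists_perp_ne r0_ne hcon
  have h3 : ∀ a : F4, H (a • u) (L.v c) = 0 ∨ H (a • u) (L.v c) = 1 := by
    intro a
    obtain ⟨q, hq, hqu⟩ := L.v_surj (a • u)
    have h4 := h q hq (by rw [hqu, H_smul_left, hu1, mul_zero])
    have h5 := (L.comm_iff q hq c hQ).1 h4.symm
    rwa [hqu] at h5
  have h6 := h3 (F4.w * (H u (L.v c))⁻¹)
  rw [H_smul_left, mul_assoc, inv_mul_cancel₀ hu2, mul_one] at h6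
  rcases h6 with h6 | h6 <;> exact absurd h6 (by decide)

/-- In the situation of `cent_perp` an element of the class `2B` is `z`. -/
theorem cent_perp_twoB (I : In L) {c : G} (hc : c * z = z * c)
    (h : ∀ q ∈ Q, H (L.v q) r0 = 0 → c * q = q * c) (hB : L.TwoB c) : c = z := by
  obtain ⟨hQ, a, ha⟩ := cent_perp I hc h
  by_cases h0 : a = 0
  · rw [h0, zero_smul, L.v_eq_zero c hQ] at ha
    exact ha.resolve_left (twoB_ne L hB)
  · exfalso
    refine I.disj c (L.twoA_of_isR hQ ?_) hB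
    rw [ha]; exact isR_smul h0 isR_r0

/-- **Sylow subgroups** of a subgroup containing the preimage of `r0^⊥`. -/
theorem exists_sylow [Finite G] (I : In L) (X : Subgroup G)
    (hD : ∀ q ∈ Q, H (L.v q) r0 = 0 → q ∈ X) :
    ∃ P : Sylow 2 X, (∀ x ∈ P, (x : G) * z = z * x) ∧ ∀ x : X, (x : G) ∈ Q → x ∈ P := by
  have hzX : z ∈ X := hD z (z_mem L) (by rw [L.v_z, H_zero_left])
  let C' : Subgroup X := (Subgroup.centralizer ({z} : Set G)).subgroupOf X
  have hC' : ∀ x : X, x ∈ C' ↔ (x : G) * z = z * x := by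
    intro x
    rw [Subgroup.mem_subgroupOf, Subgroup.mem_centralizer_singleton_iff]
  let D' : Subgroup C' := (Q.subgroupOf X).subgroupOf C'
  have hDp : IsPGroup 2 D' := by
    have h1 : IsPGroup 2 Q := isPGroup L
    have h2 : IsPGroup 2 (Q.subgroupOf X) :=
      h1.comap_of_injective X.subtype (Subgroup.subtype_injective X)
    exact h2.comap_of_injective C'.subtype (Subgroup.subtype_injective C')
  obtain ⟨S, hS⟩ := hDp.exists_le_sylow
  have hSp : IsPGroup 2 ((S : Subgroup C').map C'.subtype) := S.isPGroup'.map _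
  obtain ⟨P, hP⟩ := hSp.exists_le_sylow
  have hQS : ∀ x : X, (x : G) ∈ Q → x ∈ (S : Subgroup C').map C'.subtype := by
    intro x hx
    have hx' : x ∈ C' := (hC' x).2 (z_comm L hx)
    exact ⟨⟨x, hx'⟩, hS (show (⟨x, hx'⟩ : C') ∈ D' from hx), rfl⟩
  have key : (P : Subgroup X) ≤ (S : Subgroup C').map C'.subtype := by
    have hmax : ∀ x ∈ P, x ∈ C' → x ∈ (S : Subgroup C').map C'.subtype := by
      intro x hx hx'
      have h1 : IsPGroup 2 ((P : Subgroup X).subgroupOf C') :=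
        P.isPGroup'.comap_of_injective C'.subtype (Subgroup.subtype_injective C')
      have h2 : (S : Subgroup C') ≤ (P : Subgroup X).subgroupOf C' := by
        intro s hs
        exact hP ⟨s, hs, rfl⟩
      have h3 := S.is_maximal' h1 h2
      have h4 : (⟨x, hx'⟩ : C') ∈ (P : Subgroup X).subgroupOf C' := hx
      rw [h3] at h4
      exact ⟨⟨x, hx'⟩, h4, rfl⟩
    by_contra hcon
    have hn : Group.IsNilpotent (P : Subgroup X) := P.isPGroup'.isNilpotent
    have hlt : ((S : Subgroup C').map C'.subtype).subgroupOf (P : Subgroup X) < ⊤ := by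
      rw [lt_top_iff_ne_top, Ne, Subgroup.subgroupOf_eq_top]
      exact hcon
    have h1 := Group.normalizerCondition_of_isNilpotent _ hlt
    obtain ⟨n, hn1, hn2⟩ := SetLike.exists_of_lt h1
    apply hn2
    rw [Subgroup.mem_subgroupOf]
    refine hmax n n.2 ?_
    rw [hC']
    have hzS : (⟨z, hzX⟩ : X) ∈ (S : Subgroup C').map C'.subtype := hQS _ (z_mem L)
    have hnorm : ∀ s : X, s ∈ (S : Subgroup C').map C'.subtype →
        (n : X) * s * (n : X)⁻¹ ∈ (S : Subgroup C').map C'.subtype ∧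
        (n : X)⁻¹ * s * (n : X) ∈ (S : Subgroup C').map C'.subtype := by
      intro s hs
      have hsP : s ∈ P := hP hs
      have h2 := (Subgroup.mem_normalizer_iff.1 hn1 ⟨s, hsP⟩).1 (by
        rw [Subgroup.mem_subgroupOf]; exact hs)
      have h3 := (Subgroup.mem_normalizer_iff''.1 hn1 ⟨s, hsP⟩).1 (by
        rw [Subgroup.mem_subgroupOf]; exact hs)
      exact ⟨h2, h3⟩
    have hcz : ∀ s : X, s ∈ (S : Subgroup C').map C'.subtype → (s : G) * z = z * s := by
      rintro _ ⟨s, -, rfl⟩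
      exact (hC' _).1 s.2
    -- `c = n z n⁻¹`
    have hc : (n : X) * ⟨z, hzX⟩ * (n : X)⁻¹ ∈ (S : Subgroup C').map C'.subtype := (hnorm _ hzS).1
    have hc1 := hcz _ hc
    have hc2 : ((n : X) * ⟨z, hzX⟩ * (n : X)⁻¹ : X) = (n : G) * z * (n : G)⁻¹ := rfl
    rw [hc2] at hc1
    have h5 : (n : G) * z * (n : G)⁻¹ = z := by
      refine cent_perp_twoB I hc1 ?_ ⟨n, rfl⟩
      intro q hq hq'
      have hqS := hQS ⟨q, hD q hq hq'⟩ hq
      have h6 := hcz _ (hnorm _ hqS).2
      have h7 : (((n : X)⁻¹ * ⟨q, hD q hq hq'⟩ * (n : X) : X) : G) = (n : G)⁻¹ * q * (n : G) := rfl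
      rw [h7] at h6
      calc (n : G) * z * (n : G)⁻¹ * q = (n : G) * (z * ((n : G)⁻¹ * q * n)) * (n : G)⁻¹ := by group
        _ = (n : G) * (((n : G)⁻¹ * q * n) * z) * (n : G)⁻¹ := by rw [h6]
        _ = _ := by group
    calc (n : G) * z = (n : G) * z * (n : G)⁻¹ * n := by group
      _ = z * n := by rw [h5]
  refine ⟨P, fun x hx => ?_, fun x hx => hP (hQS x hx)⟩
  obtain ⟨s, -, hs⟩ := key hx
  rw [← hs]
  exact (hC' _).1 s.2

end Cfsg.Agent.R08.T7
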