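import Cfsg.Agent.R08.T7a

/-!
# R08 (S1715), piece (7), concrete part: the four-group `V = ⟨t, r⟩` (helper261)

* `Ctx.exists_conj_std`: pairs with labels `s`, `λ s` are conjugate to `(t, r)` or `(t, t r)`;
* `Ctx.not_conj`: the four-group `⟨t, y⟩`, `h(y, t) = 1`, is not conjugate to `V`.
-/

set_option autoImplicit false

namespace Cfsg.Agent.R08.T7

open Cfsg.Agent.SporRec.GF4 Cfsg.Agent.R08 Cfsg.Agent.R08.Iface Cfsg.Agent.R08.Geo
open Cfsg.Agent.R08.SixIn (In Four KGrp)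
open Cfsg.Agent.R08.ModVec (W)

variable {G : Type*} [Group G] {Q M : Subgroup G} {z : G} {L : Lab F4 Q M z}

/-! ### four-groups -/

/-- the four-group generated by two commuting involutions -/
def four (t r : G) (h1 : t * t = 1) (h2 : r * r = 1) (h3 : t * r = r * t) : Subgroup G where
  carrier := {x | x = 1 ∨ x = t ∨ x = r ∨ x = t * r}
  one_mem' := Or.inl rfl
  mul_mem' := by
    have e1 : t * (t * r) = r := by rw [← mul_assoc, h1, one_mul]
    have e2 : r * (t * r) = t := by rw [h3, ← mul_assoc, h2, one_mul]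
    have e3 : t * r * t = r := by rw [mul_assoc, ← h3, e1]
    have e4 : t * r * r = t := by rw [mul_assoc, h2, mul_one]
    have e5 : t * r * (t * r) = 1 := by rw [← mul_assoc, e3, h2]
    rintro a b (rfl | rfl | rfl | rfl) (rfl | rfl | rfl | rfl)
    · exact Or.inl (one_mul 1)
    · exact Or.inr (Or.inl (one_mul _))
    · exact Or.inr (Or.inr (Or.inl (one_mul _)))
    · exact Or.inr (Or.inr (Or.inr (one_mul _)))
    · exact Or.inr (Or.inl (mul_one _))
    · exact Or.inl h1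
    · exact Or.inr (Or.inr (Or.inr rfl))
    · exact Or.inr (Or.inr (Or.inl e1))
    · exact Or.inr (Or.inr (Or.inl (mul_one _)))
    · exact Or.inr (Or.inr (Or.inr h3.symm))
    · exact Or.inl h2
    · exact Or.inr (Or.inl e2)
    · exact Or.inr (Or.inr (Or.inr (mul_one _)))
    · exact Or.inr (Or.inr (Or.inl e3))
    · exact Or.inr (Or.inl e4)
    · exact Or.inl e5
  inv_mem' := by
    have e3 : t * r * t = r := by rw [mul_assoc, ← h3, ← mul_assoc, h1, one_mul]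
    have e5 : t * r * (t * r) = 1 := by rw [← mul_assoc, e3, h2]
    rintro a (rfl | rfl | rfl | rfl)
    · exact Or.inl inv_one
    · exact Or.inr (Or.inl (inv_eq_of_mul_eq_one_left h1))
    · exact Or.inr (Or.inr (Or.inl (inv_eq_of_mul_eq_one_left h2)))
    · exact Or.inr (Or.inr (Or.inr (inv_eq_of_mul_eq_one_left e5)))

theorem mem_four {t r : G} {h1 : t * t = 1} {h2 : r * r = 1} {h3 : t * r = r * t} {x : G} :
    x ∈ four t r h1 h2 h3 ↔ x = 1 ∨ x = t ∨ x = r ∨ x = t * r := Iff.rfl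

/-- two different non-identity elements generate -/
theorem four_gen {t r : G} (h1 : t * t = 1) (h2 : r * r = 1) (h3 : t * r = r * t) {a b x : G}
    (ha : a = t ∨ a = r ∨ a = t * r) (hb : b = t ∨ b = r ∨ b = t * r) (hab : a ≠ b)
    (hx : x = t ∨ x = r ∨ x = t * r) : x = a ∨ x = b ∨ x = a * b := by
  have e1 : t * (t * r) = r := by rw [← mul_assoc, h1, one_mul]
  have e2 : r * (t * r) = t := by rw [h3, ← mul_assoc, h2, one_mul]
  have e3 : t * r * t = r := by rw [mul_assoc, ← h3, e1]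
  have e4 : t * r * r = t := by rw [mul_assoc, h2, mul_one]
  rcases ha with rfl | rfl | rfl <;> rcases hb with rfl | rfl | rfl <;>
    first
    | exact absurd rfl hab
    | (rcases hx with rfl | rfl | rfl <;>
        first
        | exact Or.inl rfl
        | exact Or.inr (Or.inl rfl)
        | exact Or.inr (Or.inr rfl)
        | exact Or.inr (Or.inr e1.symm)
        | exact Or.inr (Or.inr e2.symm)
        | exact Or.inr (Or.inr e3.symm)
        | exact Or.inr (Or.inr e4.symm)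
        | exact Or.inr (Or.inr h3))

/-! ### signs -/

theorem cj_ne {a : F4} (h0 : a ≠ 0) (h1 : a ≠ 1) : ¬ (ModVec.cj a = 0 ∨ ModVec.cj a = 1) := by
  cases a
  · exact absurd rfl h0
  · exact absurd rfl h1
  · rintro (h | h) <;> exact absurd h (by decide)
  · rintro (h | h) <;> exact absurd h (by decide)

theorem cj_mul_cj {a : F4} (h0 : a ≠ 0) : ModVec.cj a * ModVec.cj a = a := by
  cases a
  · exact absurd rfl h0
  · rfl
  · rfl
  · rfl

/-- sign changes of a pair of elements with dependent labels -/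
theorem conj_signs (L : Lab F4 Q M z) {x1 x2 : G} (hx1 : x1 ∈ Q) (hx2 : x2 ∈ Q) {s : W} (hs : s ≠ 0)
    {a : F4} (h0 : a ≠ 0) (h1 : a ≠ 1) (hv1 : L.v x1 = s) (hv2 : L.v x2 = a • s) (e1 e2 : Bool) :
    ∃ q ∈ Q, q * x1 * q⁻¹ = (bif e1 then x1 * z else x1) ∧
      q * x2 * q⁻¹ = (bif e2 then x2 * z else x2) := by
  have key : ∀ b : F4, ∃ q ∈ Q, H (L.v q) s = b := by
    intro b
    obtain ⟨u, hu⟩ := exists_H' hs b
    obtain ⟨q, hq, rfl⟩ := L.v_surj u
    exact ⟨q, hq, hu⟩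
  have hm : ∀ q, H (L.v q) (L.v x2) = ModVec.cj a * H (L.v q) s := by
    intro q; rw [hv2, H_smul_right]
  have hcj := cj_ne h0 h1
  cases e1 <;> cases e2
  · exact ⟨1, Q.one_mem, by simp, by simp⟩
  · obtain ⟨q, hq, hq1⟩ := key 1
    refine ⟨q, hq, conj_fix L hq hx1 (by rw [hv1]; exact Or.inr hq1), conj_neg L hq hx2 ?_⟩
    rw [hm, hq1, mul_one]; exact hcj
  · obtain ⟨q, hq, hq1⟩ := key a
    refine ⟨q, hq, conj_neg L hq hx1 ?_, conj_fix L hq hx2 ?_⟩
    · rw [hv1, hq1]; rintro (h | h)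
      · exact h0 h
      · exact h1 h
    · rw [hm, hq1]; exact Or.inr (ModVec.cj_mul_self h0)
  · obtain ⟨q, hq, hq1⟩ := key (ModVec.cj a)
    refine ⟨q, hq, conj_neg L hq hx1 ?_, conj_neg L hq hx2 ?_⟩
    · rw [hv1, hq1]; exact hcj
    · rw [hm, hq1, cj_mul_cj h0]; rintro (h | h)
      · exact h0 h
      · exact h1 h

/-! ### the context -/

/-- the two elements -/
structure Ctx (L : Lab F4 Q M z) (t r : G) : Prop where
  ht : t ∈ Q
  vt : L.v t = r0
  hr : r ∈ Q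
  vr : L.v r = F4.w • r0

theorem exists_ctx (L : Lab F4 Q M z) : ∃ t r, Ctx L t r := by
  obtain ⟨t, ht, h1⟩ := L.v_surj r0
  obtain ⟨r, hr, h2⟩ := L.v_surj (F4.w • r0)
  exact ⟨t, r, ht, h1, hr, h2⟩

namespace Ctx

variable {t r : G}

theorem tt (c : Ctx L t r) : t * t = 1 := (L.sq_iff t c.ht).2 (by rw [c.vt]; exact H_r0)

theorem rr (c : Ctx L t r) : r * r = 1 :=
  (L.sq_iff r c.hr).2 (by rw [c.vr, H_smul_left, H_smul_right, H_r0, mul_zero, mul_zero])

theorem comm (c : Ctx L t r) : t * r = r * t :=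
  comm_of_H L c.ht c.hr (by rw [c.vt, c.vr, H_smul_right, H_r0, mul_zero])

theorem mem_tr (c : Ctx L t r) : t * r ∈ Q := Q.mul_mem c.ht c.hr

theorem v_tr (c : Ctx L t r) : L.v (t * r) = F4.v • r0 := by
  rw [L.v_mul t c.ht r c.hr, c.vt, c.vr]
  have : r0 + F4.w • r0 = ((1 : F4) + F4.w) • r0 := by rw [add_smul, one_smul]
  rw [this]; rfl

/-- the four-group -/
def V (c : Ctx L t r) : Subgroup G := four t r c.tt c.rr c.comm

theorem mem_V (c : Ctx L t r) {x : G} : x ∈ c.V ↔ x = 1 ∨ x = t ∨ x = r ∨ x = t * r := Iff.rfl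

theorem four' (c : Ctx L t r) : Four L c.V where
  le := by
    rintro x (rfl | rfl | rfl | rfl)
    · exact Q.one_mem
    · exact c.ht
    · exact c.hr
    · exact c.mem_tr
  lab := by
    rintro x (rfl | rfl | rfl | rfl)
    · exact ⟨0, by rw [L.v_one, zero_smul]⟩
    · exact ⟨1, by rw [c.vt, one_smul]; rfl⟩
    · exact ⟨F4.w, c.vr⟩
    · exact ⟨F4.v, c.v_tr⟩
  nz := by
    have h0 : ∀ a : F4, a ≠ 0 → ∀ x, z = x → L.v x ≠ a • r0 := by
      intro a ha x hx h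
      rw [← congrArg L.v hx, L.v_z] at h
      exact smul_ne_zero ha r0_ne h.symm
    rintro (h | h | h | h)
    · exact z_ne L h
    · exact h0 1 one_ne_zero t h (by rw [c.vt, one_smul])
    · exact h0 F4.w (by decide) r h c.vr
    · exact h0 F4.v (by decide) _ h c.v_tr
  surj := by
    intro a
    cases a
    · exact ⟨1, c.V.one_mem, by rw [L.v_one]; exact (zero_smul F4 _).symm⟩
    · exact ⟨t, Or.inr (Or.inl rfl), by rw [c.vt]; exact (one_smul F4 _).symm⟩
    · exact ⟨r, Or.inr (Or.inr (Or.inl rfl)), c.vr⟩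
    · exact ⟨t * r, Or.inr (Or.inr (Or.inr rfl)), c.v_tr⟩

theorem v_V (c : Ctx L t r) {x : G} (hx : x ∈ c.V) : ∃ a : F4, L.v x = a • r0 := c.four'.lab x hx

/-- non-identity elements of `V` have labels in `R` -/
theorem isR_V (c : Ctx L t r) {x : G} (hx : x = t ∨ x = r ∨ x = t * r) : IsR (L.v x) := by
  rcases hx with rfl | rfl | rfl
  · rw [c.vt]; exact isR_r0
  · rw [c.vr]; exact isR_smul (by decide) isR_r0
  · rw [c.v_tr]; exact isR_smul (by decide) isR_r0

theorem t_ne (c : Ctx L t r) : t ≠ 1 := by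
  rintro rfl
  have := c.vt
  rw [L.v_one] at this
  exact r0_ne this.symm

/-- An element of `C_G(z)` commuting with `t` and `r` lies in `M`. -/
theorem mem_M (c : Ctx L t r) (I : In L) {x : G} (hx : x * z = z * x) (h1 : x * t = t * x)
    (h2 : x * r = r * x) : x ∈ M := by
  refine mem_M_of_fix I hx ?_ ?_
  · rw [← c.vt]; exact ρ_eq_of_comm hx c.ht h1
  · rw [← c.vr]; exact ρ_eq_of_comm hx c.hr h2

/-- An element of `Q` commuting with `t` and `r` is orthogonal to `r0`. -/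
theorem H_of_comm (c : Ctx L t r) {x : G} (hx : x ∈ Q) (h1 : x * t = t * x)
    (h2 : x * r = r * x) : H (L.v x) r0 = 0 := by
  have e1 := (L.comm_iff x hx t c.ht).1 h1
  have e2 := (L.comm_iff x hx r c.hr).1 h2
  rw [c.vt] at e1
  rw [c.vr, H_smul_right] at e2
  rcases e1 with e1 | e1
  · exact e1
  · exfalso
    rw [e1, mul_one] at e2
    exact cj_ne (by decide) (by decide) e2

/-- **Normal form** of the pairs with dependent labels in `R`. -/
theorem exists_conj_std (c : Ctx L t r) {t' r' : G} (ht' : t' ∈ Q) (hr' : r' ∈ Q)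
    (hR : IsR (L.v t')) {a : F4} (h0 : a ≠ 0) (h1 : a ≠ 1) (hv : L.v r' = a • L.v t') :
    ∃ m ∈ M, m * t' * m⁻¹ = t ∧ (m * r' * m⁻¹ = r ∨ m * r' * m⁻¹ = t * r) := by
  obtain ⟨m, hm, hmt⟩ := L.transR _ _ hR isR_r0
  have hmz := L.M_comm m hm
  have hx1 : L.v (m * t' * m⁻¹) = r0 := by rw [L.v_conj m hmz t' ht', hmt]
  have hx2 : L.v (m * r' * m⁻¹) = a • r0 := by
    rw [L.v_conj m hmz r' hr', hv, ρ_smul L hm, hmt]
  have hq1 : m * t' * m⁻¹ ∈ Q := L.ρ_surj_aux hmz ht'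
  have hq2 : m * r' * m⁻¹ ∈ Q := L.ρ_surj_aux hmz hr'
  have key : ∀ u, u ∈ Q → L.v u = a • r0 → ∃ k ∈ M, k * t' * k⁻¹ = t ∧ k * r' * k⁻¹ = u := by
    intro u hu hvu
    have f1 : ∃ e : Bool, (bif e then (m * t' * m⁻¹) * z else m * t' * m⁻¹) = t := by
      rcases (L.v_eq c.ht hq1).1 (c.vt.trans hx1.symm) with h | h
      · exact ⟨false, h.symm⟩
      · exact ⟨true, h.symm⟩
    have f2 : ∃ e : Bool, (bif e then (m * r' * m⁻¹) * z else m * r' * m⁻¹) = u := by
      rcases (L.v_eq hu hq2).1 (hvu.trans hx2.symm) with h | h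
      · exact ⟨false, h.symm⟩
      · exact ⟨true, h.symm⟩
    obtain ⟨e1, he1⟩ := f1
    obtain ⟨e2, he2⟩ := f2
    obtain ⟨q, hq, g1, g2⟩ := conj_signs L hq1 hq2 r0_ne h0 h1 hx1 hx2 e1 e2
    refine ⟨q * m, M.mul_mem (L.Q_le hq) hm, ?_, ?_⟩
    · rw [← he1, ← g1]; group
    · rw [← he2, ← g2]; group
  have ha : a = F4.w ∨ a = F4.v := by
    cases a
    · exact absurd rfl h0
    · exact absurd rfl h1
    · exact Or.inl rfl
    · exact Or.inr rfl
  rcases ha with rfl | rfl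
  · obtain ⟨k, hk, k1, k2⟩ := key r c.hr c.vr
    exact ⟨k, hk, k1, Or.inl k2⟩
  · obtain ⟨k, hk, k1, k2⟩ := key (t * r) c.mem_tr c.v_tr
    exact ⟨k, hk, k1, Or.inr k2⟩

/-- conjugation into a Sylow subgroup -/
theorem exists_conj_mem {X : Type*} [Group X] [Finite X] (P : Sylow 2 X) {x : X}
    (hx : x * x = 1) : ∃ g : X, g * x * g⁻¹ ∈ P := by
  have h1 : IsPGroup 2 (Subgroup.zpowers x) := by
    rw [IsPGroup.iff_card]
    have h2 : Nat.card (Subgroup.zpowers x) ∣ 2 := by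
      rw [Nat.card_zpowers]
      exact orderOf_dvd_of_pow_eq_one (by rw [pow_two]; exact hx)
    rcases (Nat.dvd_prime Nat.prime_two).1 h2 with h | h
    · exact ⟨0, h⟩
    · exact ⟨1, h⟩
  obtain ⟨P', hP'⟩ := h1.exists_le_sylow
  obtain ⟨g, hg⟩ := MulAction.exists_smul_eq X P' P
  refine ⟨g, ?_⟩
  rw [← hg]
  have : x ∈ (P' : Subgroup X) := hP' (Subgroup.mem_zpowers x)
  exact Subgroup.smul_mem_pointwise_smul x (MulAut.conj g) (P' : Subgroup X) this

/-- **`⟨t, y⟩` is not conjugate to `V`.** -/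
theorem not_conj [Finite G] (c : Ctx L t r) (I : In L) {y : G} (hy : y ∈ Q) (hyR : IsR (L.v y))
    (hH : H (L.v y) r0 = 1) (g : G) (h1 : g * t * g⁻¹ ∈ c.V) (h2 : g * y * g⁻¹ ∈ c.V) :
    False := by
  -- the two elements of `V`
  have hne : ∀ x : G, x ≠ 1 → g * x * g⁻¹ ≠ 1 := by
    intro x hx h
    apply hx
    have : x = g⁻¹ * (g * x * g⁻¹) * g := by group
    rw [this, h]; group
  have hy1 : y ≠ 1 := by
    rintro rfl
    rw [L.v_one] at hyR
    exact R_ne_zero hyR rfl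
  have hty : t ≠ y := by
    rintro rfl
    rw [c.vt, H_r0] at hH
    exact zero_ne_one hH
  have h1' := (c.mem_V.1 h1).resolve_left (hne _ c.t_ne)
  have h2' := (c.mem_V.1 h2).resolve_left (hne _ hy1)
  have h12 : g * t * g⁻¹ ≠ g * y * g⁻¹ := by
    intro h
    exact hty (by simpa using h)
  -- every non-identity element of `V` is `g b g⁻¹` with `b ∈ Q`, `IsR (v b)`
  have hb : ∀ a, a = t ∨ a = r ∨ a = t * r → ∃ b ∈ Q, IsR (L.v b) ∧ a = g * b * g⁻¹ := by
    intro a ha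
    rcases four_gen c.tt c.rr c.comm h1' h2' h12 ha with h | h | h
    · exact ⟨t, c.ht, by rw [c.vt]; exact isR_r0, h⟩
    · exact ⟨y, hy, hyR, h⟩
    · refine ⟨t * y, Q.mul_mem c.ht hy, ?_, by rw [h]; group⟩
      rw [L.v_mul t c.ht y hy, c.vt]
      exact third isR_r0 hyR (H_one_symm.1 hH)
  -- the conjugate of `z`
  let X : Subgroup G := Subgroup.centralizer (c.V : Set G)
  have hX : ∀ x : G, x ∈ X ↔ ∀ a ∈ c.V, a * x = x * a := fun x => Subgroup.mem_centralizer_iff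
  have hX' : ∀ x : G, (∀ a, a = t ∨ a = r ∨ a = t * r → a * x = x * a) → x ∈ X := by
    intro x h
    rw [hX]
    intro a ha
    rcases c.mem_V.1 ha with rfl | ha
    · rw [one_mul, mul_one]
    · exact h a ha
  have hz2 : g * z * g⁻¹ ∈ X := by
    apply hX'
    intro a ha
    obtain ⟨b, hbQ, -, rfl⟩ := hb a ha
    have := L.large.comm_z b hbQ
    calc g * b * g⁻¹ * (g * z * g⁻¹) = g * (b * z) * g⁻¹ := by group
      _ = g * (z * b) * g⁻¹ := by rw [this]
      _ = _ := by group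
  obtain ⟨P, hP1, hP2⟩ := exists_sylow I X (by
    intro q hq hq0
    apply hX'
    rintro a (rfl | rfl | rfl)
    · exact comm_of_H L c.ht hq (by rw [c.vt]; exact H_zero_symm.1 hq0)
    · exact comm_of_H L c.hr hq (by rw [c.vr, H_smul_left, H_zero_symm.1 hq0, mul_zero])
    · exact comm_of_H L c.mem_tr hq (by rw [c.v_tr, H_smul_left, H_zero_symm.1 hq0, mul_zero]))
  obtain ⟨x, hx⟩ := exists_conj_mem P (x := (⟨g * z * g⁻¹, hz2⟩ : X)) (by
    apply Subtype.ext
    show g * z * g⁻¹ * (g * z * g⁻¹) = 1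
    exact sq_of_twoB L ⟨g, rfl⟩)
  have hxV : ∀ a ∈ c.V, a * (x : G) = x * a := (hX x).1 x.2
  have hz3 : (x : G) * (g * z * g⁻¹) * (x : G)⁻¹ ∈ X := by
    exact X.mul_mem (X.mul_mem x.2 hz2) (X.inv_mem x.2)
  have hz3' := hP1 _ hx
  change (x : G) * (g * z * g⁻¹) * (x : G)⁻¹ * z = z * ((x : G) * (g * z * g⁻¹) * (x : G)⁻¹) at hz3'
  have hz3V := (hX _).1 hz3
  have hmemV : ∀ a, a = t ∨ a = r ∨ a = t * r → a ∈ c.V := fun a ha => c.mem_V.2 (Or.inr ha)
  have hB3 : L.TwoB ((x : G) * (g * z * g⁻¹) * (x : G)⁻¹) := ⟨x * g, by group⟩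
  have hA3 : ∀ a, a = t ∨ a = r ∨ a = t * r →
      L.TwoA ((x : G) * (g * z * g⁻¹) * (x : G)⁻¹ * a) := by
    intro a ha
    have hax := hxV a (hmemV a ha)
    obtain ⟨b, hbQ, hbR, hab⟩ := hb a ha
    have e : (x : G) * (g * z * g⁻¹) * (x : G)⁻¹ * a = (x * g) * (z * b) * (x * g)⁻¹ := by
      have : (x : G)⁻¹ * a = a * (x : G)⁻¹ := by
        rw [inv_mul_eq_iff_eq_mul, ← mul_assoc, ← hax, mul_inv_cancel_right]
      calc (x : G) * (g * z * g⁻¹) * (x : G)⁻¹ * a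
          = (x : G) * (g * z * g⁻¹) * ((x : G)⁻¹ * a) := by group
        _ = (x : G) * (g * z * g⁻¹) * (a * (x : G)⁻¹) := by rw [this]
        _ = _ := by rw [hab]; group
    rw [e, L.twoA_conj_iff]
    apply L.twoA_of_isR (Q.mul_mem (z_mem L) hbQ)
    rw [L.v_mul z (z_mem L) b hbQ, L.v_z, zero_add]
    exact hbR
  generalize hz3def : (x : G) * (g * z * g⁻¹) * (x : G)⁻¹ = z3 at *
  have hz3t : z3 * t = t * z3 := (hz3V t (hmemV t (Or.inl rfl))).symm
  have hz3r : z3 * r = r * z3 := (hz3V r (hmemV r (Or.inr (Or.inl rfl)))).symm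
  have hM3 : z3 ∈ M := c.mem_M I hz3' hz3t hz3r
  have hfin : ∃ k : G, (∀ a ∈ c.V, k * a = a * k) ∧ k * z * k⁻¹ = z3 := by
    by_cases hQ3 : z3 ∈ Q
    · refine ⟨1, fun a _ => by rw [one_mul, mul_one], ?_⟩
      rw [one_mul, inv_one, mul_one]
      by_contra hcon
      have hv0 : L.v z3 ≠ 0 := by
        intro h
        rcases (L.v_eq_zero z3 hQ3).1 h with h | h
        · exact twoB_ne L hB3 h
        · exact hcon h.symm
      have hiso := (L.sq_iff z3 hQ3).1 (sq_of_twoB L hB3)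
      have hnR : ¬ IsR (L.v z3) := fun h => I.disj z3 (L.twoA_of_isR hQ3 h) hB3
      have hH0 := c.H_of_comm hQ3 hz3t hz3r
      have hind : ∀ a : F4, L.v z3 ≠ a • r0 := by
        intro a ha
        by_cases h0 : a = 0
        · rw [h0, zero_smul] at ha; exact hv0 ha
        · apply hnR; rw [ha]; exact isR_smul h0 isR_r0
      obtain ⟨a, -, ha⟩ := line isR_r0 hiso hH0 hind
      have e1 := ha 1 (by
        have := isR_of_twoA I (Q.mul_mem hQ3 c.ht) (hA3 t (Or.inl rfl))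
        rwa [L.v_mul z3 hQ3 t c.ht, c.vt, ← one_smul F4 r0] at this)
      have e2 := ha F4.w (by
        have := isR_of_twoA I (Q.mul_mem hQ3 c.hr) (hA3 r (Or.inr (Or.inl rfl)))
        rwa [L.v_mul z3 hQ3 r c.hr, c.vr] at this)
      rw [← e1] at e2
      exact absurd e2 (by decide)
    · refine I.cent c.V c.four' z3 hM3 hQ3 hB3 (fun a ha => (hz3V a ha).symm) ?_
      intro a ha ha1
      exact hA3 a ((c.mem_V.1 ha).resolve_left ha1)
  obtain ⟨k, hkV, hk⟩ := hfin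
  -- `j = k⁻¹ x g` centralises `z`
  have hj : (k⁻¹ * x * g) * z = z * (k⁻¹ * x * g) := by
    have e : (k⁻¹ * x * g) * z * (k⁻¹ * x * g)⁻¹ = z := by
      calc (k⁻¹ * x * g) * z * (k⁻¹ * x * g)⁻¹
          = k⁻¹ * ((x : G) * (g * z * g⁻¹) * (x : G)⁻¹) * k := by group
        _ = k⁻¹ * (k * z * k⁻¹) * k := by rw [hz3def, hk]
        _ = z := by group
    calc (k⁻¹ * x * g) * z = (k⁻¹ * x * g) * z * (k⁻¹ * x * g)⁻¹ * (k⁻¹ * x * g) := by group
      _ = _ := by rw [e]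
  have hconj : ∀ b : G, g * b * g⁻¹ ∈ c.V →
      (k⁻¹ * x * g) * b * (k⁻¹ * x * g)⁻¹ = g * b * g⁻¹ := by
    intro b hbV
    have e1 := hxV _ hbV
    have e2 := hkV _ hbV
    calc (k⁻¹ * x * g) * b * (k⁻¹ * x * g)⁻¹
        = k⁻¹ * ((x : G) * (g * b * g⁻¹)) * (x : G)⁻¹ * k := by group
      _ = k⁻¹ * ((g * b * g⁻¹) * x) * (x : G)⁻¹ * k := by rw [e1]
      _ = k⁻¹ * ((g * b * g⁻¹) * k) := by group
      _ = k⁻¹ * (k * (g * b * g⁻¹)) := by rw [e2]
      _ = _ := by group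
  obtain ⟨a1, ha1⟩ := c.v_V h1
  obtain ⟨a2, ha2⟩ := c.v_V h2
  have f1 : L.ρ (k⁻¹ * x * g) r0 = a1 • r0 := by
    rw [← c.vt, ← L.v_conj _ hj t c.ht, hconj t h1, ha1, c.vt]
  have f2 : L.ρ (k⁻¹ * x * g) (L.v y) = a2 • r0 := by
    rw [← L.v_conj _ hj y hy, hconj y h2, ha2]
  have f3 : H (L.ρ (k⁻¹ * x * g) (L.v y)) (L.ρ (k⁻¹ * x * g) r0) = 1 := by
    rcases L.semi _ hj with h | h
    · rw [h.form, hH]
    · rw [h.form, hH, one_pow]
  rw [f1, f2, H_smul_left, H_smul_right, H_r0, mul_zero, mul_zero] at f3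
  exact zero_ne_one f3

end Ctx

end Cfsg.Agent.R08.T7
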