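import Cfsg.Agent.R08.T7b

/-!
# R08 (S1715), piece (7), concrete part: (T1), (T2), (T3) (helper261)
-/

set_option autoImplicit false

namespace Cfsg.Agent.R08.T7

open Cfsg.Agent.SporRec.GF4 Cfsg.Agent.R08 Cfsg.Agent.R08.Iface Cfsg.Agent.R08.Geo
open Cfsg.Agent.R08.SixIn (In Four KGrp)
open Cfsg.Agent.R08.ModVec (W)

variable {G : Type*} [Group G] {Q M : Subgroup G} {z : G} {L : Lab F4 Q M z}

/-! ### transvections -/

theorem tr_smul {a : F4} (ha : a ≠ 0) (s x : W) : tr (a • s) x = tr s x := by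
  unfold tr
  rw [H_smul_right, smul_smul, mul_assoc, mul_comm (H x s) a, ← mul_assoc, ModVec.cj_mul_self ha,
    one_mul]

theorem tr_comm {s s' : W} (h : H s s' = 0) (x : W) : tr s (tr s' x) = tr s' (tr s x) := by
  unfold tr
  rw [H_add_left, H_add_left, H_smul_left, H_smul_left, h, H_zero_symm.1 h, mul_zero, mul_zero,
    add_zero, add_zero, add_assoc, add_assoc, add_comm (H x s' • s')]

theorem tr_tr_eq {s s' : W} (h : H s s' = 0) (x : W) :
    tr s (tr s' x) = x + (H x s' • s' + H x s • s) := by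
  unfold tr
  rw [H_add_left, H_smul_left, H_zero_symm.1 h, mul_zero, add_zero, add_assoc]

/-- the commutator of an involution acting as `τ_s τ_s'` with `q ∈ Q` -/
theorem exists_comm (L : Lab F4 Q M z) {x q : G} {s s' : W} (h : H s s' = 0) (hx : x ∈ M)
    (hxx : x * x = 1) (hρ : ∀ w, L.ρ x w = tr s (tr s' w)) (hq : q ∈ Q) :
    ∃ e ∈ Q, q * x * q⁻¹ = x * e ∧ L.v e = H (L.v q) s' • s' + H (L.v q) s • s := by
  have hxz := L.M_comm x hx
  have hxi : x⁻¹ = x := inv_eq_of_mul_eq_one_left hxx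
  have h1 : x * q * x⁻¹ ∈ Q := L.ρ_surj_aux hxz hq
  refine ⟨x * q * x⁻¹ * q⁻¹, Q.mul_mem h1 (Q.inv_mem hq), ?_, ?_⟩
  · calc q * x * q⁻¹ = (x * x) * q * x * q⁻¹ := by rw [hxx, one_mul]
      _ = x * (x * q * x * q⁻¹) := by group
      _ = _ := by rw [hxi]
  · rw [L.v_mul _ h1 _ (Q.inv_mem hq), L.v_inv hq, L.v_conj x hxz q hq, hρ, tr_tr_eq h, add_comm,
      ← add_assoc, ModVec.W_add_self, zero_add]

namespace Ctx

variable {t r : G}

theorem isR_smul_add {r1 r2 : W} (h1 : IsR r1) (h2 : IsR r2) (h : H r1 r2 = 0) (hn : Ind r1 r2)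
    {a b : F4} (hab : IsR (a • r1 + b • r2)) : a = 0 ∨ b = 0 := by
  by_contra hc
  push Not at hc
  obtain ⟨ha, hb⟩ := hc
  refine not_R_S hab (isS_add (isR_smul ha h1) (isR_smul hb h2) ?_ ?_)
  · rw [H_smul_left, H_smul_right, h, mul_zero, mul_zero]
  · intro d hd
    apply hn (b⁻¹ * (d * a))
    have := congrArg (fun w => b⁻¹ • w) hd
    simp only [smul_smul] at this
    rwa [inv_mul_cancel₀ hb, one_smul] at this

/-- If `x ∈ M \ Q` and both `x`, `x t` are in the class `2A` then `x` acts as `τ_{r0} τ_{r'}`. -/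
theorem act_r0 (c : Ctx L t r) (I : In L) {x : G} (hM : x ∈ M) (hQ : x ∉ Q) (hA : L.TwoA x)
    (hA' : L.TwoA (x * t)) :
    ∃ r', IsR r' ∧ H r0 r' = 0 ∧ Ind r0 r' ∧ ∀ w, L.ρ x w = tr r0 (tr r' w) := by
  obtain ⟨r1, r2, h1, h2, h12, hn, hρ⟩ := I.out x hM hQ hA
  obtain ⟨K, hK⟩ := I.K r1 r2 h1 h2 h12 hn
  have hxK : x ∈ K := hK.good x hM hA hρ
  have hxz := L.M_comm x hM
  have htM : t ∈ M := L.Q_le c.ht
  have hxtK : x * t ∈ K := by
    refine hK.good (x * t) (M.mul_mem hM htM) hA' fun w => ?_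
    rw [L.ρ_mul hxz (L.M_comm t htM), L.ρ_mem_Q c.ht]
    exact hρ w
  have htK : t ∈ K := by
    have := K.mul_mem (K.inv_mem hxK) hxtK
    rwa [inv_mul_cancel_left] at this
  obtain ⟨a, b, hab⟩ := (hK.mem_Q t c.ht).1 htK
  rw [c.vt] at hab
  have hR : IsR (a • r1 + b • r2) := hab ▸ isR_r0
  rcases isR_smul_add h1 h2 h12 hn hR with h0 | h0
  · rw [h0, zero_smul, zero_add] at hab
    have hb : b ≠ 0 := by
      rintro rfl
      rw [zero_smul] at hab
      exact r0_ne hab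
    refine ⟨r1, h1, ?_, ?_, fun w => ?_⟩
    · rw [hab, H_smul_left, H_zero_symm.1 h12, mul_zero]
    · intro d hd
      rw [hab, smul_smul] at hd
      exact (Ind.symm hn (R_ne_zero h1)) _ hd
    · rw [hρ, tr_comm h12, hab, tr_smul hb]
  · rw [h0, zero_smul, add_zero] at hab
    have ha : a ≠ 0 := by
      rintro rfl
      rw [zero_smul] at hab
      exact r0_ne hab
    refine ⟨r2, h2, ?_, ?_, fun w => ?_⟩
    · rw [hab, H_smul_left, h12, mul_zero]
    · intro d hd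
      rw [hab, smul_smul] at hd
      exact hn _ hd
    · rw [hρ, hab, tr_smul ha]

/-- In `K(r0, r')`: if `x`, `x t` are in `2A`, then `⟨t, x⟩` is conjugate to `V` in `C_G(t)`. -/
theorem to_V (c : Ctx L t r) (I : In L) {r' : W} (hr' : IsR r') (h0 : H r0 r' = 0)
    (hn : Ind r0 r') {K : Subgroup G} (hK : KGrp L r0 r' K) {x : G} (hx : x ∈ K) (hQ : x ∉ Q)
    (hA : L.TwoA x) (hA' : L.TwoA (x * t)) :
    ∃ g, g * t * g⁻¹ = t ∧ (g * x * g⁻¹ = r ∨ g * x * g⁻¹ = t * r) := by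
  have hxM := hK.le hx
  have hxx := hK.sq x hx
  have hρ := hK.act x hx hQ
  have htK : t ∈ K := (hK.mem_Q t c.ht).2 ⟨1, 0, by rw [c.vt, one_smul, zero_smul, add_zero]⟩
  have hrK : r ∈ K := (hK.mem_Q r c.hr).2 ⟨F4.w, 0, by rw [c.vr, zero_smul, add_zero]⟩
  have hcx : ∀ u ∈ K, x * u ∈ Q → u ∉ Q := by
    intro u _ h1 h2
    apply hQ
    have := Q.mul_mem h1 (Q.inv_mem h2)
    rwa [mul_inv_cancel_right] at this
  have hxu : ∀ u ∈ Q, x * u ∉ Q := by
    intro u hu h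
    apply hQ
    have := Q.mul_mem h (Q.inv_mem hu)
    rwa [mul_inv_cancel_right] at this
  -- an element `q` with `x^q = x t`, `r^q = r z`
  obtain ⟨u, hu1, hu2⟩ := exists_H (R_ne_zero hr') (Ind.symm hn r0_ne) 1
  obtain ⟨q, hq, rfl⟩ := L.v_surj u
  obtain ⟨e, he, he1, he2⟩ := exists_comm L h0 hxM hxx hρ hq
  rw [hu1, hu2, zero_smul, zero_add, one_smul] at he2
  have hqx : L.TwoA (x * e) := by rw [← he1, L.twoA_conj_iff]; exact hA
  have hde : ∀ u ∈ Q, u ∈ K → L.TwoA (x * u) → ¬ L.TwoA (x * (u * z)) := by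
    intro u hu huK h1 h2
    have h3 := hK.cls (x * u) (K.mul_mem hx huK) (hxu u hu)
    have e3 : z * (x * u) = x * (u * z) := by
      rw [← mul_assoc, ← L.M_comm x hxM, mul_assoc, z_comm L hu]
    rw [e3] at h3
    rcases h3 with ⟨-, h3⟩ | ⟨h3, -⟩
    · exact I.disj _ h2 h3
    · exact I.disj _ h1 h3
  have het : e = t := by
    rcases (L.v_eq he c.ht).1 (he2.trans c.vt.symm) with h | h
    · exact h
    · exfalso
      rw [h] at hqx
      exact hde t c.ht htK hA' hqx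
  rw [het] at he1
  have hqr : q * r * q⁻¹ = r * z := by
    apply conj_neg L hq c.hr
    rw [c.vr, H_smul_right, hu2, mul_one]
    exact cj_ne (by decide) (by decide)
  have hxr : q * (x * r) * q⁻¹ = x * (t * r * z) := by
    have : q * (x * r) * q⁻¹ = (q * x * q⁻¹) * (q * r * q⁻¹) := by group
    rw [this, he1, hqr]; group
  -- the element `z'`
  have key : ∃ z' ∈ K, L.TwoB z' ∧ L.TwoA (z' * t) ∧ L.TwoA (z' * x) ∧ L.TwoA (z' * (t * x)) := by
    have e1 : x * (t * r) * x = t * r := by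
      rw [hK.comm x hx _ (K.mul_mem htK hrK), mul_assoc, hxx, mul_one]
    have e2 : x * r * x = r := by
      rw [hK.comm x hx _ hrK, mul_assoc, hxx, mul_one]
    have hxt : x * t = t * x := hK.comm x hx _ htK
    have hxr' : x * r = r * x := hK.comm x hx _ hrK
    by_cases hxrA : L.TwoA (x * r)
    · have h1 : L.TwoA (x * (t * r * z)) := by rw [← hxr, L.twoA_conj_iff]; exact hxrA
      have h2 : ¬ L.TwoA (x * (t * r)) := fun h => hde (t * r) c.mem_tr (K.mul_mem htK hrK) h h1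
      have h3 := hK.cls (x * (t * r)) (K.mul_mem hx (K.mul_mem htK hrK)) (hxu _ c.mem_tr)
      refine ⟨x * (t * r), K.mul_mem hx (K.mul_mem htK hrK), ?_, ?_, ?_, ?_⟩
      · rcases h3 with ⟨h3, -⟩ | ⟨h3, -⟩
        · exact absurd h3 h2
        · exact h3
      · have : x * (t * r) * t = x * r := by
          rw [mul_assoc, mul_assoc t r t, ← c.comm, ← mul_assoc t t r, c.tt, one_mul]
        rw [this]; exact hxrA
      · rw [e1]
        exact L.twoA_of_isR c.mem_tr (c.isR_V (Or.inr (Or.inr rfl)))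
      · have : x * (t * r) * (t * x) = r := by
          have e3 : x * (t * r) * (t * x) = x * (t * (r * t)) * x := by group
          rw [e3, ← c.comm, ← mul_assoc t t r, c.tt, one_mul, e2]
        rw [this]
        exact L.twoA_of_isR c.hr (c.isR_V (Or.inr (Or.inl rfl)))
    · have h3 := hK.cls (x * r) (K.mul_mem hx hrK) (hxu _ c.hr)
      have hB : L.TwoB (x * r) := by
        rcases h3 with ⟨h3, -⟩ | ⟨h3, -⟩
        · exact absurd h3 hxrA
        · exact h3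
      have h4 : L.TwoA (x * (t * r)) := by
        have h5 := hK.cls (x * (t * r)) (K.mul_mem hx (K.mul_mem htK hrK)) (hxu _ c.mem_tr)
        rcases h5 with ⟨h5, -⟩ | ⟨-, h5⟩
        · exact h5
        · exfalso
          have e3 : z * (x * (t * r)) = x * (t * r * z) := by
            rw [← mul_assoc, ← L.M_comm x hxM, mul_assoc, z_comm L c.mem_tr]
          rw [e3, ← hxr, L.twoA_conj_iff] at h5
          exact hxrA h5
      refine ⟨x * r, K.mul_mem hx hrK, hB, ?_, ?_, ?_⟩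
      · rw [mul_assoc, ← c.comm]; exact h4
      · rw [e2]; exact L.twoA_of_isR c.hr (c.isR_V (Or.inr (Or.inl rfl)))
      · have : x * r * (t * x) = t * r := by
          have e3 : x * r * (t * x) = x * (r * t) * x := by group
          rw [e3, ← c.comm, e1]
        rw [this]
        exact L.twoA_of_isR c.mem_tr (c.isR_V (Or.inr (Or.inr rfl)))
  obtain ⟨z', hz'K, hz'B, hz't, hz'x, hz'tx⟩ := key
  obtain ⟨n, hn1, hn2⟩ := hK.conj z' hz'K hz'B
  have hnt : ∀ u ∈ K, L.TwoA u → L.TwoA (z' * u) → n * u * n⁻¹ ∈ Q := by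
    intro u huK h1 h2
    by_contra hcon
    have h3 := hK.cls _ ((hn1 u).1 huK) hcon
    have h4 : L.TwoA (n * u * n⁻¹) := by rw [L.twoA_conj_iff]; exact h1
    have h5 : L.TwoA (z * (n * u * n⁻¹)) := by
      have : z * (n * u * n⁻¹) = n * (z' * u) * n⁻¹ := by rw [← hn2]; group
      rw [this, L.twoA_conj_iff]; exact h2
    rcases h3 with ⟨-, h3⟩ | ⟨h3, -⟩
    · exact I.disj _ h5 h3
    · exact I.disj _ h4 h3
  have htA : L.TwoA t := L.twoA_of_isR c.ht (c.isR_V (Or.inl rfl))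
  have htxA : L.TwoA (t * x) := by
    have : t * x = x * t := hK.comm t htK x hx
    rw [this]; exact hA'
  have ht1 := hnt t htK htA hz't
  have hx1 := hnt x hx hA hz'x
  have hR1 : IsR (L.v (n * t * n⁻¹)) :=
    isR_of_twoA I ht1 (by rw [L.twoA_conj_iff]; exact htA)
  have hR2 : IsR (L.v (n * x * n⁻¹)) :=
    isR_of_twoA I hx1 (by rw [L.twoA_conj_iff]; exact hA)
  have hR3 : IsR (L.v (n * t * n⁻¹) + L.v (n * x * n⁻¹)) := by
    rw [← L.v_mul _ ht1 _ hx1]
    refine isR_of_twoA I (Q.mul_mem ht1 hx1) ?_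
    have : n * t * n⁻¹ * (n * x * n⁻¹) = n * (t * x) * n⁻¹ := by group
    rw [this, L.twoA_conj_iff]; exact htxA
  obtain ⟨a1, b1, hab1⟩ := (hK.mem_Q _ ht1).1 ((hn1 t).1 htK)
  obtain ⟨a2, b2, hab2⟩ := (hK.mem_Q _ hx1).1 ((hn1 x).1 hx)
  have hort : H (L.v (n * t * n⁻¹)) (L.v (n * x * n⁻¹)) = 0 := by
    rw [hab1, hab2, H_add_left, H_add_right, H_add_right]
    simp only [H_smul_left, H_smul_right, H_r0, h0, H_zero_symm.1 h0, H_self_R hr', mul_zero,
      add_zero]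
  have hdep : ∃ a : F4, L.v (n * x * n⁻¹) = a • L.v (n * t * n⁻¹) := by
    by_contra hcon
    push Not at hcon
    exact not_R_S hR3 (isS_add hR1 hR2 hort hcon)
  obtain ⟨a, ha⟩ := hdep
  have ha0 : a ≠ 0 := by
    rintro rfl
    rw [zero_smul] at ha
    exact R_ne_zero hR2 ha
  have ha1 : a ≠ 1 := by
    rintro rfl
    rw [one_smul] at ha
    rw [ha, ModVec.W_add_self] at hR3
    exact R_ne_zero hR3 rfl
  obtain ⟨m, -, hm1, hm2⟩ := c.exists_conj_std ht1 hx1 hR1 ha0 ha1 ha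
  refine ⟨m * n, ?_, ?_⟩
  · have : m * n * t * (m * n)⁻¹ = m * (n * t * n⁻¹) * m⁻¹ := by group
    rw [this]; exact hm1
  · have : m * n * x * (m * n)⁻¹ = m * (n * x * n⁻¹) * m⁻¹ := by group
    rw [this]; exact hm2

/-- **(T1)** No `C_G(t)`-conjugate of `y` lies in `C_G(z) ∩ C_G(V)`. -/
theorem T1 [Finite G] (c : Ctx L t r) (I : In L) {y : G} (hy : y ∈ Q) (hyR : IsR (L.v y))
    (hH : H (L.v y) r0 = 1) {h : G} (ht : h * t = t * h) (hz : h * y * h⁻¹ * z = z * (h * y * h⁻¹))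
    (hr : h * y * h⁻¹ * r = r * (h * y * h⁻¹)) : False := by
  have hht : h * t * h⁻¹ = t := by rw [ht, mul_inv_cancel_right]
  have hyt : y * t = t * y := comm_of_H1 L hy c.ht (by rw [c.vt]; exact hH)
  have hxt : h * y * h⁻¹ * t = t * (h * y * h⁻¹) := by
    calc h * y * h⁻¹ * t = h * y * h⁻¹ * (h * t * h⁻¹) := by rw [hht]
      _ = h * (y * t) * h⁻¹ := by group
      _ = h * (t * y) * h⁻¹ := by rw [hyt]
      _ = (h * t * h⁻¹) * (h * y * h⁻¹) := by group
      _ = _ := by rw [hht]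
  have hyA : L.TwoA y := L.twoA_of_isR hy hyR
  have hytR : IsR (L.v (y * t)) := by
    rw [L.v_mul y hy t c.ht, c.vt]
    exact third hyR isR_r0 hH
  have hytA : L.TwoA (y * t) := L.twoA_of_isR (Q.mul_mem hy c.ht) hytR
  have hA : L.TwoA (h * y * h⁻¹) := by rw [L.twoA_conj_iff]; exact hyA
  have hA' : L.TwoA (h * y * h⁻¹ * t) := by
    have : h * y * h⁻¹ * t = h * (y * t) * h⁻¹ := by
      calc h * y * h⁻¹ * t = h * y * h⁻¹ * (h * t * h⁻¹) := by rw [hht]
        _ = _ := by group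
    rw [this, L.twoA_conj_iff]; exact hytA
  have hM : h * y * h⁻¹ ∈ M := c.mem_M I hz hxt hr
  -- it is enough to find `g` moving `t` and `x` into `V`
  have fin : ∀ g : G, g * t * g⁻¹ ∈ c.V → g * (h * y * h⁻¹) * g⁻¹ ∈ c.V → False := by
    intro g h1 h2
    refine c.not_conj I hy hyR hH (g * h) ?_ ?_
    · have : g * h * t * (g * h)⁻¹ = g * (h * t * h⁻¹) * g⁻¹ := by group
      rw [this, hht]; exact h1
    · have : g * h * y * (g * h)⁻¹ = g * (h * y * h⁻¹) * g⁻¹ := by group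
      rw [this]; exact h2
  by_cases hQ : h * y * h⁻¹ ∈ Q
  · have hR := isR_of_twoA I hQ hA
    have hR' := isR_of_twoA I (Q.mul_mem hQ c.ht) hA'
    rw [L.v_mul _ hQ t c.ht, c.vt] at hR'
    have h0 := c.H_of_comm hQ hxt hr
    have hdep : ∃ a : F4, L.v (h * y * h⁻¹) = a • r0 := by
      by_contra hcon
      push Not at hcon
      exact not_R_S hR' (by
        rw [add_comm]
        exact isS_add isR_r0 hR (H_zero_symm.1 h0) hcon)
    obtain ⟨a, ha⟩ := hdep
    have ha0 : a ≠ 0 := by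
      rintro rfl
      rw [zero_smul] at ha
      exact R_ne_zero hR ha
    have ha1 : a ≠ 1 := by
      rintro rfl
      rw [one_smul] at ha
      rw [ha, ModVec.W_add_self] at hR'
      exact R_ne_zero hR' rfl
    rw [← c.vt] at ha
    obtain ⟨m, -, hm1, hm2⟩ := c.exists_conj_std c.ht hQ (c.isR_V (Or.inl rfl)) ha0 ha1 ha
    refine fin m ?_ ?_
    · rw [hm1]; exact Or.inr (Or.inl rfl)
    · rcases hm2 with h | h
      · rw [h]; exact Or.inr (Or.inr (Or.inl rfl))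
      · rw [h]; exact Or.inr (Or.inr (Or.inr rfl))
  · obtain ⟨r', hr', h1, h2, h3⟩ := c.act_r0 I hM hQ hA hA'
    obtain ⟨K, hK⟩ := I.K r0 r' isR_r0 hr' h1 h2
    have hxK := hK.good _ hM hA h3
    obtain ⟨g, hg1, hg2⟩ := c.to_V I hr' h1 h2 hK hxK hQ hA hA'
    refine fin g ?_ ?_
    · rw [hg1]; exact Or.inr (Or.inl rfl)
    · rcases hg2 with h | h
      · rw [h]; exact Or.inr (Or.inr (Or.inl rfl))
      · rw [h]; exact Or.inr (Or.inr (Or.inr rfl))

/-- **(T2)** No `C_G(t)`-conjugate of `y` in `C_G(z)` maps `r` to `t z r`. -/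
theorem T2 (c : Ctx L t r)
    (hO : ∀ a, a * z = z * a → a ∉ M → L.TwoA a → ¬ L.TwoA (z * a)) {y : G} (hy : y ∈ Q)
    (hyR : IsR (L.v y)) (hH : H (L.v y) r0 = 1) {h : G} (ht : h * t = t * h)
    (hz : h * y * h⁻¹ * z = z * (h * y * h⁻¹))
    (hr : h * y * h⁻¹ * r * (h * y * h⁻¹)⁻¹ = t * z * r) : False := by
  have hht : h * t * h⁻¹ = t := by rw [ht, mul_inv_cancel_right]
  have hyt : y * t = t * y := comm_of_H1 L hy c.ht (by rw [c.vt]; exact hH)
  have hxt : h * y * h⁻¹ * t = t * (h * y * h⁻¹) := by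
    calc h * y * h⁻¹ * t = h * y * h⁻¹ * (h * t * h⁻¹) := by rw [hht]
      _ = h * (y * t) * h⁻¹ := by group
      _ = h * (t * y) * h⁻¹ := by rw [hyt]
      _ = (h * t * h⁻¹) * (h * y * h⁻¹) := by group
      _ = _ := by rw [hht]
  have hyA : L.TwoA y := L.twoA_of_isR hy hyR
  have hytA : L.TwoA (y * t) := by
    apply L.twoA_of_isR (Q.mul_mem hy c.ht)
    rw [L.v_mul y hy t c.ht, c.vt]
    exact third hyR isR_r0 hH
  have hA : L.TwoA (h * y * h⁻¹) := by rw [L.twoA_conj_iff]; exact hyA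
  have hA' : L.TwoA (h * y * h⁻¹ * t) := by
    have : h * y * h⁻¹ * t = h * (y * t) * h⁻¹ := by
      calc h * y * h⁻¹ * t = h * y * h⁻¹ * (h * t * h⁻¹) := by rw [hht]
        _ = _ := by group
    rw [this, L.twoA_conj_iff]; exact hytA
  generalize h * y * h⁻¹ = x at *
  have hxx := sq_of_twoA L hA
  have hxi : x⁻¹ = x := inv_eq_of_mul_eq_one_left hxx
  have htz := z_comm L c.ht
  have hrz := z_comm L c.hr
  -- `x ∉ M`
  have hxM : x ∉ M := by
    intro hM
    have h1 : L.ρ x r0 = r0 := by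
      rw [← c.vt]; exact ρ_eq_of_comm hz c.ht hxt
    have h2 : L.ρ x (F4.w • r0) = L.v (t * z * r) := by
      rw [← c.vr, ← L.v_conj x hz r c.hr, hr]
    rw [ρ_smul L hM, h1, L.v_mul _ (Q.mul_mem c.ht (z_mem L)) _ c.hr,
      L.v_mul _ c.ht _ (z_mem L), L.v_z, add_zero, c.vt, c.vr] at h2
    have h3 : F4.w • r0 + F4.w • r0 = r0 + F4.w • r0 + F4.w • r0 := by rw [← h2]
    rw [ModVec.W_add_self, add_assoc, ModVec.W_add_self, add_zero] at h3
    exact r0_ne h3.symm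
  have htM : t ∈ M := L.Q_le c.ht
  have hxtM : x * t ∉ M := by
    intro h1
    apply hxM
    have := M.mul_mem h1 (M.inv_mem htM)
    rwa [mul_inv_cancel_right] at this
  have hxtz : x * t * z = z * (x * t) := by rw [mul_assoc, htz, ← mul_assoc, hz, mul_assoc]
  refine hO (x * t) hxtz hxtM hA' ?_
  have hri : r⁻¹ = r := inv_eq_of_mul_eq_one_left c.rr
  have e1 : r * x * r⁻¹ = z * (x * t) := by
    have e2 : x * r = t * z * r * x := by
      calc x * r = x * r * x⁻¹ * x := by group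
        _ = t * z * r * x := by rw [hr]
    have e3 : r * x = x * (t * z * r) := by
      calc r * x = (x * x) * (r * x) := by rw [hxx, one_mul]
        _ = x * ((x * r) * x) := by group
        _ = x * ((t * z * r * x) * x) := by rw [e2]
        _ = x * (t * z * r * (x * x)) := by group
        _ = _ := by rw [hxx, mul_one]
    rw [e3, hri]
    calc x * (t * z * r) * r = x * (t * z) * (r * r) := by group
      _ = x * (t * z) := by rw [c.rr, mul_one]
      _ = x * t * z := by rw [mul_assoc]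
      _ = _ := hxtz
  rw [← e1, L.twoA_conj_iff]
  exact hA

/-! ### (T3) -/

/-- **(T3)** -/
theorem exists_x (c : Ctx L t r) (I : In L) {y : G} (hy : y ∈ Q) (hyR : IsR (L.v y))
    (hH : H (L.v y) r0 = 1) :
    ∃ g x, g * t * g⁻¹ = t ∧ x * r = r * x ∧ x * t = t * x ∧ x ∉ Q ∧ y * x * y⁻¹ = x * t ∧
      (g * x * g⁻¹ = r ∨ g * x * g⁻¹ = t * r) := by
  obtain ⟨r', hr', h0, hyr', hn, -⟩ := exists_common isR_r0 hyR
  have h0s := H_zero_symm.1 h0
  obtain ⟨K, hK⟩ := I.K r0 r' isR_r0 hr' h0 hn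
  have htK : t ∈ K := (hK.mem_Q t c.ht).2 ⟨1, 0, by rw [c.vt, one_smul, zero_smul, add_zero]⟩
  have hrK : r ∈ K := (hK.mem_Q r c.hr).2 ⟨F4.w, 0, by rw [c.vr, zero_smul, add_zero]⟩
  have hzK : z ∈ K := (hK.mem_Q z (z_mem L)).2 ⟨0, 0, by rw [L.v_z, zero_smul, zero_smul, add_zero]⟩
  -- an element of `K \ Q` in `2A`
  obtain ⟨x1, hx1, hx1Q, hx1A⟩ : ∃ x ∈ K, x ∉ Q ∧ L.TwoA x := by
    obtain ⟨x, hx, hxQ⟩ := hK.exists_not_mem
    rcases hK.cls x hx hxQ with ⟨h, -⟩ | ⟨-, h⟩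
    · exact ⟨x, hx, hxQ, h⟩
    · refine ⟨z * x, K.mul_mem hzK hx, fun h1 => hxQ ?_, h⟩
      have := Q.mul_mem (Q.inv_mem (z_mem L)) h1
      rwa [inv_mul_cancel_left] at this
  have hnQ : ∀ x, x ∉ Q → ∀ u ∈ Q, x * u ∉ Q := by
    intro x hx u hu h
    apply hx
    have := Q.mul_mem h (Q.inv_mem hu)
    rwa [mul_inv_cancel_right] at this
  have hzx : ∀ x ∈ K, z * x = x * z := fun x hx => hK.comm z hzK x hx
  -- with `x t` in `2A`
  obtain ⟨x, hx, hxQ, hxA, hxtA⟩ : ∃ x ∈ K, x ∉ Q ∧ L.TwoA x ∧ L.TwoA (x * t) := by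
    rcases hK.cls (x1 * t) (K.mul_mem hx1 htK) (hnQ x1 hx1Q t c.ht) with ⟨h, -⟩ | ⟨-, h⟩
    · exact ⟨x1, hx1, hx1Q, hx1A, h⟩
    · obtain ⟨u, hu1, hu2⟩ := exists_H (R_ne_zero hr') (Ind.symm hn r0_ne) F4.w
      obtain ⟨q, hq, rfl⟩ := L.v_surj u
      obtain ⟨e, he, he1, he2⟩ := exists_comm L h0 (hK.le hx1) (hK.sq x1 hx1)
        (hK.act x1 hx1 hx1Q) hq
      rw [hu1, hu2, zero_smul, zero_add] at he2
      have heK : e ∈ K := (hK.mem_Q e he).2 ⟨F4.w, 0, by rw [he2, zero_smul, add_zero]⟩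
      have hqt : q * t * q⁻¹ = t * z := by
        apply conj_neg L hq c.ht
        rw [c.vt, hu2]
        rintro (h | h) <;> exact absurd h (by decide)
      refine ⟨x1 * e, K.mul_mem hx1 heK, hnQ x1 hx1Q e he, ?_, ?_⟩
      · rw [← he1, L.twoA_conj_iff]; exact hx1A
      · have e1 : q * (z * (x1 * t)) * q⁻¹ = x1 * e * t := by
          have e2 : q * (z * (x1 * t)) * q⁻¹ = (q * z * q⁻¹) * (q * x1 * q⁻¹) * (q * t * q⁻¹) := by
            group
          have e3 : q * z * q⁻¹ = z := by rw [z_comm L hq, mul_inv_cancel_right]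
          rw [e2, e3, he1, hqt]
          have e4 : z * (x1 * e) * (t * z) = z * (x1 * e * t * z) := by group
          rw [e4, ← hzx _ (K.mul_mem (K.mul_mem hx1 heK) htK), ← mul_assoc z z, zz L, one_mul]
        rw [← e1, L.twoA_conj_iff]; exact h
  have hxM := hK.le hx
  obtain ⟨g, hg1, hg2⟩ := c.to_V I hr' h0 hn hK hx hxQ hxA hxtA
  refine ⟨g, x, hg1, hK.comm x hx r hrK, hK.comm x hx t htK, hxQ, ?_, hg2⟩
  obtain ⟨e, he, he1, he2⟩ := exists_comm L h0 hxM (hK.sq x hx) (hK.act x hx hxQ) hy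
  rw [H_zero_symm.1 hyr', hH, zero_smul, zero_add, one_smul] at he2
  rw [he1]
  rcases (L.v_eq he c.ht).1 (he2.trans c.vt.symm) with h | h
  · rw [h]
  · exfalso
    have h1 : L.TwoA (x * (t * z)) := by rw [← h, ← he1, L.twoA_conj_iff]; exact hxA
    have e3 : z * (x * t) = x * (t * z) := by
      rw [hzx _ (K.mul_mem hx htK), mul_assoc]
    rcases hK.cls (x * t) (K.mul_mem hx htK) (hnQ x hxQ t c.ht) with ⟨-, h3⟩ | ⟨h3, -⟩
    · rw [e3] at h3
      exact I.disj _ h1 h3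
    · exact I.disj _ hxtA h3

end Ctx

end Cfsg.Agent.R08.T7
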