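import Cfsg.Agent.R08.TVar
import Cfsg.Agent.SporRec.Fi24Index
import Cfsg.Agent.S1697

/-!
# The second relator follows from the commutation of `k` and `t`

Given the coset enumeration `Label` of the variant, the relator `(dcbakldefgjdhi)^17` holds in every group with the
relations `RelT`.
-/

set_option autoImplicit false
set_option maxRecDepth 100000
set_option linter.constructorNameAsVariable false

namespace Cfsg.Agent.R08.TIso

open Cfsg.Spor Cfsg.Agent.R08.Even Cfsg.Agent.R08.TVar
open Cfsg.Agent.Lib.PermNet Cfsg.Agent.Fischer.Fi24RepDef Cfsg.Agent.Fischer.Fi24Rep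
  Cfsg.Agent.Fischer.Fi24RepOrbData Cfsg.Agent.Fischer.Fi24RepOrb Cfsg.Agent.Fischer.Fi24Spider

universe u

theorem chk_t : Nat.beq (ptWord (nw (vw ++ .k :: (vw.reverse ++ gword .a)) false) 0)
    (ptWord (nw (gword .a) false) 0) = true := by
  decide +kernel

theorem word_reverse (l : List Fi24.Gen) : word l.reverse = (word l)⁻¹ := by
  induction l with
  | nil => simp [word_nil]
  | cons x l ih =>
    rw [List.reverse_cons, word_append, ih, word_cons, word_cons, word_nil, mul_one, mul_inv_rev]
    congr 1
    exact (inv_eq_of_mul_eq_one_left (Cfsg.Agent.Fischer.Fi24Final.gen_sq x)).symm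

theorem hst : ∀ g, rho g 0 = 0 ↔ g ∈ Cfsg.Agent.Fischer.Fi24RepOrb.H :=
  Cfsg.Agent.SporRec.Fi24Index.index_and_suborbits.2.1

theorem k_comm_t : gen .k * word tw = word tw * gen .k := by
  have h1 := Nat.eq_of_beq_eq_true chk_t
  rw [← pnt_eq, ptWord_eq (wok _ _), ← rho_word] at h1
  have e : word (vw ++ .k :: (vw.reverse ++ gword .a)) =
      (word vw * gen .k * (word vw)⁻¹) * word (gword .a) := by
    rw [word_append, word_cons, word_append, word_reverse]
    simp only [mul_assoc]
  rw [e, map_mul, Equiv.Perm.mul_apply] at h1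
  have h2 := comm_of_fix hst (g := word vw * gen .k * (word vw)⁻¹) (x := .a) h1
  have h3 : word tw = (word vw)⁻¹ * gen .a * word vw := by
    unfold tw
    rw [word_append, word_cons, word_reverse, mul_assoc]
  rw [h3]
  calc gen .k * ((word vw)⁻¹ * gen .a * word vw)
      = (word vw)⁻¹ * ((word vw * gen .k * (word vw)⁻¹) * gen .a) * word vw := by group
    _ = (word vw)⁻¹ * (gen .a * (word vw * gen .k * (word vw)⁻¹)) * word vw := by rw [h2]
    _ = (word vw)⁻¹ * gen .a * word vw * gen .k := by group

/-- The relations hold in the presented group `Fi24`. -/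
theorem relT_gen : RelT (fun s => gen s) where
  cox := Cfsg.Agent.Fischer.Fi24Final.gen_rel
  el := e7_rel
  sp := spider_rel hst
  et := k_comm_t

theorem card_Fi24 : Nat.card Fi24 = 2510411418381323442585600 := by
  obtain ⟨hub, hne⟩ := Cfsg.Agent.SporRec.Fi24Index.index_le
  obtain ⟨hfin, hH⟩ := Cfsg.Agent.Fischer.Fi24Spider.main hub hne Cfsg.Agent.S1697.result.2
  exact Cfsg.Agent.Fischer.Fi24RepRes.card_eq hub hne hfin hH

/-- The relators of the variant. -/
def relsT : Set (FreeGroup Fi24.Gen) :=
  coxRelators Fi24.edges ∪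
    {(Fi24.a * Fi24.b * Fi24.c * Fi24.d * Fi24.e * Fi24.f * Fi24.h) ^ 9 * Fi24.l⁻¹,
     (Fi24.d * Fi24.c * Fi24.b * Fi24.d * Fi24.e * Fi24.f * Fi24.d * Fi24.h * Fi24.i) ^ 10,
     Fi24.k * (tw.map FreeGroup.of).prod * ((tw.map FreeGroup.of).prod * Fi24.k)⁻¹}

/-- The variant of the presented group. -/
abbrev P : Type := PresentedGroup relsT

theorem mem_nodes (x : Fi24.Gen) : x ∈ coxNodes Fi24.edges := by cases x <;> decide

theorem prod_map {W : Type u} [Group W] (φ : FreeGroup Fi24.Gen →* W) (l : List Fi24.Gen) :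
    φ (l.map FreeGroup.of).prod = (l.map fun s => φ (FreeGroup.of s)).prod := by
  rw [map_list_prod, List.map_map]; rfl

theorem relT_P : RelT (fun s => (PresentedGroup.of s : P)) where
  cox := by
    intro s t
    have h : (FreeGroup.of s * FreeGroup.of t) ^ coxLabel Fi24.edges s t ∈ relsT :=
      Or.inl ⟨s, mem_nodes s, t, mem_nodes t, rfl⟩
    have := PresentedGroup.one_of_mem h
    rw [map_pow, map_mul] at this
    exact this
  el := by
    have h : (Fi24.a * Fi24.b * Fi24.c * Fi24.d * Fi24.e * Fi24.f * Fi24.h) ^ 9 * Fi24.l⁻¹ ∈ relsT :=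
      Or.inr (Or.inl rfl)
    have := PresentedGroup.one_of_mem h
    rw [map_mul, map_inv, mul_inv_eq_one] at this
    simp only [map_pow, map_mul] at this
    exact this
  sp := by
    have h : (Fi24.d * Fi24.c * Fi24.b * Fi24.d * Fi24.e * Fi24.f * Fi24.d * Fi24.h * Fi24.i) ^ 10 ∈ relsT :=
      Or.inr (Or.inr (Or.inl rfl))
    have := PresentedGroup.one_of_mem h
    simp only [map_pow, map_mul] at this
    exact this
  et := by
    have h : Fi24.k * (tw.map FreeGroup.of).prod * ((tw.map FreeGroup.of).prod * Fi24.k)⁻¹ ∈ relsT :=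
      Or.inr (Or.inr (Or.inr rfl))
    have := PresentedGroup.one_of_mem h
    rw [map_mul, map_inv, mul_inv_eq_one, map_mul, map_mul, prod_map] at this
    exact this

theorem lift_relsT {W : Type u} [Group W] {y : Fi24.Gen → W} (h : RelT y) :
    ∀ r ∈ relsT, FreeGroup.lift y r = 1 := by
  rintro r (⟨s, -, t, -, rfl⟩ | rfl | rfl | rfl)
  · rw [map_pow, map_mul, FreeGroup.lift_apply_of, FreeGroup.lift_apply_of]
    exact h.cox s t
  · rw [map_mul, map_inv, mul_inv_eq_one]
    simp only [map_pow, map_mul, FreeGroup.lift_apply_of]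
    exact h.el
  · simp only [map_pow, map_mul, FreeGroup.lift_apply_of]
    exact h.sp
  · rw [map_mul, map_inv, mul_inv_eq_one, map_mul, map_mul, prod_map]
    simp only [FreeGroup.lift_apply_of]
    exact h.et

/-- The homomorphism of the variant to a group with the relations. -/
def toW {W : Type u} [Group W] {y : Fi24.Gen → W} (h : RelT y) : P →* W := PresentedGroup.toGroup (lift_relsT h)

theorem toW_of {W : Type u} [Group W] {y : Fi24.Gen → W} (h : RelT y) (s : Fi24.Gen) :
    toW h (PresentedGroup.of s) = y s := PresentedGroup.toGroup.of _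

theorem toW_surjective : Function.Surjective (toW relT_gen) := by
  rw [← MonoidHom.range_eq_top, eq_top_iff]
  rw [← show Subgroup.closure (Set.range (fun s => (gen s : Fi24))) = ⊤ from PresentedGroup.closure_range_of _,
    Subgroup.closure_le]
  rintro _ ⟨s, rfl⟩
  exact ⟨PresentedGroup.of s, toW_of relT_gen s⟩

theorem toW_injective (hL : Label) : Function.Injective (toW relT_gen) := by
  obtain ⟨hfin, hcard⟩ := relT_P.card_le hL (PresentedGroup.closure_range_of _) Cfsg.Agent.S1697.result.2
  have h1 : Nat.card P ≤ Nat.card Fi24 := by rw [card_Fi24]; exact hcard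
  exact ((Nat.bijective_iff_surjective_and_card _).2 ⟨toW_surjective,
    le_antisymm h1 (Nat.card_le_card_of_surjective _ toW_surjective)⟩).1

theorem w17_gen : word w17 ^ 17 = 1 := by
  have h : (Fi24.d * Fi24.c * Fi24.b * Fi24.a * Fi24.k * Fi24.l * Fi24.d * Fi24.e * Fi24.f *
      Fi24.g * Fi24.j * Fi24.d * Fi24.h * Fi24.i) ^ 17 ∈
      coxRelators Fi24.edges ∪ {r | r ∈ Fi24.extra} := by
    right
    show _ ∈ Fi24.extra
    unfold Fi24.extra
    simp
  have h2 := PresentedGroup.one_of_mem h
  simp only [map_pow, map_mul] at h2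
  rw [← h2]
  congr 1

/-- The second relator holds in every group with the relations of the variant. -/
theorem w17_relT (hL : Label) {W : Type u} [Group W] {y : Fi24.Gen → W} (h : RelT y) :
    (w17.map y).prod ^ 17 = 1 := by
  have hP : (w17.map fun s => (PresentedGroup.of s : P)).prod ^ 17 = 1 := by
    apply toW_injective hL
    rw [map_one, map_pow, map_list_prod, List.map_map]
    have : (toW relT_gen) ∘ (fun s => (PresentedGroup.of s : P)) = fun s => gen s := by
      funext s; exact toW_of relT_gen s
    rw [this]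
    exact w17_gen
  have h1 := congrArg (toW h) hP
  rw [map_one, map_pow, map_list_prod, List.map_map] at h1
  have : (toW h) ∘ (fun s => (PresentedGroup.of s : P)) = y := by
    funext s; exact toW_of h s
  rwa [this] at h1

end Cfsg.Agent.R08.TIso
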