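import Cfsg.Agent.R08.TVar
import Cfsg.Agent.SporRec.Fi24TUpper

/-!
# The coset enumeration of the variant of `Fi24`

The hypothesis `TVar.Label` is the theorem `Fi24TUpper.exists_label`.
-/

set_option autoImplicit false
set_option linter.constructorNameAsVariable false

namespace Cfsg.Agent.R08.TLabel

open Cfsg.Spor Cfsg.Agent.R08.TVar
open Cfsg.Agent.SporRec.Fi24TUpDef (adj2 tW)
open Cfsg.Agent.SporRec.Fi24TUpper (IsRelT IsBase ev exists_label)
open Cfsg.Agent.Fischer.Fi24RepDef (c0)

theorem tw_eq : tw = tW := by decide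

theorem cox_adj2 (a b : Fi24.Gen) :
    (adj2 a b = true → coxLabel Fi24.edges a b = 3) ∧
    (adj2 a b = false → a = b ∨ coxLabel Fi24.edges a b = 2) := by
  cases a <;> cases b <;> decide

theorem isRelT {W : Type*} [Group W] {y : Fi24.Gen → W} (h : RelT y) : IsRelT y where
  inv := h.sq
  comm a b hab := by
    rcases (cox_adj2 a b).2 hab with rfl | h2
    · rfl
    · exact h.comm a b h2
  braid a b hab := h.braid a b ((cox_adj2 a b).1 hab)
  el := by
    have h1 := h.el
    have h2 : ev y c0 = y .a * y .b * y .c * y .d * y .e * y .f * y .h := by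
      show (c0.map y).prod = _
      simp only [c0, List.map_cons, List.map_nil, List.prod_cons, List.prod_nil, mul_one, mul_assoc]
    rw [h2]; exact h1
  et := by
    have h1 := h.et
    rw [tw_eq] at h1
    exact h1

/-- The coset enumeration of the variant. -/
theorem label : Label := by
  intro W _ X _ y h p hp
  obtain ⟨f, hf0, hf⟩ := exists_label y (isRelT h) p hp
  exact ⟨f, hf0, hf⟩

end Cfsg.Agent.R08.TLabel
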