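import Cfsg.Agent.R08.TThree
import Cfsg.Agent.Fischer.TriUp

/-!
# The coset enumeration without the second relator

The hypothesis `TThree.Label3` is the enumeration `TriUp.exists_label` with 920808 points.
-/

set_option autoImplicit false
set_option linter.constructorNameAsVariable false

namespace Cfsg.Agent.R08.TLabel3

open Cfsg.Spor Cfsg.Agent.R08.TVar Cfsg.Agent.R08.TThree
open Cfsg.Agent.Fischer.TriLev (adj2)
open Cfsg.Agent.Fischer.TriUp (IsRel0 exists_label finite_Dom ncard_Dom dom_rho dom_zero)
open Cfsg.Agent.Fischer.Fi24RepDef (c0)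

theorem cox_adj2 (a b : Fi24.Gen) :
    (adj2 a b = true → coxLabel Fi24.edges a b = 3) ∧
    (adj2 a b = false → a = b ∨ coxLabel Fi24.edges a b = 2) := by
  cases a <;> cases b <;> decide

theorem isRel0 {W : Type*} [Group W] {y : Fi24.Gen → W} (h : Rel3 y) : IsRel0 y where
  inv := h.sq
  comm a b hab := by
    rcases (cox_adj2 a b).2 hab with rfl | h2
    · rfl
    · exact h.comm a b h2
  braid a b hab := h.braid a b ((cox_adj2 a b).1 hab)
  el := by
    have h1 := h.el
    have h2 : (c0.map y).prod = y .a * y .b * y .c * y .d * y .e * y .f * y .h := by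
      simp only [c0, List.map_cons, List.map_nil, List.prod_cons, List.prod_nil, mul_one, mul_assoc]
    rw [h2]; exact h1

/-- The coset enumeration. -/
theorem label3 : Label3 := by
  intro W _ X _ y h p hp
  obtain ⟨f, hf0, hf⟩ := exists_label y (isRel0 h) p hp
  refine ⟨f '' {i | Cfsg.Agent.Fischer.TriUp.Dom i}, ⟨0, dom_zero, hf0⟩, finite_Dom.image f, ?_, ?_⟩
  · rw [← ncard_Dom]
    exact Set.ncard_image_le finite_Dom
  · rintro a _ ⟨i, hi, rfl⟩
    exact ⟨_, dom_rho a i hi, (hf a i hi).symm⟩

end Cfsg.Agent.R08.TLabel3
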