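import Cfsg.Agent.R08.TIso

/-!
# `Fi24'` inside a group: the main theorem of the presentation side

Given elements `x s` satisfying the relations of `Fi23` and `w` of order 3 inverted by the `x s`, `s ≠ a`, and by one
more transposition `T` (a word in the `x s`), with `(x a * w)^3 = (x a * w⁻¹)^3 = 1`, the subgroup generated is
isomorphic to `Fi24'`.
-/

set_option autoImplicit false
set_option linter.constructorNameAsVariable false
set_option maxRecDepth 100000

namespace Cfsg.Agent.R08.TMain

open Cfsg.Spor Cfsg.Agent.R08.Even Cfsg.Agent.R08.TVar Cfsg.Agent.R08.TIso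

universe u

variable {G : Type u} [Group G] {x : Fi23.Gen → G} {w : G}

/-- The conjugating word of `T` in the generators of `Fi23`. -/
def vw23 : List Fi23.Gen :=
  [.b, .c, .d, .e, .f, .g, .j, .h, .d, .c, .b, .e, .d, .f, .i, .h, .d, .c, .b, .e, .d, .c, .f, .e, .g, .f, .h, .d,
    .e, .i, .h, .d, .c, .b, .a]

/-- The transposition inverting `w`. -/
def T (x : Fi23.Gen → G) : G := ((vw23.map x).prod)⁻¹ * x .a * (vw23.map x).prod

theorem tw_eq : tw = (vw23.reverse ++ .a :: vw23).map up := by decide

/-- Alternating products of words in the generators of `Fi23`. -/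
theorem alt_up (h : Rel x w) (l : List Fi23.Gen) (c : Bool) : alt x w c (l.map up) = (l.map x).prod := by
  induction l generalizing c with
  | nil => cases c <;> rfl
  | cons s l ih =>
    rw [List.map_cons, List.map_cons, List.prod_cons]
    cases c
    · show (U x w (up s))⁻¹ * alt x w true (l.map up) = _
      rw [ih, U_up, h.inv_x]
    · show U x w (up s) * alt x w false (l.map up) = _
      rw [ih, U_up]

theorem T_eq (h : Rel x w) : ((vw23.reverse ++ .a :: vw23).map x).prod = T x := by
  have hrev : ∀ l : List Fi23.Gen, (l.reverse.map x).prod = ((l.map x).prod)⁻¹ := by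
    intro l
    induction l with
    | nil => simp
    | cons s l ih =>
      rw [List.reverse_cons, List.map_append, List.prod_append, ih]
      simp only [List.map_cons, List.prod_cons, List.map_nil, List.prod_nil, mul_one, mul_inv_rev, h.inv_x]
  rw [List.map_append, List.prod_append, hrev, List.map_cons, List.prod_cons]
  unfold T
  rw [mul_assoc]

theorem spF (h : Rel x w)
    (hsp : (x .d * x .c * x .b * x .d * x .e * x .f * x .d * x .h * x .i) ^ 10 = 1) :
    (F (U x w .d) * F (U x w .c) * F (U x w .b) * F (U x w .d) * F (U x w .e) * F (U x w .f) *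
        F (U x w .d) * F (U x w .h) * F (U x w .i)) ^ 10 = 1 := by
  have h1 : F (U x w .d) * F (U x w .c) * F (U x w .b) * F (U x w .d) * F (U x w .e) * F (U x w .f) *
      F (U x w .d) * F (U x w .h) * F (U x w .i) =
      wF x w (([.d, .c, .b, .d, .e, .f, .d, .h, .i] : List Fi23.Gen).map up) := by
    unfold wF
    simp only [List.map_cons, List.map_nil, List.prod_cons, List.prod_nil, mul_one, mul_assoc]
    rfl
  rw [h1, wF_eq, alt_up h, alt_up h]
  set s := (([.d, .c, .b, .d, .e, .f, .d, .h, .i] : List Fi23.Gen).map x).prod with hs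
  have hs' : s = x .d * x .c * x .b * x .d * x .e * x .f * x .d * x .h * x .i := by
    rw [hs]
    simp only [List.map_cons, List.map_nil, List.prod_cons, List.prod_nil, mul_one, mul_assoc]
  have h2 : (⟨(s, s), (-1) ^ (([.d, .c, .b, .d, .e, .f, .d, .h, .i] : List Fi23.Gen).map up).length⟩ : Wr G) =
      F 1 * D s s := by
    apply SemidirectProduct.ext
    · show (s, s) = ((1 : G), (1 : G)⁻¹) * (swapHom G (-1)) (s, s)
      have hh : (swapHom G (-1)) (s, s) = (s, s) := by
        show (if (-1 : ℤˣ) = 1 then (1 : MulAut (G × G)) else MulEquiv.prodComm) (s, s) = _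
        rw [if_neg (by decide)]
        rfl
      rw [hh, inv_one]
      simp
    · rfl
  rw [h2]
  have hc : Commute (F (1 : G)) (D s s) := by
    apply SemidirectProduct.ext
    · show ((1 : G), (1 : G)⁻¹) * (swapHom G (-1)) (s, s) = (s, s) * (swapHom G 1) (1, (1 : G)⁻¹)
      have hh : (swapHom G (-1)) (s, s) = (s, s) := by
        show (if (-1 : ℤˣ) = 1 then (1 : MulAut (G × G)) else MulEquiv.prodComm) (s, s) = _
        rw [if_neg (by decide)]
        rfl
      rw [hh, map_one]
      simp
    · rfl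
  rw [hc.mul_pow, D_pow, hs', hsp, D_one, mul_one, show (10 : ℕ) = 2 * 5 from rfl, pow_mul, pow_two, F_sq, one_pow]

theorem relT_F (h : Rel x w)
    (hsp : (x .d * x .c * x .b * x .d * x .e * x .f * x .d * x .h * x .i) ^ 10 = 1)
    (hT : T x * w * (T x)⁻¹ = w⁻¹) : RelT (fun s => F (U x w s)) where
  cox := h.coxF
  el := h.sevenF
  sp := spF h hsp
  et := by
    have h1 : (tw.map fun s => F (U x w s)).prod = wF x w tw := rfl
    show F w * (tw.map fun s => F (U x w s)).prod = (tw.map fun s => F (U x w s)).prod * F w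
    have hlen : ((vw23.reverse ++ .a :: vw23).map up).length = 71 := by decide
    have hl : (-1 : ℤˣ) ^ ((vw23.reverse ++ .a :: vw23).map up).length = -1 := by
      rw [hlen]
      exact Odd.neg_one_pow ⟨35, by norm_num⟩
    have hT' : T x * w⁻¹ = w * T x := by
      have h3 : T x * w⁻¹ * (T x)⁻¹ = w := by
        have := congrArg (·⁻¹) hT
        simpa [mul_assoc] using this
      calc T x * w⁻¹ = T x * w⁻¹ * (T x)⁻¹ * T x := by group
        _ = w * T x := by rw [h3]
    have hT'' : T x * w = w⁻¹ * T x := by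
      calc T x * w = T x * w * (T x)⁻¹ * T x := by group
        _ = w⁻¹ * T x := by rw [hT]
    rw [h1, tw_eq, wF_eq, alt_up h, alt_up h, T_eq h, hl]
    apply SemidirectProduct.ext
    · show (w, w⁻¹) * (swapHom G (-1)) (T x, T x) = (T x, T x) * (swapHom G (-1)) (w, w⁻¹)
      have hh : ∀ p q : G, (swapHom G (-1)) (p, q) = (q, p) := by
        intro p q
        show (if (-1 : ℤˣ) = 1 then (1 : MulAut (G × G)) else MulEquiv.prodComm) (p, q) = _
        rw [if_neg (by decide)]
        rfl
      rw [hh, hh, Prod.mk_mul_mk, Prod.mk_mul_mk, hT', hT'']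
    · show (-1 : ℤˣ) * -1 = -1 * -1
      rfl

theorem w17_F (hL : Label) (h : Rel x w)
    (hsp : (x .d * x .c * x .b * x .d * x .e * x .f * x .d * x .h * x .i) ^ 10 = 1)
    (hT : T x * w * (T x)⁻¹ = w⁻¹) : wF x w w17 ^ 17 = 1 :=
  w17_relT hL (relT_F h hsp hT)

/-! ### The subgroup generated -/

theorem comp_mem (h : Rel x w) (h17 : wF x w w17 ^ 17 = 1) (g : Fi24) :
    (Φ h h17 g).left.1 ∈ Subgroup.closure (Set.range x ∪ {w}) ∧
    (Φ h h17 g).left.2 ∈ Subgroup.closure (Set.range x ∪ {w}) := by
  set C := Subgroup.closure (Set.range x ∪ {w}) with hC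
  have hx : ∀ s, x s ∈ C := fun s => Subgroup.subset_closure (Or.inl ⟨s, rfl⟩)
  have hw : w ∈ C := Subgroup.subset_closure (Or.inr rfl)
  have hU : ∀ s, U x w s ∈ C := by
    intro s
    rcases gen_cases s with rfl | rfl | ⟨s, rfl⟩
    · exact C.one_mem
    · exact hw
    · rw [U_up]; exact hx s
  have hswap : ∀ (e : ℤˣ) (p q : G), (swapHom G e) (p, q) = if e = 1 then (p, q) else (q, p) := by
    intro e p q
    rcases Int.units_eq_one_or e with rfl | rfl
    · rw [map_one, if_pos rfl]; rfl
    · show (if (-1 : ℤˣ) = 1 then (1 : MulAut (G × G)) else MulEquiv.prodComm) (p, q) = _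
      rw [if_neg (by decide), if_neg (by decide)]
      rfl
  have hg : g ∈ Subgroup.closure (Set.range (PresentedGroup.of
      (rels := coxRelators Fi24.edges ∪ {r | r ∈ Fi24.extra}))) := by
    rw [PresentedGroup.closure_range_of]; trivial
  induction hg using Subgroup.closure_induction_left with
  | one =>
    rw [map_one]
    exact ⟨C.one_mem, C.one_mem⟩
  | mul_left s hs b _ ih =>
    obtain ⟨s, rfl⟩ := hs
    rw [map_mul, Φ_of, SemidirectProduct.mul_left]
    generalize Φ h h17 b = r at ih ⊢
    obtain ⟨⟨p, q⟩, e⟩ := r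
    have ih1 : p ∈ C := ih.1
    have ih2 : q ∈ C := ih.2
    have e1 : (swapHom G (F (U x w s)).right) (p, q) = (q, p) := by
      show (swapHom G (-1)) (p, q) = _
      rw [hswap, if_neg (by decide)]
    show ((F (U x w s)).left * (swapHom G (F (U x w s)).right) (p, q)).1 ∈ C ∧ _
    rw [e1]
    exact ⟨C.mul_mem (hU s) ih2, C.mul_mem (C.inv_mem (hU s)) ih1⟩
  | inv_mul_cancel s hs b _ ih =>
    obtain ⟨s, rfl⟩ := hs
    rw [map_mul, map_inv, Φ_of, inv_eq_of_mul_eq_one_left (F_sq _), SemidirectProduct.mul_left]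
    generalize Φ h h17 b = r at ih ⊢
    obtain ⟨⟨p, q⟩, e⟩ := r
    have ih1 : p ∈ C := ih.1
    have ih2 : q ∈ C := ih.2
    have e1 : (swapHom G (F (U x w s)).right) (p, q) = (q, p) := by
      show (swapHom G (-1)) (p, q) = _
      rw [hswap, if_neg (by decide)]
    show ((F (U x w s)).left * (swapHom G (F (U x w s)).right) (p, q)).1 ∈ C ∧ _
    rw [e1]
    exact ⟨C.mul_mem (hU s) ih2, C.mul_mem (C.inv_mem (hU s)) ih1⟩

theorem mem_commutator (s t : Fi24.Gen) :
    (PresentedGroup.of s * PresentedGroup.of t : Fi24) ∈ commutator Fi24 := by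
  rw [← Cfsg.Agent.Fischer.Fi24Final.ker_sgn, MonoidHom.mem_ker, map_mul]
  have h1 : ∀ z : Fi24.Gen, Cfsg.Agent.Fischer.Fi24Final.sgn (PresentedGroup.of z) = -1 :=
    fun z => Cfsg.Agent.Fischer.Fi24Final.sgn_gen z
  rw [h1, h1]
  decide

theorem range_φ (h : Rel x w) (h17 : wF x w w17 ^ 17 = 1) :
    (φ h h17).range = Subgroup.closure (Set.range x ∪ {w}) := by
  apply le_antisymm
  · rintro _ ⟨g, rfl⟩
    exact (comp_mem h h17 g.1).2
  · rw [Subgroup.closure_le]
    rintro _ (⟨s, rfl⟩ | rfl)
    · refine ⟨⟨PresentedGroup.of .l * PresentedGroup.of (up s), mem_commutator _ _⟩, ?_⟩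
      rw [φ_mul, U_up]
      show (1 : G)⁻¹ * x s = x s
      rw [inv_one, one_mul]
    · refine ⟨⟨PresentedGroup.of .l * PresentedGroup.of .k, mem_commutator _ _⟩, ?_⟩
      rw [φ_mul]
      show (1 : G)⁻¹ * _ = _
      rw [inv_one, one_mul]
      rfl

/-- The subgroup generated by the `x s` and `w` is isomorphic to `Fi24'`. -/
theorem nonempty_equiv (h98 : Cfsg.IsFi24' Fi24') (h : Rel x w) (h17 : wF x w w17 ^ 17 = 1) (hne : x .a ≠ 1) :
    Nonempty (Fi24' ≃* Subgroup.closure (Set.range x ∪ {w})) := by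
  have hinj : Function.Injective (φ h h17) := by
    rw [← MonoidHom.ker_eq_bot_iff]
    rcases h98.1.eq_bot_or_eq_top_of_normal (φ h h17).ker inferInstance with h1 | h1
    · exact h1
    · exfalso
      apply hne
      have h2 : (⟨PresentedGroup.of .l * PresentedGroup.of (up .a), mem_commutator _ _⟩ : Fi24') ∈ (φ h h17).ker := by
        rw [h1]; trivial
      rw [MonoidHom.mem_ker, φ_mul, U_up] at h2
      have h3 : (1 : G)⁻¹ * x .a = 1 := h2
      rwa [inv_one, one_mul] at h3
  exact ⟨(MonoidHom.ofInjective hinj).trans (MulEquiv.subgroupCongr (range_φ h h17))⟩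

end Cfsg.Agent.R08.TMain
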