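import Cfsg.Agent.R08.TMain

/-!
# The second relator from the enumeration of the triple cover

Without the second relator the presented group has order at most `3 |Fi24|` (hypothesis `Label3`, a coset enumeration).
The element `(dcbakldefgjdhi)^17` is then centralised by the even part, so it is trivial in every group in which only
`1` commutes with all the `x s` and `w`.
-/

set_option autoImplicit false
set_option linter.constructorNameAsVariable false
set_option maxRecDepth 100000

namespace Cfsg.Agent.R08.TThree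

open Cfsg.Spor Cfsg.Agent.R08.Even Cfsg.Agent.R08.TVar Cfsg.Agent.R08.TIso Cfsg.Agent.R08.TMain
open Cfsg.Agent.Fischer.Fi24Rep (gen word)

universe u

/-- The coset enumeration without the second relator. -/
def Label3 : Prop := ∀ (W : Type) [Group W] (X : Type) [MulAction W X] (y : Fi24.Gen → W), Rel3 y →
  ∀ p : X, (∀ a, a ≠ .k → y a • p = p) →
  ∃ S : Set X, p ∈ S ∧ S.Finite ∧ S.ncard ≤ 920808 ∧ ∀ a, ∀ q ∈ S, y a • q ∈ S

section W
variable {W : Type} [Group W] {y : Fi24.Gen → W}

theorem index_le (hL : Label3) (h : Rel3 y) (hgen : Subgroup.closure (Set.range y) = ⊤) :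
    (K y).index ≤ 920808 ∧ (K y).index ≠ 0 := by
  obtain ⟨S, hp, hfin, hcard, hstep⟩ := hL W (W ⧸ K y) y h ((1 : W) : W ⧸ K y) (by
    intro a ha
    show ((y a * 1 : W) : W ⧸ K y) = _
    rw [mul_one, QuotientGroup.eq, mul_one]
    exact (K y).inv_mem (Subgroup.subset_closure ⟨a, ha, rfl⟩))
  have hall : ∀ g : W, ∀ q, q ∈ S ↔ g • q ∈ S := by
    intro g
    have hg : g ∈ Subgroup.closure (Set.range y) := by rw [hgen]; trivial
    induction hg using Subgroup.closure_induction with
    | mem x hx =>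
      obtain ⟨a, rfl⟩ := hx
      intro q
      refine ⟨hstep a q, fun h1 => ?_⟩
      have h2 := hstep a _ h1
      rwa [smul_smul, h.sq, one_smul] at h2
    | one => intro q; rw [one_smul]
    | mul x y _ _ hx hy =>
      intro q
      rw [mul_smul, ← hx, ← hy]
    | inv x _ hx =>
      intro q
      have h := hx (x⁻¹ • q)
      rw [smul_inv_smul] at h
      exact h.symm
  have huniv : S = Set.univ := by
    ext q
    simp only [Set.mem_univ, iff_true]
    induction q using QuotientGroup.induction_on with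
    | H g =>
      have h1 := (hall g _).1 hp
      have h2 : g • ((1 : W) : W ⧸ K y) = (g : W ⧸ K y) := by
        show ((g * 1 : W) : W ⧸ K y) = _
        rw [mul_one]
      rw [← h2]; exact h1
  have hfin' : Finite (W ⧸ K y) := by
    rw [← Set.finite_univ_iff, ← huniv]
    exact hfin
  have hidx : (K y).index = Nat.card (W ⧸ K y) := rfl
  have hcard' : Nat.card (W ⧸ K y) ≤ 920808 := by
    rw [← Set.ncard_univ, ← huniv]
    exact hcard
  refine ⟨by rw [hidx]; exact hcard', ?_⟩
  rw [hidx]
  exact Nat.card_pos.ne'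

theorem card_le (hL : Label3) (h : Rel3 y) (hgen : Subgroup.closure (Set.range y) = ⊤)
    (hF : Nat.card Fi23 = 4089470473293004800) :
    Finite W ∧ Nat.card W ≤ 3 * 2510411418381323442585600 := by
  obtain ⟨h1, h2⟩ := index_le hL h hgen
  obtain ⟨h3, h4⟩ := h.card_K hF
  have h5 := Subgroup.card_mul_index (K y)
  refine ⟨Nat.finite_of_card_ne_zero ?_, ?_⟩
  · rw [← h5]
    exact Nat.mul_ne_zero Nat.card_pos.ne' h2
  · rw [← h5]
    calc Nat.card (K y) * (K y).index ≤ 8178940946586009600 * 920808 := Nat.mul_le_mul h4 h1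
      _ = _ := by norm_num

end W

/-! ### Conjugacy of the generators and the commutator subgroup -/

section conj
variable {W : Type u} [Group W] {y : Fi24.Gen → W}

theorem conj_of_edge (h : Rel3 y) (s t : Fi24.Gen) (hl : coxLabel Fi24.edges s t = 3) :
    (y s * y t) * y s * (y s * y t)⁻¹ = y t := by
  have h1 := h.braid s t hl
  rw [mul_inv_rev, h.inv_y, h.inv_y, h1]
  calc y t * y s * y t * (y t * y s) = y t * y s * (y t * y t) * y s := by
        simp only [mul_assoc]
    _ = y t := by rw [h.sq, mul_one, mul_assoc, h.sq, mul_one]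

theorem isConj_y (h : Rel3 y) (x : Fi24.Gen) : IsConj (y .l) (y x) := by
  have step : ∀ s t : Fi24.Gen, coxLabel Fi24.edges s t = 3 → IsConj (y .l) (y s) → IsConj (y .l) (y t) := by
    intro s t hl hs
    exact hs.trans (isConj_iff.2 ⟨y s * y t, conj_of_edge h s t hl⟩)
  have hl : IsConj (y .l) (y .l) := IsConj.refl _
  have hk := step .l .k (by decide) hl
  have ha := step .k .a (by decide) hk
  have hb := step .a .b (by decide) ha
  have hc := step .b .c (by decide) hb
  have hd := step .c .d (by decide) hc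
  have he := step .d .e (by decide) hd
  have hf := step .e .f (by decide) he
  have hg := step .f .g (by decide) hf
  have hj := step .g .j (by decide) hg
  have hh := step .d .h (by decide) hd
  have hi := step .h .i (by decide) hh
  cases x <;> assumption

theorem mul_mem_commutator (h : Rel3 y) (s : Fi24.Gen) : y .l * y s ∈ commutator W := by
  obtain ⟨g, hg⟩ := isConj_iff.1 (isConj_y h s)
  have h1 : y .l * y s = y .l * g * (y .l)⁻¹ * g⁻¹ := by
    rw [← hg, h.inv_y]
    simp only [mul_assoc]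
  rw [h1]
  exact Subgroup.commutator_mem_commutator trivial trivial

end conj

/-- Elements of a normal subgroup of order at most 3 are centralised by the commutator subgroup. -/
theorem comm_of_card_le {W : Type u} [Group W] (Z : Subgroup W) [Z.Normal] [Finite Z] (hZ : Nat.card Z ≤ 3)
    {z : W} (hz : z ∈ Z) {c : W} (hc : c ∈ commutator W) : c * z = z * c := by
  classical
  by_cases hz1 : z = 1
  · rw [hz1, mul_one, one_mul]
  have key : ∀ a ∈ Z, a ≠ 1 → a = z ∨ a = z⁻¹ := by
    intro a ha ha1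
    by_contra hn
    push Not at hn
    obtain ⟨hn1, hn2⟩ := hn
    have hf := Fintype.ofFinite Z
    rw [Nat.card_eq_fintype_card] at hZ
    by_cases hzz : z = z⁻¹
    · -- order 2
      have h2 : orderOf (⟨z, hz⟩ : Z) = 2 := by
        rw [orderOf_eq_prime_iff (p := 2)]
        refine ⟨?_, fun h => hz1 (congrArg Subtype.val h)⟩
        apply Subtype.ext
        show z ^ 2 = 1
        rw [pow_two]
        nth_rewrite 2 [hzz]
        exact mul_inv_cancel z
      have h3 : 2 ∣ Fintype.card Z := h2 ▸ orderOf_dvd_card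
      have h4 : Finset.card ({1, ⟨z, hz⟩, ⟨a, ha⟩} : Finset Z) ≤ Fintype.card Z := Finset.card_le_univ _
      have h5 : Finset.card ({1, ⟨z, hz⟩, ⟨a, ha⟩} : Finset Z) = 3 := by
        rw [Finset.card_eq_three]
        exact ⟨1, ⟨z, hz⟩, ⟨a, ha⟩, fun h => hz1 (congrArg Subtype.val h).symm,
          fun h => ha1 (congrArg Subtype.val h).symm, fun h => hn1 (congrArg Subtype.val h).symm, rfl⟩
      omega
    · have h4 : Finset.card ({1, ⟨z, hz⟩, ⟨z⁻¹, Z.inv_mem hz⟩, ⟨a, ha⟩} : Finset Z) ≤ Fintype.card Z :=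
        Finset.card_le_univ _
      have h5 : Finset.card ({1, ⟨z, hz⟩, ⟨z⁻¹, Z.inv_mem hz⟩, ⟨a, ha⟩} : Finset Z) = 4 := by
        have e1 : (1 : Z) ≠ ⟨z, hz⟩ := fun h => hz1 (congrArg Subtype.val h).symm
        have e2 : (1 : Z) ≠ ⟨z⁻¹, Z.inv_mem hz⟩ := fun h => hz1 (inv_eq_one.1 (congrArg Subtype.val h).symm)
        have e3 : (1 : Z) ≠ ⟨a, ha⟩ := fun h => ha1 (congrArg Subtype.val h).symm
        have e4 : (⟨z, hz⟩ : Z) ≠ ⟨z⁻¹, Z.inv_mem hz⟩ := fun h => hzz (congrArg Subtype.val h)
        have e5 : (⟨z, hz⟩ : Z) ≠ ⟨a, ha⟩ := fun h => hn1 (congrArg Subtype.val h).symm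
        have e6 : (⟨z⁻¹, Z.inv_mem hz⟩ : Z) ≠ ⟨a, ha⟩ := fun h => hn2 (congrArg Subtype.val h).symm
        rw [Finset.card_insert_of_notMem (by simp [e1, e2, e3]), Finset.card_insert_of_notMem (by simp [e4, e5]),
          Finset.card_insert_of_notMem (by simp [e6]), Finset.card_singleton]
      omega
  have hconj : ∀ g : W, g * z * g⁻¹ = z ∨ g * z * g⁻¹ = z⁻¹ := by
    intro g
    apply key _ (‹Z.Normal›.conj_mem z hz g)
    intro h
    apply hz1
    have : z = g⁻¹ * (g * z * g⁻¹) * g := by group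
    rw [this, h]; group
  have hcc : ∀ a b : W, (a * b * a⁻¹ * b⁻¹) * z = z * (a * b * a⁻¹ * b⁻¹) := by
    intro a b
    have hinv : ∀ g : W, g * z * g⁻¹ = z⁻¹ → g * z⁻¹ * g⁻¹ = z := by
      intro g hg
      have := congrArg (·⁻¹) hg
      simpa [mul_assoc] using this
    have hinv' : ∀ g : W, g * z * g⁻¹ = z → g * z⁻¹ * g⁻¹ = z⁻¹ := by
      intro g hg
      have := congrArg (·⁻¹) hg
      simpa [mul_assoc] using this
    have h1 : (a * b * a⁻¹ * b⁻¹) * z * (a * b * a⁻¹ * b⁻¹)⁻¹ = z := by
      have e : (a * b * a⁻¹ * b⁻¹) * z * (a * b * a⁻¹ * b⁻¹)⁻¹ =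
          a * (b * (a⁻¹ * (b⁻¹ * z * b⁻¹⁻¹) * a⁻¹⁻¹) * b⁻¹) * a⁻¹ := by group
      rw [e]
      have ha' : ∀ g : W, (g * z * g⁻¹ = z → g⁻¹ * z * g⁻¹⁻¹ = z) ∧
          (g * z * g⁻¹ = z⁻¹ → g⁻¹ * z * g⁻¹⁻¹ = z⁻¹) := by
        intro g
        constructor
        · intro hg
          calc g⁻¹ * z * g⁻¹⁻¹ = g⁻¹ * (g * z * g⁻¹) * g := by rw [hg, inv_inv]
            _ = z := by group
        · intro hg
          have h2 := hinv g hg
          calc g⁻¹ * z * g⁻¹⁻¹ = g⁻¹ * (g * z⁻¹ * g⁻¹) * g := by rw [h2, inv_inv]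
            _ = z⁻¹ := by group
      have hinva : ∀ g : W, g * z * g⁻¹ = z → g * z⁻¹ * g⁻¹ = z⁻¹ := hinv'
      rcases hconj a with ha | ha <;> rcases hconj b with hb | hb
      · rw [(ha' b).1 hb, (ha' a).1 ha, hb, ha]
      · rw [(ha' b).2 hb]
        have := hinv' a⁻¹ ((ha' a).1 ha)
        rw [this, hinv b hb, ha]
      · rw [(ha' b).1 hb, (ha' a).2 ha, hinv' b hb, hinv a ha]
      · rw [(ha' b).2 hb]
        have := hinv a⁻¹ ((ha' a).2 ha)
        rw [this, hb, hinv a ha]
    calc (a * b * a⁻¹ * b⁻¹) * z = (a * b * a⁻¹ * b⁻¹) * z * (a * b * a⁻¹ * b⁻¹)⁻¹ * (a * b * a⁻¹ * b⁻¹) := by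
          group
      _ = z * (a * b * a⁻¹ * b⁻¹) := by rw [h1]
  have hle : commutator W ≤ Subgroup.centralizer {z} := by
    rw [commutator_def, Subgroup.commutator_le]
    intro a _ b _
    rw [Subgroup.mem_centralizer_singleton_iff]
    exact hcc a b
  exact Subgroup.mem_centralizer_singleton_iff.1 (hle hc)

/-! ### The presented group -/

/-- The relators. -/
def rels3 : Set (FreeGroup Fi24.Gen) :=
  coxRelators Fi24.edges ∪
    {(Fi24.a * Fi24.b * Fi24.c * Fi24.d * Fi24.e * Fi24.f * Fi24.h) ^ 9 * Fi24.l⁻¹,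
     (Fi24.d * Fi24.c * Fi24.b * Fi24.d * Fi24.e * Fi24.f * Fi24.d * Fi24.h * Fi24.i) ^ 10}

/-- The presented group. -/
abbrev P3 : Type := PresentedGroup rels3

theorem rel3_P : Rel3 (fun s => (PresentedGroup.of s : P3)) where
  cox := by
    intro s t
    have h : (FreeGroup.of s * FreeGroup.of t) ^ coxLabel Fi24.edges s t ∈ rels3 :=
      Or.inl ⟨s, mem_nodes s, t, mem_nodes t, rfl⟩
    have := PresentedGroup.one_of_mem h
    rw [map_pow, map_mul] at this
    exact this
  el := by
    have h : (Fi24.a * Fi24.b * Fi24.c * Fi24.d * Fi24.e * Fi24.f * Fi24.h) ^ 9 * Fi24.l⁻¹ ∈ rels3 :=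
      Or.inr (Or.inl rfl)
    have := PresentedGroup.one_of_mem h
    rw [map_mul, map_inv, mul_inv_eq_one] at this
    simp only [map_pow, map_mul] at this
    exact this
  sp := by
    have h : (Fi24.d * Fi24.c * Fi24.b * Fi24.d * Fi24.e * Fi24.f * Fi24.d * Fi24.h * Fi24.i) ^ 10 ∈ rels3 :=
      Or.inr (Or.inr rfl)
    have := PresentedGroup.one_of_mem h
    simp only [map_pow, map_mul] at this
    exact this

theorem lift_rels3 {W : Type u} [Group W] {y : Fi24.Gen → W} (h : Rel3 y) :
    ∀ r ∈ rels3, FreeGroup.lift y r = 1 := by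
  rintro r (⟨s, -, t, -, rfl⟩ | rfl | rfl)
  · rw [map_pow, map_mul, FreeGroup.lift_apply_of, FreeGroup.lift_apply_of]
    exact h.cox s t
  · rw [map_mul, map_inv, mul_inv_eq_one]
    simp only [map_pow, map_mul, FreeGroup.lift_apply_of]
    exact h.el
  · simp only [map_pow, map_mul, FreeGroup.lift_apply_of]
    exact h.sp

/-- The homomorphism to a group with the relations. -/
def toW3 {W : Type u} [Group W] {y : Fi24.Gen → W} (h : Rel3 y) : P3 →* W := PresentedGroup.toGroup (lift_rels3 h)

theorem toW3_of {W : Type u} [Group W] {y : Fi24.Gen → W} (h : Rel3 y) (s : Fi24.Gen) :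
    toW3 h (PresentedGroup.of s) = y s := PresentedGroup.toGroup.of _

theorem toW3_surjective : Function.Surjective (toW3 relT_gen.toRel3) := by
  rw [← MonoidHom.range_eq_top, eq_top_iff]
  rw [← show Subgroup.closure (Set.range (fun s => (gen s : Fi24))) = ⊤ from PresentedGroup.closure_range_of _,
    Subgroup.closure_le]
  rintro _ ⟨s, rfl⟩
  exact ⟨PresentedGroup.of s, toW3_of relT_gen.toRel3 s⟩

/-- The element `(dcbakldefgjdhi)^17`. -/
noncomputable def z17 : P3 := (w17.map fun s => (PresentedGroup.of s : P3)).prod ^ 17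

theorem z17_mem : z17 ∈ (toW3 relT_gen.toRel3).ker := by
  rw [MonoidHom.mem_ker, z17, map_pow, map_list_prod, List.map_map]
  have : (toW3 relT_gen.toRel3) ∘ (fun s => (PresentedGroup.of s : P3)) = fun s => gen s := by
    funext s; exact toW3_of relT_gen.toRel3 s
  rw [this]
  exact w17_gen

theorem z17_comm (hL : Label3) (s : Fi24.Gen) :
    (PresentedGroup.of .l * PresentedGroup.of s : P3) * z17 = z17 * (PresentedGroup.of .l * PresentedGroup.of s) := by
  obtain ⟨hfin, hcard⟩ := card_le hL rel3_P (PresentedGroup.closure_range_of _) Cfsg.Agent.S1697.result.2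
  have hk : Nat.card (toW3 relT_gen.toRel3).ker ≤ 3 := by
    have h1 := Subgroup.card_mul_index (toW3 relT_gen.toRel3).ker
    rw [Subgroup.index_ker, MonoidHom.range_eq_top.2 toW3_surjective, Subgroup.card_top, card_Fi24] at h1
    rw [← h1] at hcard
    exact Nat.le_of_mul_le_mul_right hcard (by norm_num)
  exact comm_of_card_le _ hk z17_mem (mul_mem_commutator rel3_P s)

variable {G : Type u} [Group G] {x : Fi23.Gen → G} {w : G}

theorem rel3_F (h : Rel x w)
    (hsp : (x .d * x .c * x .b * x .d * x .e * x .f * x .d * x .h * x .i) ^ 10 = 1) :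
    Rel3 (fun s => F (U x w s)) where
  cox := h.coxF
  el := h.sevenF
  sp := spF h hsp

/-- The second relator. -/
theorem w17_three (hL : Label3) (h : Rel x w)
    (hsp : (x .d * x .c * x .b * x .d * x .e * x .f * x .d * x .h * x .i) ^ 10 = 1)
    (hcent : ∀ p : G, (∀ s, Commute p (x s)) → Commute p w → p = 1) : wF x w w17 ^ 17 = 1 := by
  set ψ := toW3 (rel3_F h hsp) with hψ
  have hz : ψ z17 = wF x w w17 ^ 17 := by
    rw [z17, map_pow, map_list_prod, List.map_map]
    have : ψ ∘ (fun s => (PresentedGroup.of s : P3)) = fun s => F (U x w s) := by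
      funext s; exact toW3_of _ s
    rw [this]
    rfl
  have heven : (-1 : ℤˣ) ^ w17.length = 1 := by decide
  have hD : wF x w w17 ^ 17 = D ((alt x w true w17) ^ 17) ((alt x w false w17) ^ 17) := by
    rw [wF_even heven, D_pow]
  have hcomm : ∀ s, D (U x w s)⁻¹ (U x w s) * D ((alt x w true w17) ^ 17) ((alt x w false w17) ^ 17) =
      D ((alt x w true w17) ^ 17) ((alt x w false w17) ^ 17) * D (U x w s)⁻¹ (U x w s) := by
    intro s
    have h1 := congrArg ψ (z17_comm hL s)
    simp only [map_mul] at h1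
    rw [hz, hD, hψ, toW3_of, toW3_of, F_mul_F] at h1
    have e1 : U x w .l * (U x w s)⁻¹ = (U x w s)⁻¹ := by
      show 1 * (U x w s)⁻¹ = _
      rw [one_mul]
    have e2 : (U x w .l)⁻¹ * U x w s = U x w s := by
      show 1⁻¹ * U x w s = _
      rw [inv_one, one_mul]
    rw [e1, e2] at h1
    exact h1
  have hc1 : ∀ s, Commute ((alt x w true w17) ^ 17) (U x w s) := by
    intro s
    have h1 := congrArg (fun r : Wr G => r.left.1) (hcomm s)
    have h2 : (U x w s)⁻¹ * (alt x w true w17) ^ 17 = (alt x w true w17) ^ 17 * (U x w s)⁻¹ := by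
      rw [D_mul_D, D_mul_D] at h1
      exact h1
    have h3 : Commute ((alt x w true w17) ^ 17) (U x w s)⁻¹ := h2.symm
    simpa using h3.inv_right
  have hc2 : ∀ s, Commute ((alt x w false w17) ^ 17) (U x w s) := by
    intro s
    have h1 := congrArg (fun r : Wr G => r.left.2) (hcomm s)
    have h2 : U x w s * (alt x w false w17) ^ 17 = (alt x w false w17) ^ 17 * U x w s := by
      rw [D_mul_D, D_mul_D] at h1
      exact h1
    exact h2.symm
  have hp : (alt x w true w17) ^ 17 = 1 := hcent _ (fun s => by simpa [U_up] using hc1 (up s)) (hc1 .k)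
  have hq : (alt x w false w17) ^ 17 = 1 := hcent _ (fun s => by simpa [U_up] using hc2 (up s)) (hc2 .k)
  rw [hD, hp, hq, D_one]

end Cfsg.Agent.R08.TThree
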