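import Cfsg.Agent.R08.Even
import Cfsg.Agent.Fischer.Fi24RepOrb
import Cfsg.Agent.Fischer.Fi24Final
import Cfsg.Agent.Fischer.Fi24Spider

/-!
# A variant of the presentation of `Fi24`

The relator of length `17 * 14` of `Fi24` is replaced by the commutation of `k` with one transposition `t` of
`⟨a, …, j⟩`. Theorems for an arbitrary group; the coset enumeration is a hypothesis `Label` here.
-/

set_option autoImplicit false
set_option linter.constructorNameAsVariable false

namespace Cfsg.Agent.R08.TVar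

open Cfsg.Spor Cfsg.Agent.R08.Even
open Cfsg.Agent.Fischer.Fi24RepOrb (UG)

universe u v

/-- The conjugating word of `t`. -/
def vw : List Fi24.Gen :=
  [.b, .c, .d, .e, .f, .g, .j, .h, .d, .c, .b, .e, .d, .f, .i, .h, .d, .c, .b, .e, .d, .c, .f, .e, .g, .f, .h, .d,
    .e, .i, .h, .d, .c, .b, .a]

/-- The word of `t`. -/
def tw : List Fi24.Gen := vw.reverse ++ .a :: vw

/-- The Coxeter relations, the first relator and the spider relation. -/
structure Rel3 {W : Type u} [Group W] (y : Fi24.Gen → W) : Prop where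
  cox : ∀ s t, (y s * y t) ^ coxLabel Fi24.edges s t = 1
  el : (y .a * y .b * y .c * y .d * y .e * y .f * y .h) ^ 9 = y .l
  sp : (y .d * y .c * y .b * y .d * y .e * y .f * y .d * y .h * y .i) ^ 10 = 1

/-- The relations of the variant. -/
structure RelT {W : Type u} [Group W] (y : Fi24.Gen → W) : Prop extends Rel3 y where
  et : y .k * (tw.map y).prod = (tw.map y).prod * y .k

/-- The result of the coset enumeration. -/
def Label : Prop := ∀ (W : Type) [Group W] (X : Type) [MulAction W X] (y : Fi24.Gen → W), RelT y →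
  ∀ p : X, (∀ a, a ≠ .k → y a • p = p) →
  ∃ f : ℕ → X, f 0 = p ∧ ∀ a, ∀ i, UG.testBit i = true → y a • f i = f (Cfsg.Agent.Fischer.Fi24RepDef.rho0 a i)

section W
variable {W : Type u} [Group W] {y : Fi24.Gen → W}

theorem Rel3.sq (h : Rel3 y) (s : Fi24.Gen) : y s * y s = 1 := by
  have h1 := h.cox s s
  have hl : coxLabel Fi24.edges s s = 1 := by cases s <;> decide
  rwa [hl, pow_one] at h1

theorem Rel3.inv_y (h : Rel3 y) (s : Fi24.Gen) : (y s)⁻¹ = y s := inv_eq_of_mul_eq_one_left (h.sq s)

theorem Rel3.comm (h : Rel3 y) (s t : Fi24.Gen) (hl : coxLabel Fi24.edges s t = 2) : y s * y t = y t * y s := by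
  have h1 := h.cox s t
  rw [hl, pow_two] at h1
  have h2 : y s * (y t * y s) * y t = 1 := by simpa [mul_assoc] using h1
  calc y s * y t = (y s)⁻¹ * (y t)⁻¹ := by rw [h.inv_y, h.inv_y]
    _ = (y s)⁻¹ * 1 * (y t)⁻¹ := by rw [mul_one]
    _ = (y s)⁻¹ * (y s * (y t * y s) * y t) * (y t)⁻¹ := by rw [h2]
    _ = y t * y s := by group

theorem Rel3.braid (h : Rel3 y) (s t : Fi24.Gen) (hl : coxLabel Fi24.edges s t = 3) :
    y s * y t * y s = y t * y s * y t := by
  have h1 := h.cox s t
  rw [hl] at h1
  have h2 : (y s * y t * y s) * (y t * y s * y t) = 1 := by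
    rw [← h1]; simp only [pow_succ, pow_zero, one_mul, mul_assoc]
  have h3 : (y t * y s * y t)⁻¹ = y t * y s * y t := by
    rw [mul_inv_rev, mul_inv_rev, h.inv_y, h.inv_y, mul_assoc]
  rw [mul_eq_one_iff_eq_inv, h3] at h2
  exact h2

theorem Rel3.comm_l (h : Rel3 y) (x : Fi24.Gen) (hx : x ≠ .k) : y x * y .l = y .l * y x := by
  cases x
  · rfl
  · exact absurd rfl hx
  all_goals exact h.comm _ _ (by decide)

theorem up_ne_k (x : Fi23.Gen) : up x ≠ .k := by cases x <;> decide

/-- The images of the generators of `Fi23`. -/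
def img (y : Fi24.Gen → W) (x : Fi23.Gen) : W := y (up x) * y .l

theorem coxLabel_up (x z : Fi23.Gen) : coxLabel Fi23.edges x z = coxLabel Fi24.edges (up x) (up z) := by
  cases x <;> cases z <;> decide

theorem Rel3.img_mul (h : Rel3 y) (x z : Fi23.Gen) : img y x * img y z = y (up x) * y (up z) := by
  unfold img
  calc y (up x) * y .l * (y (up z) * y .l)
      = y (up x) * (y .l * y (up z)) * y .l := by simp only [mul_assoc]
    _ = y (up x) * (y (up z) * y .l) * y .l := by rw [h.comm_l _ (up_ne_k z)]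
    _ = y (up x) * y (up z) * (y .l * y .l) := by simp only [mul_assoc]
    _ = y (up x) * y (up z) := by rw [h.sq, mul_one]

theorem Rel3.commute_word (h : Rel3 y) (v : List Fi23.Gen) : Commute ((v.map fun x => y (up x)).prod) (y .l) := by
  induction v with
  | nil => simp
  | cons z v ihv =>
    rw [List.map_cons, List.prod_cons]
    exact Commute.mul_left (h.comm_l _ (up_ne_k z)) ihv

theorem Rel3.img_word (h : Rel3 y) (w : List Fi23.Gen) :
    (w.map (img y)).prod = (w.map fun x => y (up x)).prod * y .l ^ w.length := by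
  induction w with
  | nil => simp
  | cons x w ih =>
    rw [List.map_cons, List.prod_cons, ih, List.map_cons, List.prod_cons, List.length_cons, pow_succ']
    unfold img
    calc y (up x) * y .l * ((w.map fun x => y (up x)).prod * y .l ^ w.length)
        = y (up x) * (y .l * (w.map fun x => y (up x)).prod) * y .l ^ w.length := by
          simp only [mul_assoc]
      _ = y (up x) * ((w.map fun x => y (up x)).prod * y .l) * y .l ^ w.length := by
          rw [(h.commute_word w).eq]
      _ = y (up x) * (w.map fun x => y (up x)).prod * (y .l * y .l ^ w.length) := by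
          simp only [mul_assoc]

theorem Rel3.rel23 (h : Rel3 y) : ∀ r ∈ coxRelators Fi23.edges ∪ {r | r ∈ Fi23.extra},
    FreeGroup.lift (img y) r = 1 := by
  rintro r (⟨x, -, z, -, rfl⟩ | hr)
  · rw [map_pow, map_mul, FreeGroup.lift_apply_of, FreeGroup.lift_apply_of, h.img_mul, coxLabel_up]
    exact h.cox _ _
  · have hr' : r = (Fi23.d * Fi23.c * Fi23.b * Fi23.d * Fi23.e *
        Fi23.f * Fi23.d * Fi23.h * Fi23.i) ^ 10 ∨
        r = (Fi23.a * Fi23.b * Fi23.c * Fi23.d * Fi23.e *
        Fi23.f * Fi23.h) ^ 9 := by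
      simpa [Fi23.extra] using hr
    rcases hr' with rfl | rfl
    · simp only [map_pow, map_mul, FreeGroup.lift_apply_of]
      have h1 := h.img_word [.d, .c, .b, .d, .e, .f, .d, .h, .i]
      simp only [List.map_cons, List.map_nil, List.prod_cons, List.prod_nil, mul_one, ← mul_assoc] at h1
      rw [h1]
      have h2 := h.commute_word [.d, .c, .b, .d, .e, .f, .d, .h, .i]
      simp only [List.map_cons, List.map_nil, List.prod_cons, List.prod_nil, mul_one, ← mul_assoc] at h2
      rw [(h2.pow_right _).mul_pow]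
      have h3 : (y (up .d) * y (up .c) * y (up .b) * y (up .d) * y (up .e) * y (up .f) * y (up .d) *
        y (up .h) * y (up .i)) ^ 10 = 1 := h.sp
      have h4 : (y .l ^ ([.d, .c, .b, .d, .e, .f, .d, .h, .i] : List Fi23.Gen).length) ^ 10 = 1 := by
        rw [← pow_mul]
        show y .l ^ 90 = 1
        rw [show (90 : ℕ) = 2 * 45 from rfl, pow_mul, pow_two, h.sq, one_pow]
      rw [h4, mul_one]
      exact h3
    · simp only [map_pow, map_mul, FreeGroup.lift_apply_of]
      have h1 := h.img_word [.a, .b, .c, .d, .e, .f, .h]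
      simp only [List.map_cons, List.map_nil, List.prod_cons, List.prod_nil, mul_one, ← mul_assoc] at h1
      rw [h1]
      have h2 := h.commute_word [.a, .b, .c, .d, .e, .f, .h]
      simp only [List.map_cons, List.map_nil, List.prod_cons, List.prod_nil, mul_one, ← mul_assoc] at h2
      rw [(h2.pow_right _).mul_pow]
      have h3 : (y (up .a) * y (up .b) * y (up .c) * y (up .d) * y (up .e) *
        y (up .f) * y (up .h)) ^ 9 = y .l := h.el
      have h4 : (y .l ^ ([.a, .b, .c, .d, .e, .f, .h] : List Fi23.Gen).length) ^ 9 = y .l := by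
        rw [← pow_mul]
        show y .l ^ 63 = y .l
        rw [show (63 : ℕ) = 2 * 31 + 1 from rfl, pow_succ, pow_mul, pow_two, h.sq, one_pow, one_mul]
      rw [h4, h3, h.sq]

/-- The homomorphism from `Fi23`. -/
def Rel3.psi (h : Rel3 y) : Fi23 →* W := PresentedGroup.toGroup h.rel23

theorem Rel3.psi_of (h : Rel3 y) (x : Fi23.Gen) : h.psi (PresentedGroup.of x) = y (up x) * y .l :=
  PresentedGroup.toGroup.of _

theorem Rel3.psi_comm (h : Rel3 y) (g : Fi23) : Commute (h.psi g) (y .l) := by
  have hg : g ∈ Subgroup.closure (Set.range (PresentedGroup.of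
      (rels := coxRelators Fi23.edges ∪ {r | r ∈ Fi23.extra}))) := by
    rw [PresentedGroup.closure_range_of]; trivial
  induction hg using Subgroup.closure_induction with
  | mem x hx =>
    obtain ⟨s, rfl⟩ := hx
    rw [h.psi_of]
    exact Commute.mul_left (h.comm_l _ (up_ne_k s)) (Commute.refl _)
  | one => rw [map_one]; exact Commute.one_left _
  | mul a b _ _ ha hb => rw [map_mul]; exact ha.mul_left hb
  | inv a _ ha => rw [map_inv]; exact ha.inv_left

/-- The subgroup generated by all generators but `k`. -/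
def K (y : Fi24.Gen → W) : Subgroup W := Subgroup.closure (y '' {x | x ≠ .k})

/-- The map `Fi23 × C2 → W`. -/
def Rel3.Psi (h : Rel3 y) : Fi23 × ℤˣ →* W where
  toFun p := h.psi p.1 * (if p.2 = 1 then 1 else y .l)
  map_one' := by simp
  map_mul' := by
    rintro ⟨a, e⟩ ⟨b, e'⟩
    have hc : y .l * h.psi b = h.psi b * y .l := (h.psi_comm b).symm
    show h.psi (a * b) * (if e * e' = 1 then 1 else y .l) = _
    rw [map_mul]
    rcases Int.units_eq_one_or e with rfl | rfl <;> rcases Int.units_eq_one_or e' with rfl | rfl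
    · simp
    · simp [mul_assoc]
    · have hn : (-1 : ℤˣ) ≠ 1 := by decide
      simp only [mul_one, if_neg hn, if_true]
      rw [mul_assoc, ← hc, ← mul_assoc]
    · have hn : (-1 : ℤˣ) ≠ 1 := by decide
      have h1 : ((-1 : ℤˣ) * -1) = 1 := by decide
      simp only [if_neg hn, h1, if_true, mul_one]
      rw [mul_assoc (h.psi a) (y .l), ← mul_assoc (y .l), hc, mul_assoc (h.psi b), h.sq, mul_one]

theorem Rel3.K_le (h : Rel3 y) : K y ≤ h.Psi.range := by
  unfold K
  rw [Subgroup.closure_le]
  rintro _ ⟨s, hs, rfl⟩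
  have hn : (-1 : ℤˣ) ≠ 1 := by decide
  rcases gen_cases s with rfl | rfl | ⟨s, rfl⟩
  · refine ⟨(1, -1), ?_⟩
    show h.psi 1 * (if (-1 : ℤˣ) = 1 then 1 else y .l) = y .l
    rw [map_one, one_mul, if_neg hn]
  · exact absurd rfl hs
  · refine ⟨(PresentedGroup.of s, -1), ?_⟩
    show h.psi (PresentedGroup.of s) * (if (-1 : ℤˣ) = 1 then 1 else y .l) = y (up s)
    rw [h.psi_of, if_neg hn, mul_assoc, h.sq, mul_one]

theorem Rel3.card_K (h : Rel3 y) (hF : Nat.card Fi23 = 4089470473293004800) :
    Finite (K y) ∧ Nat.card (K y) ≤ 8178940946586009600 := by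
  have hfin : Finite Fi23 := Nat.finite_of_card_ne_zero (by rw [hF]; norm_num)
  have hfp : Finite (Fi23 × ℤˣ) := inferInstance
  have hfr : Finite h.Psi.range := Finite.of_surjective h.Psi.rangeRestrict h.Psi.rangeRestrict_surjective
  have hcard : Nat.card (Fi23 × ℤˣ) = 8178940946586009600 := by
    rw [Nat.card_prod, hF]
    have : Nat.card ℤˣ = 2 := by rw [Nat.card_eq_fintype_card]; rfl
    rw [this]
  refine ⟨Finite.Set.subset (h.Psi.range : Set W) h.K_le, ?_⟩
  calc Nat.card (K y) ≤ Nat.card h.Psi.range := Nat.card_le_card_of_injective _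
        (Subgroup.inclusion_injective h.K_le)
    _ ≤ Nat.card (Fi23 × ℤˣ) := Nat.card_le_card_of_surjective _ h.Psi.rangeRestrict_surjective
    _ = _ := hcard

end W

section Index
variable {W : Type} [Group W] {y : Fi24.Gen → W}

open Cfsg.Agent.Fischer.Fi24RepOrb (ncard_G orbG)
open Cfsg.Agent.Fischer.Fi24RepDef (rho0)

theorem UG_zero : UG.testBit 0 = true := by
  rw [Cfsg.Agent.Fischer.Fi24RepOrb.testBit_UG]; simp

theorem UG_step (a : Fi24.Gen) {i : ℕ} (hi : UG.testBit i = true) : UG.testBit (rho0 a i) = true := by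
  have h1 : i ∈ {p : ℕ | ∃ x, Cfsg.Agent.Fischer.Fi24Rep.rho x 0 = p} := by
    rw [orbG]; exact hi
  obtain ⟨x, hx⟩ := h1
  have h2 : rho0 a i ∈ {p : ℕ | ∃ x, Cfsg.Agent.Fischer.Fi24Rep.rho x 0 = p} :=
    ⟨Cfsg.Agent.Fischer.Fi24Rep.gen a * x, by
      rw [map_mul, Equiv.Perm.mul_apply, hx, Cfsg.Agent.Fischer.Fi24Rep.rho_gen]⟩
  rw [orbG] at h2
  exact h2

theorem RelT.index_le (hL : Label) (h : RelT y) (hgen : Subgroup.closure (Set.range y) = ⊤) :
    (K y).index ≤ 306936 ∧ (K y).index ≠ 0 := by
  obtain ⟨f, hf0, hf⟩ := hL W (W ⧸ K y) y h ((1 : W) : W ⧸ K y) (by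
    intro a ha
    show ((y a * 1 : W) : W ⧸ K y) = _
    rw [mul_one, QuotientGroup.eq, mul_one]
    exact (K y).inv_mem (Subgroup.subset_closure ⟨a, ha, rfl⟩))
  have hUfin : {i : ℕ | UG.testBit i = true}.Finite := by
    apply Set.finite_of_ncard_ne_zero
    rw [ncard_G]; norm_num
  have hstep : ∀ a, ∀ q ∈ f '' {i | UG.testBit i = true}, y a • q ∈ f '' {i | UG.testBit i = true} := by
    rintro a _ ⟨i, hi, rfl⟩
    exact ⟨rho0 a i, UG_step a hi, (hf a i hi).symm⟩
  have hall : ∀ g : W, ∀ q, q ∈ f '' {i | UG.testBit i = true} ↔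
      g • q ∈ f '' {i | UG.testBit i = true} := by
    intro g
    have hg : g ∈ Subgroup.closure (Set.range y) := by rw [hgen]; trivial
    induction hg using Subgroup.closure_induction with
    | mem x hx =>
      obtain ⟨a, rfl⟩ := hx
      intro q
      refine ⟨hstep a q, fun h1 => ?_⟩
      have h2 := hstep a _ h1
      rwa [smul_smul, h.sq, one_smul] at h2
    | one => intro q; rw [one_smul]
    | mul x y _ _ hx hy =>
      intro q
      rw [mul_smul, ← hx, ← hy]
    | inv x _ hx =>
      intro q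
      have h := hx (x⁻¹ • q)
      rw [smul_inv_smul] at h
      exact h.symm
  have huniv : f '' {i | UG.testBit i = true} = Set.univ := by
    ext q
    simp only [Set.mem_univ, iff_true]
    induction q using QuotientGroup.induction_on with
    | H g =>
      have h0 : ((1 : W) : W ⧸ K y) ∈ f '' {i | UG.testBit i = true} := ⟨0, UG_zero, hf0⟩
      have h1 := (hall g _).1 h0
      have h2 : g • ((1 : W) : W ⧸ K y) = (g : W ⧸ K y) := by
        show ((g * 1 : W) : W ⧸ K y) = _
        rw [mul_one]
      rw [← h2]; exact h1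
  have hfin : Finite (W ⧸ K y) := by
    rw [← Set.finite_univ_iff, ← huniv]
    exact hUfin.image f
  have hidx : (K y).index = Nat.card (W ⧸ K y) := rfl
  have hcard : Nat.card (W ⧸ K y) ≤ 306936 := by
    rw [← Set.ncard_univ, ← huniv, ← ncard_G]
    exact Set.ncard_image_le hUfin
  refine ⟨by rw [hidx]; exact hcard, ?_⟩
  rw [hidx]
  exact Nat.card_pos.ne'

theorem RelT.card_le (hL : Label) (h : RelT y) (hgen : Subgroup.closure (Set.range y) = ⊤)
    (hF : Nat.card Fi23 = 4089470473293004800) :
    Finite W ∧ Nat.card W ≤ 2510411418381323442585600 := by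
  obtain ⟨h1, h2⟩ := h.index_le hL hgen
  obtain ⟨h3, h4⟩ := h.card_K hF
  have h5 := Subgroup.card_mul_index (K y)
  refine ⟨Nat.finite_of_card_ne_zero ?_, ?_⟩
  · rw [← h5]
    exact Nat.mul_ne_zero Nat.card_pos.ne' h2
  · rw [← h5]
    calc Nat.card (K y) * (K y).index ≤ 8178940946586009600 * 306936 := Nat.mul_le_mul h4 h1
      _ = _ := by norm_num

end Index

end Cfsg.Agent.R08.TVar
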