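import Cfsg.Agent.R08.TetFi24A
import Cfsg.Agent.R08.TetClose
import Cfsg.Prelude.Def_Spor_Fi24

/-!
# Adapter for the closing argument: a subgroup isomorphic to `Fi24'`
-/

set_option autoImplicit false

namespace Cfsg.Agent.R08.TetAdapt

open Cfsg Cfsg.Spor Cfsg.Agent.R01
open Cfsg.Agent.R08.TetBasic Cfsg.Agent.R08.TetTwo
open Cfsg.Agent.R08.FiTwentyFour (L)
open Cfsg.Agent.R08.TetFi24A (Nb exists_at)

/-- An isomorphism `H ≃* Fi24'` as an embedding in the sense of `TetClose`. -/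
theorem exists_emb {G : Type*} [Group G] {H : Subgroup G} (h : Spor.IsoFi24' H) :
    ∃ χ : Spor.Fi24 → G, TetClose.Emb χ (commutator Spor.Fi24) H := by
  classical
  obtain ⟨e⟩ := h
  have key : ∀ (x : Spor.Fi24) (hx : x ∈ commutator Spor.Fi24),
      (if h : x ∈ commutator Spor.Fi24 then ((e.symm ⟨x, h⟩ : H) : G) else 1) =
        ((e.symm ⟨x, hx⟩ : H) : G) := fun x hx => dif_pos hx
  refine ⟨fun x => if h : x ∈ commutator Spor.Fi24 then ((e.symm ⟨x, h⟩ : H) : G) else 1,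
    ⟨?_, ?_, ?_, ?_⟩⟩
  · intro x hx y hy
    simp only [key x hx, key y hy, key (x * y) (mul_mem hx hy)]
    rw [← Subgroup.coe_mul, ← map_mul]
    rfl
  · intro x hx
    simp only [key x hx]
    exact (e.symm ⟨x, hx⟩).2
  · intro y hy
    refine ⟨(e ⟨y, hy⟩ : Spor.Fi24'), (e ⟨y, hy⟩).2, ?_⟩
    simp only [key _ (e ⟨y, hy⟩).2]
    rw [Subtype.coe_eta, e.symm_apply_apply]
  · intro x hx y hy hxy
    simp only [key x hx, key y hy] at hxy
    have h1 := e.symm.injective (Subtype.ext hxy)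
    exact congrArg Subtype.val h1

/-- Two commuting transpositions of `Fi22`. -/
theorem exists_commute : ∃ p ∈ Fi22Facts.T, ∃ q ∈ Fi22Facts.T, p ≠ q ∧ Commute p q := by
  obtain ⟨l, hodd, hT, -, -, r, hr, hl⟩ := Fi22Facts.exists_heptad
  obtain ⟨x, hx⟩ : ∃ x, x ∈ l := by
    cases l with
    | nil => exact absurd hodd (by decide)
    | cons x l => exact ⟨x, List.mem_cons_self⟩
  exact ⟨r, hr, x, hT x hx, (hl x hx).1, (hl x hx).2⟩

/-- There is a tetrad. -/
theorem exists_tet : ∃ s a b c d, IsTet L s a b c d := by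
  obtain ⟨a, ha⟩ : L.Nonempty := by
    rw [Set.nonempty_iff_ne_empty]
    intro h
    have h1 := FiTwentyFour.ncard_L
    rw [h, Set.ncard_empty] at h1
    exact absurd h1 (by decide)
  obtain ⟨b, hb, nb, cb⟩ : {c | c ∈ L ∧ c ≠ a ∧ Commute c a}.Nonempty := by
    rw [Set.nonempty_iff_ne_empty]
    intro h
    have h1 := FiTwentyFour.ncard_commuting ha
    rw [h, Set.ncard_empty] at h1
    exact absurd h1 (by decide)
  obtain ⟨P⟩ := exists_at ha hb nb.symm cb.symm
  obtain ⟨p, hp, q, hq, hpq, cpq⟩ := exists_commute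
  obtain ⟨c, Hc, rfl⟩ := P.exists_x hp
  obtain ⟨d, Hd, rfl⟩ := P.exists_x hq
  exact ⟨a * b * c * d, a, b, c, d, ha, hb, Hc.hc, Hd.hc, cb.symm, Hc.ca.symm, Hd.ca.symm, Hc.cb.symm,
    Hd.cb.symm, (P.comm_iff _ _).1 cpq, nb.symm, Hc.na.symm, Hd.na.symm, Hc.nb.symm, Hd.nb.symm,
    P.ne_of hpq, rfl⟩

/-- The centraliser of `χ s` is divisible by the centraliser of `s` in `F₀`. -/
theorem card_cent_dvd {F G : Type*} [Group F] [Group G] {χ : F → G} {F0 : Subgroup F}
    {H : Subgroup G} (hE : TetClose.Emb χ F0 H) {s : F} (hs : s ∈ F0) :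
    Nat.card ↥(F0 ⊓ Subgroup.centralizer ({s} : Set F)) ∣
      Nat.card (Subgroup.centralizer ({χ s} : Set G)) := by
  let f : ↥(F0 ⊓ Subgroup.centralizer ({s} : Set F)) →* Subgroup.centralizer ({χ s} : Set G) :=
    { toFun := fun x => ⟨χ x, by
        rw [Subgroup.mem_centralizer_singleton_iff]
        have h1 : (x : F) * s = s * x := Subgroup.mem_centralizer_singleton_iff.1 x.2.2
        rw [← hE.mul _ x.2.1 _ hs, ← hE.mul _ hs _ x.2.1, h1]⟩
      map_one' := Subtype.ext hE.one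
      map_mul' := fun x y => Subtype.ext (hE.mul _ x.2.1 _ y.2.1) }
  refine Subgroup.card_dvd_of_injective f ?_
  intro x y hxy
  exact Subtype.ext (hE.inj _ x.2.1 _ y.2.1 (congrArg Subtype.val hxy))

theorem card_centralizer_conj {G : Type*} [Group G] (g u : G) :
    Nat.card (Subgroup.centralizer ({g * u * g⁻¹} : Set G)) =
      Nat.card (Subgroup.centralizer ({u} : Set G)) := by
  refine Nat.card_congr ⟨fun x => ⟨g⁻¹ * x * g, ?_⟩, fun x => ⟨g * x * g⁻¹, ?_⟩, ?_, ?_⟩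
  · rw [Subgroup.mem_centralizer_singleton_iff]
    have h1 := Subgroup.mem_centralizer_singleton_iff.1 x.2
    calc g⁻¹ * (x : G) * g * u = g⁻¹ * (x * (g * u * g⁻¹)) * g := by group
      _ = g⁻¹ * (g * u * g⁻¹ * x) * g := by rw [h1]
      _ = _ := by group
  · rw [Subgroup.mem_centralizer_singleton_iff]
    have h1 := Subgroup.mem_centralizer_singleton_iff.1 x.2
    calc g * (x : G) * g⁻¹ * (g * u * g⁻¹) = g * (x * u) * g⁻¹ := by group
      _ = g * (u * x) * g⁻¹ := by rw [h1]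
      _ = _ := by group
  · intro x
    apply Subtype.ext
    show g * (g⁻¹ * (x : G) * g) * g⁻¹ = x
    group
  · intro x
    apply Subtype.ext
    show g⁻¹ * (g * (x : G) * g⁻¹) * g = x
    group

/-- A tetrad involution is not conjugate to `u` if `|C(u)|` is too small. -/
theorem hbig {G : Type*} [Group G] {χ : Spor.Fi24 → G} {H : Subgroup G}
    (hE : TetClose.Emb χ (commutator Spor.Fi24) H) {u : G} {k : ℕ}
    (hk : ∀ s a b c d, IsTet L s a b c d →
      k ∣ Nat.card ↥(commutator Spor.Fi24 ⊓ Subgroup.centralizer ({s} : Set Spor.Fi24)))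
    (hu : ¬ k ∣ Nat.card (Subgroup.centralizer ({u} : Set G))) :
    ∀ s a b c d, IsTet L s a b c d → ¬ ∃ g : G, g * u * g⁻¹ = χ s := by
  rintro s a b c d ht ⟨g, hg⟩
  apply hu
  rw [← card_centralizer_conj g u, hg]
  refine (hk s a b c d ht).trans (card_cent_dvd hE ?_)
  rw [← ht.prod, mul_assoc]
  exact mul_mem (FiTwentyFour.even ht.ha ht.hb) (FiTwentyFour.even ht.hc ht.hd)

end Cfsg.Agent.R08.TetAdapt
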