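import Cfsg.Agent.R08.TetFi24A
import Cfsg.Agent.R08.TetFi24B

/-!
# The facts of `TetClose` for the presented group `Fi24`
-/

set_option autoImplicit false

namespace Cfsg.Agent.R08.TetFi24

open Cfsg Cfsg.Agent.R01
open Cfsg.Agent.R08.FiTwentyFour (L)

/-- The facts, with the fixed-point-free automorphisms of `Fi22` excluded. -/
theorem facts_of
    (hFf : ∀ θ : Spor.Fi22 ≃* Spor.Fi22, (∀ x, θ (θ x) = x) →
      ¬ ∀ d ∈ Fi22Facts.T, θ d ∈ Fi22Facts.T ∧ θ d ≠ d ∧ θ d * d = d * θ d) :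
    TetClose.Facts L (commutator Spor.Fi24) where
  tr := TetFi24A.tr
  even := TetFi24A.even
  octad := TetFi24A.octad
  ex := TetFi24A.ex
  cent := TetFi24B.cent
  invol := TetFi24B.invol_of hFf

end Cfsg.Agent.R08.TetFi24
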