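import Mathlib
import Cfsg.Agent.R01.Fi22Facts
import Cfsg.Agent.R08.TetClose

/-!
# The local structure of the transposition class of `Fi24`: interface
-/

set_option autoImplicit false

namespace Cfsg.Agent.R08.TetLoc

open Cfsg.Agent.R01

/-- `c` is a member of `L` different from `a`, `b` and commuting with both. -/
structure Nb {F : Type*} [Group F] (L : Set F) (a b c : F) : Prop where
  mem : c ∈ L
  na : c ≠ a
  nb : c ≠ b
  ca : Commute c a
  cb : Commute c b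

/-- The homomorphism `π` from the even part of the centraliser of `a`, `b` onto `Fi22`. -/
structure Pi {F : Type*} [Group F] (L : Set F) (F0 : Subgroup F) (a b : F)
    (π : ↥(F0 ⊓ Subgroup.centralizer ({a, b} : Set F)) →* Cfsg.Spor.Fi22) : Prop where
  surj : Function.Surjective π
  ker : ∀ x, π x = 1 ↔ (x : F) = 1 ∨ (x : F) = a * b
  mem : ∀ c, Nb L a b c → ∀ x : ↥(F0 ⊓ Subgroup.centralizer ({a, b} : Set F)), (x : F) = a * c →
    π x ∈ Fi22Facts.T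
  onto : ∀ t ∈ Fi22Facts.T, ∃ c, Nb L a b c ∧
    ∃ x : ↥(F0 ⊓ Subgroup.centralizer ({a, b} : Set F)), (x : F) = a * c ∧ π x = t
  inj : ∀ c c', Nb L a b c → Nb L a b c' → ∀ x x' : ↥(F0 ⊓ Subgroup.centralizer ({a, b} : Set F)),
    (x : F) = a * c → (x' : F) = a * c' → π x = π x' → c = c'

/-- The local structure of a 3-transposition group of type `Fi24`. -/
structure Loc24 {F : Type*} [Group F] (L : Set F) (F0 : Subgroup F) : Prop where
  sq : ∀ a ∈ L, a * a = 1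
  conj : ∀ g : F, ∀ a ∈ L, g * a * g⁻¹ ∈ L
  three : ∀ a ∈ L, ∀ b ∈ L, Commute a b ∨ a * b * a = b * a * b
  even : ∀ a ∈ L, ∀ b ∈ L, a * b ∈ F0
  odd : ∀ a ∈ L, a ∉ F0
  trans2 : ∀ a ∈ L, ∀ b ∈ L, ∀ a' ∈ L, ∀ b' ∈ L, a ≠ b → Commute a b → a' ≠ b' → Commute a' b' →
    ∃ g ∈ F0, g * a * g⁻¹ = a' ∧ g * b * g⁻¹ = b'
  odd1 : ∀ a ∈ L, Odd (Set.ncard {c | c ∈ L ∧ c ≠ a ∧ Commute c a})
  loc : ∀ a ∈ L, ∀ b ∈ L, a ≠ b → Commute a b →
    ∃ π : ↥(F0 ⊓ Subgroup.centralizer ({a, b} : Set F)) →* Cfsg.Spor.Fi22, Pi L F0 a b π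

end Cfsg.Agent.R08.TetLoc
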