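import Mathlib
import Cfsg.Agent.R08.TetClose

/-!
# The fields `cent` and `invol` of `TetClose.Facts` from the local structure

`L` is a class of 3-transpositions of `F`, `F0` its even subgroup, and for commuting `a`, `b` in `L` the
centraliser of `a`, `b` in `F0` modulo `⟨ab⟩` is the group `P` with the class `T` of 3-transpositions.
-/

set_option autoImplicit false
set_option linter.unusedSectionVars false
set_option linter.unusedVariables false

namespace Cfsg.Agent.R08.TetPair

open Cfsg.Agent.R08.TetBasic Cfsg.Agent.R08.TetTwo Cfsg.Agent.R08.TetThree Cfsg.Agent.R08.TetClose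

variable {F P : Type*} [Group F] [Group P]

/-- The hypotheses on `F`. -/
structure Pre (L : Set F) (F0 : Subgroup F) (T : Set P) : Prop where
  ne : L.Nonempty
  sq : ∀ a ∈ L, a * a = 1
  conj : ∀ g : F, ∀ a ∈ L, g * a * g⁻¹ ∈ L
  three : ∀ a ∈ L, ∀ b ∈ L, Commute a b ∨ a * b * a = b * a * b
  even : ∀ a ∈ L, ∀ b ∈ L, a * b ∈ F0
  oddc : ∀ a ∈ L, Odd {c | c ∈ L ∧ c ≠ a ∧ Commute c a}.ncard
  loc : ∀ a ∈ L, ∀ b ∈ L, a ≠ b → Commute a b →
    ∃ π : ↥(F0 ⊓ Subgroup.centralizer {a, b}) →* P, Function.Surjective π ∧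
      (∀ x : ↥(F0 ⊓ Subgroup.centralizer {a, b}), π x = 1 ↔ (x : F) = 1 ∨ (x : F) = a * b) ∧
      (∀ c ∈ L, c ≠ a → c ≠ b → Commute c a → Commute c b →
        ∀ x : ↥(F0 ⊓ Subgroup.centralizer {a, b}), (x : F) = a * c → π x ∈ T) ∧
      (∀ t ∈ T, ∃ c ∈ L, c ≠ a ∧ c ≠ b ∧ Commute c a ∧ Commute c b ∧
        ∃ x : ↥(F0 ⊓ Subgroup.centralizer {a, b}), (x : F) = a * c ∧ π x = t) ∧
      (∀ c ∈ L, c ≠ a → c ≠ b → Commute c a → Commute c b →
        ∀ c' ∈ L, c' ≠ a → c' ≠ b → Commute c' a → Commute c' b →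
        ∀ x y : ↥(F0 ⊓ Subgroup.centralizer {a, b}),
          (x : F) = a * c → (y : F) = a * c' → π x = π y → c = c')

/-- `x` lies in `F0` and commutes with `a` and `b`. -/
structure InQ (F0 : Subgroup F) (a b x : F) : Prop where
  f0 : x ∈ F0
  ca : Commute x a
  cb : Commute x b

theorem InQ.mul {F0 : Subgroup F} {a b x y : F} (hx : InQ F0 a b x) (hy : InQ F0 a b y) :
    InQ F0 a b (x * y) :=
  ⟨F0.mul_mem hx.f0 hy.f0, hx.ca.mul_left hy.ca, hx.cb.mul_left hy.cb⟩

/-- The projection, as a function on `F`. -/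
structure Pi (L : Set F) (F0 : Subgroup F) (T : Set P) (a b : F) (π : F → P) : Prop where
  mul : ∀ x, InQ F0 a b x → ∀ y, InQ F0 a b y → π (x * y) = π x * π y
  ker : ∀ x, InQ F0 a b x → π x = 1 → x = 1 ∨ x = a * b
  one : π 1 = 1
  ab : π (a * b) = 1
  surj : ∀ p : P, ∃ x, InQ F0 a b x ∧ π x = p
  map : ∀ c ∈ L, c ≠ a → c ≠ b → Commute c a → Commute c b → π (a * c) ∈ T
  lift : ∀ t ∈ T, ∃ c ∈ L, c ≠ a ∧ c ≠ b ∧ Commute c a ∧ Commute c b ∧ π (a * c) = t
  inj : ∀ c ∈ L, c ≠ a → c ≠ b → Commute c a → Commute c b →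
    ∀ c' ∈ L, c' ≠ a → c' ≠ b → Commute c' a → Commute c' b → π (a * c) = π (a * c') → c = c'

variable {L : Set F} {F0 : Subgroup F} {T : Set P}

theorem mem_iff {a b x : F} : x ∈ F0 ⊓ Subgroup.centralizer {a, b} ↔ InQ F0 a b x := by
  rw [Subgroup.mem_inf, Subgroup.mem_centralizer_iff]
  constructor
  · rintro ⟨h1, h2⟩
    exact ⟨h1, (h2 a (by simp)).symm, (h2 b (by simp)).symm⟩
  · rintro ⟨h1, h2, h3⟩
    refine ⟨h1, ?_⟩
    intro y hy
    rcases hy with rfl | hy
    · exact h2.symm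
    · rw [Set.mem_singleton_iff.1 hy]; exact h3.symm

theorem Pre.inQ (h : Pre L F0 T) {a b c : F} (ha : a ∈ L) (hc : c ∈ L) (hab : Commute a b)
    (hca : Commute c a) (hcb : Commute c b) : InQ F0 a b (a * c) :=
  ⟨h.even a ha c hc, (Commute.refl a).mul_left hca, hab.mul_left hcb⟩

theorem Pre.inQ' (h : Pre L F0 T) {a b c d : F} (hc : c ∈ L) (hd : d ∈ L)
    (hca : Commute c a) (hcb : Commute c b) (hda : Commute d a) (hdb : Commute d b) : InQ F0 a b (c * d) :=
  ⟨h.even c hc d hd, hca.mul_left hda, hcb.mul_left hdb⟩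

theorem Pre.exists_pi (h : Pre L F0 T) {a b : F} (ha : a ∈ L) (hb : b ∈ L) (hne : a ≠ b) (hab : Commute a b) :
    ∃ π : F → P, Pi L F0 T a b π := by
  classical
  obtain ⟨π, h1, h2, h3, h4, h5⟩ := h.loc a ha b hb hne hab
  have mk : ∀ x, InQ F0 a b x → x ∈ F0 ⊓ Subgroup.centralizer {a, b} := fun x hx => mem_iff.2 hx
  have qab : InQ F0 a b (a * b) := h.inQ ha hb hab hab.symm (Commute.refl b)
  refine ⟨fun x => if hx : x ∈ F0 ⊓ Subgroup.centralizer {a, b} then π ⟨x, hx⟩ else 1, ?_, ?_, ?_, ?_, ?_, ?_,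
    ?_, ?_⟩
  · intro x hx y hy
    rw [dif_pos (mk _ (hx.mul hy)), dif_pos (mk x hx), dif_pos (mk y hy), ← map_mul]
    rfl
  · intro x hx
    rw [dif_pos (mk x hx), h2]
    exact id
  · rw [dif_pos (one_mem _), h2]
    left; rfl
  · rw [dif_pos (mk _ qab), h2]
    right; rfl
  · intro p
    obtain ⟨x, hx⟩ := h1 p
    refine ⟨x, mem_iff.1 x.2, ?_⟩
    rw [dif_pos x.2]
    exact hx
  · intro c hc n1 n2 c1 c2
    rw [dif_pos (mk _ (h.inQ ha hc hab c1 c2))]
    exact h3 c hc n1 n2 c1 c2 _ rfl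
  · intro t ht
    obtain ⟨c, hc, n1, n2, c1, c2, x, hx, hxt⟩ := h4 t ht
    refine ⟨c, hc, n1, n2, c1, c2, ?_⟩
    rw [dif_pos (mk _ (h.inQ ha hc hab c1 c2)), ← hxt]
    congr 1
    exact Subtype.ext hx.symm
  · intro c hc n1 n2 c1 c2 c' hc' n1' n2' c1' c2' heq
    rw [dif_pos (mk _ (h.inQ ha hc hab c1 c2)), dif_pos (mk _ (h.inQ ha hc' hab c1' c2'))] at heq
    exact h5 c hc n1 n2 c1 c2 c' hc' n1' n2' c1' c2' _ _ rfl rfl heq

namespace Pi

variable {a b : F} {π : F → P}

/-- Fibres. -/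
theorem eq_or (hP : Pi L F0 T a b π) {x y : F} (hx : InQ F0 a b x) (hy : InQ F0 a b y) (hxy : π x = π y) :
    x = y ∨ x = y * (a * b) := by
  have hyi : InQ F0 a b y⁻¹ := ⟨F0.inv_mem hy.f0, hy.ca.inv_left, hy.cb.inv_left⟩
  have h1 : π (y⁻¹ * x) = 1 := by
    have h2 : π (y * (y⁻¹ * x)) = π y * π (y⁻¹ * x) := hP.mul _ hy _ (hyi.mul hx)
    rw [mul_inv_cancel_left, hxy] at h2
    exact (mul_eq_left.1 h2.symm)
  rcases hP.ker _ (hyi.mul hx) h1 with h2 | h2
  · left; exact (inv_mul_eq_one.1 h2).symm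
  · right; rw [← h2, mul_inv_cancel_left]

end Pi

/-- The product `(a c)(a d) = c d`. -/
theorem mul_mul {a c d : F} (ha : a * a = 1) (hca : Commute c a) : a * c * (a * d) = c * d := by
  rw [← mul_assoc, mul_assoc a c a, hca.eq, ← mul_assoc a a c, ha, one_mul]

theorem Pre.pi_mul (h : Pre L F0 T) {a b c d : F} {π : F → P} (hP : Pi L F0 T a b π) (ha : a ∈ L)
    (hab : Commute a b) (hc : c ∈ L) (hd : d ∈ L) (hca : Commute c a) (hcb : Commute c b)
    (hda : Commute d a) (hdb : Commute d b) : π (c * d) = π (a * c) * π (a * d) := by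
  rw [← hP.mul _ (h.inQ ha hc hab hca hcb) _ (h.inQ ha hd hab hda hdb), mul_mul (h.sq a ha) hca]

theorem ab_ne_one (hsq : ∀ a ∈ L, a * a = 1) {a b : F} (ha : a ∈ L) (hb : b ∈ L) (hne : a ≠ b) :
    a * b ≠ 1 := by
  intro h1
  apply hne
  calc a = a * (b * b) := by rw [hsq b hb, mul_one]
    _ = b := by rw [← mul_assoc, h1, one_mul]

/-- Commuting images have commuting lifts. -/
theorem Pre.commute_of (h : Pre L F0 T) {a b c d : F} {π : F → P} (hP : Pi L F0 T a b π) (ha : a ∈ L)
    (hb : b ∈ L) (hne : a ≠ b)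
    (hab : Commute a b) (hc : c ∈ L) (hca : Commute c a) (hcb : Commute c b)
    (hd : d ∈ L) (hda : Commute d a) (hdb : Commute d b)
    (hcd : π (a * c) * π (a * d) = π (a * d) * π (a * c)) : Commute c d := by
  rcases h.three c hc d hd with h1 | h1
  · exact h1
  · have qc := h.inQ ha hc hab hca hcb
    have qd := h.inQ ha hd hab hda hdb
    have qcd := h.inQ' hc hd hca hcb hda hdb
    have qdc := h.inQ' hd hc hda hdb hca hcb
    have e1 : π (c * d) = π (d * c) := by
      rw [h.pi_mul hP ha hab hc hd hca hcb hda hdb, hcd, ← h.pi_mul hP ha hab hd hc hda hdb hca hcb]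
    rcases hP.eq_or qcd qdc e1 with h2 | h2
    · exact h2
    · exfalso
      -- `c d = d c a b`, so `a b = c d c d = d c`
      have hc2 := h.sq c hc
      have hd2 := h.sq d hd
      have h3 : a * b = c * d * (c * d) := by
        calc a * b = (d * c)⁻¹ * (d * c * (a * b)) := by group
          _ = (d * c)⁻¹ * (c * d) := by rw [← h2]
          _ = c⁻¹ * d⁻¹ * (c * d) := by rw [mul_inv_rev]
          _ = c * d * (c * d) := by
            rw [inv_eq_of_mul_eq_one_left hc2, inv_eq_of_mul_eq_one_left hd2]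
      have h4 : a * b = d * c := by
        rw [h3]
        calc c * d * (c * d) = (c * d * c) * d := by group
          _ = (d * c * d) * d := by rw [h1]
          _ = d * c * (d * d) := by group
          _ = d * c := by rw [hd2, mul_one]
      have h5 : Commute d (a * b) := hda.mul_right hdb
      have h6 : Commute d c := by
        rw [h4] at h5
        have h7 : d * (d * c) = d * c * d := h5.eq
        exact mul_left_cancel (a := d) (by rw [h7, mul_assoc])
      have h8 : a * b = 1 := by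
        rw [h3, ← h6.eq, h6.eq]
        calc c * d * (c * d) = c * (d * c) * d := by group
          _ = c * (c * d) * d := by rw [h6.eq]
          _ = (c * c) * (d * d) := by group
          _ = 1 := by rw [hc2, hd2, one_mul]
      exact ab_ne_one h.sq ha hb hne h8

theorem pair_mem {s a b c d : F} (h : IsTet L s a b c d) : a * b ∈ Pairs L s :=
  ⟨a, b, ⟨c, d, h⟩, rfl⟩

/-- **The field `cent`.** -/
theorem Pre.cent (h : Pre L F0 T)
    (hdc : ∀ p ∈ T, ∀ q ∈ T, p ≠ q → p * q = q * p → ∀ x : P, x * p = p * x →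
      (∀ t ∈ T, t * p = p * t → t * q = q * t → x * t = t * x) → x = 1 ∨ x = p ∨ x = q ∨ x = p * q) :
    ∀ s a b c d, IsTet L s a b c d → ∀ v ∈ F0, Commute v a → Commute v b → Commute v c → Commute v d →
    (∀ e ∈ L, Commute e a → Commute e b → Commute e c → Commute e d → Commute v e) →
    v = 1 ∨ v = s ∨ v ∈ Pairs L s := by
  intro s a b c d ht v hv va vb vc vd hall
  obtain ⟨π, hP⟩ := h.exists_pi ht.ha ht.hb ht.nab ht.ab
  have qv : InQ F0 a b v := ⟨hv, va, vb⟩
  have qc := h.inQ ht.ha ht.hc ht.ab ht.ac.symm ht.bc.symm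
  have qd := h.inQ ht.ha ht.hd ht.ab ht.ad.symm ht.bd.symm
  have qcd := h.inQ' (a := a) (b := b) ht.hc ht.hd ht.ac.symm ht.bc.symm ht.ad.symm ht.bd.symm
  have hne : π (a * c) ≠ π (a * d) := fun h1 => ht.ncd
    (hP.inj c ht.hc ht.nac.symm ht.nbc.symm ht.ac.symm ht.bc.symm d ht.hd ht.nad.symm ht.nbd.symm
      ht.ad.symm ht.bd.symm h1)
  have comm : ∀ x, InQ F0 a b x → ∀ y, InQ F0 a b y → Commute x y → π x * π y = π y * π x := by
    intro x hx y hy hxy
    rw [← hP.mul x hx y hy, ← hP.mul y hy x hx, hxy.eq]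
  have aux : ∀ {x : F}, Commute x a → Commute x c → Commute x (a * c) := fun h1 h2 => h1.mul_right h2
  have hpcd : π (c * d) = π (a * c) * π (a * d) :=
    h.pi_mul hP ht.ha ht.ab ht.hc ht.hd ht.ac.symm ht.bc.symm ht.ad.symm ht.bd.symm
  have hprod : a * b * c * d = s := ht.prod
  have key := hdc (π (a * c)) (hP.map c ht.hc ht.nac.symm ht.nbc.symm ht.ac.symm ht.bc.symm) (π (a * d))
    (hP.map d ht.hd ht.nad.symm ht.nbd.symm ht.ad.symm ht.bd.symm) hne
    (comm _ qc _ qd (by
      have h1 : Commute (a * c) a := (Commute.refl a).mul_left ht.ac.symm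
      have h2 : Commute (a * c) d := ht.ad.mul_left ht.cd
      exact h1.mul_right h2))
    (π v) (comm _ qv _ qc (va.mul_right vc)) (by
      intro t ht' tc td
      obtain ⟨e, he, n1, n2, c1, c2, rfl⟩ := hP.lift t ht'
      have c3 := h.commute_of hP ht.ha ht.hb ht.nab ht.ab he c1 c2 ht.hc ht.ac.symm ht.bc.symm tc
      have c4 := h.commute_of hP ht.ha ht.hb ht.nab ht.ab he c1 c2 ht.hd ht.ad.symm ht.bd.symm td
      exact comm _ qv _ (h.inQ ht.ha he ht.ab c1 c2) (va.mul_right (hall e he c1 c2 c3 c4)))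
  have ha2 := h.sq a ht.ha
  -- the pairs
  have p12 : a * b ∈ Pairs L s := pair_mem ht
  have p13 : a * c ∈ Pairs L s := pair_mem ht.sw23
  have p14 : a * d ∈ Pairs L s := pair_mem ht.sw34.sw23
  have p23 : b * c ∈ Pairs L s := pair_mem ht.sw12.sw23
  have p24 : b * d ∈ Pairs L s := pair_mem ht.sw12.sw34.sw23
  have p34 : c * d ∈ Pairs L s := pair_mem ht.sw23.sw12.sw34.sw23
  -- multiplication by `a b`
  have mab : ∀ x, Commute x a → Commute x b → a * x * (a * b) = b * x := by
    intro x xa xb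
    calc a * x * (a * b) = a * (x * a) * b := by group
      _ = a * (a * x) * b := by rw [xa.eq]
      _ = (a * a) * (x * b) := by group
      _ = b * x := by rw [ha2, one_mul, xb.eq]
  rcases key with h1 | h1 | h1 | h1
  · rcases hP.ker v qv h1 with h2 | h2
    · left; exact h2
    · right; right; rw [h2]; exact p12
  · rcases hP.eq_or qv qc h1 with h2 | h2
    · right; right; rw [h2]; exact p13
    · right; right; rw [h2, mab c ht.ac.symm ht.bc.symm]; exact p23
  · rcases hP.eq_or qv qd h1 with h2 | h2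
    · right; right; rw [h2]; exact p14
    · right; right; rw [h2, mab d ht.ad.symm ht.bd.symm]; exact p24
  · rw [← hpcd] at h1
    rcases hP.eq_or qv qcd h1 with h2 | h2
    · right; right; rw [h2]; exact p34
    · right; left
      rw [h2, ← hprod]
      have c1 : Commute (c * d) (a * b) :=
        (ht.ac.symm.mul_left ht.ad.symm).mul_right (ht.bc.symm.mul_left ht.bd.symm)
      rw [c1.eq]
      group

/-- An involution on a set of odd size has a fixed point. -/
theorem exists_fixed {S : Set F} (hS : Odd S.ncard) {t : F} (ht : t * t = 1)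
    (hst : ∀ c ∈ S, t * c * t ∈ S) : ∃ c ∈ S, t * c * t = c := by
  classical
  have hfin : S.Finite := Set.finite_of_ncard_ne_zero (fun h0 => by rw [h0] at hS; exact absurd hS (by decide))
  letI : Fintype S := hfin.fintype
  have tt : ∀ c : F, t * (t * c * t) * t = c := by
    intro c
    calc t * (t * c * t) * t = (t * t) * c * (t * t) := by group
      _ = c := by rw [ht, one_mul, mul_one]
  let σ : Equiv.Perm S :=
    { toFun := fun c => ⟨t * c * t, hst c c.2⟩
      invFun := fun c => ⟨t * c * t, hst c c.2⟩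
      left_inv := fun c => Subtype.ext (tt c)
      right_inv := fun c => Subtype.ext (tt c) }
  have hσ : σ ^ 2 ^ 1 = 1 := by
    rw [pow_one]
    apply Equiv.ext
    intro c
    rw [pow_two]
    exact Subtype.ext (tt c)
  have hcard : ¬ 2 ∣ Fintype.card S := by
    rw [← Nat.card_eq_fintype_card, Nat.card_coe_set_eq]
    rw [← even_iff_two_dvd, Nat.not_even_iff_odd]
    exact hS
  have : Fact (Nat.Prime 2) := ⟨Nat.prime_two⟩
  obtain ⟨c, hc⟩ := Equiv.Perm.exists_fixed_point_of_prime hcard hσ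
  exact ⟨c, c.2, congrArg Subtype.val hc⟩

/-- The automorphism of `P` induced by an involution of `F0` which interchanges `a` and `b`. -/
theorem Pre.exists_theta (h : Pre L F0 T) {a b t : F} (ha : a ∈ L) (hb : b ∈ L) (hne : a ≠ b)
    (hab : Commute a b) (ht : t ∈ F0) (htt : t * t = 1) (hta : t * a * t = b) :
    ∃ (π : F → P) (θ : P ≃* P), Pi L F0 T a b π ∧ (∀ p, θ (θ p) = p) ∧
      ∀ x, InQ F0 a b x → InQ F0 a b (t * x * t) ∧ θ (π x) = π (t * x * t) := by
  obtain ⟨π, hP⟩ := h.exists_pi ha hb hne hab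
  have tt : ∀ c : F, t * (t * c * t) * t = c := by
    intro c
    calc t * (t * c * t) * t = (t * t) * c * (t * t) := by group
      _ = c := by rw [htt, one_mul, mul_one]
  have tm : ∀ c d : F, t * (c * d) * t = t * c * t * (t * d * t) := by
    intro c d
    calc t * (c * d) * t = t * c * 1 * d * t := by group
      _ = t * c * (t * t) * d * t := by rw [htt]
      _ = t * c * t * (t * d * t) := by group
  have htb : t * b * t = a := by rw [← hta, tt]
  have tc : ∀ c d : F, Commute c d → Commute (t * c * t) (t * d * t) := by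
    intro c d hcd
    show _ = _
    rw [← tm, ← tm, hcd.eq]
  have hq : ∀ x, InQ F0 a b x → InQ F0 a b (t * x * t) := by
    intro x hx
    refine ⟨F0.mul_mem (F0.mul_mem ht hx.f0) ht, ?_, ?_⟩
    · have := tc x b hx.cb; rwa [htb] at this
    · have := tc x a hx.ca; rwa [hta] at this
  have tab : t * (a * b) * t = a * b := by rw [tm, hta, htb, hab.eq]
  choose s hs1 hs2 using hP.surj
  have qab : InQ F0 a b (a * b) := h.inQ ha hb hab hab.symm (Commute.refl b)
  -- well defined
  have key : ∀ x, InQ F0 a b x → π (t * s (π x) * t) = π (t * x * t) := by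
    intro x hx
    rcases hP.eq_or (hs1 (π x)) hx (hs2 (π x)) with h1 | h1
    · rw [h1]
    · rw [h1, tm, tab, hP.mul _ (hq x hx) _ qab, hP.ab, mul_one]
  have inv : ∀ p, π (t * s (π (t * s p * t)) * t) = p := by
    intro p
    rw [key _ (hq _ (hs1 p)), tt, hs2]
  refine ⟨π,
    { toFun := fun p => π (t * s p * t)
      invFun := fun p => π (t * s p * t)
      left_inv := inv
      right_inv := inv
      map_mul' := fun p q => by
        have h1 : π (s p * s q) = p * q := by rw [hP.mul _ (hs1 p) _ (hs1 q), hs2, hs2]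
        rw [← h1, key _ ((hs1 p).mul (hs1 q)), tm, hP.mul _ (hq _ (hs1 p)) _ (hq _ (hs1 q))] },
    hP, inv, ?_⟩
  intro x hx
  exact ⟨hq x hx, key x hx⟩

/-- An involution of `F0` commutes with some member of `L`. -/
theorem Pre.exists_commute (h : Pre L F0 T)
    (hFf : ∀ θ : P ≃* P, (∀ x, θ (θ x) = x) → ¬ ∀ d ∈ T, θ d ∈ T ∧ θ d ≠ d ∧ θ d * d = d * θ d)
    {t : F} (ht : t ∈ F0) (htt : t * t = 1) : ∃ f ∈ L, Commute t f := by
  by_contra hcon
  push Not at hcon
  have hti : t⁻¹ = t := inv_eq_of_mul_eq_one_left htt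
  have tt : ∀ c : F, t * (t * c * t) * t = c := by
    intro c
    calc t * (t * c * t) * t = (t * t) * c * (t * t) := by group
      _ = c := by rw [htt, one_mul, mul_one]
  have tm : ∀ c d : F, t * (c * d) * t = t * c * t * (t * d * t) := by
    intro c d
    calc t * (c * d) * t = t * c * 1 * d * t := by group
      _ = t * c * (t * t) * d * t := by rw [htt]
      _ = t * c * t * (t * d * t) := by group
  have tL : ∀ c ∈ L, t * c * t ∈ L := by
    intro c hc
    have := h.conj t c hc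
    rwa [hti] at this
  have fix : ∀ f ∈ L, t * f * t ≠ f := by
    intro f hf h1
    apply hcon f hf
    show t * f = f * t
    calc t * f = t * f * (t * t) := by rw [htt, mul_one]
      _ = t * f * t * t := by group
      _ = f * t := by rw [h1]
  have com : ∀ c ∈ L, Commute (t * c * t) c := by
    intro c hc
    rcases h.three c hc (t * c * t) (tL c hc) with h1 | h1
    · exact h1.symm
    · exfalso
      have h2 : c * (t * c * t) * c ∈ L := by
        have := h.conj c (t * c * t) (tL c hc)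
        rwa [inv_eq_of_mul_eq_one_left (h.sq c hc)] at this
      apply fix _ h2
      rw [tm, tm, tt]
      exact h1.symm
  obtain ⟨a, ha⟩ := h.ne
  obtain ⟨π, θ, hP, hθ, hθπ⟩ := h.exists_theta ha (tL a ha) (fix a ha).symm (com a ha).symm ht htt rfl
  apply hFf θ hθ
  intro d hd
  obtain ⟨c, hc, n1, n2, c1, c2, rfl⟩ := hP.lift d hd
  have q1 := h.inQ ha hc (com a ha).symm c1 c2
  have k1 : t * c * t ≠ a := by
    intro h1
    apply n2
    rw [← h1, tt]
  have k2 : t * c * t ≠ t * a * t := by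
    intro h1
    apply n1
    exact mul_left_cancel (mul_right_cancel h1)
  have c3 : Commute (t * c * t) (t * a * t) := by
    show _ = _
    rw [← tm, ← tm, c1.eq]
  have c4 : Commute (t * c * t) a := by
    have : Commute (t * c * t) (t * (t * a * t) * t) := by
      show _ = _
      rw [← tm, ← tm, c2.eq]
    rwa [tt] at this
  have q2 := h.inQ ha (tL c hc) (com a ha).symm c4 c3
  have q3 := h.inQ ha (tL a ha) (com a ha).symm (com a ha) (Commute.refl _)
  have e1 : θ (π (a * c)) = π (a * (t * c * t)) := by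
    rw [(hθπ _ q1).2, tm]
    have e2 : t * a * t * (t * c * t) = a * (t * a * t) * (a * (t * c * t)) := by
      rw [mul_mul (h.sq a ha) (com a ha)]
    rw [e2, hP.mul _ q3 _ q2, hP.ab, one_mul]
  rw [e1]
  refine ⟨hP.map _ (tL c hc) k1 k2 c4 c3, ?_, ?_⟩
  · intro h1
    exact fix c hc (hP.inj _ (tL c hc) k1 k2 c4 c3 c hc n1 n2 c1 c2 h1)
  · rw [← hP.mul _ q2 _ q1, ← hP.mul _ q1 _ q2, mul_mul (h.sq a ha) c4, mul_mul (h.sq a ha) c1,
      (com c hc).eq]

/-- **The field `invol`.** -/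
theorem Pre.invol (h : Pre L F0 T)
    (hinv : ∀ τ : P, τ * τ = 1 → τ ≠ 1 → ∃ x ∈ T, ∃ y ∈ T, ∃ w ∈ T, x ≠ y ∧ x ≠ w ∧ y ≠ w ∧ x * y = y * x ∧
      x * w = w * x ∧ y * w = w * y ∧ (τ = x ∨ τ = x * y ∨ τ = x * y * w))
    (hFf : ∀ θ : P ≃* P, (∀ x, θ (θ x) = x) → ¬ ∀ d ∈ T, θ d ∈ T ∧ θ d ≠ d ∧ θ d * d = d * θ d) :
    ∀ t ∈ F0, t * t = 1 → t ≠ 1 → (∃ a ∈ L, ∃ b ∈ L, a ≠ b ∧ Commute a b ∧ t = a * b) ∨
      ∃ a b c d, IsTet L t a b c d := by
  intro t ht htt ht1
  obtain ⟨a, ha, hta⟩ := h.exists_commute hFf ht htt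
  have hti : t⁻¹ = t := inv_eq_of_mul_eq_one_left htt
  obtain ⟨b, ⟨hb, hba, cba⟩, hfix⟩ := exists_fixed (h.oddc a ha) htt (by
    rintro c ⟨hc, hca, cca⟩
    refine ⟨?_, ?_, ?_⟩
    · have := h.conj t c hc
      rwa [hti] at this
    · intro h1
      apply hca
      have h2 : t * a * t = a := by rw [hta.eq, mul_assoc, htt, mul_one]
      rw [← h2] at h1
      exact mul_left_cancel (mul_right_cancel h1)
    · exact (hta.mul_left cca).mul_left hta)
  have htb : Commute t b := by
    show t * b = b * t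
    calc t * b = t * b * (t * t) := by rw [htt, mul_one]
      _ = t * b * t * t := by group
      _ = b * t := by rw [hfix]
  have hab : Commute a b := cba.symm
  have nab : a ≠ b := hba.symm
  obtain ⟨π, hP⟩ := h.exists_pi ha hb nab hab
  have qt : InQ F0 a b t := ⟨ht, hta, htb⟩
  have ha2 := h.sq a ha
  by_cases hτ1 : π t = 1
  · rcases hP.ker t qt hτ1 with h1 | h1
    · exact absurd h1 ht1
    · left; exact ⟨a, ha, b, hb, nab, hab, h1⟩
  have hτ : π t * π t = 1 := by rw [← hP.mul t qt t qt, htt, hP.one]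
  obtain ⟨x, hx, y, hy, w, hw, nxy, nxw, nyw, cxy, cxw, cyw, hform⟩ := hinv (π t) hτ hτ1
  obtain ⟨c, hc, nca, ncb, cca, ccb, rfl⟩ := hP.lift x hx
  obtain ⟨d, hd, nda, ndb, cda, cdb, rfl⟩ := hP.lift y hy
  obtain ⟨e, he, nea, neb, cea, ceb, rfl⟩ := hP.lift w hw
  have ccd : Commute c d := h.commute_of hP ha hb nab hab hc cca ccb hd cda cdb cxy
  have cce : Commute c e := h.commute_of hP ha hb nab hab hc cca ccb he cea ceb cxw
  have cde : Commute d e := h.commute_of hP ha hb nab hab hd cda cdb he cea ceb cyw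
  have ncd : c ≠ d := fun h1 => nxy (by rw [h1])
  have nce : c ≠ e := fun h1 => nxw (by rw [h1])
  have nde : d ≠ e := fun h1 => nyw (by rw [h1])
  have qc := h.inQ ha hc hab cca ccb
  have qd := h.inQ ha hd hab cda cdb
  have qe := h.inQ ha he hab cea ceb
  have qcd := h.inQ' (a := a) (b := b) hc hd cca ccb cda cdb
  have pcd : π (c * d) = π (a * c) * π (a * d) := h.pi_mul hP ha hab hc hd cca ccb cda cdb
  have mab : ∀ x, Commute x a → Commute x b → a * x * (a * b) = b * x := by
    intro x xa xb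
    calc a * x * (a * b) = a * (x * a) * b := by group
      _ = a * (a * x) * b := by rw [xa.eq]
      _ = (a * a) * (x * b) := by group
      _ = b * x := by rw [ha2, one_mul, xb.eq]
  rcases hform with h1 | h1 | h1
  · rcases hP.eq_or qt qc h1 with h2 | h2
    · left; exact ⟨a, ha, c, hc, nca.symm, cca.symm, h2⟩
    · left
      rw [mab c cca ccb] at h2
      exact ⟨b, hb, c, hc, ncb.symm, ccb.symm, h2⟩
  · rw [← pcd] at h1
    rcases hP.eq_or qt qcd h1 with h2 | h2
    · left; exact ⟨c, hc, d, hd, ncd, ccd, h2⟩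
    · right
      refine ⟨c, d, a, b, hc, hd, ha, hb, ccd, cca, ccb, cda, cdb, hab, ncd, nca, ncb, nda, ndb, nab, ?_⟩
      rw [h2]; group
  · have q3 : InQ F0 a b (a * c * (d * e)) := qc.mul (h.inQ' hd he cda cdb cea ceb)
    have p3 : π (a * c * (d * e)) = π (a * c) * π (a * d) * π (a * e) := by
      rw [hP.mul _ qc _ (h.inQ' hd he cda cdb cea ceb), h.pi_mul hP ha hab hd he cda cdb cea ceb, mul_assoc]
    rw [← p3] at h1
    rcases hP.eq_or qt q3 h1 with h2 | h2
    · right
      refine ⟨a, c, d, e, ha, hc, hd, he, cca.symm, cda.symm, cea.symm, ccd, cce, cde, nca.symm, nda.symm,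
        nea.symm, ncd, nce, nde, ?_⟩
      rw [h2]; group
    · right
      refine ⟨b, c, d, e, hb, hc, hd, he, ccb.symm, cdb.symm, ceb.symm, ccd, cce, cde, ncb.symm, ndb.symm,
        neb.symm, ncd, nce, nde, ?_⟩
      have c3a : Commute (c * (d * e)) a := cca.mul_left (cda.mul_left cea)
      have c3b : Commute (c * (d * e)) b := ccb.mul_left (cdb.mul_left ceb)
      have e1 := mab (c * (d * e)) c3a c3b
      rw [h2, mul_assoc a c (d * e), e1]
      group

end Cfsg.Agent.R08.TetPair
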