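import Cfsg.Agent.R08.Sys

/-!
# R08 (S1715), piece (3): the elementary abelian groups `K(Λ)` (helper876)

`Λ = ⟨r, r'⟩` a totally isotropic line of `F ^ 6` with two `R`-points, `E = v⁻¹(Λ)` (order 32),
`K = {m ∈ M | m centralises v⁻¹(Λ^⊥)}` (order 64).

* `Duo L a w`: `a ∈ Q` is an `S`-element, `w` swaps `z` and `a` (`w ∈ Q ^ g` with `z ^ g = z * a`).
* `Duo.conj_mem`: `w E w⁻¹ ≤ K`; `Duo.conj_K`: `w` normalises `K`.
-/

set_option autoImplicit false
set_option linter.unusedSectionVars false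
set_option linter.unusedSimpArgs false

namespace Cfsg.Agent.R08.ThreeDuo

open Cfsg.Agent.R08.Iface Cfsg.Agent.R08.InvHerm

/-- two orthogonal `R`-vectors spanning a line -/
structure Line {F : Type*} [Field F] (r r' : Fin 6 → F) : Prop where
  hr : IsR r
  hr' : IsR r'
  orth : H r r' = 0
  ind : ∀ c : F, r' ≠ c • r

/-- `w ∈ ⟨r, r'⟩` -/
def Lam {F : Type*} [Field F] (r r' w : Fin 6 → F) : Prop := ∃ c d : F, w = c • r + d • r'

/-- The finite facts which are used. -/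
structure Geo3 (F : Type*) [Field F] : Prop extends Geo F where
  /-- `R ∩ Λ^⊥` spans `Λ^⊥` -/
  span : ∀ r r' : Fin 6 → F, Line r r' → ∀ u,
    (∀ d, IsR d → H d r = 0 → H d r' = 0 → H u d = 0) → Lam r r' u
  ex : ∀ r r' : Fin 6 → F, Line r r' → ∃ d, IsR d ∧ H d r = 1 ∧ H d r' = 1

section Line

variable {F : Type*} [Field F] (hF : Nat.card F = 4)
include hF

theorem Line.orth' {r r' : Fin 6 → F} (l : Line r r') : H r' r = 0 := H_zero_swap hF l.orth

theorem Line.symm {r r' : Fin 6 → F} (hr0 : r ≠ 0) (l : Line r r') : Line r' r where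
  hr := l.hr'
  hr' := l.hr
  orth := l.orth' hF
  ind c hc := by
    have hc0 : c ≠ 0 := by rintro rfl; exact hr0 (by rw [hc, zero_smul])
    exact l.ind c⁻¹ (by rw [hc, smul_smul, inv_mul_cancel₀ hc0, one_smul])

theorem Line.smul (g : Geo F) {r r' : Fin 6 → F} (l : Line r r') {a b : F} (ha : a ≠ 0)
    (hb : b ≠ 0) : Line (a • r) (b • r') where
  hr := g.smul _ l.hr _ ha
  hr' := g.smul _ l.hr' _ hb
  orth := by rw [H_smul_left hF, H_smul_right hF, l.orth, mul_zero, mul_zero]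
  ind c hc := l.ind (b⁻¹ * (c * a)) (by
    rw [← smul_smul, ← smul_smul, ← hc, smul_smul, inv_mul_cancel₀ hb, one_smul])

omit hF in
theorem Lam.smul {r r' w : Fin 6 → F} {a b : F} (ha : a ≠ 0) (hb : b ≠ 0) :
    Lam (a • r) (b • r') w ↔ Lam r r' w := by
  constructor
  · rintro ⟨c, d, h⟩
    exact ⟨c * a, d * b, by rw [h, smul_smul, smul_smul]⟩
  · rintro ⟨c, d, h⟩
    refine ⟨c * a⁻¹, d * b⁻¹, ?_⟩
    rw [h, smul_smul, smul_smul, mul_assoc, inv_mul_cancel₀ ha, mul_assoc, inv_mul_cancel₀ hb,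
      mul_one, mul_one]

/-- `r + r'` is an `S`-vector -/
theorem Line.isS (g : Geo F) {r r' : Fin 6 → F} (l : Line r r') : IsS (r + r') := by
  rw [g.S_iff]
  have hrr := g.iso _ l.hr
  have hrr' := g.iso _ l.hr'
  refine ⟨?_, ?_, ?_⟩
  · intro h
    exact l.ind 1 (by rw [one_smul]; exact ((vadd_eq_zero hF).1 h).symm)
  · rw [H_add_left hF, H_add_right hF, H_add_right hF, hrr, hrr', l.orth, l.orth' hF]
    ring
  · intro h
    obtain ⟨c, -, hu⟩ := g.line r l.hr r' hrr' (l.orth' hF) l.ind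
    have h0 := hu 0 (by rw [zero_smul, add_zero]; exact l.hr')
    have h1 := hu 1 (by rw [one_smul, add_comm]; exact h)
    rw [← h1] at h0
    exact one_ne_zero h0.symm

/-- `c r + d r'` with `c d ≠ 0` is an `S`-vector -/
theorem Line.isS' (g : Geo F) {r r' : Fin 6 → F} (l : Line r r') {c d : F} (hc : c ≠ 0)
    (hd : d ≠ 0) : IsS (c • r + d • r') :=
  (l.smul hF g hc hd).isS hF g

theorem Lam.H_left {r r' w x : Fin 6 → F} (hw : Lam r r' w) (h1 : H x r = 0) (h2 : H x r' = 0) :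
    H x w = 0 := by
  obtain ⟨c, d, rfl⟩ := hw
  rw [H_add_right hF, H_smul_right hF, H_smul_right hF, h1, h2]; ring

theorem Lam.perp (g : Geo F) {r r' w : Fin 6 → F} (l : Line r r') (hw : Lam r r' w) :
    H w r = 0 ∧ H w r' = 0 := by
  obtain ⟨c, d, rfl⟩ := hw
  constructor
  · rw [H_add_left hF, H_smul_left hF, H_smul_left hF, g.iso _ l.hr, l.orth' hF]; ring
  · rw [H_add_left hF, H_smul_left hF, H_smul_left hF, g.iso _ l.hr', l.orth]; ring

end Line

section Group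

variable {F : Type*} [Field F] {G : Type*} [Group G] {Q M : Subgroup G} {z : G}

/-- `v⁻¹(Λ^⊥)` -/
def Perp (L : Lab F Q M z) (r r' : Fin 6 → F) : Set G :=
  {y | y ∈ Q ∧ H (L.v y) r = 0 ∧ H (L.v y) r' = 0}

/-- the group `K(Λ)` -/
def KK (L : Lab F Q M z) (r r' : Fin 6 → F) : Subgroup G :=
  M ⊓ Subgroup.centralizer (Perp L r r')

theorem mem_KK {L : Lab F Q M z} {r r' : Fin 6 → F} {m : G} : m ∈ KK L r r' ↔
    m ∈ M ∧ ∀ y ∈ Q, H (L.v y) r = 0 → H (L.v y) r' = 0 → y * m = m * y := by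
  unfold KK
  rw [Subgroup.mem_inf, Subgroup.mem_centralizer_iff]
  constructor
  · rintro ⟨h1, h2⟩
    exact ⟨h1, fun y hy h3 h4 => h2 y ⟨hy, h3, h4⟩⟩
  · rintro ⟨h1, h2⟩
    exact ⟨h1, fun y hy => h2 y hy.1 hy.2.1 hy.2.2⟩

theorem KK_smul (L : Lab F Q M z) (r r' : Fin 6 → F) {a b : F} (ha : a ≠ 0) (hb : b ≠ 0) :
    KK L (a • r) (b • r') = KK L r r' := by
  have h : ∀ (a : F) (_ : a ≠ 0) (x y : Fin 6 → F), H x (a • y) = 0 ↔ H x y = 0 := by
    intro a ha x y
    rw [H_smul_right L.card, mul_eq_zero]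
    exact or_iff_right (pow_ne_zero 2 ha)
  ext m
  rw [mem_KK, mem_KK]
  simp only [h a ha, h b hb]

theorem KK_symm (L : Lab F Q M z) (r r' : Fin 6 → F) : KK L r' r = KK L r r' := by
  ext m
  rw [mem_KK, mem_KK]
  constructor
  · rintro ⟨h1, h2⟩
    exact ⟨h1, fun y hy h3 h4 => h2 y hy h4 h3⟩
  · rintro ⟨h1, h2⟩
    exact ⟨h1, fun y hy h3 h4 => h2 y hy h4 h3⟩

/-- see the head of the file -/
structure Duo (L : Lab F Q M z) (a w : G) : Prop where
  aQ : a ∈ Q
  aS : IsS (L.v a)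
  wz : w * z * w⁻¹ = a
  wa : w * a * w⁻¹ = z
  ww : w * w ∈ Q
  p2 : ∀ y ∈ Q, IsR (L.v y) → H (L.v y) (L.v a) = 0 → IsR (L.v y + L.v a) →
    w * y * w⁻¹ = y ∨ w * y * w⁻¹ = y * (z * a)
  p5 : ∀ y ∈ Q, y * a = a * y → (w * y * w⁻¹ ∈ M ↔ H (L.v y) (L.v a) = 0)

section Basic

variable (L : Lab F Q M z)
include L

theorem comm_z {y : G} (hy : y ∈ Q) : y * z = z * y := L.large.comm_z y hy

theorem comm_of_H {x y : G} (hx : x ∈ Q) (hy : y ∈ Q) (h : H (L.v x) (L.v y) = 0) :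
    x * y = y * x := (L.comm_iff x hx y hy).2 (Or.inl h)

theorem za_comm {a : G} (ha : a ∈ Q) : z * a = a * z := (comm_z L ha).symm

/-- `c x c⁻¹` is `x` or `x z` iff `ρ c` fixes the label. -/
theorem conj_of_ρ {c x : G} (hc : c * z = z * c) (hx : x ∈ Q) (h : L.ρ c (L.v x) = L.v x) :
    c * x * c⁻¹ = x ∨ c * x * c⁻¹ = x * z := by
  rw [← L.v_conj c hc x hx] at h
  exact (L.v_eq (L.ρ_surj_aux hc hx) hx).1 h

theorem ρ_of_comm {c x : G} (hc : c * z = z * c) (hx : x ∈ Q) (h : c * x = x * c) :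
    L.ρ c (L.v x) = L.v x := by
  rw [← L.v_conj c hc x hx, h, mul_inv_cancel_right]

theorem v_z_mul {x : G} (hx : x ∈ Q) : L.v (x * z) = L.v x := by
  rw [L.v_mul x hx z L.large.z_mem, L.v_z, add_zero]

theorem isR_ne {g : Geo F} {r : Fin 6 → F} (h : IsR r) : r ≠ 0 := g.ne r h

theorem v_za {x a : G} (hx : x ∈ Q) (ha : a ∈ Q) : L.v (x * (z * a)) = L.v x + L.v a := by
  rw [L.v_mul x hx _ (Q.mul_mem L.large.z_mem ha), L.v_mul z L.large.z_mem a ha, L.v_z, zero_add]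

end Basic

/-! ### elements of `M` acting trivially on `Λ^⊥` -/

section Act

variable (L : Lab F Q M z) (g : Geo F)
include g

/-- `(3.1)`: an element of `M` which is trivial on `Λ^⊥` acts as `1` or as `τ_r τ_r'`. -/
theorem act_of_trivial {r r' : Fin 6 → F} (l : Line r r') {m : G} (hm : m ∈ M)
    (h : ∀ x, H x r = 0 → H x r' = 0 → L.ρ m x = x) :
    (∀ x, L.ρ m x = x) ∨ (∀ x, L.ρ m x = tr r (tr r' x)) := by
  have hF := L.card
  have hmz := L.M_comm m hm
  have hlin := L.isLin hm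
  have hrr := g.iso _ l.hr
  have hrr' := g.iso _ l.hr'
  have horth := l.orth
  have horth' := l.orth' hF
  -- `ρ m u + u ∈ Λ`
  have h1 : ∀ u, ∃ c d : F, L.ρ m u + u = c • r + d • r' := by
    intro u
    apply mem_span_pair_of_perp hF (g.ne _ l.hr) l.ind
    intro y hy hy'
    have e : H (L.ρ m u) (L.ρ m y) = H u y := hlin.form u y
    rw [h y hy hy'] at e
    rw [H_add_left hF, e, add_self hF]
  obtain ⟨-, x0, hx0, hx0'⟩ := exists_dual_pair hF (g.ne _ l.hr) l.ind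
  obtain ⟨α, β, hαβ⟩ := h1 x0
  have hm0 : L.ρ m x0 = x0 + (α • r + β • r') := by
    rw [← hαβ, add_comm (L.ρ m x0), vadd_cancel hF]
  have hsw1 : H r x0 = 0 := H_zero_swap hF hx0
  have hsw2 : H r' x0 = 1 := H_one_swap hF hx0'
  have hβ : β ^ 2 = β := by
    have e : H (L.ρ m x0) (L.ρ m x0) = H x0 x0 := hlin.form x0 x0
    rw [hm0] at e
    simp only [H_add_left hF, H_add_right hF, H_smul_left hF, H_smul_right hF, hx0, hx0', hsw1,
      hsw2, hrr, hrr', horth, horth', mul_zero, mul_one, add_zero, zero_add] at e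
    have e2 : β ^ 2 + β = 0 := by linear_combination e
    have := add_self hF β
    linear_combination e2 - this
  -- the action on `r^⊥`
  have h2 : ∀ x, H x r = 0 → L.ρ m x = x + H x r' • (α • r + β • r') := by
    intro x hx
    have e1 : L.ρ m (x + H x r' • x0) = x + H x r' • x0 := by
      apply h
      · rw [H_add_left hF, H_smul_left hF, hx, hx0, mul_zero, add_zero]
      · rw [H_add_left hF, H_smul_left hF, hx0', mul_one, add_self hF]
    rw [L.ρ_add hmz, hlin.smul, hm0, smul_add] at e1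
    have e2 := congrArg (fun t => t + (H x r' • x0 + H x r' • (α • r + β • r'))) e1
    rw [add_assoc, vadd_self hF, add_zero] at e2
    rw [e2, add_assoc, vadd_cancel hF]
  rcases sq_eq_self hF hβ with hβ0 | hβ1
  · left
    apply L.triv m hm r l.hr
    · rw [h2 r hrr, horth, zero_smul, add_zero]
    · intro w hw
      refine ⟨H w r' * α, ?_⟩
      rw [h2 w hw, hβ0, zero_smul, add_zero, smul_smul]
  · right
    obtain ⟨t, ht, hta⟩ := L.tau r r' l.hr l.hr'
    have htz := L.M_comm t ht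
    have key : ∀ x, L.ρ (t * m) x = x := by
      apply L.triv (t * m) (M.mul_mem ht hm) r l.hr
      · rw [L.ρ_mul htz hmz, h2 r hrr, horth, zero_smul, add_zero, hta]
        simp only [tr, H_add_left hF, H_smul_left hF, hrr, horth, horth', zero_smul, add_zero,
          mul_zero]
      · intro w hw
        refine ⟨H w r' * α, ?_⟩
        rw [L.ρ_mul htz hmz, h2 w hw, hta, hβ1, one_smul]
        have e3 : tr r' (w + H w r' • (α • r + r')) = w + (H w r' * α) • r := by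
          simp only [tr, H_add_left hF, H_smul_left hF, hrr', horth, mul_zero, add_zero]
          have := vadd_self hF (H w r' • r')
          rw [smul_add, smul_smul, add_assoc, add_assoc, this, add_zero]
        rw [e3]
        simp only [tr, H_add_left hF, H_smul_left hF, hrr, hw, mul_zero, add_zero, zero_smul]
    intro x
    have e1 := key x
    rw [L.ρ_mul htz hmz, hta] at e1
    have e2 : ∀ y, tr r (tr r' (tr r (tr r' y))) = y := by
      intro y
      simp only [tr, H_add_left hF, H_smul_left hF, hrr, hrr', horth, horth', mul_zero, add_zero]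
      have a1 := vadd_self hF (H y r • r)
      have a2 := vadd_self hF (H y r' • r')
      linear_combination (exp := 1) (1 : ℤ) • a1 + (1 : ℤ) • a2
    rw [← e2 (L.ρ m x), e1]

end Act

/-! ### the swapping element -/

theorem contra {x y a z : G} (hz : z * z = 1) (hyz : y * z = z * y) (hxa : x * a = a * x)
    (ha : a ≠ 1) (haz : a ≠ z) (s1 : y * x * y⁻¹ = x ∨ y * x * y⁻¹ = x * z)
    (s2 : x * y * x⁻¹ = y ∨ x * y * x⁻¹ = y * a) : x * y = y * x := by
  rcases s2 with h | h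
  · exact mul_inv_eq_iff_eq_mul.1 h
  · exfalso
    have e1 : x * y = y * a * x := mul_inv_eq_iff_eq_mul.1 h
    rcases s1 with h' | h'
    · have e2 : y * x = x * y := mul_inv_eq_iff_eq_mul.1 h'
      rw [← e2, mul_assoc, mul_right_inj] at e1
      exact ha (mul_eq_right.1 e1.symm)
    · have e2 : y * x = x * z * y := mul_inv_eq_iff_eq_mul.1 h'
      have e3 : x * y = y * x * z := by
        rw [e2]
        calc x * y = x * y * (z * z) := by rw [hz, mul_one]
          _ = x * (y * z) * z := by group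
          _ = x * (z * y) * z := by rw [hyz]
          _ = _ := by group
      rw [e3, mul_assoc, mul_assoc, mul_right_inj, ← hxa, mul_right_inj] at e1
      exact haz e1.symm

section DuoSec

variable {L : Lab F Q M z} (g : Geo3 F) {a w : G} (D : Duo L a w)
include g D

omit g in
theorem Duo.wz' : w⁻¹ * z * w = a := by
  have h := D.wa
  rw [← h]; group

omit g in
theorem Duo.wa' : w⁻¹ * a * w = z := by
  have h := D.wz
  rw [← h]; group

theorem Duo.a_sq : a * a = 1 := (L.sq_iff a D.aQ).2 ((g.S_iff _).1 D.aS).2.1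

theorem Duo.za_sq : (z * a) * (z * a) = 1 := by
  have h1 : z * z = 1 := L.large.z_sq
  have h2 := D.a_sq g
  have h3 : z * a = a * z := za_comm L D.aQ
  calc (z * a) * (z * a) = (z * a) * (a * z) := by rw [h3]
    _ = z * (a * a) * z := by group
    _ = 1 := by rw [h2, mul_one, h1]

theorem Duo.a_ne_z : a ≠ z := by
  intro h
  have h0 : L.v a ≠ 0 := ((g.S_iff _).1 D.aS).1
  rw [h, L.v_z] at h0
  exact h0 rfl

theorem Duo.a_ne_one : a ≠ 1 := by
  intro h
  have h0 : L.v a ≠ 0 := ((g.S_iff _).1 D.aS).1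
  rw [h, L.v_one] at h0
  exact h0 rfl

/-- conjugation by `w⁻¹` on elements as in `p2` -/
theorem Duo.inv_p2 {y : G} (h : w * y * w⁻¹ = y ∨ w * y * w⁻¹ = y * (z * a)) :
    w⁻¹ * y * w = y ∨ w⁻¹ * y * w = y * (z * a) := by
  rcases h with h | h
  · left
    calc w⁻¹ * y * w = w⁻¹ * (w * y * w⁻¹) * w := by rw [h]
      _ = y := by group
  · right
    have h1 : w⁻¹ * (z * a) * w = z * a := by
      calc w⁻¹ * (z * a) * w = (w⁻¹ * z * w) * (w⁻¹ * a * w) := by group
        _ = a * z := by rw [D.wz', D.wa']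
        _ = z * a := (za_comm L D.aQ).symm
    have h2 : y = (w⁻¹ * y * w) * (z * a) := by
      calc y = w⁻¹ * (w * y * w⁻¹) * w := by group
        _ = w⁻¹ * (y * (z * a)) * w := by rw [h]
        _ = (w⁻¹ * y * w) * (w⁻¹ * (z * a) * w) := by group
        _ = _ := by rw [h1]
    calc w⁻¹ * y * w = (w⁻¹ * y * w) * ((z * a) * (z * a)) := by rw [D.za_sq g, mul_one]
      _ = ((w⁻¹ * y * w) * (z * a)) * (z * a) := by group
      _ = y * (z * a) := by rw [← h2]

theorem Duo.inv_label {y : G} (hy : y ∈ Q)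
    (h : w * y * w⁻¹ = y ∨ w * y * w⁻¹ = y * (z * a)) :
    w⁻¹ * y * w ∈ Q ∧ (L.v (w⁻¹ * y * w) = L.v y ∨ L.v (w⁻¹ * y * w) = L.v y + L.v a) := by
  rcases D.inv_p2 g h with h1 | h1
  · rw [h1]; exact ⟨hy, Or.inl rfl⟩
  · rw [h1]
    exact ⟨Q.mul_mem hy (Q.mul_mem L.large.z_mem D.aQ), Or.inr (v_za L hy D.aQ)⟩

omit g in
theorem Duo.invM {x : G} (hx : x ∈ Q) (h : H (L.v x) (L.v a) = 0) : w⁻¹ * x * w ∈ M := by
  have h1 := (D.p5 x hx (comm_of_H L hx D.aQ h)).2 h
  have h2 : w⁻¹ * x * w = (w * w)⁻¹ * (w * x * w⁻¹) * (w * w) := by group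
  rw [h2]
  have h3 : w * w ∈ M := L.Q_le D.ww
  exact M.mul_mem (M.mul_mem (M.inv_mem h3) h1) h3

variable {r r' : Fin 6 → F} (l : Line r r') (hv : L.v a = r + r')
include l hv

theorem Duo.Ha {e : G} (he : Lam r r' (L.v e)) : H (L.v e) (L.v a) = 0 := by
  obtain ⟨h1, h2⟩ := he.perp L.card g.toGeo l
  rw [hv, H_add_right L.card, h1, h2, add_zero]

theorem Duo.memM {e : G} (heQ : e ∈ Q) (he : Lam r r' (L.v e)) : w * e * w⁻¹ ∈ M :=
  (D.p5 e heQ (comm_of_H L heQ D.aQ (D.Ha g l hv he))).2 (D.Ha g l hv he)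

theorem Duo.comm_i {e : G} (heQ : e ∈ Q) (he : Lam r r' (L.v e)) {i : G} (hi : i ∈ Q)
    (hiR : IsR (L.v i)) (h1 : H (L.v i) r = 0) (h2 : H (L.v i) r' = 0)
    (h3 : IsR (L.v i + L.v a)) : (w * e * w⁻¹) * i = i * (w * e * w⁻¹) := by
  have hF := L.card
  have ha : H (L.v i) (L.v a) = 0 := by rw [hv, H_add_right hF, h1, h2, add_zero]
  have hei : H (L.v e) (L.v i) = 0 := H_zero_swap hF (he.H_left hF h1 h2)
  obtain ⟨hQ, hlab⟩ := D.inv_label g hi (D.p2 i hi hiR ha h3)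
  have hc : e * (w⁻¹ * i * w) = (w⁻¹ * i * w) * e := by
    apply comm_of_H L heQ hQ
    rcases hlab with h | h
    · rw [h, hei]
    · rw [h, H_add_right hF, hei, D.Ha g l hv he, add_zero]
  calc (w * e * w⁻¹) * i = w * (e * (w⁻¹ * i * w)) * w⁻¹ := by group
    _ = w * ((w⁻¹ * i * w) * e) * w⁻¹ := by rw [hc]
    _ = _ := by group

theorem Duo.fixR {e : G} (heQ : e ∈ Q) (he : Lam r r' (L.v e)) {d : Fin 6 → F} (hd : IsR d)
    (h1 : H d r = 0) (h2 : H d r' = 0) : L.ρ (w * e * w⁻¹) d = d := by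
  have hF := L.card
  have hS := l.isS hF g.toGeo
  have hS' := (g.S_iff _).1 hS
  have hyM := D.memM g l hv heQ he
  obtain ⟨c, hc, -⟩ := g.line d hd (r + r') hS'.2.1 (by
    rw [H_add_left hF, H_zero_swap hF h1, H_zero_swap hF h2, add_zero]) (by
    intro c hc
    by_cases hc0 : c = 0
    · rw [hc0, zero_smul] at hc; exact hS'.1 hc
    · exact hS'.2.2 (hc ▸ g.smul d hd c hc0))
  have hc0 : c ≠ 0 := by
    rintro rfl
    rw [zero_smul, add_zero] at hc
    exact hS'.2.2 hc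
  obtain ⟨i, hi, hiv⟩ := L.v_surj (c • d)
  have hcomm := D.comm_i g l hv heQ he hi (by rw [hiv]; exact g.smul d hd c hc0)
    (by rw [hiv, H_smul_left hF, h1, mul_zero]) (by rw [hiv, H_smul_left hF, h2, mul_zero])
    (by rw [hiv, hv, add_comm]; exact hc)
  have h3 := ρ_of_comm L (L.M_comm _ hyM) hi hcomm
  rw [hiv, (L.isLin hyM).smul] at h3
  have h4 := congrArg (fun t => c⁻¹ • t) h3
  simpa only [smul_smul, inv_mul_cancel₀ hc0, one_smul] using h4

theorem Duo.fix_perp {e : G} (heQ : e ∈ Q) (he : Lam r r' (L.v e)) {x : Fin 6 → F}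
    (h1 : H x r = 0) (h2 : H x r' = 0) : L.ρ (w * e * w⁻¹) x = x := by
  have hF := L.card
  have hyM := D.memM g l hv heQ he
  have hyz := L.M_comm _ hyM
  have hlin := L.isLin hyM
  have hΛ : ∀ u, Lam r r' (L.ρ (w * e * w⁻¹) u + u) := by
    intro u
    apply g.span r r' l
    intro d hd hd1 hd2
    have e1 : H (L.ρ (w * e * w⁻¹) u) (L.ρ (w * e * w⁻¹) d) = H u d := hlin.form u d
    rw [D.fixR g l hv heQ he hd hd1 hd2] at e1
    rw [H_add_left hF, e1, add_self hF]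
  apply eq_of_H hF
  intro u
  obtain ⟨u', rfl⟩ : ∃ u', u = L.ρ (w * e * w⁻¹) u' :=
    ⟨L.ρ (w * e * w⁻¹)⁻¹ u, (L.ρ_inv' hyz u).symm⟩
  rw [hlin.form x u']
  have e2 : H x (L.ρ (w * e * w⁻¹) u' + u') = 0 := (hΛ u').H_left hF h1 h2
  rw [H_add_right hF] at e2
  have e3 := add_self hF (H x u')
  linear_combination e3 - e2

/-- `(3.3)` -/
theorem Duo.conj_comm {e : G} (heQ : e ∈ Q) (he : Lam r r' (L.v e)) {x : G} (hx : x ∈ Q)
    (h1 : H (L.v x) r = 0) (h2 : H (L.v x) r' = 0) :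
    x * (w * e * w⁻¹) = (w * e * w⁻¹) * x := by
  have hF := L.card
  have hyM := D.memM g l hv heQ he
  set y := w * e * w⁻¹ with hy
  have ha : H (L.v x) (L.v a) = 0 := by rw [hv, H_add_right hF, h1, h2, add_zero]
  -- first side
  have s1 : y * x * y⁻¹ = x ∨ y * x * y⁻¹ = x * z :=
    conj_of_ρ L (L.M_comm _ hyM) hx (D.fix_perp g l hv heQ he h1 h2)
  -- second side
  have s2 : x * y * x⁻¹ = y ∨ x * y * x⁻¹ = y * a := by
    have hx'M := D.invM hx ha
    have hx'z := L.M_comm _ hx'M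
    have hlin := L.isLin hx'M
    have hx'a : (w⁻¹ * x * w) * a = a * (w⁻¹ * x * w) := by
      have hxz := comm_z L hx
      calc (w⁻¹ * x * w) * a = (w⁻¹ * x * w) * (w⁻¹ * z * w) := by rw [D.wz']
        _ = w⁻¹ * (x * z) * w := by group
        _ = w⁻¹ * (z * x) * w := by rw [hxz]
        _ = (w⁻¹ * z * w) * (w⁻¹ * x * w) := by group
        _ = _ := by rw [D.wz']
    have f1 := ρ_of_comm L hx'z D.aQ hx'a
    obtain ⟨i, hi, hiv⟩ := L.v_surj r
    have hxi : x * i = i * x := comm_of_H L hx hi (by rw [hiv]; exact h1)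
    obtain ⟨hiQ, hlab⟩ := D.inv_label g hi (D.p2 i hi (by rw [hiv]; exact l.hr)
      (by rw [hiv, hv, H_add_right hF, g.iso _ l.hr, l.orth, add_zero])
      (by rw [hiv, hv, vadd_cancel hF]; exact l.hr'))
    have hx'i : (w⁻¹ * x * w) * (w⁻¹ * i * w) = (w⁻¹ * i * w) * (w⁻¹ * x * w) := by
      calc (w⁻¹ * x * w) * (w⁻¹ * i * w) = w⁻¹ * (x * i) * w := by group
        _ = w⁻¹ * (i * x) * w := by rw [hxi]
        _ = _ := by group
    have f2 := ρ_of_comm L hx'z hiQ hx'i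
    have f3 : L.ρ (w⁻¹ * x * w) r = r ∧ L.ρ (w⁻¹ * x * w) r' = r' := by
      rw [hv] at f1
      rw [hiv, hv, vadd_cancel hF] at hlab
      rcases hlab with h | h
      · rw [h] at f2
        refine ⟨f2, ?_⟩
        rw [L.ρ_add hx'z, f2] at f1
        exact add_left_cancel f1
      · rw [h] at f2
        refine ⟨?_, f2⟩
        rw [L.ρ_add hx'z, f2] at f1
        exact add_right_cancel f1
    have f4 : L.ρ (w⁻¹ * x * w) (L.v e) = L.v e := by
      obtain ⟨c, d, hcd⟩ := he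
      rw [hcd, L.ρ_add hx'z, hlin.smul, hlin.smul, f3.1, f3.2]
    rcases conj_of_ρ L hx'z heQ f4 with h | h
    · left
      rw [hy]
      calc x * (w * e * w⁻¹) * x⁻¹ = w * ((w⁻¹ * x * w) * e * (w⁻¹ * x * w)⁻¹) * w⁻¹ := by group
        _ = w * e * w⁻¹ := by rw [h]
    · right
      rw [hy]
      calc x * (w * e * w⁻¹) * x⁻¹ = w * ((w⁻¹ * x * w) * e * (w⁻¹ * x * w)⁻¹) * w⁻¹ := by group
        _ = w * (e * z) * w⁻¹ := by rw [h]
        _ = (w * e * w⁻¹) * (w * z * w⁻¹) := by group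
        _ = (w * e * w⁻¹) * a := by rw [D.wz]
  exact contra L.large.z_sq (L.M_comm _ hyM) (comm_of_H L hx D.aQ ha) (D.a_ne_one g)
    (D.a_ne_z g) s1 s2

/-- `(3.4)` -/
theorem Duo.conj_mem {e : G} (heQ : e ∈ Q) (he : Lam r r' (L.v e)) :
    w * e * w⁻¹ ∈ KK L r r' :=
  mem_KK.2 ⟨D.memM g l hv heQ he, fun _ hy h1 h2 => D.conj_comm g l hv heQ he hy h1 h2⟩

/-- `w e w⁻¹` is not in `Q` -/
theorem Duo.conj_not_mem {e : G} (heQ : e ∈ Q) {c d : F} (he : L.v e = c • r + d • r')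
    (hcd : c + d ≠ 0) (hcd' : c + d ≠ 1) : w * e * w⁻¹ ∉ Q := by
  have hF := L.card
  intro hcon
  obtain ⟨d0, hd0, hd1, hd2⟩ := g.ex r r' l
  have hR : IsR (d0 + (r + r')) := by
    have h1 : IsR (d0 + r) := g.add _ _ hd0 l.hr hd1
    rw [← add_assoc]
    exact g.add _ _ h1 l.hr' (by rw [H_add_left hF, hd2, l.orth, add_zero])
  obtain ⟨i, hi, hiv⟩ := L.v_surj d0
  obtain ⟨hiQ, hlab⟩ := D.inv_label g hi (D.p2 i hi (by rw [hiv]; exact hd0)
    (by rw [hiv, hv, H_add_right hF, hd1, hd2, add_self hF]) (by rw [hiv, hv]; exact hR))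
  have hed : H (L.v e) d0 = c + d := by
    rw [he, H_add_left hF, H_smul_left hF, H_smul_left hF, H_one_swap hF hd1, H_one_swap hF hd2,
      mul_one, mul_one]
  have hel : H (L.v e) (L.v (w⁻¹ * i * w)) = c + d := by
    rcases hlab with h | h
    · rw [h, hiv, hed]
    · rw [h, hiv, H_add_right hF, hed, D.Ha g l hv ⟨c, d, he⟩, add_zero]
  have hz : e * (w⁻¹ * i * w) = (w⁻¹ * i * w) * e * z := by
    rw [L.comm_z_iff heQ hiQ, hel]
    rintro (h | h)
    · exact hcd h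
    · exact hcd' h
  have h1 : (w * e * w⁻¹) * i = i * (w * e * w⁻¹) * a := by
    calc (w * e * w⁻¹) * i = w * (e * (w⁻¹ * i * w)) * w⁻¹ := by group
      _ = w * ((w⁻¹ * i * w) * e * z) * w⁻¹ := by rw [hz]
      _ = i * (w * e * w⁻¹) * (w * z * w⁻¹) := by group
      _ = _ := by rw [D.wz]
  rcases L.large.comm _ hcon i hi with h | h
  · rw [h] at h1
    exact D.a_ne_one g (mul_eq_left.1 h1.symm)
  · rw [h] at h1
    exact D.a_ne_z g (mul_left_cancel h1).symm

end DuoSec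

end Group

end Cfsg.Agent.R08.ThreeDuo
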