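import Cfsg.Agent.R08.ThreeDuo

/-!
# R08 (S1715), piece (3): structure of `K(Λ)` (helper876)
-/

set_option autoImplicit false
set_option linter.unusedSectionVars false

namespace Cfsg.Agent.R08.ThreeK

open Cfsg.Agent.R08.Iface Cfsg.Agent.R08.InvHerm Cfsg.Agent.R08.ThreeDuo

variable {F : Type*} [Field F] {G : Type*} [Group G] {Q M : Subgroup G} {z : G}

section Basic

variable (L : Lab F Q M z) (g : Geo F) {r r' : Fin 6 → F}

theorem tr_tr (hF : Nat.card F = 4) (g : Geo F) (l : Line r r') (x : Fin 6 → F) :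
    tr r (tr r' (tr r (tr r' x))) = x := by
  have hrr := g.iso _ l.hr
  have hrr' := g.iso _ l.hr'
  have horth := l.orth
  have horth' := l.orth' hF
  simp only [tr, H_add_left hF, H_smul_left hF, hrr, hrr', horth, horth', mul_zero, add_zero]
  have a1 := vadd_self hF (H x r • r)
  have a2 := vadd_self hF (H x r' • r')
  linear_combination (exp := 1) (1 : ℤ) • a1 + (1 : ℤ) • a2

theorem tr_tr_eq (hF : Nat.card F = 4) (l : Line r r') (x : Fin 6 → F) :
    tr r (tr r' x) = x + (H x r • r + H x r' • r') := by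
  simp only [tr, H_add_left hF, H_smul_left hF, l.orth' hF, mul_zero, add_zero]
  abel

include g in
theorem mem_of_lam (l : Line r r') {e : G} (he : e ∈ Q) (h : Lam r r' (L.v e)) :
    e ∈ KK L r r' := by
  rw [mem_KK]
  refine ⟨L.Q_le he, fun y hy h1 h2 => comm_of_H L hy he (h.H_left L.card h1 h2)⟩

theorem fix_of_mem {m : G} (hm : m ∈ KK L r r') {x : Fin 6 → F} (h1 : H x r = 0)
    (h2 : H x r' = 0) : L.ρ m x = x := by
  obtain ⟨y, hy, rfl⟩ := L.v_surj x
  rw [mem_KK] at hm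
  exact ρ_of_comm L (L.M_comm m hm.1) hy (hm.2 y hy h1 h2).symm

include g in
theorem lam_of_mem (l : Line r r') {m : G} (hm : m ∈ KK L r r') (hQ : m ∈ Q) :
    Lam r r' (L.v m) := by
  have hF := L.card
  apply mem_span_pair_of_perp hF (g.ne _ l.hr) l.ind
  intro y h1 h2
  have key : ∀ x : Fin 6 → F, H x r = 0 → H x r' = 0 → H (L.v m) x = 0 ∨ H (L.v m) x = 1 := by
    intro x hx1 hx2
    obtain ⟨i, hi, rfl⟩ := L.v_surj x
    rw [mem_KK] at hm
    exact (L.comm_iff m hQ i hi).1 (hm.2 i hi hx1 hx2).symm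
  rcases key y h1 h2 with h | h
  · exact h
  · exfalso
    obtain ⟨ω, hω⟩ := exists_omega hF
    have h3 := key (ω • y) (by rw [H_smul_left hF, h1, mul_zero])
      (by rw [H_smul_left hF, h2, mul_zero])
    rw [H_smul_right hF, h, mul_one] at h3
    have h2' := two_eq hF
    rcases h3 with h3 | h3
    · have : ω = 0 := by simpa using h3
      rw [this] at hω
      simp at hω
    · rw [h3] at hω
      have h4 : ω = 0 := by linear_combination hω - h2'
      rw [h4] at h3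
      simp at h3

theorem mem_z (r r' : Fin 6 → F) : z ∈ KK L r r' := by
  rw [mem_KK]
  exact ⟨L.Q_le L.large.z_mem, fun y hy _ _ => L.large.comm_z y hy⟩

include g in
theorem act (l : Line r r') {m : G} (hm : m ∈ KK L r r') (hQ : m ∉ Q) (x : Fin 6 → F) :
    L.ρ m x = tr r (tr r' x) := by
  rcases act_of_trivial L g l (mem_KK.1 hm).1 (fun x h1 h2 => fix_of_mem L hm h1 h2) with h | h
  · exact absurd (L.mem_Q m (L.M_comm m (mem_KK.1 hm).1) h) hQ
  · exact h x

include g in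
theorem mul_mem_Q (l : Line r r') {m m' : G} (hm : m ∈ KK L r r') (hQ : m ∉ Q)
    (hm' : m' ∈ KK L r r') (hQ' : m' ∉ Q) : m * m' ∈ Q := by
  have h1 := L.M_comm m (mem_KK.1 hm).1
  have h2 := L.M_comm m' (mem_KK.1 hm').1
  apply L.mem_Q _ (Lab.mul_comm' h1 h2)
  intro x
  rw [L.ρ_mul h1 h2, act L g l hm' hQ', act L g l hm hQ, tr_tr L.card g l]

include g in
theorem inv_mul_mem_Q (l : Line r r') {m m' : G} (hm : m ∈ KK L r r') (hQ : m ∉ Q)
    (hm' : m' ∈ KK L r r') (hQ' : m' ∉ Q) : m⁻¹ * m' ∈ Q :=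
  mul_mem_Q L g l ((KK L r r').inv_mem hm) (fun h => hQ (by simpa using Q.inv_mem h)) hm' hQ'

/-- conjugation by elements of `C_G(z)` -/
theorem conj_KK {c k : G} (hc : c * z = z * c) (hk : k ∈ KK L r r') :
    c * k * c⁻¹ ∈ KK L (L.ρ c r) (L.ρ c r') := by
  rw [mem_KK] at hk ⊢
  refine ⟨L.M_conj c hc k hk.1, fun y hy h1 h2 => ?_⟩
  have hc' := Lab.inv_comm hc
  have hz0 : ∀ u w : Fin 6 → F, H (L.ρ c u) (L.ρ c w) = 0 → H u w = 0 := by
    intro u w h
    rcases L.semi c hc with hs | hs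
    · rw [← h]; exact (hs.form u w).symm
    · rw [hs.form] at h
      exact pow_eq_zero_iff (two_ne_zero) |>.1 h
  have hyQ : c⁻¹ * y * c ∈ Q := by
    have := L.large.conj_mem c⁻¹ hc' y hy
    rwa [inv_inv] at this
  have hyv : L.ρ c (L.v (c⁻¹ * y * c)) = L.v y := by
    rw [← L.v_conj c hc _ hyQ]
    congr 1; group
  rw [← hyv] at h1 h2
  have h3 := hk.2 _ hyQ (hz0 _ _ h1) (hz0 _ _ h2)
  calc y * (c * k * c⁻¹) = c * ((c⁻¹ * y * c) * k) * c⁻¹ := by group
    _ = c * (k * (c⁻¹ * y * c)) * c⁻¹ := by rw [h3]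
    _ = _ := by group

theorem conj_Q {q k : G} (hq : q ∈ Q) (hk : k ∈ KK L r r') : q * k * q⁻¹ ∈ KK L r r' := by
  have := conj_KK L (L.large.comm_z q hq) hk
  rwa [L.ρ_mem_Q hq, L.ρ_mem_Q hq] at this

include g in
/-- `(3.5)`, first part -/
theorem v_comm_eq (l : Line r r') {x q : G} (hx : x ∈ KK L r r') (hxQ : x ∉ Q) (hq : q ∈ Q) :
    x⁻¹ * (q * x * q⁻¹) ∈ Q ∧
      L.v (x⁻¹ * (q * x * q⁻¹)) = H (L.v q) r • r + H (L.v q) r' • r' := by
  have hF := L.card
  have hxz := L.M_comm x (mem_KK.1 hx).1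
  have hxz' := Lab.inv_comm hxz
  have e : x⁻¹ * (q * x * q⁻¹) = (x⁻¹ * q * x⁻¹⁻¹) * q⁻¹ := by group
  have h1 := L.ρ_surj_aux hxz' hq
  refine ⟨by rw [e]; exact Q.mul_mem h1 (Q.inv_mem hq), ?_⟩
  rw [e, L.v_mul _ h1 _ (Q.inv_mem hq), L.v_inv hq, L.v_conj _ hxz' q hq,
    act L g l ((KK L r r').inv_mem hx) (fun h => hxQ (by simpa using Q.inv_mem h)),
    tr_tr_eq hF l, add_comm (L.v q), add_assoc, vadd_self hF, add_zero]

include g in
/-- for `e ∈ K ∩ Q` some element of `Q` conjugates `x` to `x e` or `x e z` -/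
theorem exists_conj (l : Line r r') {x e : G} (hx : x ∈ KK L r r') (hxQ : x ∉ Q)
    (he : e ∈ KK L r r') (heQ : e ∈ Q) :
    ∃ q ∈ Q, q * x * q⁻¹ = x * e ∨ q * x * q⁻¹ = x * e * z := by
  have hF := L.card
  obtain ⟨c, d, hcd⟩ := lam_of_mem L g l he heQ
  obtain ⟨⟨u1, h11, h12⟩, ⟨u2, h21, h22⟩⟩ := exists_dual_pair hF (g.ne _ l.hr) l.ind
  obtain ⟨q, hq, hqv⟩ := L.v_surj (c • u1 + d • u2)
  obtain ⟨h1, h2⟩ := v_comm_eq L g l hx hxQ hq
  refine ⟨q, hq, ?_⟩
  have h3 : L.v (x⁻¹ * (q * x * q⁻¹)) = L.v e := by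
    rw [h2, hqv, hcd]
    simp only [H_add_left hF, H_smul_left hF, h11, h12, h21, h22, mul_one, mul_zero, add_zero,
      zero_add]
  rcases (L.v_eq h1 heQ).1 h3 with h | h
  · left; rw [← h]; group
  · right
    calc q * x * q⁻¹ = x * (x⁻¹ * (q * x * q⁻¹)) := by group
      _ = x * (e * z) := by rw [h]
      _ = _ := by group

end Basic

section Duo

variable {L : Lab F Q M z} (g : Geo3 F) {r r' : Fin 6 → F} (l : Line r r')
include g l

/-- existence of a suitable element of `K` outside `Q` -/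
theorem exists_y (D : ∃ a w, Duo L a w ∧ L.v a = r + r') :
    ∃ y ∈ KK L r r', y ∉ Q ∧ y * y = 1 := by
  obtain ⟨a, w, D, hv⟩ := D
  obtain ⟨ω, hω⟩ := exists_omega L.card
  obtain ⟨e, he, hev⟩ := L.v_surj (ω • r + (0 : F) • r')
  have hω0 : ω ≠ 0 := by rintro rfl; simp at hω
  have hω1 : ω ≠ 1 := by
    rintro rfl
    have h2 := two_eq L.card
    apply one_ne_zero (α := F)
    linear_combination hω - h2
  refine ⟨w * e * w⁻¹, D.conj_mem g l hv he ⟨ω, 0, hev⟩,
    D.conj_not_mem g l hv he hev (by rwa [add_zero]) (by rwa [add_zero]), ?_⟩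
  have h1 : e * e = 1 := by
    rw [L.sq_iff e he, hev, zero_smul, add_zero, H_smul_left L.card, H_smul_right L.card,
      g.iso _ l.hr, mul_zero, mul_zero]
  calc w * e * w⁻¹ * (w * e * w⁻¹) = w * (e * e) * w⁻¹ := by group
    _ = 1 := by rw [h1]; group

theorem comm_E {m e : G} (hm : m ∈ KK L r r') (he : e ∈ KK L r r') (heQ : e ∈ Q) :
    m * e = e * m := by
  obtain ⟨h1, h2⟩ := (lam_of_mem L g.toGeo l he heQ).perp L.card g.toGeo l
  exact ((mem_KK.1 hm).2 e heQ h1 h2).symm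

theorem sq_E {e : G} (he : e ∈ KK L r r') (heQ : e ∈ Q) : e * e = 1 := by
  have h := lam_of_mem L g.toGeo l he heQ
  obtain ⟨h1, h2⟩ := h.perp L.card g.toGeo l
  exact (L.sq_iff e heQ).2 (h.H_left L.card h1 h2)

theorem comm_KK {m m' : G} (hm : m ∈ KK L r r')
    (hm' : m' ∈ KK L r r') : m * m' = m' * m := by
  by_cases h : m ∈ Q
  · exact (comm_E g l hm' hm h).symm
  by_cases h' : m' ∈ Q
  · exact comm_E g l hm hm' h'
  have h1 := inv_mul_mem_Q L g.toGeo l hm h hm' h'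
  have h2 := comm_E g l hm ((KK L r r').mul_mem ((KK L r r').inv_mem hm) hm') h1
  calc m * m' = m * (m * (m⁻¹ * m')) := by group
    _ = m * ((m⁻¹ * m') * m) := by rw [h2]
    _ = _ := by group

theorem sq_KK (D : ∃ a w, Duo L a w ∧ L.v a = r + r') {m : G} (hm : m ∈ KK L r r') :
    m * m = 1 := by
  by_cases h : m ∈ Q
  · exact sq_E g l hm h
  obtain ⟨y, hy, hyQ, hyy⟩ := exists_y g l D
  have h1 := inv_mul_mem_Q L g.toGeo l hy hyQ hm h
  have hK := (KK L r r').mul_mem ((KK L r r').inv_mem hy) hm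
  have h2 := comm_E g l hy hK h1
  have h3 := sq_E g l hK h1
  calc m * m = y * ((y⁻¹ * m) * y) * (y⁻¹ * m) := by group
    _ = y * (y * (y⁻¹ * m)) * (y⁻¹ * m) := by rw [h2]
    _ = (y * y) * ((y⁻¹ * m) * (y⁻¹ * m)) := by group
    _ = 1 := by rw [hyy, h3, mul_one]

/-- `(3.6)` -/
theorem conj_w {a w : G} (D : Duo L a w) (hv : L.v a = r + r') {k : G} (hk : k ∈ KK L r r') :
    w * k * w⁻¹ ∈ KK L r r' := by
  by_cases h : k ∈ Q
  · exact D.conj_mem g l hv h (lam_of_mem L g.toGeo l hk h)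
  -- `k = y e₁`, `y = w e w⁻¹`
  obtain ⟨ω, hω⟩ := exists_omega L.card
  obtain ⟨e, he, hev⟩ := L.v_surj (ω • r + (0 : F) • r')
  have hω0 : ω ≠ 0 := by rintro rfl; simp at hω
  have hω1 : ω ≠ 1 := by
    rintro rfl
    have h2 := two_eq L.card
    apply one_ne_zero (α := F)
    linear_combination hω - h2
  have hy := D.conj_mem g l hv he ⟨ω, 0, hev⟩
  have hyQ := D.conj_not_mem g l hv he hev (by rwa [add_zero]) (by rwa [add_zero])
  have h1 := inv_mul_mem_Q L g.toGeo l hy hyQ hk h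
  have hK := (KK L r r').mul_mem ((KK L r r').inv_mem hy) hk
  have h2 := D.conj_mem g l hv h1 (lam_of_mem L g.toGeo l hK h1)
  have h3 := conj_Q L D.ww (mem_of_lam L g.toGeo l he ⟨ω, 0, hev⟩)
  have h4 := (KK L r r').mul_mem h3 h2
  convert h4 using 1
  group

theorem conj_w_inv {a w : G} (D : Duo L a w) (hv : L.v a = r + r') {k : G}
    (hk : k ∈ KK L r r') : w⁻¹ * k * w ∈ KK L r r' := by
  have h1 := conj_Q L (Q.inv_mem D.ww) (conj_w g l D hv hk)
  convert h1 using 1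
  group

end Duo

end Cfsg.Agent.R08.ThreeK
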