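import Cfsg.Agent.R08.ThreeK

/-!
# R08 (S1715), piece (3): classes and transitivity in `K(Λ)` (helper876)

`Ctx L Z A`: the classes of involutions, and for every `S`-element `a` of `Q` a swapping element.
`K = KK L r r'` for a `Line r r'` is elementary abelian of order 64.

* `cls`: for `x ∈ K ∖ Q` one of `x`, `x z` is in `A`, the other one in `Z`.
* `exists_norm`: `N_G(K)` is transitive on `K ∩ Z`.
* `exists_conj_pair`, `exists_conj_four`, `exists_conj_self`: consequences for four-groups.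
-/

set_option autoImplicit false
set_option linter.unusedSectionVars false

namespace Cfsg.Agent.R08.ThreeMain

open Cfsg.Agent.R08.Iface Cfsg.Agent.R08.InvHerm Cfsg.Agent.R08.ThreeDuo Cfsg.Agent.R08.ThreeK

variable {F : Type*} [Field F] {G : Type*} [Group G] {Q M : Subgroup G} {z : G}

/-- see the head of the file -/
structure Ctx (L : Lab F Q M z) (Z A : Set G) : Prop where
  Zc : ∀ x ∈ Z, ∀ g : G, g * x * g⁻¹ ∈ Z
  Ac : ∀ x ∈ A, ∀ g : G, g * x * g⁻¹ ∈ A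
  not_Z : ∀ x ∈ A, x ∉ Z
  oneZ : (1 : G) ∉ Z
  oneA : (1 : G) ∉ A
  zZ : z ∈ Z
  tS : ∀ y ∈ Q, IsS (L.v y) → y ∈ Z
  tR : ∀ y ∈ Q, IsR (L.v y) → y ∈ A
  duo : ∀ a ∈ Q, IsS (L.v a) → ∃ w, Duo L a w
  semi : ∀ c, c * z = z * c → c ∉ M → IsSemi (L.ρ c)

section

variable {L : Lab F Q M z} {Z A : Set G} (C : Ctx L Z A) (g : Geo3 F) {r r' : Fin 6 → F}
  (l : Line r r')
include C g l

theorem Ctx.sum : ∃ a w, Duo L a w ∧ L.v a = r + r' := by
  obtain ⟨a, ha, hav⟩ := L.v_surj (r + r')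
  obtain ⟨w, D⟩ := C.duo a ha (by rw [hav]; exact l.isS L.card g.toGeo)
  exact ⟨a, w, D, hav⟩

/-- types of the elements of `K ∩ Q` -/
theorem Ctx.type_Q {e : G} (he : e ∈ KK L r r') (heQ : e ∈ Q) :
    (e = 1 ∨ e = z) ∨ (IsR (L.v e) ∧ ((∃ c : F, c ≠ 0 ∧ L.v e = c • r) ∨
      ∃ c : F, c ≠ 0 ∧ L.v e = c • r')) ∨
      (∃ c d : F, c ≠ 0 ∧ d ≠ 0 ∧ L.v e = c • r + d • r' ∧ IsS (L.v e)) := by
  obtain ⟨c, d, hcd⟩ := lam_of_mem L g.toGeo l he heQ
  by_cases hc : c = 0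
  · by_cases hd : d = 0
    · left
      apply (L.v_eq_zero e heQ).1
      rw [hcd, hc, hd, zero_smul, zero_smul, add_zero]
    · right; left
      have h : L.v e = d • r' := by rw [hcd, hc, zero_smul, zero_add]
      exact ⟨by rw [h]; exact g.smul _ l.hr' _ hd, Or.inr ⟨d, hd, h⟩⟩
  · by_cases hd : d = 0
    · right; left
      have h : L.v e = c • r := by rw [hcd, hd, zero_smul, add_zero]
      exact ⟨by rw [h]; exact g.smul _ l.hr _ hc, Or.inl ⟨c, hc, h⟩⟩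
    · right; right
      exact ⟨c, d, hc, hd, hcd, by rw [hcd]; exact l.isS' L.card g.toGeo hc hd⟩

theorem Ctx.type_A {e : G} (he : e ∈ KK L r r') (heQ : e ∈ Q) (hA : e ∈ A) :
    IsR (L.v e) ∧ ((∃ c : F, c ≠ 0 ∧ L.v e = c • r) ∨ ∃ c : F, c ≠ 0 ∧ L.v e = c • r') := by
  rcases C.type_Q g l he heQ with (h | h) | h | ⟨c, d, -, -, -, h⟩
  · exact absurd (h ▸ hA) C.oneA
  · exact absurd C.zZ (C.not_Z z (h ▸ hA))
  · exact h
  · exact absurd (C.tS e heQ h) (C.not_Z e hA)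

theorem Ctx.type_Z {e : G} (he : e ∈ KK L r r') (heQ : e ∈ Q) (hZ : e ∈ Z) (hz : e ≠ z) :
    ∃ c d : F, c ≠ 0 ∧ d ≠ 0 ∧ L.v e = c • r + d • r' ∧ IsS (L.v e) := by
  rcases C.type_Q g l he heQ with (h | h) | h | h
  · exact absurd (h ▸ hZ) C.oneZ
  · exact absurd h hz
  · exact absurd hZ (C.not_Z e (C.tR e heQ h.1))
  · exact h

/-- a special element of `K ∖ Q` -/
theorem Ctx.exists_special : ∃ y ∈ KK L r r', y ∉ Q ∧ y ∈ A ∧ y * z ∈ Z ∧
    ∃ w e, w ∈ Subgroup.normalizer (KK L r r' : Set G) ∧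
      e ∈ KK L r r' ∧ e ∈ Q ∧ e ∈ Z ∧ y * z = w * e * w⁻¹ := by
  have hF := L.card
  obtain ⟨a, w, D, hv⟩ := C.sum g l
  obtain ⟨ω, hω⟩ := exists_omega hF
  obtain ⟨e, he, hev⟩ := L.v_surj (ω • r + (0 : F) • r')
  have hω0 : ω ≠ 0 := by rintro rfl; simp at hω
  have h2 := two_eq hF
  have hω1 : ω ≠ 1 := by
    rintro rfl
    apply one_ne_zero (α := F)
    linear_combination hω - h2
  have hω2 : ω + 1 ≠ 0 := by
    intro h
    apply hω1
    linear_combination h - h2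
  have haQ := D.aQ
  have hea : L.v (e * a) = (ω + 1) • r + (1 : F) • r' := by
    rw [L.v_mul e he a haQ, hev, hv, zero_smul, add_zero, add_smul, one_smul, one_smul]
    abel
  have heaS : IsS (L.v (e * a)) := by
    rw [hea]; exact l.isS' hF g.toGeo hω2 one_ne_zero
  have heaZ := C.tS _ (Q.mul_mem he haQ) heaS
  have hyz : w * e * w⁻¹ * z = w * (e * a) * w⁻¹ := by
    calc w * e * w⁻¹ * z = w * e * w⁻¹ * (w * a * w⁻¹) := by rw [D.wa]
      _ = _ := by group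
  refine ⟨w * e * w⁻¹, D.conj_mem g l hv he ⟨ω, 0, hev⟩,
    D.conj_not_mem g l hv he hev (by rwa [add_zero]) (by rwa [add_zero]), ?_, ?_, w, e * a, ?_,
    mem_of_lam L g.toGeo l (Q.mul_mem he haQ) ⟨_, _, hea⟩, Q.mul_mem he haQ, heaZ, hyz⟩
  · apply C.Ac
    apply C.tR e he
    rw [hev, zero_smul, add_zero]
    exact g.smul _ l.hr _ hω0
  · rw [hyz]
    exact C.Zc _ heaZ w
  · rw [Subgroup.mem_normalizer_iff]
    intro k
    constructor
    · exact fun hk => conj_w g l D hv hk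
    · intro hk
      have := conj_w_inv g l D hv hk
      have e1 : w⁻¹ * (w * k * w⁻¹) * w = k := by group
      rwa [e1] at this

omit C g l in
theorem mem_normalizer_Q {q : G} (hq : q ∈ Q) : q ∈ Subgroup.normalizer (KK L r r' : Set G) := by
  rw [Subgroup.mem_normalizer_iff]
  intro k
  constructor
  · exact fun hk => conj_Q L hq hk
  · intro hk
    have := conj_Q L (Q.inv_mem hq) hk
    have e1 : q⁻¹ * (q * k * q⁻¹) * q⁻¹⁻¹ = k := by group
    rwa [e1] at this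

/-- `(3.5)` -/
theorem Ctx.cls {x : G} (hx : x ∈ KK L r r') (hxQ : x ∉ Q) :
    (x ∈ A ∧ x * z ∈ Z) ∨ (x ∈ Z ∧ x * z ∈ A) := by
  obtain ⟨y, hy, hyQ, hyA, hyZ, -⟩ := C.exists_special g l
  have h1 := inv_mul_mem_Q L g.toGeo l hy hyQ hx hxQ
  have hK := (KK L r r').mul_mem ((KK L r r').inv_mem hy) hx
  obtain ⟨q, hq, h⟩ := exists_conj L g.toGeo l hy hyQ hK h1
  have hqz := L.large.comm_z q hq
  have hqz' : q⁻¹ * z = z * q⁻¹ := Lab.inv_comm hqz
  have e1 : y * (y⁻¹ * x) = x := by group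
  rw [e1] at h
  have e2 : q * (y * z) * q⁻¹ = q * y * q⁻¹ * z := by
    calc q * (y * z) * q⁻¹ = q * y * (z * q⁻¹) := by group
      _ = q * y * (q⁻¹ * z) := by rw [hqz']
      _ = _ := by group
  have hz2 : z * z = 1 := L.large.z_sq
  rcases h with h | h
  · left
    refine ⟨h ▸ C.Ac y hyA q, ?_⟩
    rw [← h, ← e2]
    exact C.Zc _ hyZ q
  · right
    refine ⟨?_, h ▸ C.Ac y hyA q⟩
    have := C.Zc _ hyZ q
    rw [e2, h, mul_assoc, hz2, mul_one] at this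
    exact this

theorem Ctx.cls_A {x : G} (hx : x ∈ KK L r r') (hxQ : x ∉ Q) : x * z ∈ Z ↔ x ∈ A := by
  rcases C.cls g l hx hxQ with ⟨h1, h2⟩ | ⟨h1, h2⟩
  · exact iff_of_true h2 h1
  · exact iff_of_false (C.not_Z _ h2) (fun h => C.not_Z _ h h1)

theorem Ctx.cls_Z {x : G} (hx : x ∈ KK L r r') (hxQ : x ∉ Q) : x * z ∈ A ↔ x ∈ Z := by
  rcases C.cls g l hx hxQ with ⟨h1, h2⟩ | ⟨h1, h2⟩
  · exact iff_of_false (fun h => C.not_Z _ h h2) (C.not_Z _ h1)
  · exact iff_of_true h2 h1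

theorem Ctx.not_A_iff {x : G} (hx : x ∈ KK L r r') (hxQ : x ∉ Q) : x ∉ A ↔ x ∈ Z := by
  rcases C.cls g l hx hxQ with ⟨h1, h2⟩ | ⟨h1, h2⟩
  · exact iff_of_false (fun h => h h1) (C.not_Z _ h1)
  · exact iff_of_true (fun h => C.not_Z _ h h1) h1

theorem Ctx.mem_Q {x : G} (hx : x ∈ KK L r r') (hA : x ∈ A) (hA' : x * z ∈ A) : x ∈ Q := by
  by_contra h
  exact C.not_Z _ hA' ((C.cls_A g l hx h).2 hA)

/-- `(3.7)`, the part inside `Q` -/
theorem Ctx.exists_norm_Q {k : G} (hk : k ∈ KK L r r') (hkQ : k ∈ Q) (hZ : k ∈ Z) :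
    ∃ n ∈ Subgroup.normalizer (KK L r r' : Set G), n * z * n⁻¹ = k := by
  by_cases hz : k = z
  · exact ⟨1, Subgroup.one_mem _, by rw [hz]; group⟩
  obtain ⟨c, d, hc, hd, hcd, hS⟩ := C.type_Z g l hk hkQ hZ hz
  obtain ⟨w, D⟩ := C.duo k hkQ hS
  have l' := l.smul L.card g.toGeo hc hd
  refine ⟨w, ?_, D.wz⟩
  rw [← KK_smul L r r' hc hd, Subgroup.mem_normalizer_iff]
  intro x
  constructor
  · exact fun hx => conj_w g l' D hcd hx
  · intro hx
    have := conj_w_inv g l' D hcd hx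
    have e1 : w⁻¹ * (w * x * w⁻¹) * w = x := by group
    rwa [e1] at this

/-- `(3.7)` -/
theorem Ctx.exists_norm {k : G} (hk : k ∈ KK L r r') (hZ : k ∈ Z) :
    ∃ n ∈ Subgroup.normalizer (KK L r r' : Set G), n * z * n⁻¹ = k := by
  by_cases hkQ : k ∈ Q
  · exact C.exists_norm_Q g l hk hkQ hZ
  obtain ⟨y, hy, hyQ, hyA, hyZ, w, e, hw, he, heQ, heZ, hyz⟩ := C.exists_special g l
  obtain ⟨n, hn, hnz⟩ := C.exists_norm_Q g l he heQ heZ
  have hzK := mem_z L r r'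
  have hyzK := (KK L r r').mul_mem hy hzK
  have hyzQ : y * z ∉ Q := fun h => hyQ (by
    have := Q.mul_mem h (Q.inv_mem L.large.z_mem)
    rwa [mul_inv_cancel_right] at this)
  have h1 := inv_mul_mem_Q L g.toGeo l hyzK hyzQ hk hkQ
  have hK := (KK L r r').mul_mem ((KK L r r').inv_mem hyzK) hk
  obtain ⟨q, hq, h⟩ := exists_conj L g.toGeo l hyzK hyzQ hK h1
  have e1 : y * z * ((y * z)⁻¹ * k) = k := by group
  rw [e1] at h
  have h2 : q * (y * z) * q⁻¹ = k := by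
    rcases h with h | h
    · exact h
    · exfalso
      have h3 : k * z ∈ Z := h ▸ C.Zc _ hyZ q
      exact C.not_Z _ ((C.cls_Z g l hk hkQ).2 hZ) h3
  refine ⟨q * w * n, Subgroup.mul_mem _ (Subgroup.mul_mem _ (mem_normalizer_Q hq) hw) hn, ?_⟩
  calc q * w * n * z * (q * w * n)⁻¹ = q * (w * (n * z * n⁻¹) * w⁻¹) * q⁻¹ := by group
    _ = k := by rw [hnz, ← hyz, h2]

end

end Cfsg.Agent.R08.ThreeMain
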