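import Cfsg.Agent.R08.ThreePairs
import Cfsg.Agent.R08.DuoExists
import Cfsg.Agent.R08.PairConj
import Cfsg.Agent.R08.Geo5
import Cfsg.Agent.R08.InvP
import Cfsg.Agent.R08.SixIn

/-!
# R08 (S1715), piece (3): the outputs (helper876)

For `S : Sys F4 G`, `b ∈ Z`, such that the classes of `S` are `TwoB`, `TwoA`:
* `ctx`, `pc`: the context of `ThreeMain`, `ThreePairs`;
* `kgrp`: the field `K` of `SixIn.In`; `cent`: the field `cent` of `SixIn.In`.
-/

set_option autoImplicit false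
set_option linter.unusedSectionVars false

namespace Cfsg.Agent.R08.ThreeOut

open Cfsg.Agent.SporRec.GF4 Cfsg.Agent.R08.Iface Cfsg.Agent.R08.InvHerm Cfsg.Agent.R08.ThreeDuo
open Cfsg.Agent.R08.ThreeK Cfsg.Agent.R08.ThreeMain Cfsg.Agent.R08.ThreePairs

theorem geo3 : Geo3 F4 where
  toGeo := Geo.geo
  span r r' l u h := Geo.g4 l.hr l.hr' l.orth l.ind (fun d hd h1 h2 _ => h d hd h1 h2)
  ex r r' l := by
    obtain ⟨d, h1, h2, h3, -⟩ := Geo.g5 l.hr l.hr' l.orth l.ind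
    refine ⟨d, h1, h2, ?_⟩
    rw [H_add_right (by rw [Nat.card_eq_fintype_card]; rfl), h2] at h3
    have := two_eq (F := F4) (by rw [Nat.card_eq_fintype_card]; rfl)
    linear_combination h3 - this

section

variable {F : Type*} [Field F] {G : Type*} [Group G] (S : Sys.Sys F G) (g : Geo F) {b : G}
  (hb : b ∈ S.Z)
include g

theorem ctx (h1 : (1 : G) ∉ S.A) : Ctx (S.lab b hb) S.Z S.A where
  Zc x hx k := S.Z_conj x hx k
  Ac x hx k := S.A_conj x hx k
  not_Z x hx := S.not_Z x hx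
  oneZ h := (S.lab 1 h).large.z_ne rfl
  oneA := h1
  zZ := hb
  tS y hy h := S.tS b hb y hy h
  tR y hy h := S.tR b hb y hy h
  duo a ha haS := by
    obtain ⟨w, -, D⟩ := DuoExists.exists_duo S g hb ha haS
    exact ⟨w, D⟩
  semi c hc hM := S.semi b hb c hc hM

theorem pc : PC (S.lab b hb) := by
  intro t ht t1 ht1 t' ht' t1' ht1' hr hr' c c' h1 h1' hc0 hc1 hc0' hc1'
  exact PairConj.exists_conj (S.lab b hb) g (S.semi b hb) ht ht1 ht' ht1' hr hr' h1 h1' hc0 hc1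
    hc0' hc1'

end

section

variable {F : Type*} [Field F] {G : Type*} [Group G] (S : Sys.Sys F G) (g : Geo3 F) {b : G}
  (hb : b ∈ S.Z) (hA : ∀ x, (S.lab b hb).TwoA x ↔ x ∈ S.A)
  (hB : ∀ x, (S.lab b hb).TwoB x ↔ x ∈ S.Z)
include g hA

theorem one_not_mem : (1 : G) ∉ S.A := by
  rw [← hA]
  rintro ⟨k, -, h2⟩
  have e : k⁻¹ * 1 * k = 1 := by group
  rw [e, (S.lab b hb).v_one] at h2
  exact g.ne _ h2 rfl

include hB

/-- the groups `K(Λ)` -/
theorem kgrp {r r' : Fin 6 → F} (l : Line r r') :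
    SixIn.KGrp (S.lab b hb) r r' (KK (S.lab b hb) r r') where
  le := inf_le_left
  comm x hx y hy := comm_KK g l hx hy
  sq x hx := sq_KK g l ((ctx S g.toGeo hb (one_not_mem S g hb hA)).sum g l) hx
  mem_Q x hx := ⟨fun h => lam_of_mem _ g.toGeo l h hx, fun h => mem_of_lam _ g.toGeo l hx h⟩
  act x hx hxQ w := act _ g.toGeo l hx hxQ w
  exists_not_mem := by
    obtain ⟨y, h1, h2, -⟩ :=
      exists_y g l ((ctx S g.toGeo hb (one_not_mem S g hb hA)).sum g l)
    exact ⟨y, h1, h2⟩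
  cls x hx hxQ := by
    have hz : b * x = x * b := ((S.lab b hb).M_comm x (mem_KK.1 hx).1).symm
    rw [hz, hA, hB, hA, hB]
    exact (ctx S g.toGeo hb (one_not_mem S g hb hA)).cls g l hx hxQ
  good x hx hxA hact := by
    have hF := (S.lab b hb).card
    have hxQ : x ∉ S.Q b := by
      intro h
      obtain ⟨u, hu1, hu2⟩ := exists_dual_pair hF (g.ne _ l.hr) l.ind |>.1
      have h3 := hact u
      rw [(S.lab b hb).ρ_mem_Q h, tr_tr_eq hF l, hu1, hu2, one_smul, zero_smul, add_zero] at h3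
      exact g.ne _ l.hr (left_eq_add.1 h3)
    have hxx : x * x = 1 := by
      obtain ⟨k, h1, h2⟩ := hxA
      have h4 := ((S.lab b hb).sq_iff _ h1).2 (g.iso _ h2)
      calc x * x = k * (k⁻¹ * x * k * (k⁻¹ * x * k)) * k⁻¹ := by group
        _ = 1 := by rw [h4]; group
    have hov : InvM.Over (S.lab b hb) x r r' := by
      intro w
      rw [hact w, tr_tr_eq hF l, add_assoc]
    have hG := (InvP.good_of_A S g.toGeo hb hx hxQ hxx ((hA x).1 hxA) hov).2
    rw [mem_KK]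
    exact ⟨hx, fun y hy h1 h2 => (hG y hy h1 h2).symm⟩
  conj k hk hkB := by
    obtain ⟨n, hn, hnz⟩ := (ctx S g.toGeo hb (one_not_mem S g hb hA)).exists_norm g l hk
      ((hB k).1 hkB)
    refine ⟨n⁻¹, fun y => ?_, ?_⟩
    · exact Subgroup.mem_normalizer_iff.1 (Subgroup.inv_mem _ hn) y
    · rw [← hnz]; group

/-- field `K` of `SixIn.In` -/
theorem fieldK (r r' : Fin 6 → F) (h1 : IsR r) (h2 : IsR r') (h3 : H r r' = 0)
    (h4 : ∀ c : F, r' ≠ c • r) : ∃ K : Subgroup G, SixIn.KGrp (S.lab b hb) r r' K :=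
  ⟨_, kgrp S g hb hA hB ⟨h1, h2, h3, h4⟩⟩

/-- field `cent` of `SixIn.In` (a more general version) -/
theorem cent {t t1 x : G} (ht : t ∈ S.Q b) (ht1 : t1 ∈ S.Q b) (hR : IsR ((S.lab b hb).v t))
    {c : F} (hc : (S.lab b hb).v t1 = c • (S.lab b hb).v t) (hc0 : c ≠ 0) (hc1 : c ≠ 1)
    (hx : x ∈ S.M b) (hxQ : x ∉ S.Q b) (hxZ : x ∈ S.Z)
    (a1 : x * t ∈ S.A) (a2 : x * t1 ∈ S.A) (a3 : x * (t * t1) ∈ S.A) :
    ∃ n, n * b * n⁻¹ = x ∧ n * t = t * n ∧ n * t1 = t1 * n := by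
  have hF := (S.lab b hb).card
  set L := S.lab b hb with hL
  have C := ctx S g.toGeo hb (one_not_mem S g hb hA)
  -- involutions of class `A`
  have sqA : ∀ y, y ∈ S.A → y * y = 1 := by
    intro y hy
    obtain ⟨k, h1, h2⟩ := (hA y).2 hy
    have h4 := (L.sq_iff _ h1).2 (g.iso _ h2)
    calc y * y = k * (k⁻¹ * y * k * (k⁻¹ * y * k)) * k⁻¹ := by group
      _ = 1 := by rw [h4]; group
  have notQ : ∀ e, e ∈ S.Q b → x * e ∉ S.Q b := fun e he h => hxQ (by
    have := (S.Q b).mul_mem h ((S.Q b).inv_mem he)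
    rwa [mul_inv_cancel_right] at this)
  have hM : ∀ e, e ∈ S.Q b → x * e ∈ S.M b := fun e he => (S.M b).mul_mem hx (L.Q_le he)
  have htQ1 := L.M_comm x hx
  obtain ⟨s, s', p, hov⟩ := InvM.exists_over g.toGeo L (S.even b hb) (hM t ht) (notQ t ht)
    (by rw [sqA _ a1]; exact (S.Q b).one_mem)
  have l : Line s s' := ⟨p.h1, p.h2, p.perp, p.ne⟩
  have hov2 : ∀ e, e ∈ S.Q b → InvM.Over L (x * e) s s' := by
    intro e he w
    rw [← hov w, L.ρ_mul htQ1 (L.large.comm_z e he), L.ρ_mul htQ1 (L.large.comm_z t ht),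
      L.ρ_mem_Q he, L.ρ_mem_Q ht]
  have inK : ∀ e, e ∈ S.Q b → x * e ∈ S.A → x * e ∈ KK L s s' := by
    intro e he hxe
    have hG := (InvP.good_of_A S g.toGeo hb (hM e he) (notQ e he) (sqA _ hxe) hxe
      (hov2 e he)).2
    rw [mem_KK]
    exact ⟨hM e he, fun y hy h1 h2 => (hG y hy h1 h2).symm⟩
  have k1 := inK t ht a1
  have k2 := inK t1 ht1 a2
  have k3 := inK _ ((S.Q b).mul_mem ht ht1) a3
  -- `t1 ∈ K`
  have k4 : t1 ∈ KK L s s' := by
    have := (KK L s s').mul_mem ((KK L s s').inv_mem k1) k3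
    have e : (x * t)⁻¹ * (x * (t * t1)) = t1 := by group
    rwa [e] at this
  have k5 : x ∈ KK L s s' := by
    have := (KK L s s').mul_mem k2 ((KK L s s').inv_mem k4)
    rwa [mul_inv_cancel_right] at this
  have k6 : t ∈ KK L s s' := by
    have := (KK L s s').mul_mem ((KK L s s').inv_mem k5) k1
    rwa [inv_mul_cancel_left] at this
  exact exists_conj_four C (pc S g.toGeo hb) g l k5 hxZ k6 ht ht1 hR hc hc0 hc1 a1 a2 a3

/-- field `cent` of `SixIn.In` -/
theorem fieldCent (hr0 : IsR (SixIn.r0 F)) (V : Subgroup G) (hV : SixIn.Four (S.lab b hb) V)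
    (x : G) (hx : x ∈ S.M b) (hxQ : x ∉ S.Q b) (hxB : (S.lab b hb).TwoB x)
    (hxA : ∀ a ∈ V, a ≠ 1 → (S.lab b hb).TwoA (x * a)) :
    ∃ k, (∀ a ∈ V, k * a = a * k) ∧ k * b * k⁻¹ = x := by
  have hF := (S.lab b hb).card
  obtain ⟨ω, hω⟩ := exists_omega hF
  obtain ⟨w0, w1⟩ := InvM.omega_ne hF hω
  obtain ⟨t, htV, htv⟩ := hV.surj 1
  obtain ⟨t1, ht1V, ht1v⟩ := hV.surj ω
  rw [one_smul] at htv
  have htQ := hV.le htV
  have ht1Q := hV.le ht1V
  have hr00 := g.ne _ hr0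
  have hne : ∀ a ∈ V, ∀ c : F, c ≠ 0 → (S.lab b hb).v a = c • SixIn.r0 F →
      x * a ∈ S.A := by
    intro a ha c hc hac
    rw [← hA]
    apply hxA a ha
    rintro rfl
    rw [(S.lab b hb).v_one] at hac
    exact hc ((smul_eq_zero.1 hac.symm).resolve_right hr00)
  have h12 : (S.lab b hb).v (t * t1) = (1 + ω) • SixIn.r0 F := by
    rw [(S.lab b hb).v_mul t htQ t1 ht1Q, htv, ht1v, add_smul, one_smul]
  have w2 : (1 : F) + ω ≠ 0 := by
    intro h
    apply w1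
    have := two_eq hF
    linear_combination h - this
  obtain ⟨k, h0, h1, h2⟩ := cent S g hb hA hB (t := t) (t1 := t1) (x := x) (c := ω) htQ ht1Q
    (by rw [htv]; exact hr0) (by rw [ht1v, htv]) w0 w1 hx hxQ ((hB x).1 hxB)
    (hne t htV 1 one_ne_zero (by rw [htv, one_smul])) (hne t1 ht1V ω w0 ht1v)
    (hne _ (V.mul_mem htV ht1V) _ w2 h12)
  refine ⟨k, ?_, h0⟩
  intro a ha
  obtain ⟨c, hc⟩ := hV.lab a ha
  have key : ∀ a' ∈ V, (S.lab b hb).v a' = (S.lab b hb).v a → k * a' = a' * k →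
      k * a = a * k := by
    intro a' ha' hv hk
    rcases ((S.lab b hb).v_eq (hV.le ha') (hV.le ha)).1 hv with h | h
    · rw [← h]; exact hk
    · exfalso
      apply hV.nz
      have := V.mul_mem (V.inv_mem ha) ha'
      rwa [h, inv_mul_cancel_left] at this
  rcases InvLin.field_cases hF hω c with h | h | h | h
  · apply key 1 V.one_mem _ (by rw [one_mul, mul_one])
    rw [hc, h, zero_smul, (S.lab b hb).v_one]
  · apply key t htV _ h1
    rw [hc, h, one_smul, htv]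
  · apply key t1 ht1V _ h2
    rw [hc, h, ht1v]
  · apply key (t * t1) (V.mul_mem htV ht1V) _ (by rw [← mul_assoc, h1, mul_assoc, h2, mul_assoc])
    rw [hc, h, h12]
    congr 1
    exact add_comm _ _

end

end Cfsg.Agent.R08.ThreeOut
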