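import Cfsg.Agent.R08.ThreeMain

/-!
# R08 (S1715), piece (3): four-groups in `K(Λ)` (helper876)

In the language of the octad `K = {even subsets of 1..8} / complement`, `z = 1234`,
`K ∩ Q` = the elements meeting `1234` evenly, `A` = duads, `Z` = tetrads.
-/

set_option autoImplicit false
set_option linter.unusedSectionVars false

namespace Cfsg.Agent.R08.ThreePairs

open Cfsg.Agent.R08.Iface Cfsg.Agent.R08.InvHerm Cfsg.Agent.R08.ThreeDuo Cfsg.Agent.R08.ThreeK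
open Cfsg.Agent.R08.ThreeMain

variable {F : Type*} [Field F] {G : Type*} [Group G] {Q M : Subgroup G} {z : G}

/-- `C_G(z)` is transitive on the ordered pairs of independent elements over an `R`-point. -/
def PC (L : Lab F Q M z) : Prop :=
  ∀ t ∈ Q, ∀ t1 ∈ Q, ∀ t' ∈ Q, ∀ t1' ∈ Q, IsR (L.v t) → IsR (L.v t') → ∀ c c' : F,
    L.v t1 = c • L.v t → L.v t1' = c' • L.v t' → c ≠ 0 → c ≠ 1 → c' ≠ 0 → c' ≠ 1 →
    ∃ h, h * z = z * h ∧ h * t * h⁻¹ = t' ∧ h * t1 * h⁻¹ = t1'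

section

variable {L : Lab F Q M z} {Z A : Set G} (C : Ctx L Z A) (P : PC L) (g : Geo3 F)
  {r r' : Fin 6 → F} (l : Line r r')
include C g l

omit l in
theorem comm_of_smul {t t1 : G} (ht : t ∈ Q) (ht1 : t1 ∈ Q) (hR : IsR (L.v t)) {c : F}
    (hc : L.v t1 = c • L.v t) : t * t1 = t1 * t := by
  apply comm_of_H L ht ht1
  rw [hc, H_smul_right L.card, g.iso _ hR, mul_zero]

omit C g l in
theorem mem_norm {n k : G} (hn : n ∈ Subgroup.normalizer (KK L r r' : Set G))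
    (hk : k ∈ KK L r r') : n * k * n⁻¹ ∈ KK L r r' :=
  (Subgroup.mem_normalizer_iff.1 hn k).1 hk

include P in
/-- Two elements of `A ∩ K` over the same `R`-point with respect to `b ∈ Z ∩ K` can be moved to a
given pair, `b` to `z`. -/
theorem exists_conj_pair {b s1 s2 : G} (hb : b ∈ KK L r r') (hbZ : b ∈ Z)
    (h1 : s1 ∈ KK L r r') (h2 : s2 ∈ KK L r r') (a1 : s1 ∈ A) (a2 : s2 ∈ A) (a3 : s1 * s2 ∈ A)
    (b1 : b * s1 ∈ A) (b2 : b * s2 ∈ A) (b3 : b * (s1 * s2) ∈ A)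
    {t1 t2 : G} (ht1 : t1 ∈ Q) (ht2 : t2 ∈ Q) (hR : IsR (L.v t1)) {c : F}
    (hc : L.v t2 = c • L.v t1) (hc0 : c ≠ 0) (hc1 : c ≠ 1) :
    ∃ n, n * b * n⁻¹ = z ∧ n * s1 * n⁻¹ = t1 ∧ n * s2 * n⁻¹ = t2 := by
  have hF := L.card
  obtain ⟨m, hm, hmz⟩ := C.exists_norm g l hb hbZ
  have hmi : m⁻¹ ∈ Subgroup.normalizer (KK L r r' : Set G) := Subgroup.inv_mem _ hm
  have hbz : m⁻¹ * b * m = z := by rw [← hmz]; group
  have key : ∀ s, s ∈ KK L r r' → s ∈ A → b * s ∈ A →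
      m⁻¹ * s * m ∈ KK L r r' ∧ m⁻¹ * s * m ∈ Q ∧ m⁻¹ * s * m ∈ A := by
    intro s hs hsA hbs
    have k1 : m⁻¹ * s * m ∈ KK L r r' := by
      have := mem_norm hmi hs
      rwa [inv_inv] at this
    have k2 : m⁻¹ * s * m ∈ A := by
      have := C.Ac s hsA m⁻¹
      rwa [inv_inv] at this
    refine ⟨k1, ?_, k2⟩
    apply C.mem_Q g l k1 k2
    have e : m⁻¹ * s * m * z = m⁻¹ * (s * b) * m⁻¹⁻¹ := by
      rw [← hbz]; group
    rw [e, comm_KK g l hs hb]
    exact C.Ac _ hbs m⁻¹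
  obtain ⟨u1K, u1Q, u1A⟩ := key s1 h1 a1 b1
  obtain ⟨u2K, u2Q, u2A⟩ := key s2 h2 a2 b2
  obtain ⟨u3K, u3Q, u3A⟩ := key (s1 * s2) (Subgroup.mul_mem _ h1 h2) a3 b3
  have e3 : m⁻¹ * (s1 * s2) * m = (m⁻¹ * s1 * m) * (m⁻¹ * s2 * m) := by group
  rw [e3] at u3K u3Q u3A
  set u1 := m⁻¹ * s1 * m with hu1
  set u2 := m⁻¹ * s2 * m with hu2
  obtain ⟨R1, T1⟩ := C.type_A g l u1K u1Q u1A
  obtain ⟨R2, T2⟩ := C.type_A g l u2K u2Q u2A
  have hv3 : L.v (u1 * u2) = L.v u1 + L.v u2 := L.v_mul _ u1Q _ u2Q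
  obtain ⟨c', hc'⟩ : ∃ c' : F, L.v u2 = c' • L.v u1 := by
    rcases T1 with ⟨x, hx, hx'⟩ | ⟨x, hx, hx'⟩ <;> rcases T2 with ⟨y, hy, hy'⟩ | ⟨y, hy, hy'⟩
    · exact ⟨y * x⁻¹, by rw [hx', hy', smul_smul, mul_assoc, inv_mul_cancel₀ hx, mul_one]⟩
    · exfalso
      apply C.not_Z _ u3A
      apply C.tS _ u3Q
      rw [hv3, hx', hy']
      exact l.isS' hF g.toGeo hx hy
    · exfalso
      apply C.not_Z _ u3A
      apply C.tS _ u3Q
      rw [hv3, hx', hy', add_comm]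
      exact l.isS' hF g.toGeo hy hx
    · exact ⟨y * x⁻¹, by rw [hx', hy', smul_smul, mul_assoc, inv_mul_cancel₀ hx, mul_one]⟩
  have hc'0 : c' ≠ 0 := by
    rintro rfl
    rw [zero_smul] at hc'
    exact g.ne _ R2 hc'
  have hc'1 : c' ≠ 1 := by
    rintro rfl
    rw [one_smul] at hc'
    rw [hc', vadd_self hF] at hv3
    rcases (L.v_eq_zero _ u3Q).1 hv3 with h | h
    · exact C.oneA (h ▸ u3A)
    · exact C.not_Z _ u3A (h ▸ C.zZ)
  obtain ⟨h, hz, e1, e2⟩ := P u1 u1Q u2 u2Q t1 ht1 t2 ht2 R1 hR c' c hc' hc hc'0 hc'1 hc0 hc1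
  refine ⟨h * m⁻¹, ?_, ?_, ?_⟩
  · calc h * m⁻¹ * b * (h * m⁻¹)⁻¹ = h * (m⁻¹ * b * m) * h⁻¹ := by group
      _ = z := by rw [hbz, hz, mul_inv_cancel_right]
  · rw [← e1, hu1]; group
  · rw [← e2, hu2]; group

include P in
/-- `(3.8)`: the input of (6). -/
theorem exists_conj_four {x t1 t2 : G} (hx : x ∈ KK L r r') (hxZ : x ∈ Z)
    (h1 : t1 ∈ KK L r r') (ht1 : t1 ∈ Q) (ht2 : t2 ∈ Q) (hR : IsR (L.v t1)) {c : F}
    (hc : L.v t2 = c • L.v t1) (hc0 : c ≠ 0) (hc1 : c ≠ 1)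
    (b1 : x * t1 ∈ A) (b2 : x * t2 ∈ A) (b3 : x * (t1 * t2) ∈ A) :
    ∃ n, n * z * n⁻¹ = x ∧ n * t1 = t1 * n ∧ n * t2 = t2 * n := by
  have hF := L.card
  obtain ⟨x1, x2, hlam⟩ := lam_of_mem L g.toGeo l h1 ht1
  have h2 : t2 ∈ KK L r r' := by
    apply mem_of_lam L g.toGeo l ht2
    exact ⟨c * x1, c * x2, by rw [hc, hlam, smul_add, smul_smul, smul_smul]⟩
  have R2 : IsR (L.v t2) := by rw [hc]; exact g.smul _ hR c hc0
  have c1 : (1 : F) + c ≠ 0 := by
    intro h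
    apply hc1
    have h2 := two_eq hF
    linear_combination h - h2
  have R3 : IsR (L.v (t1 * t2)) := by
    rw [L.v_mul t1 ht1 t2 ht2, hc]
    have : L.v t1 + c • L.v t1 = (1 + c) • L.v t1 := by rw [add_smul, one_smul]
    rw [this]; exact g.smul _ hR _ c1
  obtain ⟨n, n0, n1, n2⟩ := exists_conj_pair C P g l hx hxZ h1 h2 (C.tR _ ht1 hR)
    (C.tR _ ht2 R2) (C.tR _ (Q.mul_mem ht1 ht2) R3) b1 b2 b3 ht1 ht2 hR hc hc0 hc1
  refine ⟨n⁻¹, ?_, ?_, ?_⟩
  · rw [← n0]; group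
  · have h : n * t1 = t1 * n := mul_inv_eq_iff_eq_mul.1 n1
    exact ((show Commute n t1 from h).inv_left).eq
  · have h : n * t2 = t2 * n := mul_inv_eq_iff_eq_mul.1 n2
    exact ((show Commute n t2 from h).inv_left).eq

/-- the `R`-elements `t` of `K ∩ Q` have label in `F r` or in `F r'` -/
theorem type_R {t : G} (ht : t ∈ KK L r r') (htQ : t ∈ Q) (hR : IsR (L.v t)) :
    (∃ c : F, c ≠ 0 ∧ L.v t = c • r) ∨ ∃ c : F, c ≠ 0 ∧ L.v t = c • r' :=
  (C.type_A g l ht htQ (C.tR t htQ hR)).2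

/-- For `x ∈ A ∩ K ∖ Q` with `x t ∈ A`: exactly one of `x t1`, `x t t1` is in `A`. -/
theorem switch {x t t1 : G} (hx : x ∈ KK L r r') (hxQ : x ∉ Q) (hxA : x ∈ A)
    (ht : t ∈ KK L r r') (htQ : t ∈ Q) (hR : IsR (L.v t)) (ht1 : t1 ∈ Q) {c : F}
    (hc : L.v t1 = c • L.v t) (hc0 : c ≠ 0) (hc1 : c ≠ 1) (hxt : x * t ∈ A) :
    x * t1 ∈ A ↔ x * (t * t1) ∈ Z := by
  have hF := L.card
  have h2 := two_eq hF
  obtain ⟨x1, x2, hlam⟩ := lam_of_mem L g.toGeo l ht htQ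
  have h1K : t1 ∈ KK L r r' := by
    apply mem_of_lam L g.toGeo l ht1
    exact ⟨c * x1, c * x2, by rw [hc, hlam, smul_add, smul_smul, smul_smul]⟩
  have hxt1K := (KK L r r').mul_mem hx ((KK L r r').mul_mem ht h1K)
  have notQ : ∀ e, e ∈ Q → x * e ∉ Q := fun e he h => hxQ (by
    have := Q.mul_mem h (Q.inv_mem he)
    rwa [mul_inv_cancel_right] at this)
  obtain ⟨q, hq, h⟩ := exists_conj L g.toGeo l hx hxQ ht htQ
  have h' : q * x * q⁻¹ = x * t := by
    rcases h with h | h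
    · exact h
    · exfalso
      have h3 : x * t * z ∈ A := h ▸ C.Ac x hxA q
      exact C.not_Z _ h3 ((C.cls_A g l ((KK L r r').mul_mem hx ht) (notQ t htQ)).2 hxt)
  obtain ⟨-, hlab⟩ := v_comm_eq L g.toGeo l hx hxQ hq
  have hlab' : L.v t = H (L.v q) r • r + H (L.v q) r' • r' := by
    rw [← hlab, h']; congr 1; group
  have hr0 := g.ne _ l.hr
  -- `H (v q) (v t) = 1`
  have hqt : H (L.v q) (L.v t) = 1 := by
    have indep : ∀ a b : F, a • r + b • r' = 0 → a = 0 ∧ b = 0 := by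
      intro a b hab
      have hb : b = 0 := by
        by_contra hb
        apply l.ind (b⁻¹ * a)
        have : a • r = b • r' := (vadd_eq_zero hF).1 hab
        rw [← smul_smul, this, smul_smul, inv_mul_cancel₀ hb, one_smul]
      refine ⟨?_, hb⟩
      rw [hb, zero_smul, add_zero] at hab
      exact (smul_eq_zero.1 hab).resolve_right hr0
    rcases type_R C g l ht htQ hR with ⟨d, hd, hdt⟩ | ⟨d, hd, hdt⟩
    · have h5 : (d + H (L.v q) r) • r + H (L.v q) r' • r' = 0 := by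
        rw [add_smul, add_assoc, ← hlab', hdt, vadd_self hF]
      obtain ⟨h6, -⟩ := indep _ _ h5
      have h7 : H (L.v q) r = d := by linear_combination h6 - d * h2
      rw [hdt, H_smul_right hF, h7]
      have := pow3 hF hd
      linear_combination this
    · have h5 : H (L.v q) r • r + (d + H (L.v q) r') • r' = 0 := by
        rw [add_smul, ← add_assoc, add_comm (H (L.v q) r • r), add_assoc, ← hlab', hdt,
          vadd_self hF]
      obtain ⟨-, h6⟩ := indep _ _ h5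
      have h7 : H (L.v q) r' = d := by linear_combination h6 - d * h2
      rw [hdt, H_smul_right hF, h7]
      have := pow3 hF hd
      linear_combination this
  have hqt1 : q * t1 = t1 * q * z := by
    rw [L.comm_z_iff hq ht1, hc, H_smul_right hF, hqt, mul_one]
    rintro (h | h)
    · exact hc0 (by simpa using h)
    · apply hc1
      have h3 := pow3 hF hc0
      linear_combination h3 - c * h
  have hqz := L.large.comm_z q hq
  have e1 : q * (x * t1) * q⁻¹ = x * (t * t1) * z := by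
    calc q * (x * t1) * q⁻¹ = (q * x * q⁻¹) * (q * t1 * q⁻¹) := by group
      _ = (x * t) * (t1 * q * z * q⁻¹) := by rw [h', hqt1]
      _ = (x * t) * (t1 * (q * z) * q⁻¹) := by group
      _ = (x * t) * (t1 * (z * q) * q⁻¹) := by rw [hqz]
      _ = _ := by group
  have e2 : x * t1 ∈ A ↔ x * (t * t1) * z ∈ A := by
    rw [← e1]
    constructor
    · intro h; exact C.Ac _ h q
    · intro h
      have := C.Ac _ h q⁻¹
      have e3 : q⁻¹ * (q * (x * t1) * q⁻¹) * q⁻¹⁻¹ = x * t1 := by group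
      rwa [e3] at this
  rw [e2]
  exact C.cls_Z g l hxt1K (notQ _ (Q.mul_mem htQ ht1))

include P in
/-- `(3.10)`: `⟨t, x⟩` is conjugate to `⟨t, t1⟩` under `C_G(t)`. -/
theorem exists_conj_self {x t t1 : G} (hx : x ∈ KK L r r') (hxQ : x ∉ Q) (hxA : x ∈ A)
    (ht : t ∈ KK L r r') (htQ : t ∈ Q) (hR : IsR (L.v t)) (ht1 : t1 ∈ Q) {c : F}
    (hc : L.v t1 = c • L.v t) (hc0 : c ≠ 0) (hc1 : c ≠ 1) (hxt : x * t ∈ A) :
    ∃ k, k * t = t * k ∧ k * t1 * k⁻¹ = x := by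
  have hF := L.card
  have sw := switch C g l hx hxQ hxA ht htQ hR ht1 hc hc0 hc1 hxt
  have D := C.sum g l
  obtain ⟨x1, x2, hlam⟩ := lam_of_mem L g.toGeo l ht htQ
  have h1K : t1 ∈ KK L r r' := by
    apply mem_of_lam L g.toGeo l ht1
    exact ⟨c * x1, c * x2, by rw [hc, hlam, smul_add, smul_smul, smul_smul]⟩
  have hxx := sq_KK g l D hx
  have htt := sq_KK g l D ht
  have h11 := sq_KK g l D h1K
  have cxt := comm_KK g l hx ht
  have cx1 := comm_KK g l hx h1K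
  have ct1 := comm_KK g l ht h1K
  have R1 : IsR (L.v t1) := by rw [hc]; exact g.smul _ hR c hc0
  have c1 : (1 : F) + c ≠ 0 := by
    intro h
    apply hc1
    have h2 := two_eq hF
    linear_combination h - h2
  have R3 : IsR (L.v (t * t1)) := by
    rw [L.v_mul t htQ t1 ht1, hc]
    have : L.v t + c • L.v t = (1 + c) • L.v t := by rw [add_smul, one_smul]
    rw [this]; exact g.smul _ hR _ c1
  have tA := C.tR _ htQ hR
  have t1A := C.tR _ ht1 R1
  have t2A := C.tR _ (Q.mul_mem htQ ht1) R3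
  have txA : t * x ∈ A := by rw [← cxt]; exact hxt
  have notQ : ∀ e, e ∈ Q → x * e ∉ Q := fun e he h => hxQ (by
    have := Q.mul_mem h (Q.inv_mem he)
    rwa [mul_inv_cancel_right] at this)
  have fin : ∀ b, b ∈ KK L r r' → b ∈ Z → b * t ∈ A → b * x ∈ A → b * (t * x) ∈ A →
      ∃ k, k * t = t * k ∧ k * t1 * k⁻¹ = x := by
    intro b hb hbZ b1 b2 b3
    obtain ⟨n, n0, n1, n2⟩ := exists_conj_pair C P g l hb hbZ ht hx tA hxA txA b1 b2 b3 htQ ht1
      hR hc hc0 hc1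
    refine ⟨n⁻¹, ?_, ?_⟩
    · have h : n * t = t * n := mul_inv_eq_iff_eq_mul.1 n1
      exact ((show Commute n t from h).inv_left).eq
    · rw [← n2]; group
  by_cases h : x * t1 ∈ A
  · apply fin (x * (t * t1)) (Subgroup.mul_mem _ hx (Subgroup.mul_mem _ ht h1K)) (sw.1 h)
    · have e : x * (t * t1) * t = x * t1 * (t * t) := by rw [ct1]; simp only [mul_assoc]
      rw [e, htt, mul_one]; exact h
    · have e : x * (t * t1) * x = (x * x) * (t * t1) := by
        rw [mul_assoc, mul_assoc, ← cx1, ← mul_assoc t, ← cxt]; simp only [mul_assoc]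
      rw [e, hxx, one_mul]; exact t2A
    · have e : x * (t * t1) * (t * x) = (x * x) * (t * t) * t1 := by
        calc x * (t * t1) * (t * x) = x * (t * t1) * (x * t) := by rw [cxt]
          _ = x * t * (t1 * x) * t := by group
          _ = x * t * (x * t1) * t := by rw [cx1]
          _ = x * (t * x) * (t1 * t) := by group
          _ = x * (x * t) * (t * t1) := by rw [cxt, ct1]
          _ = _ := by group
      rw [e, hxx, htt, one_mul, one_mul]; exact t1A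
  · have h' : x * t1 ∈ Z :=
      (C.not_A_iff g l (Subgroup.mul_mem _ hx h1K) (notQ _ ht1)).1 h
    have h'' : x * (t * t1) ∈ A := by
      by_contra hn
      exact h (sw.2 ((C.not_A_iff g l (Subgroup.mul_mem _ hx (Subgroup.mul_mem _ ht h1K))
        (notQ _ (Q.mul_mem htQ ht1))).1 hn))
    apply fin (x * t1) (Subgroup.mul_mem _ hx h1K) h'
    · have e : x * t1 * t = x * (t * t1) := by rw [ct1]; group
      rw [e]; exact h''
    · have e : x * t1 * x = (x * x) * t1 := by rw [mul_assoc, ← cx1]; group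
      rw [e, hxx, one_mul]; exact t1A
    · have e : x * t1 * (t * x) = (x * x) * (t * t1) := by
        calc x * t1 * (t * x) = x * t1 * (x * t) := by rw [cxt]
          _ = x * (t1 * x) * t := by group
          _ = x * (x * t1) * t := by rw [cx1]
          _ = x * x * (t1 * t) := by group
          _ = _ := by rw [ct1]
      rw [e, hxx, one_mul]; exact t2A

/-- an element of `A ∩ K ∖ Q` with `x t ∈ A` -/
theorem exists_x {t t1 : G} (ht : t ∈ KK L r r') (htQ : t ∈ Q) (hR : IsR (L.v t))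
    (ht1 : t1 ∈ Q) {c : F} (hc : L.v t1 = c • L.v t) (hc0 : c ≠ 0) (hc1 : c ≠ 1) :
    ∃ x ∈ KK L r r', x ∉ Q ∧ x ∈ A ∧ x * t ∈ A := by
  have hF := L.card
  obtain ⟨y, hy, hyQ, hyA, -⟩ := C.exists_special g l
  obtain ⟨x1, x2, hlam⟩ := lam_of_mem L g.toGeo l ht htQ
  have h1K : t1 ∈ KK L r r' := by
    apply mem_of_lam L g.toGeo l ht1
    exact ⟨c * x1, c * x2, by rw [hc, hlam, smul_add, smul_smul, smul_smul]⟩
  have notQ : ∀ e, e ∈ Q → y * e ∉ Q := fun e he h => hyQ (by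
    have := Q.mul_mem h (Q.inv_mem he)
    rwa [mul_inv_cancel_right] at this)
  have hzK := mem_z L r r'
  have hzQ := L.large.z_mem
  by_cases h : y * t ∈ A
  · exact ⟨y, hy, hyQ, hyA, h⟩
  -- `y (t z) ∈ A`
  have h' : y * (t * z) ∈ A := by
    rw [← mul_assoc]
    exact (C.cls_Z g l (Subgroup.mul_mem _ hy ht) (notQ _ htQ)).2
      ((C.not_A_iff g l (Subgroup.mul_mem _ hy ht) (notQ _ htQ)).1 h)
  have hvz : L.v (t * z) = L.v t := v_z_mul L htQ
  have htzK := Subgroup.mul_mem _ ht hzK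
  have htzQ := Q.mul_mem htQ hzQ
  -- choose the sign of `t1`
  obtain ⟨s, hs, hsK, hsv, hsA⟩ : ∃ s, s ∈ Q ∧ s ∈ KK L r r' ∧ L.v s = c • L.v t ∧
      y * s ∈ A := by
    by_cases h3 : y * t1 ∈ A
    · exact ⟨t1, ht1, h1K, hc, h3⟩
    · refine ⟨t1 * z, Q.mul_mem ht1 hzQ, Subgroup.mul_mem _ h1K hzK, ?_, ?_⟩
      · rw [v_z_mul L ht1, hc]
      · rw [← mul_assoc]
        exact (C.cls_Z g l (Subgroup.mul_mem _ hy h1K) (notQ _ ht1)).2
          ((C.not_A_iff g l (Subgroup.mul_mem _ hy h1K) (notQ _ ht1)).1 h3)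
  have sw := switch C g l hy hyQ hyA htzK htzQ (by rw [hvz]; exact hR) hs
    (by rw [hvz]; exact hsv) hc0 hc1 h'
  have h4 := sw.1 hsA
  refine ⟨y * s, Subgroup.mul_mem _ hy hsK, notQ _ hs, hsA, ?_⟩
  have hz2 : z * z = 1 := L.large.z_sq
  have hsz := comm_z L hs
  have e1 : y * s * t = y * (t * z * s) * z := by
    have hst := comm_KK g l hsK ht
    calc y * s * t = y * (s * t) * (z * z) := by rw [hz2]; group
      _ = y * (t * s) * (z * z) := by rw [hst]
      _ = y * t * (s * z) * z := by group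
      _ = y * t * (z * s) * z := by rw [hsz]
      _ = _ := by group
  rw [e1]
  exact (C.cls_Z g l (Subgroup.mul_mem _ hy (Subgroup.mul_mem _ htzK hsK))
    (notQ _ (Q.mul_mem htzQ hs))).2 h4

/-- an element `x ∈ Z ∩ K ∖ Q` such that `x t, x t1, x t t1 ∈ A` -/
theorem exists_x' {t t1 : G} (ht : t ∈ KK L r r') (htQ : t ∈ Q) (hR : IsR (L.v t))
    (ht1 : t1 ∈ Q) {c : F} (hc : L.v t1 = c • L.v t) (hc0 : c ≠ 0) (hc1 : c ≠ 1) :
    ∃ x ∈ KK L r r', x ∉ Q ∧ x ∈ Z ∧ x * t ∈ A ∧ x * t1 ∈ A ∧ x * (t * t1) ∈ A := by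
  have hF := L.card
  obtain ⟨x, hx, hxQ, hxA, hxt⟩ := exists_x C g l ht htQ hR ht1 hc hc0 hc1
  have sw := switch C g l hx hxQ hxA ht htQ hR ht1 hc hc0 hc1 hxt
  have D := C.sum g l
  obtain ⟨x1, x2, hlam⟩ := lam_of_mem L g.toGeo l ht htQ
  have h1K : t1 ∈ KK L r r' := by
    apply mem_of_lam L g.toGeo l ht1
    exact ⟨c * x1, c * x2, by rw [hc, hlam, smul_add, smul_smul, smul_smul]⟩
  have htt := sq_KK g l D ht
  have h11 := sq_KK g l D h1K
  have ct1 := comm_KK g l ht h1K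
  have notQ : ∀ e, e ∈ Q → x * e ∉ Q := fun e he h => hxQ (by
    have := Q.mul_mem h (Q.inv_mem he)
    rwa [mul_inv_cancel_right] at this)
  have htt1K := Subgroup.mul_mem _ ht h1K
  by_cases h : x * t1 ∈ A
  · refine ⟨x * (t * t1), Subgroup.mul_mem _ hx htt1K, notQ _ (Q.mul_mem htQ ht1), sw.1 h, ?_,
      ?_, ?_⟩
    · have e : x * (t * t1) * t = x * t1 * (t * t) := by rw [ct1]; simp only [mul_assoc]
      rw [e, htt, mul_one]; exact h
    · have e : x * (t * t1) * t1 = x * t * (t1 * t1) := by group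
      rw [e, h11, mul_one]; exact hxt
    · have e : x * (t * t1) * (t * t1) = x * (t * t) * (t1 * t1) := by
        calc x * (t * t1) * (t * t1) = x * (t * t1) * (t1 * t) := by rw [ct1]
          _ = x * t * (t1 * t1) * t := by group
          _ = _ := by rw [h11]; group
      rw [e, htt, h11, mul_one, mul_one]; exact hxA
  · have h' : x * t1 ∈ Z :=
      (C.not_A_iff g l (Subgroup.mul_mem _ hx h1K) (notQ _ ht1)).1 h
    have h'' : x * (t * t1) ∈ A := by
      by_contra hn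
      exact h (sw.2 ((C.not_A_iff g l (Subgroup.mul_mem _ hx htt1K)
        (notQ _ (Q.mul_mem htQ ht1))).1 hn))
    refine ⟨x * t1, Subgroup.mul_mem _ hx h1K, notQ _ ht1, h', ?_, ?_, ?_⟩
    · have e : x * t1 * t = x * (t * t1) := by rw [ct1]; group
      rw [e]; exact h''
    · have e : x * t1 * t1 = x * (t1 * t1) := by group
      rw [e, h11, mul_one]; exact hxA
    · have e : x * t1 * (t * t1) = x * t * (t1 * t1) := by
        calc x * t1 * (t * t1) = x * t1 * (t1 * t) := by rw [ct1]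
          _ = x * (t1 * t1) * t := by group
          _ = _ := by rw [h11]; group
      rw [e, h11, mul_one]; exact hxt

end

end Cfsg.Agent.R08.ThreePairs
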