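import Cfsg.Agent.R08.Iface
import Cfsg.Agent.R08.ModVec

/-!
# R08 (S1715), step (2): finite facts about `s0 = (1,1,1,1,0,0)` (helper778)

Vectors of `F4 ^ 6` are coded by `C6`; everything is decided by kernel loops.
-/

set_option autoImplicit false

namespace Cfsg.Agent.R08.TwoFin

open Cfsg.Agent.SporRec.GF4 Cfsg.Agent.R08.Iface

/-- the six-dimensional space -/
abbrev W : Type := Fin 6 → F4

/-! ### the two versions of the definitions -/

theorem wt_eq (v : W) : wt v = ModVec.wt v := by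
  unfold wt ModVec.wt
  congr

theorem isR_iff (v : W) : IsR v ↔ ModVec.IsR v := by
  unfold IsR ModVec.IsR
  rw [wt_eq]

theorem isS_iff (v : W) : IsS v ↔ ModVec.IsS v := by
  unfold IsS ModVec.IsS
  rw [wt_eq]

theorem H_eq (u v : W) : H u v = ModVec.herm u v := rfl

/-! ### codes -/

/-- codes of vectors -/
structure C6 where
  a : F4
  b : F4
  c : F4
  d : F4
  e : F4
  f : F4

/-- the vector of a code -/
def C6.toW (x : C6) : W := ![x.a, x.b, x.c, x.d, x.e, x.f]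

/-- the code of a vector -/
def code (v : W) : C6 := ⟨v 0, v 1, v 2, v 3, v 4, v 5⟩

theorem toW_code (v : W) : (code v).toW = v := by
  funext i
  fin_cases i <;> rfl

/-- the form on codes -/
def hC (x y : C6) : F4 :=
  F4.add' (F4.add' (F4.add' (F4.add' (F4.add' (F4.mul' x.a (ModVec.cj y.a))
    (F4.mul' x.b (ModVec.cj y.b))) (F4.mul' x.c (ModVec.cj y.c))) (F4.mul' x.d (ModVec.cj y.d)))
    (F4.mul' x.e (ModVec.cj y.e))) (F4.mul' x.f (ModVec.cj y.f))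

theorem H_toW (x y : C6) : H x.toW y.toW = hC x y := by
  rw [H_eq, ModVec.herm_eq]
  rfl

/-- membership in `R` on codes -/
def rC (x : C6) : Bool :=
  let n := ModVec.nz x.a + ModVec.nz x.b + ModVec.nz x.c + ModVec.nz x.d + ModVec.nz x.e +
    ModVec.nz x.f
  Nat.beq n 2 || (Nat.beq n 6 && (match F4.mul' (F4.mul' (F4.mul' (F4.mul' (F4.mul' x.a x.b) x.c)
    x.d) x.e) x.f with | .o => true | _ => false))

theorem rC_iff (x : C6) : IsR x.toW ↔ rC x = true := by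
  rw [isR_iff]
  unfold ModVec.IsR rC
  rw [ModVec.wt_eq, ModVec.prod_eq]
  have e0 : x.toW 0 = x.a := rfl
  have e1 : x.toW 1 = x.b := rfl
  have e2 : x.toW 2 = x.c := rfl
  have e3 : x.toW 3 = x.d := rfl
  have e4 : x.toW 4 = x.e := rfl
  have e5 : x.toW 5 = x.f := rfl
  rw [e0, e1, e2, e3, e4, e5]
  simp only [Bool.or_eq_true, Bool.and_eq_true, Nat.beq_eq]
  have h : ∀ t : F4, t = 1 ↔ (match t with | .o => true | _ => false) = true := by
    intro t; cases t <;> decide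
  have e : x.a * x.b * x.c * x.d * x.e * x.f =
    F4.mul' (F4.mul' (F4.mul' (F4.mul' (F4.mul' x.a x.b) x.c) x.d) x.e) x.f := rfl
  rw [← e, ← h]

/-- loop -/
def allC (p : C6 → Bool) : Bool := ModVec.allW fun a b c d e f => p ⟨a, b, c, d, e, f⟩

theorem of_allC {p : C6 → Bool} (h : allC p = true) (x : C6) : p x = true :=
  ModVec.of_allW h x.toW

/-- is zero -/
def isz : F4 → Bool
  | .z => true
  | _ => false

theorem isz_iff (a : F4) : isz a = true ↔ a = 0 := by cases a <;> decide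

/-- the vector `s0` -/
def cs0 : C6 := ⟨.o, .o, .o, .o, .z, .z⟩

def inFs (x : C6) : Bool :=
  isz x.e && isz x.f && isz (F4.add' x.a x.b) && isz (F4.add' x.a x.c) && isz (F4.add' x.a x.d)

/-- pairs for the separation lemma -/
def pairs : List (C6 × C6) :=
  [(⟨.z, .z, .z, .z, .o, .o⟩, ⟨.z, .z, .o, .o, .z, .z⟩),
   (⟨.z, .z, .o, .o, .z, .z⟩, ⟨.z, .z, .z, .z, .o, .o⟩),
   (⟨.z, .z, .z, .z, .o, .o⟩, ⟨.z, .o, .z, .o, .z, .z⟩),
   (⟨.z, .z, .z, .z, .o, .o⟩, ⟨.z, .o, .o, .z, .z, .z⟩),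
   (⟨.z, .o, .z, .o, .z, .z⟩, ⟨.z, .z, .z, .z, .o, .w⟩),
   (⟨.z, .z, .o, .o, .z, .z⟩, ⟨.z, .z, .z, .z, .o, .v⟩),
   (⟨.z, .z, .z, .z, .o, .w⟩, ⟨.z, .z, .o, .o, .z, .z⟩),
   (⟨.z, .z, .z, .z, .o, .o⟩, ⟨.o, .z, .z, .o, .z, .z⟩),
   (⟨.z, .z, .z, .z, .o, .o⟩, ⟨.o, .z, .o, .z, .z, .z⟩),
   (⟨.z, .z, .z, .z, .o, .o⟩, ⟨.o, .o, .z, .z, .z, .z⟩),
   (⟨.z, .z, .z, .z, .o, .o⟩, ⟨.o, .o, .w, .w, .v, .v⟩),
   (⟨.z, .z, .z, .z, .o, .o⟩, ⟨.o, .w, .o, .w, .v, .v⟩),
   (⟨.z, .z, .z, .z, .o, .o⟩, ⟨.o, .w, .w, .o, .v, .v⟩),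
   (⟨.o, .z, .z, .o, .z, .z⟩, ⟨.z, .z, .z, .z, .o, .o⟩)]

theorem sep_check : allC (fun x => inFs x || pairs.any fun p => !isz (hC x p.1) && isz (hC x p.2))
    = true := by
  decide +kernel

/-- sum of codes -/
def addC (x y : C6) : C6 := ⟨F4.add' x.a y.a, F4.add' x.b y.b, F4.add' x.c y.c, F4.add' x.d y.d,
  F4.add' x.e y.e, F4.add' x.f y.f⟩

/-- multiples of codes -/
def smC (k : F4) (x : C6) : C6 := ⟨F4.mul' k x.a, F4.mul' k x.b, F4.mul' k x.c, F4.mul' k x.d,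
  F4.mul' k x.e, F4.mul' k x.f⟩

theorem toW_add (x y : C6) : (addC x y).toW = x.toW + y.toW := by
  funext i; fin_cases i <;> rfl

theorem toW_smul (k : F4) (x : C6) : (smC k x).toW = k • x.toW := by
  funext i; fin_cases i <;> rfl

/-- the `S`-vector `(1,1,1,1,0,0)` -/
def s0 : W := cs0.toW

/-- `r ∈ R`, `r ⊥ s`, `r + s ∈ R` -/
def InT (s r : W) : Prop := IsR r ∧ H r s = 0 ∧ IsR (r + s)

/-- the set `D_s` -/
def InD (s w : W) : Prop := ∀ r, InT s r → H w r = 0 ∨ H w r = 1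

/-- the multiples of `s` -/
def InF (s w : W) : Prop := ∃ k : F4, w = k • s

def tC (x : C6) : Bool := rC x && isz (hC x cs0) && rC (addC x cs0)

theorem tC_iff (x : C6) : InT s0 x.toW ↔ tC x = true := by
  unfold InT tC s0
  rw [H_toW, ← toW_add, rC_iff, rC_iff, Bool.and_eq_true, Bool.and_eq_true, isz_iff, and_assoc]

theorem inFs_iff (x : C6) : InF s0 x.toW ↔ inFs x = true := by
  obtain ⟨a, b, c, d, e, f⟩ := x
  constructor
  · rintro ⟨k, hk⟩
    have h0 : a = k * .o := congrFun hk 0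
    have h1 : b = k * .o := congrFun hk 1
    have h2 : c = k * .o := congrFun hk 2
    have h3 : d = k * .o := congrFun hk 3
    have h4 : e = k * .z := congrFun hk 4
    have h5 : f = k * .z := congrFun hk 5
    rw [h0, h1, h2, h3, h4, h5]
    cases k <;> rfl
  · intro h
    simp only [inFs, Bool.and_eq_true, isz_iff] at h
    obtain ⟨⟨⟨⟨h4, h5⟩, h1⟩, h2⟩, h3⟩ := h
    refine ⟨a, ?_⟩
    have key : ∀ u u' : F4, F4.add' u u' = 0 → u' = u * .o := by
      intro u u'; cases u <;> cases u' <;> decide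
    have h6 : ∀ u : F4, u * .z = 0 := by intro u; cases u <;> rfl
    funext i
    fin_cases i
    · show a = a * .o
      cases a <;> rfl
    · exact key _ _ h1
    · exact key _ _ h2
    · exact key _ _ h3
    · show e = a * .z
      rw [h6]; exact h4
    · show f = a * .z
      rw [h6]; exact h5

/-- separation -/
theorem sep0 (d : W) (hd : ¬ InF s0 d) : ∃ r r', IsR r ∧ IsR r' ∧ H r s0 = 0 ∧ H r' s0 = 0 ∧
    H r r' = 0 ∧ H d r ≠ 0 ∧ H d r' = 0 := by
  rw [← toW_code d] at hd ⊢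
  generalize code d = x at *
  rw [inFs_iff] at hd
  have h1 := of_allC sep_check x
  rw [Bool.or_eq_true] at h1
  replace h1 := h1.resolve_left hd
  simp only [List.any_eq_true, Bool.and_eq_true,
    Bool.not_eq_true', Bool.eq_false_iff, Ne, isz_iff] at h1
  obtain ⟨p, hp, h2, h3⟩ := h1
  have hall : (pairs.all fun p => rC p.1 && rC p.2 && isz (hC p.1 cs0) && isz (hC p.2 cs0) &&
      isz (hC p.1 p.2)) = true := by decide +kernel
  have h4 := List.all_eq_true.1 hall p hp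
  simp only [Bool.and_eq_true, isz_iff] at h4
  obtain ⟨⟨⟨⟨h5, h6⟩, h7⟩, h8⟩, h9⟩ := h4
  refine ⟨p.1.toW, p.2.toW, (rC_iff _).2 h5, (rC_iff _).2 h6, ?_, ?_, ?_, ?_, ?_⟩
  · unfold s0; rw [H_toW]; exact h7
  · unfold s0; rw [H_toW]; exact h8
  · rw [H_toW]; exact h9
  · rw [H_toW]; exact h2
  · rw [H_toW]; exact h3

/-- the set `T_{s0}` -/
def T30 : List C6 :=
  [⟨.z, .z, .z, .z, .o, .o⟩,
   ⟨.z, .z, .z, .z, .w, .v⟩,
   ⟨.z, .z, .z, .z, .v, .w⟩,
   ⟨.z, .z, .o, .o, .z, .z⟩,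
   ⟨.z, .o, .z, .o, .z, .z⟩,
   ⟨.z, .o, .o, .z, .z, .z⟩,
   ⟨.o, .z, .z, .o, .z, .z⟩,
   ⟨.o, .z, .o, .z, .z, .z⟩,
   ⟨.o, .o, .z, .z, .z, .z⟩,
   ⟨.o, .o, .o, .o, .o, .o⟩,
   ⟨.o, .o, .o, .o, .w, .v⟩,
   ⟨.o, .o, .o, .o, .v, .w⟩,
   ⟨.w, .w, .v, .v, .o, .o⟩,
   ⟨.w, .w, .v, .v, .w, .v⟩,
   ⟨.w, .w, .v, .v, .v, .w⟩,
   ⟨.w, .v, .w, .v, .o, .o⟩,
   ⟨.w, .v, .w, .v, .w, .v⟩,
   ⟨.w, .v, .w, .v, .v, .w⟩,
   ⟨.w, .v, .v, .w, .o, .o⟩,
   ⟨.w, .v, .v, .w, .w, .v⟩,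
   ⟨.w, .v, .v, .w, .v, .w⟩,
   ⟨.v, .w, .w, .v, .o, .o⟩,
   ⟨.v, .w, .w, .v, .w, .v⟩,
   ⟨.v, .w, .w, .v, .v, .w⟩,
   ⟨.v, .w, .v, .w, .o, .o⟩,
   ⟨.v, .w, .v, .w, .w, .v⟩,
   ⟨.v, .w, .v, .w, .v, .w⟩,
   ⟨.v, .v, .w, .w, .o, .o⟩,
   ⟨.v, .v, .w, .w, .w, .v⟩,
   ⟨.v, .v, .w, .w, .v, .w⟩]

/-- equality of codes -/
def eqC (x y : C6) : Bool :=
  isz (F4.add' x.a y.a) && isz (F4.add' x.b y.b) && isz (F4.add' x.c y.c) &&
    isz (F4.add' x.d y.d) && isz (F4.add' x.e y.e) && isz (F4.add' x.f y.f)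

theorem eq_of_eqC {x y : C6} (h : eqC x y = true) : x = y := by
  obtain ⟨a, b, c, d, e, f⟩ := x
  obtain ⟨a', b', c', d', e', f'⟩ := y
  simp only [eqC, Bool.and_eq_true, isz_iff] at h
  obtain ⟨⟨⟨⟨⟨h0, h1⟩, h2⟩, h3⟩, h4⟩, h5⟩ := h
  have key : ∀ u u' : F4, F4.add' u u' = 0 → u = u' := by
    intro u u'; cases u <;> cases u' <;> decide
  rw [key _ _ h0, key _ _ h1, key _ _ h2, key _ _ h3, key _ _ h4, key _ _ h5]

theorem T_check : allC (fun x => !tC x || T30.any (eqC x)) = true := by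
  decide +kernel

theorem T30_all : T30.all tC = true := by decide +kernel

theorem mem_T30 {r : W} (h : InT s0 r) : ∃ x ∈ T30, r = x.toW := by
  rw [← toW_code r] at h ⊢
  generalize code r = x at *
  rw [tC_iff] at h
  have h1 := of_allC T_check x
  simp only [h, Bool.not_true, Bool.false_or, List.any_eq_true] at h1
  obtain ⟨y, hy, h2⟩ := h1
  exact ⟨y, hy, by rw [eq_of_eqC h2]⟩

theorem inT_of_mem {x : C6} (h : x ∈ T30) : InT s0 x.toW :=
  (tC_iff x).2 (List.all_eq_true.1 T30_all x h)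

theorem isOne_iff (a : F4) : isz (F4.add' a .o) = true ↔ a = 1 := by cases a <;> decide

theorem form_check : (T30.all fun x => T30.all fun y => isz (hC x y) || isz (F4.add' (hC x y) .o))
    = true := by decide +kernel

/-- `H` takes values in `{0, 1}` on `T_{s0}` -/
theorem T_form0 {r r' : W} (h : InT s0 r) (h' : InT s0 r') : H r r' = 0 ∨ H r r' = 1 := by
  obtain ⟨x, hx, rfl⟩ := mem_T30 h
  obtain ⟨y, hy, rfl⟩ := mem_T30 h'
  have h1 := List.all_eq_true.1 (List.all_eq_true.1 form_check x hx) y hy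
  rw [Bool.or_eq_true, isz_iff, isOne_iff] at h1
  rw [H_toW]; exact h1

theorem conn_check : (T30.all fun x => T30.all fun y => eqC x y || eqC (addC x cs0) y ||
    !isz (hC x y) || T30.any fun t => !isz (hC x t) && !isz (hC t y)) = true := by decide +kernel

/-- connectivity of `T_{s0}` under nonorthogonality -/
theorem T_conn0 {r r' : W} (h : InT s0 r) (h' : InT s0 r') : r' = r ∨ r' = r + s0 ∨ H r r' = 1 ∨
    ∃ t, InT s0 t ∧ H r t = 1 ∧ H t r' = 1 := by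
  have hh : ∀ {u u' : W}, InT s0 u → InT s0 u' → H u u' ≠ 0 → H u u' = 1 :=
    fun h1 h2 h3 => (T_form0 h1 h2).resolve_left h3
  have hr := h
  have hr' := h'
  obtain ⟨x, hx, rfl⟩ := mem_T30 h
  obtain ⟨y, hy, rfl⟩ := mem_T30 h'
  have h1 := List.all_eq_true.1 (List.all_eq_true.1 conn_check x hx) y hy
  rw [Bool.or_eq_true, Bool.or_eq_true, Bool.or_eq_true] at h1
  rcases h1 with ((h1 | h1) | h1) | h1
  · left; rw [eq_of_eqC h1]
  · right; left; rw [← eq_of_eqC h1, toW_add]; rfl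
  · right; right; left
    apply hh hr hr'
    rw [H_toW]
    rwa [Bool.not_eq_true', Bool.eq_false_iff, Ne, isz_iff] at h1
  · right; right; right
    rw [List.any_eq_true] at h1
    obtain ⟨t, ht, h2⟩ := h1
    simp only [Bool.and_eq_true, Bool.not_eq_true', Bool.eq_false_iff, Ne, isz_iff] at h2
    refine ⟨t.toW, inT_of_mem ht, hh hr (inT_of_mem ht) ?_, hh (inT_of_mem ht) hr' ?_⟩
    · rw [H_toW]; exact h2.1
    · rw [H_toW]; exact h2.2

/-- membership in `D_{s0}` -/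
def dC (x : C6) : Bool := T30.all fun t => isz (hC x t) || isz (F4.add' (hC x t) .o)

theorem dC_iff (x : C6) : InD s0 x.toW ↔ dC x = true := by
  constructor
  · intro h
    rw [dC, List.all_eq_true]
    intro t ht
    have := h _ (inT_of_mem ht)
    rw [H_toW] at this
    rw [Bool.or_eq_true, isz_iff, isOne_iff]
    exact this
  · intro h r hr
    obtain ⟨t, ht, rfl⟩ := mem_T30 hr
    have := List.all_eq_true.1 h t ht
    rw [Bool.or_eq_true, isz_iff, isOne_iff] at this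
    rw [H_toW]; exact this

theorem coset_check : allC (fun x => !dC x || inFs x || tC x || tC (addC x cs0) ||
    tC (addC x (smC .w cs0)) || tC (addC x (smC .v cs0))) = true := by
  decide +kernel

/-- every element of `D_{s0}` outside `F s0` is a member of `T_{s0}` up to `F s0` -/
theorem coset0 {w : W} (h : InD s0 w) (hn : ¬ InF s0 w) : ∃ k : F4, InT s0 (w + k • s0) := by
  rw [← toW_code w] at h hn ⊢
  generalize code w = x at *
  rw [dC_iff] at h
  rw [inFs_iff] at hn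
  have h1 := of_allC coset_check x
  have e : ∀ k : F4, x.toW + k • s0 = (addC x (smC k cs0)).toW := by
    intro k; rw [toW_add, toW_smul]; rfl
  simp only [e, tC_iff]
  rw [Bool.or_eq_true, Bool.or_eq_true, Bool.or_eq_true, Bool.or_eq_true, Bool.or_eq_true] at h1
  rcases h1 with ((((h1 | h1) | h1) | h1) | h1) | h1
  · rw [h] at h1; exact absurd h1 (by decide)
  · exact absurd h1 hn
  · refine ⟨.z, ?_⟩
    have : addC x (smC .z cs0) = x := by
      clear e h hn h1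
      obtain ⟨a, b, c, d, e, f⟩ := x
      have h0 : ∀ a : F4, F4.add' a .z = a := by intro a; cases a <;> rfl
      show C6.mk (F4.add' a .z) (F4.add' b .z) (F4.add' c .z) (F4.add' d .z) (F4.add' e .z)
        (F4.add' f .z) = _
      rw [h0, h0, h0, h0, h0, h0]
    rw [this]; exact h1
  · exact ⟨.o, h1⟩
  · exact ⟨.w, h1⟩
  · exact ⟨.v, h1⟩

end Cfsg.Agent.R08.TwoFin
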