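import Cfsg.Agent.R08.TwoFin

/-!
# R08 (S1715), step (2): more finite facts (helper778)
-/

set_option autoImplicit false

namespace Cfsg.Agent.R08.TwoFin

open Cfsg.Agent.SporRec.GF4 Cfsg.Agent.R08.Iface

/-! ### algebra of the form -/

theorem H_add_left (u u' v : W) : H (u + u') v = H u v + H u' v := ModVec.herm_add_left u u' v

theorem H_add_right (u v v' : W) : H u (v + v') = H u v + H u v' := ModVec.herm_add_right u v v'

theorem H_smul_left (a : F4) (u v : W) : H (a • u) v = a * H u v := ModVec.herm_smul_left a u v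

theorem H_smul_right (a : F4) (u v : W) : H u (a • v) = ModVec.cj a * H u v :=
  ModVec.herm_smul_right a u v

theorem H_symm (u v : W) : H v u = ModVec.cj (H u v) := ModVec.herm_symm u v

theorem H_zero_symm {u v : W} : H u v = 0 ↔ H v u = 0 := ModVec.herm_eq_zero_symm

theorem H_zero_left (v : W) : H 0 v = 0 := ModVec.herm_zero_left v

theorem H_zero_right (v : W) : H v 0 = 0 := ModVec.herm_zero_right v

theorem H_nondeg {u : W} (h : ∀ v, H u v = 0) : u = 0 := ModVec.herm_nondeg h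

theorem H_one_symm {u v : W} : H u v = 1 ↔ H v u = 1 := by
  have key : ∀ a : F4, a = 1 ↔ ModVec.cj a = 1 := by intro a; cases a <;> decide
  rw [key, ← H_symm]

theorem two (w : W) : w + w = 0 := ModVec.W_add_self w

theorem add_eq_zero {u v : W} : u + v = 0 ↔ u = v := by
  constructor
  · intro h
    have : u + v + v = v := by rw [h, zero_add]
    rwa [add_assoc, two, add_zero] at this
  · rintro rfl; exact two u

/-! ### isotropic vectors -/

/-- membership in `S` on codes -/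
def sC (x : C6) : Bool :=
  let n := ModVec.nz x.a + ModVec.nz x.b + ModVec.nz x.c + ModVec.nz x.d + ModVec.nz x.e +
    ModVec.nz x.f
  Nat.beq n 4 || (Nat.beq n 6 && (match F4.mul' (F4.mul' (F4.mul' (F4.mul' (F4.mul' x.a x.b) x.c)
    x.d) x.e) x.f with | .o => false | _ => true))

theorem sC_iff (x : C6) : IsS x.toW ↔ sC x = true := by
  rw [isS_iff]
  unfold ModVec.IsS sC
  rw [ModVec.wt_eq, ModVec.prod_eq]
  have e0 : x.toW 0 = x.a := rfl
  have e1 : x.toW 1 = x.b := rfl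
  have e2 : x.toW 2 = x.c := rfl
  have e3 : x.toW 3 = x.d := rfl
  have e4 : x.toW 4 = x.e := rfl
  have e5 : x.toW 5 = x.f := rfl
  rw [e0, e1, e2, e3, e4, e5]
  simp only [Bool.or_eq_true, Bool.and_eq_true, Nat.beq_eq]
  have h : ∀ t : F4, t ≠ 1 ↔ (match t with | .o => false | _ => true) = true := by
    intro t; cases t <;> decide
  have e : x.a * x.b * x.c * x.d * x.e * x.f =
    F4.mul' (F4.mul' (F4.mul' (F4.mul' (F4.mul' x.a x.b) x.c) x.d) x.e) x.f := rfl
  rw [← e, ← h]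

def zC (x : C6) : Bool := isz x.a && isz x.b && isz x.c && isz x.d && isz x.e && isz x.f

theorem zC_iff (x : C6) : x.toW = 0 ↔ zC x = true := by
  obtain ⟨a, b, c, d, e, f⟩ := x
  simp only [zC, Bool.and_eq_true, isz_iff]
  constructor
  · intro h
    exact ⟨⟨⟨⟨⟨congrFun h 0, congrFun h 1⟩, congrFun h 2⟩, congrFun h 3⟩, congrFun h 4⟩,
      congrFun h 5⟩
  · rintro ⟨⟨⟨⟨⟨h0, h1⟩, h2⟩, h3⟩, h4⟩, h5⟩
    subst h0 h1 h2 h3 h4 h5
    funext i
    fin_cases i <;> rfl

theorem iso_check : allC (fun x => (isz (hC x x) && !zC x && (rC x ^^ sC x)) ||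
    ((!isz (hC x x) || zC x) && !rC x && !sC x)) = true := by
  decide +kernel

theorem iso_aux (w : W) : (H w w = 0 ∧ w ≠ 0 ∧ (IsR w ∧ ¬ IsS w ∨ ¬ IsR w ∧ IsS w)) ∨
    ((H w w ≠ 0 ∨ w = 0) ∧ ¬ IsR w ∧ ¬ IsS w) := by
  rw [← toW_code w]
  generalize code w = x
  simp only [rC_iff, sC_iff, H_toW, zC_iff, ← isz_iff, Ne]
  have h := of_allC iso_check x
  revert h
  cases isz (hC x x) <;> cases zC x <;> cases rC x <;> cases sC x <;> decide

theorem isR_iso {w : W} (h : IsR w) : H w w = 0 := by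
  rcases iso_aux w with h1 | h1
  · exact h1.1
  · exact absurd h h1.2.1

theorem isS_iso {w : W} (h : IsS w) : H w w = 0 := by
  rcases iso_aux w with h1 | h1
  · exact h1.1
  · exact absurd h h1.2.2

theorem isR_ne {w : W} (h : IsR w) : w ≠ 0 := by
  rcases iso_aux w with h1 | h1
  · exact h1.2.1
  · exact absurd h h1.2.1

theorem isS_ne {w : W} (h : IsS w) : w ≠ 0 := by
  rcases iso_aux w with h1 | h1
  · exact h1.2.1
  · exact absurd h h1.2.2

theorem isR_or_isS {w : W} (h : H w w = 0) (h0 : w ≠ 0) : IsR w ∨ IsS w := by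
  rcases iso_aux w with h1 | h1
  · rcases h1.2.2 with h2 | h2
    · exact Or.inl h2.1
    · exact Or.inr h2.2
  · rcases h1.1 with h2 | h2
    · exact absurd h h2
    · exact absurd h2 h0

theorem not_isS {w : W} (h : IsR w) : ¬ IsS w := by
  rcases iso_aux w with h1 | h1
  · rcases h1.2.2 with h2 | h2
    · exact h2.2
    · exact absurd h h2.1
  · exact h1.2.2

theorem not_isR {w : W} (h : IsS w) : ¬ IsR w := fun h' => not_isS h' h

theorem wt_smul {k : F4} (hk : k ≠ 0) (w : W) : wt (k • w) = wt w := by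
  unfold wt
  congr 1
  ext i
  simp [hk]

theorem prod_smul {k : F4} (hk : k ≠ 0) (w : W) : ∏ i, (k • w) i = ∏ i, w i := by
  rw [Fin.prod_univ_six, Fin.prod_univ_six]
  simp only [Pi.smul_apply, smul_eq_mul]
  have : k * w 0 * (k * w 1) * (k * w 2) * (k * w 3) * (k * w 4) * (k * w 5) =
    k * k * k * (k * k * k) * (w 0 * w 1 * w 2 * w 3 * w 4 * w 5) := by ring
  rw [this]
  have h3 : k * k * k = 1 := by revert hk; cases k <;> decide
  rw [h3]; ring

theorem isR_smul {k : F4} (hk : k ≠ 0) (w : W) : IsR (k • w) ↔ IsR w := by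
  unfold IsR
  rw [wt_smul hk, prod_smul hk]

theorem isS_smul {k : F4} (hk : k ≠ 0) (w : W) : IsS (k • w) ↔ IsS w := by
  unfold IsS
  rw [wt_smul hk, prod_smul hk]

theorem isS_s0 : IsS s0 := (sC_iff cs0).2 (by decide +kernel)

/-! ### more about `T` and `D` -/

theorem third_check : (T30.all fun x => T30.all fun y => isz (hC x y) || rC (addC x y)) = true := by
  decide +kernel

/-- third point rule on `T_{s0}` -/
theorem T_third0 {r r' : W} (h : InT s0 r) (h' : InT s0 r') (h1 : H r r' = 1) : IsR (r + r') := by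
  obtain ⟨x, hx, rfl⟩ := mem_T30 h
  obtain ⟨y, hy, rfl⟩ := mem_T30 h'
  have h2 := List.all_eq_true.1 (List.all_eq_true.1 third_check x hx) y hy
  rw [Bool.or_eq_true, isz_iff] at h2
  rw [← toW_add, rC_iff]
  refine h2.resolve_left fun h3 => ?_
  rw [H_toW, h3] at h1
  exact absurd h1 (by decide)

theorem ti_check : (T30.all fun x => T30.all fun y => !isz (hC x y) || !rC (addC x y) ||
    eqC (addC x cs0) y) = true := by
  decide +kernel

/-- orthogonal members of `T_{s0}`: the sum is not in `R` (unless it is `s0`... then it is in `S`). -/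
theorem T_ti0 {r r' : W} (h : InT s0 r) (h' : InT s0 r') (h1 : H r r' = 0) : ¬ IsR (r + r') := by
  obtain ⟨x, hx, rfl⟩ := mem_T30 h
  obtain ⟨y, hy, rfl⟩ := mem_T30 h'
  intro hR
  have h2 := List.all_eq_true.1 (List.all_eq_true.1 ti_check x hx) y hy
  rw [Bool.or_eq_true, Bool.or_eq_true] at h2
  rcases h2 with (h2 | h2) | h2
  · rw [Bool.not_eq_true', Bool.eq_false_iff, Ne, isz_iff] at h2
    rw [H_toW] at h1
    exact h2 h1
  · rw [Bool.not_eq_true', Bool.eq_false_iff, Ne, ← rC_iff, toW_add] at h2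
    exact h2 hR
  · have : y.toW = x.toW + s0 := by rw [← eq_of_eqC h2, toW_add]; rfl
    rw [this, ← add_assoc, two, zero_add] at hR
    exact not_isR isS_s0 hR

theorem nd_check : (T30.all fun x => T30.any fun y => !isz (hC x y)) = true := by
  decide +kernel

theorem T_nondeg0 {r : W} (h : InT s0 r) : ∃ r', InT s0 r' ∧ H r r' = 1 := by
  have hr := h
  obtain ⟨x, hx, rfl⟩ := mem_T30 h
  have h2 := List.all_eq_true.1 nd_check x hx
  rw [List.any_eq_true] at h2
  obtain ⟨y, hy, h3⟩ := h2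
  refine ⟨y.toW, inT_of_mem hy, (T_form0 hr (inT_of_mem hy)).resolve_left ?_⟩
  rw [H_toW]
  rwa [Bool.not_eq_true', Bool.eq_false_iff, Ne, isz_iff] at h3

theorem D_nondeg0 {w : W} (h : InD s0 w) (hn : ¬ InF s0 w) : ∃ r, InT s0 r ∧ H w r = 1 := by
  obtain ⟨k, hk⟩ := coset0 h hn
  obtain ⟨r, hr, h1⟩ := T_nondeg0 hk
  refine ⟨r, hr, ?_⟩
  rw [H_add_left, H_smul_left, H_zero_symm.1 hr.2.1, mul_zero, add_zero] at h1
  exact h1

theorem omega_s0 : ∃ r r' r'', InT s0 r ∧ InT s0 r' ∧ InT s0 r'' ∧ F4.w • s0 = r + r' + r'' := by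
  refine ⟨C6.toW ⟨.w, .w, .v, .v, .o, .o⟩, C6.toW ⟨.w, .v, .w, .v, .w, .v⟩,
    C6.toW ⟨.w, .v, .v, .w, .v, .w⟩, (tC_iff _).2 (by decide +kernel),
    (tC_iff _).2 (by decide +kernel), (tC_iff _).2 (by decide +kernel), ?_⟩
  unfold s0
  rw [← toW_smul, ← toW_add, ← toW_add]
  rfl

theorem tau_s0 : ∃ r, IsR r ∧ ¬ IsR (tr s0 r) := by
  refine ⟨C6.toW ⟨.z, .z, .z, .o, .z, .o⟩, (rC_iff _).2 (by decide +kernel), ?_⟩
  have : tr s0 (C6.toW ⟨.z, .z, .z, .o, .z, .o⟩) = C6.toW ⟨.o, .o, .o, .z, .z, .o⟩ := by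
    unfold tr s0
    rw [H_toW, ← toW_smul, ← toW_add]
    rfl
  rw [this, rC_iff]
  decide +kernel

/-! ### spans -/

def b1 : C6 := ⟨.o, .o, .z, .z, .z, .z⟩
def b2 : C6 := ⟨.o, .z, .o, .z, .z, .z⟩
def b3 : C6 := ⟨.o, .z, .z, .o, .z, .z⟩
def b4 : C6 := ⟨.z, .z, .z, .z, .o, .o⟩
def b5 : C6 := ⟨.z, .z, .z, .z, .w, .v⟩
def b6 : C6 := ⟨.z, .z, .o, .o, .z, .z⟩

theorem b1_T : InT s0 b1.toW := (tC_iff _).2 (by decide +kernel)
theorem b2_T : InT s0 b2.toW := (tC_iff _).2 (by decide +kernel)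
theorem b3_T : InT s0 b3.toW := (tC_iff _).2 (by decide +kernel)
theorem b4_T : InT s0 b4.toW := (tC_iff _).2 (by decide +kernel)
theorem b5_T : InT s0 b5.toW := (tC_iff _).2 (by decide +kernel)
theorem b6_T : InT s0 b6.toW := (tC_iff _).2 (by decide +kernel)

theorem span_check : allC (fun x => !isz (hC x cs0) || eqC x (addC (addC (addC (addC (smC x.b b1)
    (smC x.c b2)) (smC x.d b3)) (smC (F4.add' (F4.mul' .v x.e) (F4.mul' .w x.f)) b4))
    (smC (F4.add' x.e x.f) b5))) = true := by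
  decide +kernel

/-- a linear map fixing `T_{s0}` fixes `s0^⊥` -/
theorem span0 {f : W → W} (hadd : ∀ u w, f (u + w) = f u + f w) (hsm : ∀ (a : F4) w, f (a • w) = a • f w)
    (hT : ∀ r, InT s0 r → f r = r) {w : W} (hw : H w s0 = 0) : f w = w := by
  rw [← toW_code w] at hw ⊢
  generalize code w = x at *
  have h1 := of_allC span_check x
  rw [s0, H_toW] at hw
  rw [Bool.or_eq_true, Bool.not_eq_true', Bool.eq_false_iff, Ne, isz_iff] at h1
  have h2 := eq_of_eqC (h1.resolve_left fun h => h hw)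
  rw [h2]
  simp only [toW_add, toW_smul, hadd, hsm, hT _ b1_T, hT _ b2_T, hT _ b3_T, hT _ b4_T, hT _ b5_T]

theorem span_check' : allC (fun x => !isz (hC x cs0) || !isz (hC x b1) || eqC x (addC (addC (addC
    (smC x.b b1) (smC x.d b6)) (smC (F4.add' (F4.mul' .v x.e) (F4.mul' .w x.f)) b4))
    (smC (F4.add' x.e x.f) b5))) = true := by
  decide +kernel

/-- the `R`-vector `(1,1,0,0,0,0)` -/
def r0 : W := b1.toW

/-- a linear map fixing `T_{s0} ∩ r0^⊥` fixes `⟨s0, r0⟩^⊥` -/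
theorem span0' {f : W → W} (hadd : ∀ u w, f (u + w) = f u + f w)
    (hsm : ∀ (a : F4) w, f (a • w) = a • f w)
    (hT : ∀ r, InT s0 r → H r r0 = 0 → f r = r) {w : W} (hw : H w s0 = 0) (hw' : H w r0 = 0) :
    f w = w := by
  rw [← toW_code w] at hw hw' ⊢
  generalize code w = x at *
  have h1 := of_allC span_check' x
  rw [s0, H_toW] at hw
  rw [r0, H_toW] at hw'
  rw [Bool.or_eq_true, Bool.or_eq_true, Bool.not_eq_true', Bool.eq_false_iff, Ne, isz_iff,
    Bool.not_eq_true', Bool.eq_false_iff, Ne, isz_iff] at h1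
  have h2 := eq_of_eqC (h1.resolve_left fun h => h.elim (fun h => h hw) (fun h => h hw'))
  have g1 : H b1.toW r0 = 0 := by rw [r0, H_toW]; rfl
  have g6 : H b6.toW r0 = 0 := by rw [r0, H_toW]; rfl
  have g4 : H b4.toW r0 = 0 := by rw [r0, H_toW]; rfl
  have g5 : H b5.toW r0 = 0 := by rw [r0, H_toW]; rfl
  rw [h2]
  simp only [toW_add, toW_smul, hadd, hsm, hT _ b1_T g1, hT _ b6_T g6, hT _ b4_T g4, hT _ b5_T g5]

end Cfsg.Agent.R08.TwoFin
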