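import Cfsg.Agent.R08.TwoTr
import Cfsg.Agent.LargeExtra.Local

/-!
# R08 (S1715), step (2): `Q ∩ Q_a` for `a ∈ Q` conjugate to `z` (helper778)

`Duo L La`: `L` a labelled group at `z`, `La` at `a`, `a ∈ Q`.  Main results (`s = L.v a`):
* `mem_iff`: for `x ∈ Q`: `x ∈ A ↔ InD s (L.v x)`;
* `p1`, `p2`, `p3`, `p4`, `p5` (see `Sys`);
* `lin_iff`: `c ∈ C_G(z)` acts linearly iff it lies in `M`.
-/

set_option autoImplicit false

namespace Cfsg.Agent.R08.TwoGrp

open Cfsg.Agent.SporRec.GF4 Cfsg.Agent.R08.Iface Cfsg.Agent.R08.TwoFin Cfsg.Agent.R08.TwoTr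
open Cfsg.Agent.Co2Type.Quad Cfsg.Agent.LargeExtra.Base Cfsg.Agent.LargeExtra.Local

variable {G : Type*} [Group G] {Q M : Subgroup G} {z : G}

/-! ### elementary facts -/

theorem ne_one_of_twoB (L : Lab F4 Q M z) {x : G} (h : L.TwoB x) : x ≠ 1 := by
  obtain ⟨g, rfl⟩ := h
  intro h1
  apply L.large.z_ne
  calc z = g⁻¹ * (g * z * g⁻¹) * g := by group
    _ = 1 := by rw [h1]; group

theorem sq_of_twoB (L : Lab F4 Q M z) {x : G} (h : L.TwoB x) : x * x = 1 := by
  obtain ⟨g, rfl⟩ := h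
  calc g * z * g⁻¹ * (g * z * g⁻¹) = g * (z * z) * g⁻¹ := by group
    _ = 1 := by rw [L.large.z_sq]; group

theorem sq_of_twoA (L : Lab F4 Q M z) {x : G} (h : L.TwoA x) : x * x = 1 := by
  obtain ⟨g, h1, h2⟩ := h
  have h3 := (L.sq_iff _ h1).2 (isR_iso h2)
  calc x * x = g * (g⁻¹ * x * g * (g⁻¹ * x * g)) * g⁻¹ := by group
    _ = 1 := by rw [h3]; group

theorem ne_one_of_twoA (L : Lab F4 Q M z) {x : G} (h : L.TwoA x) : x ≠ 1 := by
  obtain ⟨g, h1, h2⟩ := h
  rintro rfl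
  have : g⁻¹ * 1 * g = 1 := by group
  rw [this, L.v_one] at h2
  exact isR_ne h2 rfl

/-- an involution of `Q` other than `z` has an isotropic nonzero label -/
theorem isR_or_isS_of_sq (L : Lab F4 Q M z) {x : G} (hx : x ∈ Q) (h : x * x = 1) (h1 : x ≠ 1)
    (hz : x ≠ z) : IsR (L.v x) ∨ IsS (L.v x) := by
  refine isR_or_isS ((L.sq_iff x hx).1 h) fun h0 => ?_
  rcases (L.v_eq_zero x hx).1 h0 with h2 | h2
  · exact h1 h2
  · exact hz h2

/-- lifting an element of `C_G(z)` fixing the label of `a` to the centraliser of `a` -/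
theorem lift (L : Lab F4 Q M z) {a : G} (ha : a ∈ Q) (ha1 : a ≠ 1) (haz : a ≠ z) {m : G} (hm : m ∈ M)
    (hf : L.ρ m (L.v a) = L.v a) : ∃ c ∈ M, c * a = a * c ∧ ∀ w, L.ρ c w = L.ρ m w := by
  have hmz := L.M_comm m hm
  rw [← L.v_conj m hmz a ha, L.v_eq (L.large.conj_mem m hmz a ha) ha] at hf
  rcases hf with h1 | h1
  · exact ⟨m, hm, mul_inv_eq_iff_eq_mul.1 h1, fun _ => rfl⟩
  · obtain ⟨n, hn, hna⟩ := exists_not_comm L.large ha ha1 haz
    refine ⟨n * m, M.mul_mem (L.Q_le hn) hm, ?_, fun w => ?_⟩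
    · have h2 : m * a = a * z * m := mul_inv_eq_iff_eq_mul.1 h1
      calc n * m * a = n * (m * a) := by group
        _ = n * a * z * m := by rw [h2]; group
        _ = a * n * (z * z) * m := by rw [hna]; group
        _ = a * (n * m) := by rw [L.large.z_sq]; group
    · rw [L.ρ_mul (L.M_comm n (L.Q_le hn)) hmz, L.ρ_mem_Q hn]

/-! ### duos -/

/-- two labelled groups `Q ∋ a`, `A ∋ z` -/
structure Duo (L : Lab F4 Q M z) {A N : Subgroup G} {a : G} (La : Lab F4 A N a) : Prop where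
  pair : Pair Q z A a
  tb : ∀ x, La.TwoB x ↔ L.TwoB x
  ta : ∀ x, La.TwoA x ↔ L.TwoA x
  disj : ∀ x, L.TwoA x → ¬ L.TwoB x

namespace Duo

variable {A N : Subgroup G} {a : G} {L : Lab F4 Q M z} {La : Lab F4 A N a}

theorem symm (d : Duo L La) : Duo La L where
  pair := d.pair.symm
  tb x := (d.tb x).symm
  ta x := (d.ta x).symm
  disj x h h' := d.disj x ((d.ta x).1 h) ((d.tb x).1 h')

theorem twoB_a (d : Duo L La) : L.TwoB a := (d.tb a).1 La.twoB_self

theorem a_ne_one (d : Duo L La) : a ≠ 1 := ne_one_of_twoB L d.twoB_a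

theorem isS (d : Duo L La) : IsS (L.v a) := by
  refine (isR_or_isS_of_sq L d.pair.a_mem (sq_of_twoB L d.twoB_a) d.a_ne_one d.pair.ne).resolve_left
    fun h => ?_
  exact d.disj a (L.twoA_of_isR d.pair.a_mem h) d.twoB_a

theorem az_comm (d : Duo L La) : a * z = z * a := d.pair.comm_za

theorem twoB_of_isS' (d : Duo L La) {x : G} (hx : x ∈ Q) (h : IsS (L.v x)) : L.TwoB x := by
  obtain ⟨m, hm, h1⟩ := L.transS _ _ d.isS h
  have hmz := L.M_comm m hm
  rw [← L.v_conj m hmz a d.pair.a_mem, L.v_eq (L.large.conj_mem m hmz a d.pair.a_mem) hx] at h1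
  have h2 := L.twoB_conj m d.twoB_a
  rcases h1 with h1 | h1
  · rwa [h1] at h2
  · rw [h1] at h2
    have hx0 : L.v x ≠ 0 := isS_ne h
    have hx1 : x ≠ 1 := fun h' => hx0 ((L.v_eq_zero x hx).2 (Or.inl h'))
    have hxz : x ≠ z := fun h' => hx0 ((L.v_eq_zero x hx).2 (Or.inr h'))
    obtain ⟨n, hn, hna⟩ := exists_not_comm L.large hx hx1 hxz
    have h3 := L.twoB_conj n h2
    have e : n * (x * z) * n⁻¹ = x := by
      calc n * (x * z) * n⁻¹ = (n * x) * z * n⁻¹ := by group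
        _ = x * n * (z * z) * n⁻¹ := by rw [hna]; group
        _ = x := by rw [L.large.z_sq]; group
    rwa [e] at h3

/-- an `R`-label of an element of `Q ∩ A` with respect to `z` and to `a` -/
theorem isR_symm (d : Duo L La) {x : G} (hx : x ∈ Q) (hxA : x ∈ A) (h : IsR (L.v x)) :
    IsR (La.v x) := by
  have hA := L.twoA_of_isR hx h
  have hnB := d.disj x hA
  have hxa : x ≠ a := fun h' => hnB (h' ▸ d.twoB_a)
  refine (isR_or_isS_of_sq La hxA (sq_of_twoA L hA) (ne_one_of_twoA L hA) hxa).resolve_right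
    fun h' => hnB ?_
  exact (d.tb x).1 (d.symm.twoB_of_isS' hxA h')

/-- `x ∈ Q ∩ A` with label in `R`: also `x a` has its label in `R`. -/
theorem isR_add (d : Duo L La) {x : G} (hx : x ∈ Q) (hxA : x ∈ A) (h : IsR (L.v x)) :
    IsR (L.v x + L.v a) := by
  have h1 := d.isR_symm hx hxA h
  have h2 : La.v (x * a) = La.v x := by
    rw [La.v_mul x hxA a La.large.z_mem, La.v_z, add_zero]
  have h3 : La.TwoA (x * a) := La.twoA_of_isR (A.mul_mem hxA La.large.z_mem) (by rw [h2]; exact h1)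
  have h4 : L.TwoA (x * a) := (d.ta _).1 h3
  have h5 : x * a ∈ Q := Q.mul_mem hx d.pair.a_mem
  rw [← L.v_mul x hx a d.pair.a_mem]
  refine (isR_or_isS_of_sq L h5 (sq_of_twoA L h4) (ne_one_of_twoA L h4) ?_).resolve_right
    fun h' => d.disj _ h4 (d.twoB_of_isS' h5 h')
  intro h6
  exact d.disj _ h4 (h6 ▸ L.twoB_self)

end Duo

/-! ### counting -/

section count

variable [Finite G]

omit [Finite G] in
/-- `Q / ⟨z⟩` and its labels -/
theorem exists_equiv (L : Lab F4 Q M z) :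
    ∃ e : L.large.V → W, Function.Bijective e ∧ ∀ x : Q, e (L.large.pr x) = L.v x := by
  classical
  have key : ∀ x y : Q, L.large.pr x = L.large.pr y ↔ L.v x = L.v y := by
    intro x y
    rw [L.large.pr_eq_pr, L.v_eq x.2 y.2]
  refine ⟨fun w => L.v (Function.surjInv L.large.pr_surjective w : Q), ⟨?_, ?_⟩, fun x => ?_⟩
  · intro u w h
    have h1 := (key _ _).2 h
    rw [Function.surjInv_eq L.large.pr_surjective u,
      Function.surjInv_eq L.large.pr_surjective w] at h1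
    exact h1
  · intro w
    obtain ⟨x, hx, h⟩ := L.v_surj w
    refine ⟨L.large.pr ⟨x, hx⟩, ?_⟩
    have h1 := Function.surjInv_eq L.large.pr_surjective (L.large.pr ⟨x, hx⟩)
    exact ((key _ _).1 h1).trans h
  · exact (key _ _).1 (Function.surjInv_eq L.large.pr_surjective (L.large.pr x))

theorem card_V (L : Lab F4 Q M z) : Nat.card L.large.V = 2 ^ 12 := by
  obtain ⟨e, he, -⟩ := exists_equiv L
  rw [Nat.card_congr (Equiv.ofBijective e he)]
  rw [Nat.card_fun, Nat.card_eq_fintype_card, Nat.card_eq_fintype_card, F4.card_F4,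
    Fintype.card_fin]
  norm_num

theorem card_Q (L : Lab F4 Q M z) : Nat.card Q = 2 ^ 13 := by
  rw [L.large.card_eq, card_V L]
  norm_num

variable {A N : Subgroup G} {a : G} {L : Lab F4 Q M z} {La : Lab F4 A N a}

/-- some element of `Q ∩ A` has its label outside `F a` -/
theorem Duo.exists_not_inF (d : Duo L La) : ∃ x ∈ Q, x ∈ A ∧ ¬ InF (L.v a) (L.v x) := by
  classical
  by_contra hcon
  push Not at hcon
  have p := d.pair
  have hV : Nat.card p.lz.V = 2 ^ 12 := card_V L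
  have h1 := p.card_X
  rw [hV] at h1
  -- `|D| ≤ 4`
  have hD : Nat.card p.D ≤ 4 := by
    have h4 : Nat.card F4 = 4 := by rw [Nat.card_eq_fintype_card]; exact F4.card_F4
    rw [← h4]
    obtain ⟨e, he, hev⟩ := exists_equiv L
    have hk : ∀ w : p.D, ∃ k : F4, e w = k • L.v a := by
      rintro ⟨w, hw⟩
      obtain ⟨x, hxA, rfl⟩ := hw
      obtain ⟨k, hk⟩ := hcon x x.2 hxA
      exact ⟨k, (hev x).trans hk⟩
    choose f hf using hk
    refine Nat.card_le_card_of_injective f ?_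
    intro u w h
    apply Subtype.ext
    apply he.1
    rw [hf, hf, h]
  have h2 : 2 ^ 9 ≤ Nat.card p.X := by
    by_contra h3
    push Not at h3
    have : Nat.card p.X * Nat.card p.D * 2 < 2 ^ 9 * 4 * 2 := by
      have h5 : Nat.card p.X * Nat.card p.D ≤ Nat.card p.X * 4 := Nat.mul_le_mul_left _ hD
      omega
    omega
  -- `|X|` divides `|C/Q|`
  have h3 : Nat.card p.X ∣ 2 * 9797760 := by
    have h4 := card_img p.lz (B := Subgroup.centralizer ({z} : Set G)) le_rfl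
    have h5 : Subgroup.centralizer ({z} : Set G) ⊓ Q = Q :=
      inf_eq_right.2 fun x hx => Subgroup.mem_centralizer_singleton_iff.2 (L.large.comm_z x hx)
    rw [h5, L.cardC, L.cardM, ← mul_assoc] at h4
    have h6 : Nat.card (img p.lz (Subgroup.centralizer ({z} : Set G))) = 2 * 9797760 :=
      Nat.eq_of_mul_eq_mul_right Nat.card_pos h4
    rw [← h6]
    apply Subgroup.card_dvd_of_le
    rintro f hf
    obtain ⟨c, hc, rfl⟩ := p.mem_X.1 hf
    exact ⟨c, c.2, rfl⟩
  have h4 : Nat.card p.X ∣ 2 ^ 12 := ⟨Nat.card p.D * 2, by rw [← h1]; ring⟩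
  have h5 : Nat.card p.X ∣ Nat.gcd (2 ^ 12) (2 * 9797760) := Nat.dvd_gcd h4 h3
  have h6 : Nat.gcd (2 ^ 12) (2 * 9797760) = 2 ^ 8 := by norm_num
  rw [h6] at h5
  have h7 := Nat.le_of_dvd (by norm_num) h5
  omega

end count

end Cfsg.Agent.R08.TwoGrp
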