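import Cfsg.Agent.R08.TwoPair

/-!
# R08 (S1715), step (2): linearity, `p3`, `p4`, `p5` (helper778)
-/

set_option autoImplicit false

namespace Cfsg.Agent.R08.TwoGrp

open Cfsg.Agent.SporRec.GF4 Cfsg.Agent.R08.Iface Cfsg.Agent.R08.TwoFin Cfsg.Agent.R08.TwoTr
open Cfsg.Agent.Co2Type.Quad Cfsg.Agent.LargeExtra.Base Cfsg.Agent.LargeExtra.Local

variable {G : Type*} [Group G] {Q M : Subgroup G} {z : G}
variable {A N : Subgroup G} {a : G} {L : Lab F4 Q M z} {La : Lab F4 A N a}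

/-! ### linear algebra of the hermitian form -/

theorem exists_one {s : W} (hs : s ≠ 0) : ∃ w, H w s = 1 := by
  by_contra hcon
  push Not at hcon
  apply hs
  apply H_nondeg
  intro v
  by_contra h
  apply hcon ((H v s)⁻¹ • v)
  rw [H_smul_left]
  exact inv_mul_cancel₀ fun h' => h (H_zero_symm.1 h')

/-- `(s^⊥)^⊥ = F s` -/
theorem perp_perp {s u : W} (hs : s ≠ 0) (h : ∀ w, H w s = 0 → H u w = 0) : ∃ k : F4, u = k • s := by
  obtain ⟨w0, h0⟩ := exists_one hs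
  refine ⟨H u w0, ?_⟩
  rw [← add_eq_zero]
  apply H_nondeg
  intro w
  have h1 : H (w + H w s • w0) s = 0 := by
    rw [H_add_left, H_smul_left, h0, mul_one]
    exact ModVec.add_self _
  have h2 := h _ h1
  rw [H_add_right, H_smul_right, ← H_symm, add_comm] at h2
  rw [H_add_left, H_smul_left, add_comm, mul_comm]
  exact h2

/-- linear isometries trivial on `s^⊥` -/
theorem id_or_tr {s : W} (hs : s ≠ 0) (hs0 : H s s = 0) {f : W → W}
    (hadd : ∀ u w, f (u + w) = f u + f w) (hf : IsLin f) (h : ∀ w, H w s = 0 → f w = w) :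
    (∀ w, f w = w) ∨ ∀ w, f w = tr s w := by
  obtain ⟨w0, h0⟩ := exists_one hs
  obtain ⟨k, hk⟩ := perp_perp hs (u := f w0 + w0) (fun w hw => by
    have h1 := hf.form w0 w
    rw [h w hw] at h1
    rw [H_add_left, h1]
    exact ModVec.add_self _)
  have hfw0 : f w0 = w0 + k • s := by
    rw [← hk, add_comm (f w0), ← add_assoc, two, zero_add]
  have hk2 : ModVec.cj k + k = 0 := by
    have h1 := hf.form w0 w0
    rw [hfw0, H_add_left, H_add_right, H_smul_right, h0, H_smul_left, H_add_right, H_smul_right,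
      H_one_symm.1 h0, hs0, mul_zero, add_zero, mul_one, mul_one, add_assoc] at h1
    exact add_eq_left.1 h1
  have hall : ∀ w, f w = w + (H w s * k) • s := by
    intro w
    have h1 : H (w + H w s • w0) s = 0 := by
      rw [H_add_left, H_smul_left, h0, mul_one]
      exact ModVec.add_self _
    have e : w = (w + H w s • w0) + H w s • w0 := by rw [add_assoc, two, add_zero]
    have e2 : f w = (w + H w s • w0) + H w s • f w0 := by
      conv_lhs => rw [e]
      rw [hadd, h _ h1, hf.smul]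
    rw [e2, hfw0, smul_add, ← add_assoc, ← e, smul_smul]
  have key : k = 0 ∨ k = 1 := by revert hk2; cases k <;> decide
  rcases key with rfl | rfl
  · left
    intro w
    rw [hall, mul_zero, zero_smul, add_zero]
  · right
    intro w
    rw [hall, mul_one]; rfl

namespace Duo

variable [Finite G]

/-- the auxiliary element of `B = v⁻¹(F s)` -/
theorem exists_b (d : Duo L La) : ∃ b ∈ Q, b ∈ A ∧ L.v b = F4.w • L.v a := by
  obtain ⟨b, hb, hbv⟩ := L.v_surj (F4.w • L.v a)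
  exact ⟨b, hb, d.mem_of_F hb ⟨_, hbv⟩, hbv⟩

theorem w_smul_ne {s : W} (hs : s ≠ 0) : F4.w • s ≠ s := by
  intro h
  have h1 : (F4.w + 1 : F4) • s = 0 := by rw [add_smul, one_smul, h, two]
  rcases smul_eq_zero.1 h1 with h2 | h2
  · exact absurd h2 (by decide)
  · exact hs h2

/-- an element of `C_A(z)` which is not linear -/
theorem exists_not_lin (d : Duo L La) : ∃ y ∈ A, y * z = z * y ∧ ¬ IsLin (L.ρ y) := by
  obtain ⟨b, hb, hbA, hbv⟩ := d.exists_b
  obtain ⟨u, hu⟩ := exists_one (isS_ne d.isS)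
  obtain ⟨q, hq, rfl⟩ := L.v_surj u
  obtain ⟨y, hy, hyz, h⟩ := d.exists_transv hq ((L.comm_iff q hq a d.pair.a_mem).2 (Or.inr hu))
  refine ⟨y, hy, hyz, fun hlin => ?_⟩
  have h1 : q * b ≠ b * q := by
    rw [Ne, L.comm_iff q hq b hb, hbv, H_smul_right, hu]
    decide
  have h2 := (h b hb hbA).2 h1
  have h3 : L.ρ y (L.v b) = L.v b + L.v a := by
    rw [← L.v_conj y hyz b hb, h2, L.v_mul b hb a d.pair.a_mem]
  have h4 : L.ρ y (L.v a) = L.v a := by
    rw [← L.v_conj y hyz a d.pair.a_mem, La.large.comm_z y hy]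
    congr 1; group
  rw [hbv, hlin.smul, h4] at h3
  exact isS_ne d.isS (left_eq_add.1 h3)

/-- `C_G(z) ∖ M` acts semilinearly -/
theorem lin_iff (d : Duo L La) {c : G} (hc : c * z = z * c) : IsLin (L.ρ c) ↔ c ∈ M := by
  refine ⟨fun h => ?_, fun h => L.isLin h⟩
  by_contra hcM
  obtain ⟨y, -, hyz, hy⟩ := d.exists_not_lin
  have hyM : y ∉ M := fun h' => hy (L.isLin h')
  have h1 := L.M_mul c y hc hyz hcM hyM
  have h2 := L.isLin h1
  apply hy
  constructor
  · intro k w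
    apply L.ρ_inj hc
    rw [← L.ρ_mul hc hyz, h2.smul, L.ρ_mul hc hyz, h.smul]
  · intro u w
    rw [← h.form, ← L.ρ_mul hc hyz, ← L.ρ_mul hc hyz, h2.form]

/-- `C_G(z) ∖ M` acts semilinearly -/
theorem semi (d : Duo L La) {c : G} (hc : c * z = z * c) (hcM : c ∉ M) : IsSemi (L.ρ c) :=
  (L.semi c hc).resolve_left fun h => hcM ((d.lin_iff hc).1 h)

/-- an element of `C_G(z)` fixing `s` and `ω s` lies in `M` -/
theorem mem_M_of_fix (d : Duo L La) {c : G} (hc : c * z = z * c) {s : W} (hs : s ≠ 0)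
    (h1 : L.ρ c s = s) (h2 : L.ρ c (F4.w • s) = F4.w • s) : c ∈ M := by
  by_contra hcM
  have h3 := (d.semi hc hcM).smul F4.w s
  rw [h1, h2] at h3
  have h4 : (F4.w + F4.w ^ 2 : F4) • s = 0 := by rw [add_smul, ← h3, two]
  rcases smul_eq_zero.1 h4 with h5 | h5
  · exact absurd h5 (by decide)
  · exact hs h5

/-- (p4), one direction -/
theorem p4' (d : Duo L La) {x : G} (hxA : x ∈ A) (h : InF (La.v z) (La.v x)) :
    x ∈ Q ∧ InF (L.v a) (L.v x) := by
  have hx : x ∈ Q := d.symm.mem_of_F hxA h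
  refine ⟨hx, ?_⟩
  by_contra hn
  obtain ⟨r, r', h1, h2, h3, h4, h5, h6, h7⟩ := sep L d.isS hn
  obtain ⟨m, hm, hρ⟩ := L.tau r r' h1 h2
  have hma : L.ρ m (L.v a) = L.v a := by
    rw [hρ, tr_fix (H_zero_symm.1 h4), tr_fix (H_zero_symm.1 h3)]
  obtain ⟨c, hc, hca, hcρ⟩ := lift L d.pair.a_mem d.a_ne_one d.pair.ne hm hma
  obtain ⟨g1, g2, g3⟩ := d.conj_mem hc hca hx hxA
  have hy : c * x * c⁻¹ * x⁻¹ ∈ Q := Q.mul_mem g1 (Q.inv_mem hx)
  have hyA : c * x * c⁻¹ * x⁻¹ ∈ A := A.mul_mem g2 (A.inv_mem hxA)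
  have hv : L.v (c * x * c⁻¹ * x⁻¹) = H (L.v x) r • r := by
    rw [L.v_mul _ g1 _ (Q.inv_mem hx), L.v_inv hx, g3, hcρ, hρ, tr_tr h7, add_comm, ← add_assoc,
      two, zero_add]
  have hR : IsR (L.v (c * x * c⁻¹ * x⁻¹)) := by rw [hv, isR_smul h6]; exact h1
  have hTA := L.twoA_of_isR hy hR
  -- the label with respect to `a`
  have hcz := L.M_comm c hc
  have hz' : La.ρ c (La.v z) = La.v z := by
    rw [← La.v_conj c hca z d.pair.z_mem, hcz]
    congr 1; group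
  have hin : InF (La.v z) (La.v (c * x * c⁻¹)) := by
    rw [La.v_conj c hca x hxA]
    have := (inF_ρ La hca (La.v z) (La.v x)).2 h
    rwa [hz'] at this
  obtain ⟨k, hk⟩ := h
  obtain ⟨k', hk'⟩ := hin
  have hv' : La.v (c * x * c⁻¹ * x⁻¹) = (k' + k) • La.v z := by
    rw [La.v_mul _ g2 _ (A.inv_mem hxA), La.v_inv hxA, hk', hk, add_smul]
  by_cases h0 : k' + k = 0
  · rw [h0, zero_smul, La.v_eq_zero _ hyA] at hv'
    rcases hv' with h8 | h8
    · exact ne_one_of_twoA L hTA h8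
    · exact d.disj _ hTA (h8 ▸ d.twoB_a)
  · have h8 : IsS (La.v (c * x * c⁻¹ * x⁻¹)) := by
      rw [hv', isS_smul h0]; exact d.symm.isS
    exact d.disj _ hTA ((d.tb _).1 (d.symm.twoB_of_isS' hyA h8))

/-- (p4): `v⁻¹(F s) = v_a⁻¹(F s')` -/
theorem p4 (d : Duo L La) {x : G} : (x ∈ Q ∧ InF (L.v a) (L.v x)) ↔ (x ∈ A ∧ InF (La.v z) (La.v x)) :=
  ⟨fun h => d.symm.p4' h.1 h.2, fun h => d.p4' h.1 h.2⟩

/-- the element `b`: its label at `a` is `κ s'`, `κ ∈ {ω, ω²}` -/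
theorem exists_b' (d : Duo L La) : ∃ b ∈ Q, b ∈ A ∧ L.v b = F4.w • L.v a ∧
    ∃ k : F4, k ≠ 0 ∧ k ≠ 1 ∧ La.v b = k • La.v z := by
  obtain ⟨b, hb, hbA, hbv⟩ := d.exists_b
  obtain ⟨k, hk⟩ := (d.p4.1 ⟨hb, _, hbv⟩).2
  refine ⟨b, hb, hbA, hbv, k, ?_, ?_, hk⟩
  · rintro rfl
    rw [zero_smul, La.v_eq_zero _ hbA] at hk
    rcases hk with rfl | rfl
    · rw [L.v_one] at hbv
      rcases smul_eq_zero.1 hbv.symm with h1 | h1
      · exact absurd h1 (by decide)
      · exact isS_ne d.isS h1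
    · exact w_smul_ne (isS_ne d.isS) hbv.symm
  · rintro rfl
    rw [one_smul, La.v_eq hbA d.pair.z_mem] at hk
    rcases hk with rfl | rfl
    · rw [L.v_z] at hbv
      rcases smul_eq_zero.1 hbv.symm with h1 | h1
      · exact absurd h1 (by decide)
      · exact isS_ne d.isS h1
    · rw [L.v_mul _ L.large.z_mem _ d.pair.a_mem, L.v_z, zero_add] at hbv
      exact w_smul_ne (isS_ne d.isS) hbv.symm

/-- (p5) -/
theorem p5 (d : Duo L La) {y : G} (hy : y ∈ A) (hyz : y * z = z * y) :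
    y ∈ M ↔ H (La.v y) (La.v z) = 0 := by
  obtain ⟨b, hb, hbA, hbv, k, hk0, hk1, hk⟩ := d.exists_b'
  have h1 : H (La.v y) (La.v z) = 0 ∨ H (La.v y) (La.v z) = 1 :=
    (La.comm_iff y hy z d.pair.z_mem).1 hyz
  have key : ∀ k : F4, k ≠ 0 → k ≠ 1 → ¬ (ModVec.cj k * 1 = 0 ∨ ModVec.cj k * 1 = 1) := by
    intro k; cases k <;> decide
  have h2 : y * b = b * y ↔ H (La.v y) (La.v z) = 0 := by
    rw [La.comm_iff y hy b hbA, hk, H_smul_right]
    constructor
    · intro h3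
      refine h1.resolve_right fun h4 => ?_
      rw [h4] at h3
      exact key k hk0 hk1 h3
    · intro h3; left; rw [h3, mul_zero]
  rw [← h2]
  have hya : L.ρ y (L.v a) = L.v a := by
    rw [← L.v_conj y hyz a d.pair.a_mem, La.large.comm_z y hy]
    congr 1; group
  constructor
  · intro hM
    have h3 : L.ρ y (L.v b) = L.v b := by
      rw [hbv, (L.isLin hM).smul, hya]
    rw [← L.v_conj y hyz b hb, L.v_eq (L.large.conj_mem y hyz b hb) hb] at h3
    rcases h3 with h3 | h3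
    · exact mul_inv_eq_iff_eq_mul.1 h3
    · rcases d.pair.conj_D hbA hy with h4 | h4
      · exact mul_inv_eq_iff_eq_mul.1 h4
      · rw [h3] at h4
        exact absurd (mul_left_cancel h4) d.pair.ne.symm
  · intro hyb
    refine d.mem_M_of_fix hyz (isS_ne d.isS) hya ?_
    rw [← hbv, ← L.v_conj y hyz b hb, hyb]
    congr 1; group

/-- (p3) -/
theorem p3 (d : Duo L La) {r : W} (hr : InT (L.v a) r) : ∃ y ∈ A, y ∈ M ∧
    ∀ w, L.ρ y w = tr r (tr (r + L.v a) w) := by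
  obtain ⟨q, hq, hqv⟩ := L.v_surj (F4.w • r)
  have hqa : q * a = a * q := by
    rw [L.comm_iff q hq a d.pair.a_mem, hqv, H_smul_left, hr.2.1, mul_zero]
    left; rfl
  obtain ⟨y, hy, hyz, h⟩ := d.exists_transv hq hqa
  have hD : ∀ x ∈ Q, x ∈ A → (H r (L.v x) = 0 → L.ρ y (L.v x) = L.v x) ∧
      (H r (L.v x) = 1 → L.ρ y (L.v x) = L.v x + L.v a) := by
    intro x hx hxA
    obtain ⟨h1, h2⟩ := h x hx hxA
    constructor
    · intro h3
      rw [← L.v_conj y hyz x hx, h1]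
      rw [L.comm_iff q hq x hx, hqv, H_smul_left, h3, mul_zero]
      left; rfl
    · intro h3
      rw [← L.v_conj y hyz x hx, h2, L.v_mul x hx a d.pair.a_mem]
      rw [Ne, L.comm_iff q hq x hx, hqv, H_smul_left, h3]
      decide
  have hya : L.ρ y (L.v a) = L.v a := (hD a d.pair.a_mem La.large.z_mem).1 hr.2.1
  obtain ⟨b, hb, hbA, hbv⟩ := d.exists_b
  have hM : y ∈ M := by
    refine d.mem_M_of_fix hyz (isS_ne d.isS) hya ?_
    rw [← hbv]
    apply (hD b hb hbA).1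
    rw [hbv, H_smul_right, hr.2.1, mul_zero]
  refine ⟨y, hy, hM, ?_⟩
  obtain ⟨m, hm, hmρ⟩ := L.tau r (r + L.v a) hr.1 hr.2.2
  have hmz := L.M_comm m hm
  have hmz' := Lab.inv_comm hmz
  have hmy := M.mul_mem (M.inv_mem hm) hM
  have hmyz := L.M_comm _ hmy
  have hfix : ∀ w, H w (L.v a) = 0 → L.ρ (m⁻¹ * y) w = w := by
    intro w hw
    refine span L d.isS (L.ρ_add hmyz) (L.isLin hmy).smul (fun t ht => ?_) hw
    obtain ⟨x, hx, rfl⟩ := L.v_surj t
    have hxA := d.mem_of_T hx ht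
    have h1 : L.ρ y (L.v x) = tr r (tr (r + L.v a) (L.v x)) := by
      rw [tr_tr_add (isR_iso hr.1) hr.2.1 ht.2.1]
      rcases T_form L d.isS hr ht with h2 | h2
      · rw [(hD x hx hxA).1 h2, H_zero_symm.1 h2, zero_smul, add_zero]
      · rw [(hD x hx hxA).2 h2, H_one_symm.1 h2, one_smul]
    rw [L.ρ_mul hmz' hyz, h1, ← hmρ, L.ρ_inv hmz]
  have hid : ∀ w, L.ρ (m⁻¹ * y) w = w := by
    refine (id_or_tr (isS_ne d.isS) (isS_iso d.isS) (L.ρ_add hmyz) (L.isLin hmy) hfix).resolve_right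
      fun h1 => ?_
    obtain ⟨t, ht, ht'⟩ := tau L d.isS
    apply ht'
    rw [← h1]
    exact L.pres _ hmyz _ ht
  intro w
  rw [← hmρ]
  have h1 := hid w
  rw [L.ρ_mul hmz' hyz] at h1
  calc L.ρ y w = L.ρ m (L.ρ m⁻¹ (L.ρ y w)) := (L.ρ_inv' hmz _).symm
    _ = L.ρ m w := by rw [h1]

end Duo

end Cfsg.Agent.R08.TwoGrp
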