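import Cfsg.Agent.R08.TwoGrp

/-!
# R08 (S1715), step (2): the facts on pairs (helper778)

For `d : Duo L La` (`a ∈ Q`, `z ∈ A`, `s = L.v a`): `mem_iff`, `p1`, `p2`, `p3`, `p4`, `p5`, `lin_iff`.
-/

set_option autoImplicit false

namespace Cfsg.Agent.R08.TwoGrp

open Cfsg.Agent.SporRec.GF4 Cfsg.Agent.R08.Iface Cfsg.Agent.R08.TwoFin Cfsg.Agent.R08.TwoTr
open Cfsg.Agent.Co2Type.Quad Cfsg.Agent.LargeExtra.Base Cfsg.Agent.LargeExtra.Local

variable {G : Type*} [Group G] {Q M : Subgroup G} {z : G}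
variable {A N : Subgroup G} {a : G} {L : Lab F4 Q M z} {La : Lab F4 A N a}

/-! ### small algebra -/

theorem tr_fix {r w : W} (h : H w r = 0) : tr r w = w := by
  unfold tr; rw [h, zero_smul, add_zero]

/-- `τ_r τ_r' d = d + H(d,r) r` if `d ⊥ r'` -/
theorem tr_tr {r r' d : W} (h : H d r' = 0) : tr r (tr r' d) = d + H d r • r := by
  rw [tr_fix h]; rfl

/-- `τ_r τ_{r+s} t = t + H(t,r) s` for `t, r ⊥ s` -/
theorem tr_tr_add {r s t : W} (hr : H r r = 0) (hrs : H r s = 0) (ht : H t s = 0) :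
    tr r (tr (r + s) t) = t + H t r • s := by
  have e1 : H t (r + s) = H t r := by rw [H_add_right, ht, add_zero]
  have e2 : H (t + H t r • (r + s)) r = H t r := by
    rw [H_add_left, H_smul_left, H_add_left, hr, H_zero_symm.1 hrs, add_zero, mul_zero, add_zero]
  unfold tr
  rw [e1, e2, smul_add]
  have h2 : H t r • r + H t r • r = 0 := two _
  calc t + (H t r • r + H t r • s) + H t r • r = t + H t r • s + (H t r • r + H t r • r) := by abel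
    _ = t + H t r • s := by rw [h2, add_zero]

namespace Duo

/-- an element of `M` fixing the label of `a`, moved into `C(a)`, conjugates `Q ∩ A` to itself -/
theorem conj_mem (_d : Duo L La) {c x : G} (hc : c ∈ M) (hca : c * a = a * c) (hx : x ∈ Q)
    (hxA : x ∈ A) : c * x * c⁻¹ ∈ Q ∧ c * x * c⁻¹ ∈ A ∧ L.v (c * x * c⁻¹) = L.ρ c (L.v x) :=
  ⟨L.large.conj_mem c (L.M_comm c hc) x hx, La.large.conj_mem c hca x hxA,
    L.v_conj c (L.M_comm c hc) x hx⟩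

theorem mem_mul_z (d : Duo L La) {x y : G} (hxA : x ∈ A) (h : L.v y = L.v x) (hx : x ∈ Q)
    (hy : y ∈ Q) : y ∈ A := by
  rcases (L.v_eq hy hx).1 h with h1 | h1
  · rwa [h1]
  · rw [h1]; exact A.mul_mem hxA d.pair.z_mem

variable [Finite G]

theorem exists_T (d : Duo L La) : ∃ x ∈ Q, x ∈ A ∧ InT (L.v a) (L.v x) := by
  obtain ⟨x, hx, hxA, hn⟩ := d.exists_not_inF
  obtain ⟨r, r', h1, h2, h3, h4, h5, h6, h7⟩ := sep L d.isS hn
  obtain ⟨m, hm, hρ⟩ := L.tau r r' h1 h2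
  have hma : L.ρ m (L.v a) = L.v a := by
    rw [hρ, tr_fix (H_zero_symm.1 h4), tr_fix (H_zero_symm.1 h3)]
  obtain ⟨c, hc, hca, hcρ⟩ := lift L d.pair.a_mem d.a_ne_one d.pair.ne hm hma
  obtain ⟨g1, g2, g3⟩ := d.conj_mem hc hca hx hxA
  have hy : c * x * c⁻¹ * x⁻¹ ∈ Q := Q.mul_mem g1 (Q.inv_mem hx)
  have hyA : c * x * c⁻¹ * x⁻¹ ∈ A := A.mul_mem g2 (A.inv_mem hxA)
  have hv : L.v (c * x * c⁻¹ * x⁻¹) = H (L.v x) r • r := by
    rw [L.v_mul _ g1 _ (Q.inv_mem hx), L.v_inv hx, g3, hcρ, hρ, tr_tr h7, add_comm, ← add_assoc,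
      two, zero_add]
  refine ⟨_, hy, hyA, ?_⟩
  have hR : IsR (L.v (c * x * c⁻¹ * x⁻¹)) := by rw [hv, isR_smul h6]; exact h1
  refine ⟨hR, ?_, d.isR_add hy hyA hR⟩
  rw [hv, H_smul_left, h3, mul_zero]

/-- `T_s ⊆ D` -/
theorem mem_of_T (d : Duo L La) {x : G} (hx : x ∈ Q) (h : InT (L.v a) (L.v x)) : x ∈ A := by
  obtain ⟨y, hy, hyA, hT⟩ := d.exists_T
  obtain ⟨m, hm, h1, h2⟩ := transT L d.isS hT h
  obtain ⟨c, hc, hca, hcρ⟩ := lift L d.pair.a_mem d.a_ne_one d.pair.ne hm h1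
  obtain ⟨g1, g2, g3⟩ := d.conj_mem hc hca hy hyA
  exact d.mem_mul_z g2 (by rw [g3, hcρ, h2]) g1 hx

theorem inD_of_mem (d : Duo L La) {x : G} (hx : x ∈ Q) (hxA : x ∈ A) : InD (L.v a) (L.v x) := by
  intro r hr
  obtain ⟨y, hy, rfl⟩ := L.v_surj r
  exact (L.comm_iff x hx y hy).1 (d.pair.comm_D hx hxA hy (d.mem_of_T hy hr))

theorem mem_of_F (d : Duo L La) {x : G} (hx : x ∈ Q) (h : InF (L.v a) (L.v x)) : x ∈ A := by
  have h0 : ∀ {y : G}, y ∈ Q → L.v y = L.v a → y ∈ A :=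
    fun hy h' => d.mem_mul_z La.large.z_mem h' d.pair.a_mem hy
  have hw : ∀ {y : G}, y ∈ Q → L.v y = F4.w • L.v a → y ∈ A := by
    intro y hy h'
    obtain ⟨r, r', r'', h1, h2, h3, h4⟩ := omega L d.isS
    obtain ⟨u, hu, rfl⟩ := L.v_surj r
    obtain ⟨u', hu', rfl⟩ := L.v_surj r'
    obtain ⟨u'', hu'', rfl⟩ := L.v_surj r''
    refine d.mem_mul_z (A.mul_mem (A.mul_mem (d.mem_of_T hu h1) (d.mem_of_T hu' h2))
      (d.mem_of_T hu'' h3)) ?_ (Q.mul_mem (Q.mul_mem hu hu') hu'') hy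
    rw [L.v_mul _ (Q.mul_mem hu hu') _ hu'', L.v_mul _ hu _ hu', h', h4]
  obtain ⟨k, hk⟩ := h
  have hk4 : k = F4.z ∨ k = F4.o ∨ k = F4.w ∨ k = F4.v := by cases k <;> simp
  rcases hk4 with rfl | rfl | rfl | rfl
  · have : L.v x = 0 := by rw [hk]; exact zero_smul F4 _
    rcases (L.v_eq_zero x hx).1 this with h1 | h1
    · rw [h1]; exact A.one_mem
    · rw [h1]; exact d.pair.z_mem
  · exact h0 hx (by rw [hk]; exact one_smul F4 _)
  · exact hw hx hk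
  · have h1 : L.v (x * a) = F4.w • L.v a := by
      rw [L.v_mul x hx a d.pair.a_mem, hk]
      have : F4.v • L.v a + L.v a = (F4.v + 1 : F4) • L.v a := by rw [add_smul, one_smul]
      rw [this]; rfl
    have h2 := hw (Q.mul_mem hx d.pair.a_mem) h1
    have h3 := A.mul_mem h2 (A.inv_mem La.large.z_mem)
    rwa [mul_inv_cancel_right] at h3

/-- `Q ∩ A` is the preimage of `D_s` -/
theorem mem_iff (d : Duo L La) {x : G} (hx : x ∈ Q) : x ∈ A ↔ InD (L.v a) (L.v x) := by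
  refine ⟨d.inD_of_mem hx, fun h => ?_⟩
  by_cases hn : InF (L.v a) (L.v x)
  · exact d.mem_of_F hx hn
  · obtain ⟨k, hk⟩ := coset L d.isS h hn
    obtain ⟨b, hb, hbv⟩ := L.v_surj (k • L.v a)
    have hbA := d.mem_of_F hb ⟨k, hbv⟩
    have h1 : x * b ∈ A := by
      apply d.mem_of_T (Q.mul_mem hx hb)
      rw [L.v_mul x hx b hb, hbv]; exact hk
    have h3 := A.mul_mem h1 (A.inv_mem hbA)
    rwa [mul_inv_cancel_right] at h3

/-- (p1) -/
theorem p1 (d : Duo L La) {y : G} (hy : y ∈ Q) (h : ∀ x ∈ Q, x ∈ A → x * y = y * x) : y ∈ A := by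
  rw [d.mem_iff hy]
  intro r hr
  obtain ⟨x, hx, rfl⟩ := L.v_surj r
  exact (L.comm_iff y hy x hx).1 (h x hx (d.mem_of_T hx hr)).symm

/-- (p2) -/
theorem p2 (d : Duo L La) {y : G} (hy : y ∈ Q) (h1 : IsR (L.v y)) (h2 : H (L.v y) (L.v a) = 0)
    (h3 : IsR (L.v y + L.v a)) : y ∈ A := d.mem_of_T hy ⟨h1, h2, h3⟩

/-- elements of `A` inducing on `Q ∩ A` the transvections with centre `a` -/
theorem exists_transv (d : Duo L La) {q : G} (hq : q ∈ Q) (hqa : q * a = a * q) :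
    ∃ y ∈ A, y * z = z * y ∧ ∀ x ∈ Q, x ∈ A → (q * x = x * q → y * x * y⁻¹ = x) ∧
      (q * x ≠ x * q → y * x * y⁻¹ = x * a) := by
  have p := d.pair
  obtain ⟨y, hy, hyz, h⟩ := p.exists_transvection (p.lz.b (p.lz.pr ⟨q, hq⟩))
    ((p.lz.b_pr _ _).2 hqa)
  refine ⟨y, hy, hyz, fun x hx hxA => ?_⟩
  obtain ⟨h1, h2⟩ := h x hx hxA
  refine ⟨fun h3 => h1 ((p.lz.b_pr _ _).2 h3), fun h3 => h2 ?_⟩
  have h4 : p.lz.b (p.lz.pr ⟨q, hq⟩) (p.lz.pr ⟨x, hx⟩) ≠ 0 := fun h5 => h3 ((p.lz.b_pr _ _).1 h5)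
  have key : ∀ t : ZMod 2, t ≠ 0 → t = 1 := by decide
  exact key _ h4

end Duo

end Cfsg.Agent.R08.TwoGrp
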