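import Cfsg.Agent.R08.TwoFinB

/-!
# R08 (S1715), step (2): transfer of the finite facts from `s0` to all `S`-vectors (helper778)
-/

set_option autoImplicit false

namespace Cfsg.Agent.R08.TwoTr

open Cfsg.Agent.SporRec.GF4 Cfsg.Agent.R08.Iface Cfsg.Agent.R08.TwoFin

theorem r0_T : InT s0 r0 := b1_T

variable {G : Type*} [Group G] {Q M : Subgroup G} {z : G}

section basic

variable (L : Lab F4 Q M z)

include L

theorem isR_ρ {c : G} (hc : c * z = z * c) (w : W) : IsR (L.ρ c w) ↔ IsR w := by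
  refine ⟨fun h => ?_, L.pres c hc w⟩
  have := L.pres c⁻¹ (Lab.inv_comm hc) _ h
  rwa [L.ρ_inv hc] at this

theorem H_ρ {c : G} (hc : c * z = z * c) (u w : W) :
    H (L.ρ c u) (L.ρ c w) = H u w ∨ H (L.ρ c u) (L.ρ c w) = ModVec.cj (H u w) := by
  rcases L.semi c hc with h | h
  · exact Or.inl (h.form u w)
  · right; rw [h.form, ModVec.sq_eq_cj]

theorem H_ρ_zero {c : G} (hc : c * z = z * c) (u w : W) :
    H (L.ρ c u) (L.ρ c w) = 0 ↔ H u w = 0 := by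
  rcases H_ρ L hc u w with h | h <;> rw [h]
  exact ModVec.cj_eq_zero

theorem H_ρ_one {c : G} (hc : c * z = z * c) (u w : W) :
    H (L.ρ c u) (L.ρ c w) = 1 ↔ H u w = 1 := by
  rcases H_ρ L hc u w with h | h <;> rw [h]
  have key : ∀ a : F4, ModVec.cj a = 1 ↔ a = 1 := by intro a; cases a <;> decide
  exact key _

theorem ρ_ne_zero {c : G} (hc : c * z = z * c) (w : W) : L.ρ c w = 0 ↔ w = 0 := by
  constructor
  · intro h
    have := L.ρ_inv hc w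
    rw [h, L.ρ_zero (Lab.inv_comm hc)] at this
    exact this.symm
  · rintro rfl; exact L.ρ_zero hc

theorem isS_ρ {c : G} (hc : c * z = z * c) (w : W) : IsS (L.ρ c w) ↔ IsS w := by
  have key : ∀ u : W, IsS u ↔ H u u = 0 ∧ u ≠ 0 ∧ ¬ IsR u := by
    intro u
    constructor
    · intro h; exact ⟨isS_iso h, isS_ne h, not_isR h⟩
    · rintro ⟨h1, h2, h3⟩
      exact (isR_or_isS h1 h2).resolve_left h3
  rw [key, key, H_ρ_zero L hc, isR_ρ L hc, Ne, ρ_ne_zero L hc]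

theorem inT_ρ {c : G} (hc : c * z = z * c) (s r : W) : InT (L.ρ c s) (L.ρ c r) ↔ InT s r := by
  unfold InT
  rw [← L.ρ_add hc, isR_ρ L hc, isR_ρ L hc, H_ρ_zero L hc]

theorem inD_ρ {c : G} (hc : c * z = z * c) (s w : W) : InD (L.ρ c s) (L.ρ c w) ↔ InD s w := by
  constructor
  · intro h r hr
    have := h _ ((inT_ρ L hc s r).2 hr)
    rwa [H_ρ_zero L hc, H_ρ_one L hc] at this
  · intro h r hr
    obtain ⟨r', rfl⟩ : ∃ r', L.ρ c r' = r := ⟨_, L.ρ_inv' hc r⟩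
    rw [H_ρ_zero L hc, H_ρ_one L hc]
    exact h _ ((inT_ρ L hc s r').1 hr)

theorem ρ_smul {c : G} (hc : c * z = z * c) (k : F4) (w : W) :
    ∃ k' : F4, (k' = k ∨ k' = ModVec.cj k) ∧ L.ρ c (k • w) = k' • L.ρ c w := by
  rcases L.semi c hc with h | h
  · exact ⟨k, Or.inl rfl, h.smul k w⟩
  · exact ⟨ModVec.cj k, Or.inr rfl, by rw [h.smul, ModVec.sq_eq_cj]⟩

theorem inF_ρ {c : G} (hc : c * z = z * c) (s w : W) : InF (L.ρ c s) (L.ρ c w) ↔ InF s w := by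
  constructor
  · rintro ⟨k, hk⟩
    obtain ⟨k', -, h'⟩ := ρ_smul L (Lab.inv_comm hc) k (L.ρ c s)
    refine ⟨k', ?_⟩
    rw [← L.ρ_inv hc w, hk, h', L.ρ_inv hc]
  · rintro ⟨k, rfl⟩
    obtain ⟨k', -, h'⟩ := ρ_smul L hc k s
    exact ⟨k', h'⟩

theorem exists_m {s : W} (hs : IsS s) : ∃ m ∈ M, L.ρ m s0 = s := L.transS s0 s isS_s0 hs

theorem exists_pre {m : G} (hm : m ∈ M) (w : W) : ∃ w', L.ρ m w' = w :=
  ⟨_, L.ρ_inv' (L.M_comm m hm) w⟩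

theorem sep {s : W} (hs : IsS s) {d : W} (hd : ¬ InF s d) : ∃ r r', IsR r ∧ IsR r' ∧ H r s = 0 ∧
    H r' s = 0 ∧ H r r' = 0 ∧ H d r ≠ 0 ∧ H d r' = 0 := by
  obtain ⟨m, hm, rfl⟩ := exists_m L hs
  have hc := L.M_comm m hm
  obtain ⟨d, rfl⟩ := exists_pre L hm d
  rw [inF_ρ L hc] at hd
  obtain ⟨r, r', h1, h2, h3, h4, h5, h6, h7⟩ := sep0 d hd
  exact ⟨L.ρ m r, L.ρ m r', (isR_ρ L hc _).2 h1, (isR_ρ L hc _).2 h2, (H_ρ_zero L hc _ _).2 h3,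
    (H_ρ_zero L hc _ _).2 h4, (H_ρ_zero L hc _ _).2 h5, fun h => h6 ((H_ρ_zero L hc _ _).1 h),
    (H_ρ_zero L hc _ _).2 h7⟩

theorem T_form {s : W} (hs : IsS s) {r r' : W} (h : InT s r) (h' : InT s r') :
    H r r' = 0 ∨ H r r' = 1 := by
  obtain ⟨m, hm, rfl⟩ := exists_m L hs
  have hc := L.M_comm m hm
  obtain ⟨r, rfl⟩ := exists_pre L hm r
  obtain ⟨r', rfl⟩ := exists_pre L hm r'
  rw [inT_ρ L hc] at h h'
  rw [H_ρ_zero L hc, H_ρ_one L hc]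
  exact T_form0 h h'

theorem T_third {s : W} (hs : IsS s) {r r' : W} (h : InT s r) (h' : InT s r')
    (h1 : H r r' = 1) : IsR (r + r') := by
  obtain ⟨m, hm, rfl⟩ := exists_m L hs
  have hc := L.M_comm m hm
  obtain ⟨r, rfl⟩ := exists_pre L hm r
  obtain ⟨r', rfl⟩ := exists_pre L hm r'
  rw [inT_ρ L hc] at h h'
  rw [H_ρ_one L hc] at h1
  rw [← L.ρ_add hc, isR_ρ L hc]
  exact T_third0 h h' h1

theorem T_ti {s : W} (hs : IsS s) {r r' : W} (h : InT s r) (h' : InT s r')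
    (h1 : H r r' = 0) : ¬ IsR (r + r') := by
  obtain ⟨m, hm, rfl⟩ := exists_m L hs
  have hc := L.M_comm m hm
  obtain ⟨r, rfl⟩ := exists_pre L hm r
  obtain ⟨r', rfl⟩ := exists_pre L hm r'
  rw [inT_ρ L hc] at h h'
  rw [H_ρ_zero L hc] at h1
  rw [← L.ρ_add hc, isR_ρ L hc]
  exact T_ti0 h h' h1

theorem T_conn {s : W} (hs : IsS s) {r r' : W} (h : InT s r) (h' : InT s r') :
    r' = r ∨ r' = r + s ∨ H r r' = 1 ∨ ∃ t, InT s t ∧ H r t = 1 ∧ H t r' = 1 := by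
  obtain ⟨m, hm, rfl⟩ := exists_m L hs
  have hc := L.M_comm m hm
  obtain ⟨r, rfl⟩ := exists_pre L hm r
  obtain ⟨r', rfl⟩ := exists_pre L hm r'
  rw [inT_ρ L hc] at h h'
  rcases T_conn0 h h' with h1 | h1 | h1 | ⟨t, h1, h2, h3⟩
  · left; rw [h1]
  · right; left; rw [h1, L.ρ_add hc]
  · right; right; left; rwa [H_ρ_one L hc]
  · right; right; right
    exact ⟨L.ρ m t, (inT_ρ L hc _ _).2 h1, (H_ρ_one L hc _ _).2 h2, (H_ρ_one L hc _ _).2 h3⟩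

theorem coset {s : W} (hs : IsS s) {w : W} (h : InD s w) (hn : ¬ InF s w) :
    ∃ k : F4, InT s (w + k • s) := by
  obtain ⟨m, hm, rfl⟩ := exists_m L hs
  have hc := L.M_comm m hm
  obtain ⟨w, rfl⟩ := exists_pre L hm w
  rw [inD_ρ L hc] at h
  rw [inF_ρ L hc] at hn
  obtain ⟨k, hk⟩ := coset0 h hn
  refine ⟨k, ?_⟩
  rw [← (L.isLin hm).smul, ← L.ρ_add hc, inT_ρ L hc]
  exact hk

theorem T_nondeg {s : W} (hs : IsS s) {r : W} (h : InT s r) : ∃ r', InT s r' ∧ H r r' = 1 := by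
  obtain ⟨m, hm, rfl⟩ := exists_m L hs
  have hc := L.M_comm m hm
  obtain ⟨r, rfl⟩ := exists_pre L hm r
  rw [inT_ρ L hc] at h
  obtain ⟨r', h1, h2⟩ := T_nondeg0 h
  exact ⟨L.ρ m r', (inT_ρ L hc _ _).2 h1, (H_ρ_one L hc _ _).2 h2⟩

theorem D_nondeg {s : W} (hs : IsS s) {w : W} (h : InD s w) (hn : ¬ InF s w) :
    ∃ r, InT s r ∧ H w r = 1 := by
  obtain ⟨m, hm, rfl⟩ := exists_m L hs
  have hc := L.M_comm m hm
  obtain ⟨w, rfl⟩ := exists_pre L hm w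
  rw [inD_ρ L hc] at h
  rw [inF_ρ L hc] at hn
  obtain ⟨r, h1, h2⟩ := D_nondeg0 h hn
  exact ⟨L.ρ m r, (inT_ρ L hc _ _).2 h1, (H_ρ_one L hc _ _).2 h2⟩

theorem omega {s : W} (hs : IsS s) :
    ∃ r r' r'', InT s r ∧ InT s r' ∧ InT s r'' ∧ F4.w • s = r + r' + r'' := by
  obtain ⟨m, hm, rfl⟩ := exists_m L hs
  have hc := L.M_comm m hm
  obtain ⟨r, r', r'', h1, h2, h3, h4⟩ := omega_s0
  refine ⟨L.ρ m r, L.ρ m r', L.ρ m r'', (inT_ρ L hc _ _).2 h1, (inT_ρ L hc _ _).2 h2,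
    (inT_ρ L hc _ _).2 h3, ?_⟩
  rw [← L.ρ_add hc, ← L.ρ_add hc, ← h4, (L.isLin hm).smul]

/-- the transvection with centre in `S` does not preserve `R` -/
theorem tau {s : W} (hs : IsS s) : ∃ r, IsR r ∧ ¬ IsR (tr s r) := by
  obtain ⟨m, hm, rfl⟩ := exists_m L hs
  have hc := L.M_comm m hm
  obtain ⟨r, h1, h2⟩ := tau_s0
  refine ⟨L.ρ m r, (isR_ρ L hc _).2 h1, ?_⟩
  have : tr (L.ρ m s0) (L.ρ m r) = L.ρ m (tr s0 r) := by
    unfold tr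
    rw [(L.isLin hm).form, L.ρ_add hc, (L.isLin hm).smul]
  rw [this, isR_ρ L hc]
  exact h2

theorem span {s : W} (hs : IsS s) {f : W → W} (hadd : ∀ u w, f (u + w) = f u + f w)
    (hsm : ∀ (a : F4) w, f (a • w) = a • f w) (hT : ∀ r, InT s r → f r = r) {w : W}
    (hw : H w s = 0) : f w = w := by
  obtain ⟨m, hm, rfl⟩ := exists_m L hs
  have hc := L.M_comm m hm
  have hc' := Lab.inv_comm hc
  obtain ⟨w, rfl⟩ := exists_pre L hm w
  rw [H_ρ_zero L hc] at hw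
  have key := span0 (f := fun u => L.ρ m⁻¹ (f (L.ρ m u)))
    (fun u u' => by
      show L.ρ m⁻¹ (f (L.ρ m (u + u'))) = L.ρ m⁻¹ (f (L.ρ m u)) + L.ρ m⁻¹ (f (L.ρ m u'))
      rw [L.ρ_add hc, hadd, L.ρ_add hc'])
    (fun a u => by
      show L.ρ m⁻¹ (f (L.ρ m (a • u))) = a • L.ρ m⁻¹ (f (L.ρ m u))
      rw [(L.isLin hm).smul, hsm, (L.isLin (M.inv_mem hm)).smul])
    (fun r hr => by
      show L.ρ m⁻¹ (f (L.ρ m r)) = r
      rw [hT _ ((inT_ρ L hc _ _).2 hr), L.ρ_inv hc]) hw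
  have key' : L.ρ m⁻¹ (f (L.ρ m w)) = w := key
  calc f (L.ρ m w) = L.ρ m (L.ρ m⁻¹ (f (L.ρ m w))) := (L.ρ_inv' hc _).symm
    _ = L.ρ m w := by rw [key']

/-- the product `τ_{r'} τ_{r + r'}` maps `r` to `r'` and fixes `s` -/
theorem step {s : W} (hs : IsS s) {r r' : W} (h : InT s r) (h' : InT s r') (h1 : H r r' = 1) :
    ∃ m ∈ M, (∀ w, L.ρ m w = tr r' (tr (r + r') w)) ∧ L.ρ m s = s ∧ L.ρ m r = r' := by
  obtain ⟨m, hm, hm'⟩ := L.tau r' (r + r') h'.1 (T_third L hs h h' h1)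
  refine ⟨m, hm, hm', ?_, ?_⟩
  · rw [hm']
    have e1 : H s (r + r') = 0 := by
      rw [H_add_right, H_zero_symm.1 h.2.1, H_zero_symm.1 h'.2.1, add_zero]
    have e2 : tr (r + r') s = s := by unfold tr; rw [e1, zero_smul, add_zero]
    rw [e2]
    unfold tr
    rw [H_zero_symm.1 h'.2.1, zero_smul, add_zero]
  · rw [hm']
    have e1 : H r (r + r') = 1 := by
      rw [H_add_right, isR_iso h.1, h1, zero_add]
    have e2 : tr (r + r') r = r' := by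
      unfold tr
      rw [e1, one_smul, ← add_assoc, two, zero_add]
    rw [e2]
    unfold tr
    rw [isR_iso h'.1, zero_smul, add_zero]

/-- the stabiliser of `s` is transitive on `T_s` -/
theorem transT {s : W} (hs : IsS s) {r r' : W} (h : InT s r) (h' : InT s r') :
    ∃ m ∈ M, L.ρ m s = s ∧ L.ρ m r = r' := by
  have one : ∀ {r r' : W}, InT s r → InT s r' → H r r' = 1 → ∃ m ∈ M, L.ρ m s = s ∧ L.ρ m r = r' := by
    intro r r' h h' h1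
    obtain ⟨m, hm, -, h2, h3⟩ := step L hs h h' h1
    exact ⟨m, hm, h2, h3⟩
  have two' : ∀ {r t r' : W}, InT s r → InT s t → InT s r' → H r t = 1 → H t r' = 1 →
      ∃ m ∈ M, L.ρ m s = s ∧ L.ρ m r = r' := by
    intro r t r' h ht h' h1 h2
    obtain ⟨m, hm, g1, g2⟩ := one h ht h1
    obtain ⟨n, hn, g3, g4⟩ := one ht h' h2
    refine ⟨n * m, M.mul_mem hn hm, ?_, ?_⟩
    · rw [L.ρ_mul (L.M_comm n hn) (L.M_comm m hm), g1, g3]
    · rw [L.ρ_mul (L.M_comm n hn) (L.M_comm m hm), g2, g4]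
  rcases T_conn L hs h h' with h1 | h1 | h1 | ⟨t, h1, h2, h3⟩
  · exact ⟨1, M.one_mem, by rw [L.ρ_one], by rw [L.ρ_one, h1]⟩
  · obtain ⟨t, ht, h2⟩ := T_nondeg L hs h
    refine two' h ht h' h2 ?_
    rw [h1, H_add_right, H_one_symm.1 h2, ht.2.1, add_zero]
  · exact one h h' h1
  · exact two' h h1 h' h2 h3

/-- `M` is transitive on the flags `s ∈ S`, `r ∈ T_s` -/
theorem flag {s r : W} (hs : IsS s) (h : InT s r) : ∃ m ∈ M, L.ρ m s0 = s ∧ L.ρ m r0 = r := by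
  obtain ⟨m, hm, rfl⟩ := exists_m L hs
  obtain ⟨n, hn, h1, h2⟩ := transT L hs ((inT_ρ L (L.M_comm m hm) _ _).2 r0_T) h
  refine ⟨n * m, M.mul_mem hn hm, ?_, ?_⟩
  · rw [L.ρ_mul (L.M_comm n hn) (L.M_comm m hm), h1]
  · rw [L.ρ_mul (L.M_comm n hn) (L.M_comm m hm), h2]

/-- a linear map fixing `T_s ∩ r^⊥` fixes `⟨s, r⟩^⊥` -/
theorem span' {s r : W} (hs : IsS s) (hr : InT s r) {f : W → W}
    (hadd : ∀ u w, f (u + w) = f u + f w) (hsm : ∀ (a : F4) w, f (a • w) = a • f w)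
    (hT : ∀ t, InT s t → H t r = 0 → f t = t) {w : W}
    (hw : H w s = 0) (hw' : H w r = 0) : f w = w := by
  obtain ⟨m, hm, rfl, rfl⟩ := flag L hs hr
  have hc := L.M_comm m hm
  have hc' := Lab.inv_comm hc
  obtain ⟨w, rfl⟩ := exists_pre L hm w
  rw [H_ρ_zero L hc] at hw hw'
  have key := span0' (f := fun u => L.ρ m⁻¹ (f (L.ρ m u)))
    (fun u u' => by
      show L.ρ m⁻¹ (f (L.ρ m (u + u'))) = L.ρ m⁻¹ (f (L.ρ m u)) + L.ρ m⁻¹ (f (L.ρ m u'))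
      rw [L.ρ_add hc, hadd, L.ρ_add hc'])
    (fun a u => by
      show L.ρ m⁻¹ (f (L.ρ m (a • u))) = a • L.ρ m⁻¹ (f (L.ρ m u))
      rw [(L.isLin hm).smul, hsm, (L.isLin (M.inv_mem hm)).smul])
    (fun r hr hr' => by
      show L.ρ m⁻¹ (f (L.ρ m r)) = r
      rw [hT _ ((inT_ρ L hc _ _).2 hr) ((H_ρ_zero L hc _ _).2 hr'), L.ρ_inv hc]) hw hw'
  have key' : L.ρ m⁻¹ (f (L.ρ m w)) = w := key
  calc f (L.ρ m w) = L.ρ m (L.ρ m⁻¹ (f (L.ρ m w))) := (L.ρ_inv' hc _).symm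
    _ = L.ρ m w := by rw [key']

theorem T_D {s : W} (hs : IsS s) {r : W} (h : InT s r) : InD s r :=
  fun _ ht => T_form L hs h ht

end basic

end Cfsg.Agent.R08.TwoTr
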