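import Cfsg.Agent.R08.USixLoc
import Cfsg.Agent.R01.Closing

/-!
Consequences of the local structure `Loc` in terms of the elements of `D`; transport to conjugates; lines.
-/

set_option autoImplicit false
set_option linter.unusedSectionVars false

namespace Cfsg.Agent.R08.USix

open Cfsg Cfsg.Agent.LieClassical.HermBasic Cfsg.Agent.ClassicalGeometry.UnitTransv
open Cfsg.Agent.SporadicStructure.UnitTwo Cfsg.Agent.R01.PSUSix Cfsg.Agent.R08.Herm4

variable {Y : Type*} [Group Y] {F : Type*} [Field F] [Fintype F]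
variable {hF : Fintype.card F = 2 ^ 2} {D : Set Y} {u : Y}
variable {ρ : Subgroup.centralizer ({u} : Set Y) →* SU 4 F 2}
variable {β : Subgroup.centralizer ({u} : Set Y) → (Fin 4 → F)}

/-- The element `y` of `Y` is a member of `D` commuting with `u` over the point `w`. -/
def Ab (hF : Fintype.card F = 2 ^ 2) (D : Set Y)
    (ρ : Subgroup.centralizer ({u} : Set Y) →* SU 4 F 2) (y : Y) (w : Fin 4 → F) : Prop :=
  ∃ h : y ∈ Subgroup.centralizer ({u} : Set Y), Ov hF D ρ ⟨y, h⟩ w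

/-- `z` commutes with every member of `D` commuting with `p` and `q`. -/
def Line (D : Set Y) (p q z : Y) : Prop :=
  z ∈ D ∧ ∀ x ∈ D, x * p = p * x → x * q = q * x → x * z = z * x

theorem Line.symm {p q z : Y} (h : Line D p q z) : Line D q p z :=
  ⟨h.1, fun x hx h1 h2 => h.2 x hx h2 h1⟩

section Ab

variable {y y' z : Y} {w w' : Fin 4 → F}

theorem Ab.mem (h : Ab hF D ρ y w) : y ∈ D := h.2.1

theorem Ab.comm (h : Ab hF D ρ y w) : y * u = u * y := mem_cent.1 h.1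

theorem Ab.ne_zero (h : Ab hF D ρ y w) : w ≠ 0 := h.2.2.1

theorem Ab.iso (h : Ab hF D ρ y w) : hermForm 4 F 2 w w = 0 := h.2.2.2.1

theorem Ab.smul (h : Ab hF D ρ y w) {c : F} (hc : c ≠ 0) : Ab hF D ρ y (c • w) :=
  ⟨h.1, Loc.ov_smul h.2 hc⟩

theorem Ab.unique (h : Ab hF D ρ y w) (h' : Ab hF D ρ y w') : ∃ c : F, c ≠ 0 ∧ w = c • w' := by
  obtain ⟨h1, h2⟩ := h
  obtain ⟨h3, h4⟩ := h'
  exact Loc.ov_unique h2 h4

end Ab

namespace Loc

variable (L : Loc hF D u ρ β) {y y' z : Y} {w w' : Fin 4 → F}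
include L

theorem ab_ne (h : Ab hF D ρ y w) : y ≠ u := by
  rintro rfl
  obtain ⟨h1, h2⟩ := h
  exact L.not_ov_uu w h2

theorem exists_ab (hy : y ∈ D) (hc : y * u = u * y) (hne : y ≠ u) : ∃ w, Ab hF D ρ y w := by
  obtain ⟨w, hw⟩ := L.exists_ov (y := ⟨y, mem_cent.2 hc⟩) hy (fun h => hne (congrArg Subtype.val h))
  exact ⟨w, mem_cent.2 hc, hw⟩

/-- The four members over a point. -/
theorem ab_four (hw : hermForm 4 F 2 w w = 0) (hw0 : w ≠ 0) :
    ∃ x : Fin 4 → Y, Function.Injective x ∧ (∀ i, Ab hF D ρ (x i) w) ∧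
      (∀ y, Ab hF D ρ y w → ∃ i, y = x i) ∧ x 0 * x 1 * x 2 * x 3 = u := by
  obtain ⟨x, h1, h2, h3, -, h4, -⟩ := L.exists_four hw hw0
  refine ⟨fun i => x i, fun i j hij => h1 (Subtype.ext hij), fun i => ⟨(x i).2, h2 i⟩, ?_,
    congrArg Subtype.val h4⟩
  rintro y ⟨hy, hy'⟩
  obtain ⟨i, hi⟩ := h3 _ hy'
  exact ⟨i, congrArg Subtype.val hi⟩

theorem exists_over (hw : hermForm 4 F 2 w w = 0) (hw0 : w ≠ 0) : ∃ y, Ab hF D ρ y w := by
  obtain ⟨x, -, h, -, -⟩ := L.ab_four hw hw0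
  exact ⟨x 0, h 0⟩

/-- Another member over the same point. -/
theorem exists_other (h : Ab hF D ρ y w) : ∃ y', Ab hF D ρ y' w ∧ y' ≠ y := by
  obtain ⟨x, h1, h2, h3, -⟩ := L.ab_four h.iso h.ne_zero
  by_cases h4 : x 0 = y
  · refine ⟨x 1, h2 1, fun h5 => ?_⟩
    have := h1 (h4.trans h5.symm)
    exact absurd this (by decide)
  · exact ⟨x 0, h2 0, h4⟩

variable (hD2 : ∀ d ∈ D, d * d = 1) (hDc : ∀ g : Y, ∀ d ∈ D, g * d * g⁻¹ ∈ D)
include hD2 hDc

theorem ab_iff (h : Ab hF D ρ y w) (h' : Ab hF D ρ y' w') :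
    y * y' = y' * y ↔ hermForm 4 F 2 w w' = 0 := by
  rw [← L.comm_iff hD2 hDc h.2 h'.2]
  exact ⟨fun h => Subtype.ext h, fun h => congrArg Subtype.val h⟩

theorem ab_cube (h : Ab hF D ρ y w) (h' : Ab hF D ρ y' w') (hne : hermForm 4 F 2 w w' ≠ 0) :
    (y * y') ^ 3 = 1 :=
  congrArg Subtype.val (L.cube hD2 hDc h.2 h'.2 hne)

theorem ab_cases (h : Ab hF D ρ y w) (h' : Ab hF D ρ y' w') :
    y * y' = y' * y ∨ (y * y') ^ 3 = 1 := by
  by_cases hne : hermForm 4 F 2 w w' = 0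
  · exact Or.inl ((L.ab_iff hD2 hDc h h').2 hne)
  · exact Or.inr (L.ab_cube hD2 hDc h h' hne)

theorem line_iff (h : Ab hF D ρ y w) : Line D u y z ↔ z = u ∨ Ab hF D ρ z w := by
  constructor
  · rintro ⟨hz, h1⟩
    by_cases hzu : z = u
    · exact Or.inl hzu
    right
    have hzc : z * u = u * z := (h1 u L.mem rfl h.comm.symm).symm
    obtain ⟨w', hw'⟩ := L.exists_ab hz hzc hzu
    have key : ∀ v : Fin 4 → F, hermForm 4 F 2 v v = 0 → hermForm 4 F 2 v w = 0 →
        hermForm 4 F 2 v w' = 0 := by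
      intro v hv hvw
      by_cases hv0 : v = 0
      · rw [hv0, herm_zero_left]
      obtain ⟨x, hx⟩ := L.exists_over hv hv0
      exact (L.ab_iff hD2 hDc hx hw').1 (h1 x hx.mem hx.comm ((L.ab_iff hD2 hDc hx h).2 hvw))
    obtain ⟨w1, f, f1, B⟩ := exists_HB hF h.iso h.ne_zero
    have e := B.exp w'
    rw [herm_eq_zero_swap hF (key w B.ww B.ww),
      herm_eq_zero_swap hF (key w1 B.w'w' (herm_eq_zero_swap hF B.ww')),
      herm_eq_zero_swap hF (key f1 B.f'f' (herm_eq_zero_swap hF B.wf'))] at e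
    simp only [zero_smul, add_zero] at e
    have hc : hermForm 4 F 2 w' f ≠ 0 := by
      intro h2
      rw [h2, zero_smul] at e
      exact hw'.ne_zero e
    have := hw'.smul (inv_ne_zero hc)
    rw [e, herm_smul_left, B.wf, mul_one, smul_smul, inv_mul_cancel₀ hc, one_smul] at this
    exact this
  · rintro (rfl | hz)
    · exact ⟨L.mem, fun x _ h1 _ => h1⟩
    · refine ⟨hz.mem, fun x hx h1 h2 => ?_⟩
      by_cases hxu : x = u
      · rw [hxu]; exact hz.comm.symm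
      obtain ⟨v, hv⟩ := L.exists_ab hx h1 hxu
      exact (L.ab_iff hD2 hDc hv hz).2 ((L.ab_iff hD2 hDc hv h).1 h2)

/-- `u y` is not in `D`. -/
theorem mul_notMem (h : Ab hF D ρ y w) : u * y ∉ D := by
  intro hm
  obtain ⟨hy, hov⟩ := id h
  have hyy : y * y = 1 := hD2 y h.mem
  have hne : u * y ≠ u := by
    intro h1
    have h2 : y = 1 := mul_eq_left.1 h1
    obtain ⟨-, -, hw, hr⟩ := hov
    have h3 : (⟨y, hy⟩ : Subgroup.centralizer ({u} : Set Y)) = 1 := Subtype.ext h2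
    rw [h3, map_one] at hr
    exact T_ne_one hF hw h.ne_zero hr.symm
  have hc : (u * y) * u = u * (u * y) := by rw [mul_assoc, h.comm]
  have huy : (⟨u * y, mem_cent.2 hc⟩ : Subgroup.centralizer ({u} : Set Y)) = uu u * ⟨y, hy⟩ := rfl
  have h1 : Ov hF D ρ ⟨u * y, mem_cent.2 hc⟩ w := by
    refine ⟨hm, h.ne_zero, h.iso, ?_⟩
    obtain ⟨-, -, hw, hr⟩ := hov
    rw [huy, map_mul, L.rho_u, one_mul, hr]
  obtain ⟨-, -, h2⟩ := L.same_fiber hD2 h1 hov
  have h3 := (h2 (by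
    intro h4
    have h5 : u * y = y := congrArg Subtype.val h4
    exact L.ne (mul_eq_right.1 h5))).1
  apply h3
  rw [huy, mul_assoc]
  have : (⟨y, hy⟩ : Subgroup.centralizer ({u} : Set Y)) * ⟨y, hy⟩ = 1 := Subtype.ext hyy
  rw [this, mul_one]

/-- `u y y'` is not in `D`. -/
theorem mul_mul_notMem (h : Ab hF D ρ y w) (h' : Ab hF D ρ y' w') (hne : y ≠ y')
    (hc : y * y' = y' * y) : u * y * y' ∉ D := by
  intro hm
  have hww := (L.ab_iff hD2 hDc h h').1 hc
  obtain ⟨hy, hov⟩ := id h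
  obtain ⟨hy', hov'⟩ := id h'
  have hm1 : (uu u * (⟨y, hy⟩ * ⟨y', hy'⟩) : Subgroup.centralizer ({u} : Set Y)) =
      ⟨u * y * y', Subgroup.mul_mem _ (Subgroup.mul_mem _ (uu u).2 hy) hy'⟩ := by
    apply Subtype.ext
    exact (mul_assoc u y y').symm
  have hρ : ρ (uu u * (⟨y, hy⟩ * ⟨y', hy'⟩)) = T hF w h.iso * T hF w' h'.iso := by
    obtain ⟨-, -, hw, hr⟩ := hov
    obtain ⟨-, -, hw', hr'⟩ := hov'
    rw [map_mul, map_mul, L.rho_u, one_mul, hr, hr']
  rcases L.only (uu u * (⟨y, hy⟩ * ⟨y', hy'⟩)) (by rw [hm1]; exact hm) with h1 | ⟨s, hs, hs0, h1⟩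
  · -- `y y' = 1`
    have h2 : u * (y * y') = u := h1
    have h3 : y * y' = 1 := mul_eq_left.1 h2
    apply hne
    have h4 : y' * y' = 1 := hD2 y' h'.mem
    exact mul_right_cancel (h3.trans h4.symm)
  · rw [hρ] at h1
    by_cases hp : ∃ c : F, w = c • w'
    · obtain ⟨c, hc⟩ := hp
      have hc0 : c ≠ 0 := by
        rintro rfl
        rw [zero_smul] at hc
        exact h.ne_zero hc
      have h2 : T hF w h.iso = T hF w' h'.iso := by
        subst hc
        exact T_smul hF c hc0 w' h'.iso _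
      rw [h2, T_mul_self] at h1
      exact T_ne_one hF hs hs0 h1.symm
    · exact TT_ne hF h.iso h'.iso h'.ne_zero hp hww hs h1

end Loc

section Transport

theorem locAt_conj (hDc : ∀ g : Y, ∀ d ∈ D, g * d * g⁻¹ ∈ D) (h : LocAt hF D u) (g : Y) :
    LocAt hF D (g * u * g⁻¹) := by
  obtain ⟨ρ, β, L⟩ := h
  have hmem : ∀ c, c ∈ Subgroup.centralizer ({g * u * g⁻¹} : Set Y) →
      g⁻¹ * c * g ∈ Subgroup.centralizer ({u} : Set Y) := by
    intro c hc
    have h1 : c * (g * u * g⁻¹) = g * u * g⁻¹ * c := mem_cent.1 hc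
    refine mem_cent.2 ?_
    change g⁻¹ * c * g * u = u * (g⁻¹ * c * g)
    calc g⁻¹ * c * g * u = g⁻¹ * (c * (g * u * g⁻¹)) * g := by group
      _ = g⁻¹ * (g * u * g⁻¹ * c) * g := by rw [h1]
      _ = u * (g⁻¹ * c * g) := by group
  have hmem' : ∀ c, c ∈ Subgroup.centralizer ({u} : Set Y) →
      g * c * g⁻¹ ∈ Subgroup.centralizer ({g * u * g⁻¹} : Set Y) := by
    intro c hc
    have h1 : c * u = u * c := mem_cent.1 hc
    refine mem_cent.2 ?_
    change g * c * g⁻¹ * (g * u * g⁻¹) = g * u * g⁻¹ * (g * c * g⁻¹)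
    calc g * c * g⁻¹ * (g * u * g⁻¹) = g * (c * u) * g⁻¹ := by group
      _ = g * (u * c) * g⁻¹ := by rw [h1]
      _ = g * u * g⁻¹ * (g * c * g⁻¹) := by group
  let e : Subgroup.centralizer ({g * u * g⁻¹} : Set Y) →* Subgroup.centralizer ({u} : Set Y) :=
    MonoidHom.mk' (fun c => ⟨g⁻¹ * c * g, hmem c c.2⟩) (by
      intro a b
      apply Subtype.ext
      change g⁻¹ * ((a : Y) * b) * g = g⁻¹ * a * g * (g⁻¹ * b * g)
      group)
  let e' : Subgroup.centralizer ({u} : Set Y) → Subgroup.centralizer ({g * u * g⁻¹} : Set Y) :=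
    fun c => ⟨g * c * g⁻¹, hmem' c c.2⟩
  have hee' : ∀ c, e (e' c) = c := by
    intro c
    apply Subtype.ext
    change g⁻¹ * (g * (c : Y) * g⁻¹) * g = c
    group
  have he'e : ∀ c, e' (e c) = c := by
    intro c
    apply Subtype.ext
    change g * (g⁻¹ * (c : Y) * g) * g⁻¹ = c
    group
  have hcoe : ∀ c, (e c : Y) = g⁻¹ * c * g := fun c => rfl
  have hcoe' : ∀ c, (e' c : Y) = g * c * g⁻¹ := fun c => rfl
  have hDe : ∀ c, (e c : Y) ∈ D ↔ (c : Y) ∈ D := by
    intro c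
    constructor
    · intro h
      have := hDc g _ h
      rw [hcoe] at this
      have h2 : g * (g⁻¹ * (c : Y) * g) * g⁻¹ = c := by group
      rwa [h2] at this
    · intro h
      have := hDc g⁻¹ _ h
      rwa [inv_inv] at this
  refine ⟨ρ.comp e, fun c => β (e c), ?_⟩
  refine ⟨hDc g u L.mem, ?_, ?_, ?_, ?_, ?_, ?_, ?_, ?_, ?_, ?_⟩
  · calc g * u * g⁻¹ * (g * u * g⁻¹) = g * (u * u) * g⁻¹ := by group
      _ = 1 := by rw [L.sq]; group
  · intro h
    apply L.ne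
    have : u = g⁻¹ * (g * u * g⁻¹) * g := by group
    rw [this, h]
    group
  · intro s
    obtain ⟨c, hc⟩ := L.surj s
    refine ⟨e' c, ?_⟩
    rw [MonoidHom.comp_apply, hee', hc]
  · intro p q hp hq
    rw [map_mul]
    exact L.add _ _ hp hq
  · intro p hp
    rw [L.ker (e p) hp, hcoe]
    constructor
    · rintro (h | h)
      · left
        have : (p : Y) = g * (g⁻¹ * p * g) * g⁻¹ := by group
        rw [this, h]
        group
      · right
        have : (p : Y) = g * (g⁻¹ * p * g) * g⁻¹ := by group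
        rw [this, h]
    · rintro (h | h)
      · left
        rw [h]
        group
      · right
        rw [h]
        group
  · intro v
    obtain ⟨p, hp, hpv⟩ := L.bsurj v
    refine ⟨e' p, ?_, ?_⟩
    · rw [MonoidHom.comp_apply, hee', hp]
    · rw [hee', hpv]
  · intro c p hp
    rw [map_mul, map_mul, map_inv]
    exact L.conj _ _ hp
  · intro p hp
    rw [← L.psq (e p) hp]
    constructor
    · intro h
      rw [← map_mul, h, map_one]
    · intro h
      rw [← map_mul] at h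
      have := congrArg e' h
      rw [he'e] at this
      rw [this]
      apply Subtype.ext
      change g * 1 * g⁻¹ = 1
      group
  · intro y hy
    rcases L.only (e y) ((hDe y).2 hy) with h | h
    · left
      rw [hcoe] at h
      have : (y : Y) = g * (g⁻¹ * y * g) * g⁻¹ := by group
      rw [this, h]
    · exact Or.inr h
  · intro w hw hw0
    obtain ⟨x, h1, h2, h3, h4, h5, h6⟩ := L.four w hw hw0
    refine ⟨fun i => e' (x i), ?_, ?_, ?_, ?_, ?_, ?_⟩
    · intro i j hij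
      apply h1
      have := congrArg e hij
      simpa only [hee'] using this
    · intro i
      refine ⟨?_, ?_⟩
      · rw [hcoe']; exact hDc g _ (h2 i).1
      · rw [MonoidHom.comp_apply, hee', (h2 i).2]
    · intro y hy hy2
      obtain ⟨i, hi⟩ := h3 (e y) ((hDe y).2 hy) hy2
      refine ⟨i, ?_⟩
      change y = e' (x i)
      rw [← hi, he'e]
    · intro i j
      apply Subtype.ext
      have h7 : (x i : Y) * x j = x j * x i := congrArg Subtype.val (h4 i j)
      change g * (x i : Y) * g⁻¹ * (g * (x j : Y) * g⁻¹) = g * (x j : Y) * g⁻¹ * (g * (x i : Y) * g⁻¹)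
      calc g * (x i : Y) * g⁻¹ * (g * (x j : Y) * g⁻¹) = g * ((x i : Y) * x j) * g⁻¹ := by group
        _ = g * ((x j : Y) * x i) * g⁻¹ := by rw [h7]
        _ = _ := by group
    · change g * (x 0 : Y) * g⁻¹ * (g * (x 1 : Y) * g⁻¹) * (g * (x 2 : Y) * g⁻¹) *
        (g * (x 3 : Y) * g⁻¹) = g * u * g⁻¹
      have h7 : (x 0 : Y) * x 1 * x 2 * x 3 = u := h5
      calc g * (x 0 : Y) * g⁻¹ * (g * (x 1 : Y) * g⁻¹) * (g * (x 2 : Y) * g⁻¹) *
          (g * (x 3 : Y) * g⁻¹) = g * ((x 0 : Y) * x 1 * x 2 * x 3) * g⁻¹ := by group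
        _ = g * u * g⁻¹ := by rw [h7]
    · intro i j
      obtain ⟨k, hk⟩ := h6 i j
      refine ⟨k, ?_⟩
      rw [map_mul, hee', hee', hk]

end Transport

/-- The local structure at every member of `D`. -/
structure Glob (hF : Fintype.card F = 2 ^ 2) (D : Set Y) : Prop where
  sq : ∀ d ∈ D, d * d = 1
  conj : ∀ g : Y, ∀ d ∈ D, g * d * g⁻¹ ∈ D
  loc : ∀ d ∈ D, LocAt hF D d

theorem glob_of_locAt (h : LocAt hF (conjugatesOf u) u) : Glob hF (conjugatesOf u) := by
  have hc : ∀ g : Y, ∀ d ∈ conjugatesOf u, g * d * g⁻¹ ∈ conjugatesOf u := by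
    intro g d hd
    exact IsConj.trans hd (isConj_iff.2 ⟨g, rfl⟩)
  refine ⟨?_, hc, ?_⟩
  · intro d hd
    obtain ⟨g, rfl⟩ := isConj_iff.1 hd
    obtain ⟨ρ, β, L⟩ := h
    calc g * u * g⁻¹ * (g * u * g⁻¹) = g * (u * u) * g⁻¹ := by group
      _ = 1 := by rw [L.sq]; group
  · intro d hd
    obtain ⟨g, rfl⟩ := isConj_iff.1 hd
    exact locAt_conj hc h g

end Cfsg.Agent.R08.USix
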