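import Cfsg.Agent.R08.USixBase

/-!
Geometry of the commuting graph: the component of a member of `D` has diameter two and odd order.
-/

set_option autoImplicit false
set_option linter.unusedSectionVars false

namespace Cfsg.Agent.R08.USix

open Cfsg Cfsg.Agent.LieClassical.HermBasic Cfsg.Agent.ClassicalGeometry.UnitTransv
open Cfsg.Agent.SporadicStructure.UnitTwo Cfsg.Agent.R01.PSUSix Cfsg.Agent.R08.Herm4
open Cfsg.Agent.R01.Closing

variable {Y : Type*} [Group Y] {F : Type*} [Field F] [Fintype F]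
variable {hF : Fintype.card F = 2 ^ 2} {D : Set Y}

namespace Glob

variable (G : Glob hF D)
include G

theorem ne_one {d : Y} (hd : d ∈ D) : d ≠ 1 := by
  obtain ⟨ρ, β, L⟩ := G.loc d hd
  exact L.ne

theorem two {a b : Y} (ha : a ∈ D) (hb : b ∈ D) (hne : a ≠ b) (hab : a * b = b * a) :
    a * b ∉ D := by
  obtain ⟨ρ, β, L⟩ := G.loc a ha
  obtain ⟨w, hw⟩ := L.exists_ab hb hab.symm hne.symm
  exact L.mul_notMem G.sq G.conj hw

theorem prod {a b c : Y} (ha : a ∈ D) (hb : b ∈ D) (hc : c ∈ D) (hab : a ≠ b) (hac : a ≠ c)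
    (hbc : b ≠ c) (cab : a * b = b * a) (cac : a * c = c * a) (cbc : b * c = c * b) :
    a * b * c ∉ D := by
  obtain ⟨ρ, β, L⟩ := G.loc a ha
  obtain ⟨w, hw⟩ := L.exists_ab hb cab.symm hab.symm
  obtain ⟨w', hw'⟩ := L.exists_ab hc cac.symm hac.symm
  exact L.mul_mul_notMem G.sq G.conj hw hw' hbc cbc

/-- An odd relation. -/
theorem odd {a b : Y} (ha : a ∈ D) (hb : b ∈ D) (hne : a ≠ b) (hab : a * b = b * a) :
    ∃ l : List Y, Odd l.length ∧ (∀ x ∈ l, x ∈ D) ∧
    (∀ x ∈ l, ∀ y ∈ l, x * y = y * x) ∧ (∀ x ∈ l, x * a = a * x) ∧ (∀ x ∈ l, x * b = b * x) ∧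
    l.prod = 1 := by
  obtain ⟨ρ, β, L⟩ := G.loc a ha
  obtain ⟨w, hw⟩ := L.exists_ab hb hab.symm hne.symm
  obtain ⟨x, h1, h2, h3, h4⟩ := L.ab_four hw.iso hw.ne_zero
  have hc : ∀ i j, x i * x j = x j * x i := fun i j =>
    (L.ab_iff G.sq G.conj (h2 i) (h2 j)).2 (h2 i).iso
  have hl : ∀ y ∈ [a, x 0, x 1, x 2, x 3], y = a ∨ ∃ i, y = x i := by
    intro y hy
    simp only [List.mem_cons, List.not_mem_nil, or_false] at hy
    rcases hy with h | h | h | h | h
    · exact Or.inl h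
    · exact Or.inr ⟨_, h⟩
    · exact Or.inr ⟨_, h⟩
    · exact Or.inr ⟨_, h⟩
    · exact Or.inr ⟨_, h⟩
  refine ⟨[a, x 0, x 1, x 2, x 3], ⟨2, rfl⟩, ?_, ?_, ?_, ?_, ?_⟩
  · intro y hy
    rcases hl y hy with rfl | ⟨i, rfl⟩
    · exact ha
    · exact (h2 i).mem
  · intro y hy z hz
    rcases hl y hy with rfl | ⟨i, rfl⟩ <;> rcases hl z hz with rfl | ⟨j, rfl⟩
    · rfl
    · exact (h2 j).comm.symm
    · exact (h2 i).comm
    · exact hc i j
  · intro y hy
    rcases hl y hy with rfl | ⟨i, rfl⟩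
    · rfl
    · exact (h2 i).comm
  · intro y hy
    rcases hl y hy with rfl | ⟨i, rfl⟩
    · exact hab
    · exact (L.ab_iff G.sq G.conj (h2 i) hw).2 hw.iso
  · have : [a, x 0, x 1, x 2, x 3].prod = a * (x 0 * x 1 * x 2 * x 3) := by
      simp [mul_assoc]
    rw [this, h4, G.sq a ha]

/-! ### Lines -/

theorem exch {p q z : Y} (hp : p ∈ D) (hq : q ∈ D) (hpq : p ≠ q) (hc : p * q = q * p)
    (h : Line D p q z) (hzp : z ≠ p) : Line D p z q := by
  obtain ⟨ρ, β, L⟩ := G.loc p hp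
  obtain ⟨w, hw⟩ := L.exists_ab hq hc.symm hpq.symm
  have hz := ((L.line_iff G.sq G.conj hw).1 h).resolve_left hzp
  exact (L.line_iff G.sq G.conj hz).2 (Or.inr hw)

theorem line_trans {p q q' z : Y} (hp : p ∈ D) (hq : q ∈ D) (hq' : q' ∈ D) (hpq : p ≠ q)
    (hpq' : p ≠ q') (hc : p * q = q * p) (hc' : p * q' = q' * p) (h : Line D p q z)
    (h' : Line D p q' z) (hzp : z ≠ p) : Line D p q q' := by
  obtain ⟨ρ, β, L⟩ := G.loc p hp
  obtain ⟨w, hw⟩ := L.exists_ab hq hc.symm hpq.symm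
  obtain ⟨w', hw'⟩ := L.exists_ab hq' hc'.symm hpq'.symm
  have hz := ((L.line_iff G.sq G.conj hw).1 h).resolve_left hzp
  have hz' := ((L.line_iff G.sq G.conj hw').1 h').resolve_left hzp
  obtain ⟨c, hc, e⟩ := hz.unique hz'
  refine (L.line_iff G.sq G.conj hw).2 (Or.inr ?_)
  rw [e]
  exact hw'.smul hc

/-- Path shortening. -/
theorem step {a b c e : Y} (ha : a ∈ D) (hb : b ∈ D) (hc : c ∈ D) (he : e ∈ D)
    (hab : a * b = b * a) (hbc : b * c = c * b) (hce : c * e = e * c) :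
    ∃ g ∈ D, g * a = a * g ∧ g * e = e * g := by
  by_cases hac : a * c = c * a
  · exact ⟨c, hc, hac.symm, hce⟩
  by_cases hbe : b * e = e * b
  · exact ⟨b, hb, hab.symm, hbe⟩
  have hnbc : b ≠ c := by
    rintro rfl
    exact hac hab
  have hnab : a ≠ b := by
    rintro rfl
    exact hac hbc
  have hnce : c ≠ e := by
    rintro rfl
    exact hbe hbc
  obtain ⟨ρ, β, L⟩ := G.loc b hb
  obtain ⟨ra, hra⟩ := L.exists_ab ha hab hnab
  obtain ⟨rc, hrc⟩ := L.exists_ab hc hbc.symm hnbc.symm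
  have hrac : hermForm 4 F 2 ra rc ≠ 0 := fun h => hac ((L.ab_iff G.sq G.conj hra hrc).2 h)
  obtain ⟨t, ht, ht0, htc, hta⟩ := exists_common hF (s := ra) hrc.iso hrc.ne_zero
  obtain ⟨y, hyinj, hy, -, -⟩ := L.ab_four ht ht0
  have hya : ∀ i, y i * a = a * y i := fun i => (L.ab_iff G.sq G.conj (hy i) hra).2 hta
  have hyc : ∀ i, y i * c = c * y i := fun i => (L.ab_iff G.sq G.conj (hy i) hrc).2 htc
  have hyb : ∀ i, y i * b = b * y i := fun i => (hy i).comm
  have hyne : ∀ i, y i ≠ b := fun i => L.ab_ne (hy i)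
  have hync : ∀ i, y i ≠ c := by
    intro i h
    apply hac
    rw [← h]
    exact (hya i).symm
  have hyy : ∀ i j, y i * y j = y j * y i := fun i j =>
    (L.ab_iff G.sq G.conj (hy i) (hy j)).2 (hy i).iso
  -- `c` is not on the line through `b` and `y i`
  have hcl : ∀ i, ¬ Line D b (y i) c := by
    intro i h
    have h1 := ((L.line_iff G.sq G.conj (hy i)).1 h).resolve_left hnbc.symm
    obtain ⟨k, hk, e1⟩ := h1.unique hrc
    apply hrac
    rw [e1, herm_smul_left] at hta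
    exact herm_eq_zero_swap hF ((mul_eq_zero.1 hta).resolve_left hk)
  obtain ⟨ρ', β', L'⟩ := G.loc c hc
  obtain ⟨sb, hsb⟩ := L'.exists_ab hb hbc hnbc
  obtain ⟨se, hse⟩ := L'.exists_ab he hce.symm hnce.symm
  have hsbe : hermForm 4 F 2 sb se ≠ 0 := fun h => hbe ((L'.ab_iff G.sq G.conj hsb hse).2 h)
  choose s hs using fun i => L'.exists_ab (hy i).mem (hyc i) (hync i)
  have hsbs : ∀ i, hermForm 4 F 2 sb (s i) = 0 := fun i =>
    (L'.ab_iff G.sq G.conj hsb (hs i)).1 (hyb i).symm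
  have hss : ∀ i j, hermForm 4 F 2 (s i) (s j) = 0 := fun i j =>
    (L'.ab_iff G.sq G.conj (hs i) (hs j)).1 (hyy i j)
  -- `s i` is not proportional to `sb`
  have hnp : ∀ i, ¬ ∃ k : F, s i = k • sb := by
    rintro i ⟨k, hk⟩
    have hk0 : k ≠ 0 := by
      rintro rfl
      rw [zero_smul] at hk
      exact (hs i).ne_zero hk
    have h1 : Ab hF D ρ' (y i) sb := by
      have := (hs i).smul (inv_ne_zero hk0)
      rwa [hk, smul_smul, inv_mul_cancel₀ hk0, one_smul] at this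
    have h2 : Line D c b (y i) := (L'.line_iff G.sq G.conj hsb).2 (Or.inr h1)
    exact hcl i (G.exch hb hc hnbc hbc h2.symm (hyne i))
  -- coefficients
  have hspan : ∀ i, ∃ x z : F, s i = x • sb + z • s 0 := fun i =>
    mem_span_of_perp hF hsb.iso hsb.ne_zero (hs 0).iso (hsbs 0) (hnp 0)
      (herm_eq_zero_swap hF (hsbs i)) (hss i 0)
  choose x z hxz using hspan
  have hz0 : ∀ i, z i ≠ 0 := by
    intro i h
    apply hnp i
    refine ⟨x i, ?_⟩
    rw [hxz i, h, zero_smul, add_zero]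
  have hAb : ∀ i, Ab hF D ρ' (y i) (((z i)⁻¹ * x i) • sb + s 0) := by
    intro i
    have := (hs i).smul (inv_ne_zero (hz0 i))
    rwa [hxz i, smul_add, smul_smul, smul_smul, inv_mul_cancel₀ (hz0 i), one_smul] at this
  have hinj : Function.Injective fun i => (z i)⁻¹ * x i := by
    intro i j hij
    by_contra hne
    have hij' : y i ≠ y j := fun h => hne (hyinj h)
    have h1 := hAb i
    have h2 := hAb j
    have hij2 : (z i)⁻¹ * x i = (z j)⁻¹ * x j := hij
    rw [hij2] at h1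
    have l1 : Line D c (y i) (y j) := (L'.line_iff G.sq G.conj h1).2 (Or.inr h2)
    have l2 : Line D b (y i) (y j) := (L.line_iff G.sq G.conj (hy i)).2 (Or.inr (hy j))
    -- at the base `y i`
    have l3 : Line D (y i) b c := G.line_trans (hy i).mem hb hc (hyne i) (hync i) (hyb i) (hyc i)
      l2.symm l1.symm hij'.symm
    exact hcl i (l3.symm)
  have hbij : Function.Bijective fun i => (z i)⁻¹ * x i := by
    rw [Fintype.bijective_iff_injective_and_card]
    exact ⟨hinj, by rw [hF]; rfl⟩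
  obtain ⟨i, hi⟩ := hbij.2 (-(hermForm 4 F 2 (s 0) se * (hermForm 4 F 2 sb se)⁻¹))
  have hi' : (z i)⁻¹ * x i = -(hermForm 4 F 2 (s 0) se * (hermForm 4 F 2 sb se)⁻¹) := hi
  refine ⟨y i, (hy i).mem, hya i, ?_⟩
  refine (L'.ab_iff G.sq G.conj (hAb i) hse).2 ?_
  rw [herm_add_left, herm_smul_left, hi', neg_mul, mul_assoc, inv_mul_cancel₀ hsbe, mul_one,
    neg_add_cancel]

theorem diam {a b : Y} (ha : a ∈ D) (h : Conn D a b) : ∃ g ∈ D, g * a = a * g ∧ g * b = b * g := by
  induction h with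
  | refl => exact ⟨a, ha, rfl, rfl⟩
  | tail _ hbc ih =>
    obtain ⟨g, hg, hga, hgb⟩ := ih
    exact G.step ha hg hbc.1 hbc.2.1 hga.symm hgb hbc.2.2

theorem cases_of_common {a b g : Y} (ha : a ∈ D) (hb : b ∈ D) (hg : g ∈ D) (hga : g * a = a * g)
    (hgb : g * b = b * g) : a * b = b * a ∨ (a * b) ^ 3 = 1 := by
  by_cases h1 : a = g
  · rw [h1]; exact Or.inl hgb
  by_cases h2 : b = g
  · rw [h2]; exact Or.inl hga.symm
  obtain ⟨ρ, β, L⟩ := G.loc g hg
  obtain ⟨w, hw⟩ := L.exists_ab ha hga.symm h1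
  obtain ⟨w', hw'⟩ := L.exists_ab hb hgb.symm h2
  exact L.ab_cases G.sq G.conj hw hw'

theorem three {a b : Y} (ha : a ∈ D) (h : Conn D a b) : a * b = b * a ∨ (a * b) ^ 3 = 1 := by
  obtain ⟨g, hg, hga, hgb⟩ := G.diam ha h
  exact G.cases_of_common ha (h.mem ha) hg hga hgb

end Glob

/-! ### Parity -/

section Parity

theorem exists_fixed_of_odd {S : Set Y} [Finite S] (hodd : Odd (Nat.card S)) {t : Y}
    (ht : t * t = 1) (h : ∀ x ∈ S, t * x * t⁻¹ ∈ S) : ∃ x ∈ S, t * x = x * t := by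
  classical
  haveI := Fintype.ofFinite S
  have hinv : Function.Involutive (fun x : S => (⟨t * x * t⁻¹, h x x.2⟩ : S)) := by
    intro x
    apply Subtype.ext
    change t * (t * (x : Y) * t⁻¹) * t⁻¹ = x
    calc t * (t * (x : Y) * t⁻¹) * t⁻¹ = (t * t) * x * (t * t)⁻¹ := by group
      _ = x := by rw [ht]; group
  have hcard : ¬ 2 ∣ Fintype.card S := by
    rw [← Nat.card_eq_fintype_card]
    exact fun h2 => (Nat.not_even_iff_odd.mpr hodd) (even_iff_two_dvd.mpr h2)
  haveI : Fact (Nat.Prime 2) := ⟨Nat.prime_two⟩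
  obtain ⟨a, ha⟩ := Equiv.Perm.exists_fixed_point_of_prime (p := 2) (n := 1) hcard
    (σ := hinv.toPerm) (by
      rw [pow_one, pow_two]
      ext x
      simp only [Equiv.Perm.coe_mul, Function.comp_apply, Equiv.Perm.coe_one, id_eq]
      rw [Function.Involutive.coe_toPerm]
      exact congrArg Subtype.val (hinv x))
  refine ⟨a, a.2, ?_⟩
  have h1 : t * (a : Y) * t⁻¹ = a := congrArg Subtype.val ha
  exact mul_inv_eq_iff_eq_mul.1 h1

theorem odd_of_fixed_odd {S : Set Y} [Finite S] {t : Y} (ht : t * t = 1)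
    (h : ∀ x ∈ S, t * x * t⁻¹ ∈ S) (hodd : Odd (Nat.card {x : Y | x ∈ S ∧ t * x = x * t})) :
    Odd (Nat.card S) := by
  classical
  haveI := Fintype.ofFinite S
  have hinv : Function.Involutive (fun x : S => (⟨t * x * t⁻¹, h x x.2⟩ : S)) := by
    intro x
    apply Subtype.ext
    change t * (t * (x : Y) * t⁻¹) * t⁻¹ = x
    calc t * (t * (x : Y) * t⁻¹) * t⁻¹ = (t * t) * x * (t * t)⁻¹ := by group
      _ = x := by rw [ht]; group
  haveI : Fact (Nat.Prime 2) := ⟨Nat.prime_two⟩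
  let f : Function.End S := fun x : S => (⟨t * x * t⁻¹, h x x.2⟩ : S)
  have h1 := Equiv.Perm.card_fixedPoints_modEq (f := f) (p := 2) (n := 1) (by
      rw [pow_one, pow_two]
      funext x
      exact hinv x)
  have h2 : Fintype.card f.fixedPoints = Nat.card {x : Y | x ∈ S ∧ t * x = x * t} := by
    rw [← Nat.card_eq_fintype_card]
    refine Nat.card_congr ?_
    exact {
      toFun := fun x => ⟨(x.1 : Y), x.1.2, by
        have h3 : t * ((x.1 : S) : Y) * t⁻¹ = x.1 := congrArg Subtype.val x.2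
        exact mul_inv_eq_iff_eq_mul.1 h3⟩
      invFun := fun x => ⟨⟨x.1, x.2.1⟩, by
        apply Subtype.ext
        change t * (x : Y) * t⁻¹ = x
        exact mul_inv_eq_iff_eq_mul.2 x.2.2⟩
      left_inv := fun x => rfl
      right_inv := fun x => rfl }
  rw [h2, ← Nat.card_eq_fintype_card] at h1
  rw [Nat.odd_iff] at hodd ⊢
  rw [← hodd]
  exact h1

end Parity

/-! ### Counting -/

section Count

variable {u : Y} {ρ : Subgroup.centralizer ({u} : Set Y) →* SU 4 F 2}
variable {β : Subgroup.centralizer ({u} : Set Y) → (Fin 4 → F)}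

/-- The number of members of `D` commuting with `u` is odd. -/
theorem Loc.odd_card [Finite Y] (L : Loc hF D u ρ β) :
    Odd (Nat.card {x : Y | x ∈ D ∧ u * x = x * u}) := by
  classical
  haveI := Fintype.ofFinite Y
  have hfin : Fintype (Subgroup.centralizer ({u} : Set Y)) := Fintype.ofFinite _
  -- the members different from `u`
  set Z : Finset (Subgroup.centralizer ({u} : Set Y)) :=
    Finset.univ.filter fun c => (c : Y) ∈ D ∧ (c : Y) ≠ u with hZ
  have hZe : Even Z.card := by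
    rw [Finset.card_eq_sum_card_image ρ Z]
    refine Finset.even_sum _ fun g hg => ?_
    obtain ⟨c, hc, rfl⟩ := Finset.mem_image.1 hg
    rw [hZ, Finset.mem_filter] at hc
    obtain ⟨w, hw⟩ := L.exists_ov hc.2.1 (fun h => hc.2.2 (congrArg Subtype.val h))
    obtain ⟨-, hw0, hww, hr⟩ := id hw
    obtain ⟨x, h1, h2, h3, -⟩ := L.exists_four hww hw0
    have h4 : Z.filter (fun a => ρ a = ρ c) = Finset.univ.image x := by
      ext a
      simp only [Finset.mem_filter, Finset.mem_image, Finset.mem_univ, true_and, hZ]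
      constructor
      · rintro ⟨⟨h5, h6⟩, h7⟩
        obtain ⟨i, hi⟩ := h3 a ⟨h5, hw0, hww, by rw [h7, hr]⟩
        exact ⟨i, hi.symm⟩
      · rintro ⟨i, rfl⟩
        refine ⟨⟨(h2 i).1, ?_⟩, ?_⟩
        · intro h5
          apply L.not_ov_uu w
          have h6 : x i = uu u := Subtype.ext h5
          rw [← h6]
          exact h2 i
        · obtain ⟨-, -, hw', hr'⟩ := h2 i
          rw [hr', hr]
    rw [h4, Finset.card_image_of_injective _ h1]
    decide
  have hZmem : ∀ c, c ∈ Z ↔ (c : Y) ∈ D ∧ (c : Y) ≠ u := by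
    intro c
    rw [hZ, Finset.mem_filter]
    exact ⟨fun h => h.2, fun h => ⟨Finset.mem_univ _, h⟩⟩
  have e1 : Nat.card {x : Y | x ∈ D ∧ u * x = x * u} = (insert (Loc.uu u) Z).card := by
    have e2 : Nat.card {x : Y | x ∈ D ∧ u * x = x * u} =
        Nat.card (↑(insert (Loc.uu u) Z) : Set (Subgroup.centralizer ({u} : Set Y))) := by
      refine Nat.card_congr ?_
      exact {
        toFun := fun x => ⟨⟨x.1, mem_cent.2 x.2.2.symm⟩, by
          rw [Finset.mem_coe, Finset.mem_insert, hZmem]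
          by_cases h : (x : Y) = u
          · exact Or.inl (Subtype.ext h)
          · exact Or.inr ⟨x.2.1, h⟩⟩
        invFun := fun x => ⟨((x : Subgroup.centralizer ({u} : Set Y)) : Y), by
          have h1 : (x : Subgroup.centralizer ({u} : Set Y)) ∈ insert (Loc.uu u) Z :=
            Finset.mem_coe.1 x.2
          rw [Finset.mem_insert, hZmem] at h1
          rcases h1 with h1 | h1
          · rw [h1]
            exact ⟨L.mem, rfl⟩
          · exact ⟨h1.1, (mem_cent.1 (x : Subgroup.centralizer ({u} : Set Y)).2).symm⟩⟩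
        left_inv := fun x => rfl
        right_inv := fun x => rfl }
    rw [e2, Nat.card_eq_fintype_card]
    simp
  rw [e1, Finset.card_insert_of_notMem]
  · exact hZe.add_one
  · rw [hZmem]
    rintro ⟨-, h⟩
    exact h rfl

end Count

namespace Glob

variable (G : Glob hF D)
include G

theorem odd_set [Finite Y] {S : Set Y} (hS : S ⊆ D) {d : Y} (hd : d ∈ D)
    (hn : ∀ x ∈ D, d * x = x * d → x ∈ S) (hinv : ∀ x ∈ S, d * x * d⁻¹ ∈ S) :
    Odd (Nat.card S) := by
  haveI : Finite S := Set.toFinite S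
  refine odd_of_fixed_odd (G.sq d hd) hinv ?_
  obtain ⟨ρ, β, L⟩ := G.loc d hd
  have h1 := L.odd_card
  have h2 : {x : Y | x ∈ S ∧ d * x = x * d} = {x : Y | x ∈ D ∧ d * x = x * d} := by
    ext x
    exact ⟨fun h => ⟨hS h.1, h.2⟩, fun h => ⟨hn x h.1 h.2, h.2⟩⟩
  rw [h2]
  exact h1

theorem odd_card [Finite Y] {d : Y} (hd : d ∈ D) : Odd (Nat.card D) :=
  G.odd_set (fun _ h => h) hd (fun _ h _ => h) (fun x hx => G.conj d x hx)

theorem fixM [Finite Y] {a t : Y} (ha : a ∈ D) (ht : t * t = 1) (htM : t ∈ M D G.conj a) :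
    ∃ b ∈ D, Conn D a b ∧ t * b = b * t := by
  have hodd : Odd (Nat.card {x : Y | Conn D a x}) := by
    refine G.odd_set (fun x hx => Conn.mem hx ha) ha
      (fun x hx h => Conn.of_comm ha hx h) (fun x hx => ?_)
    have h1 := Conn.conj G.conj hx a
    have h2 : a * a * a⁻¹ = a := by group
    rwa [h2] at h1
  haveI : Finite {x : Y | Conn D a x} := Set.toFinite _
  obtain ⟨x, hx, htx⟩ := exists_fixed_of_odd hodd ht (fun x hx => by
    have h1 := Conn.conj G.conj hx t
    exact (mem_M G.conj |>.1 htM).trans h1)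
  exact ⟨x, Conn.mem hx ha, hx, htx⟩

end Glob

end Cfsg.Agent.R08.USix
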