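import Cfsg.Agent.R08.USixGeo

/-!
The involutions of the centraliser of a member of `D`; their centralisers are not transitive on the
members of `D` which they centralise.
-/

set_option autoImplicit false
set_option linter.unusedSectionVars false

namespace Cfsg.Agent.R08.USix

open Cfsg Cfsg.Agent.LieClassical.HermBasic Cfsg.Agent.ClassicalGeometry.UnitTransv
open Cfsg.Agent.SporadicStructure.UnitTwo Cfsg.Agent.R01.PSUSix Cfsg.Agent.R08.Herm4
open Cfsg.Agent.R01.Closing

variable {Y : Type*} [Group Y] {F : Type*} [Field F] [Fintype F]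
variable {hF : Fintype.card F = 2 ^ 2} {D : Set Y} {u : Y}
variable {ρ : Subgroup.centralizer ({u} : Set Y) →* SU 4 F 2}
variable {β : Subgroup.centralizer ({u} : Set Y) → (Fin 4 → F)}

namespace Loc

variable (L : Loc hF D u ρ β) {w w' : Fin 4 → F}
variable {x y p : Subgroup.centralizer ({u} : Set Y)}

include L in
theorem eq_or_of_beta {q : Subgroup.centralizer ({u} : Set Y)} (hp : ρ p = 1) (hq : ρ q = 1)
    (h : β p = β q) : p * q = 1 ∨ p * q = uu u := by
  have h1 : β (p * q) = 0 := by rw [L.add _ _ hp hq, h, vadd_self hF]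
  exact (L.beta_zero (by rw [map_mul, hp, hq, one_mul])).1 h1

variable (hD2 : ∀ d ∈ D, d * d = 1) (hDc : ∀ g : Y, ∀ d ∈ D, g * d * g⁻¹ ∈ D)
include L hD2

/-- Over a point every value of `β` on the multiples is attained. -/
theorem exists_pair (hx : Ov hF D ρ x w) (k : F) : ∃ y, Ov hF D ρ y w ∧ β (x * y) = k • w := by
  obtain ⟨hxD, hw0, hw, hr⟩ := id hx
  obtain ⟨z, hinj, hz, hall, hcomm, hprod, hβ⟩ := L.exists_four hw hw0
  obtain ⟨m, rfl⟩ := hall x hx
  choose κ hκ using fun i => hβ m i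
  have hone : ∀ i j, ρ (z i * z j) = 1 := fun i j => (L.same_fiber hD2 (hz i) (hz j)).2.1
  have hκinj : Function.Injective κ := by
    intro i j hij
    by_contra hne
    have h1 : β (z m * z i) = β (z m * z j) := by rw [hκ, hκ, hij]
    have h2 := L.eq_or_of_beta (hone m i) (hone m j) h1
    have h3 : z m * z i * (z m * z j) = z i * z j := by
      calc z m * z i * (z m * z j) = z i * z m * (z m * z j) := by rw [hcomm m i]
        _ = z i * (z m * z m) * z j := by group
        _ = z i * z j := by rw [ov_sq hD2 (hz m), mul_one]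
    rw [h3] at h2
    have hne' : z i ≠ z j := fun h => hne (hinj h)
    rcases h2 with h2 | h2
    · apply hne'
      rw [eq_inv_of_mul_eq_one_left h2, ov_inv hD2 (hz j)]
    · exact ((L.same_fiber hD2 (hz i) (hz j)).2.2 hne').1 h2
  have hbij : Function.Bijective κ := by
    rw [Fintype.bijective_iff_injective_and_card]
    exact ⟨hκinj, by rw [hF]; rfl⟩
  obtain ⟨i, hi⟩ := hbij.2 k
  exact ⟨z i, hz i, by rw [hκ, hi]⟩

/-- The product with `u` of two members over a point is again such a product. -/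
theorem uu_pair (hx : Ov hF D ρ x w) (hy : Ov hF D ρ y w) (hne : x ≠ y) :
    ∃ x' y', Ov hF D ρ x' w ∧ Ov hF D ρ y' w ∧ x' ≠ y' ∧ uu u * (x * y) = x' * y' := by
  obtain ⟨hxD, hw0, hw, hr⟩ := id hx
  obtain ⟨z, hinj, hz, hall, hcomm, hprod, hβ⟩ := L.exists_four hw hw0
  obtain ⟨i, rfl⟩ := hall x hx
  obtain ⟨j, rfl⟩ := hall y hy
  have hij : i ≠ j := fun h => hne (by rw [h])
  obtain ⟨k, l, hkl, -, -, -, -, h2⟩ := four_split z hcomm i j hij
  refine ⟨z k, z l, hz k, hz l, fun h => hkl (hinj h), ?_⟩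
  rw [← hprod, ← h2]
  have e1 : z i * z j * (z k * z l) = z k * z l * (z i * z j) := by
    have c1 : Commute (z i) (z k) := hcomm i k
    have c2 : Commute (z i) (z l) := hcomm i l
    have c3 : Commute (z j) (z k) := hcomm j k
    have c4 : Commute (z j) (z l) := hcomm j l
    exact ((c1.mul_right c2).mul_left (c3.mul_right c4))
  rw [e1, mul_assoc (z k * z l)]
  have e2 : z i * z j * (z i * z j) = 1 := by
    calc z i * z j * (z i * z j) = z i * (z j * z i) * z j := by group
      _ = z i * (z i * z j) * z j := by rw [hcomm j i]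
      _ = (z i * z i) * (z j * z j) := by group
      _ = 1 := by rw [ov_sq hD2 (hz i), ov_sq hD2 (hz j), one_mul]
  rw [e2, mul_one]

include hDc

theorem comm_perp (hx : Ov hF D ρ x w) (hy : Ov hF D ρ y w') (h : hermForm 4 F 2 w w' = 0) :
    Commute x y := (L.comm_iff hD2 hDc hx hy).2 h

/-- Elements of the kernel perpendicular to `w` commute with the members over `w`. -/
theorem comm_P (hp : ρ p = 1) (hx : Ov hF D ρ x w) (h : hermForm 4 F 2 (β p) w = 0) :
    Commute p x := by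
  obtain ⟨hxD, hw0, hw, hr⟩ := id hx
  obtain ⟨w1, f, f1, B⟩ := exists_HB hF hw hw0
  have e := B.exp (β p)
  rw [h, zero_smul, add_zero] at e
  have hw10 : w1 ≠ 0 := by
    rintro h0
    have := B.w'f'
    rw [h0, herm_zero_left] at this
    exact zero_ne_one this
  have hf10 : f1 ≠ 0 := by
    rintro h0
    have := B.w'f'
    rw [h0, herm_zero_right hF] at this
    exact zero_ne_one this
  obtain ⟨z1, -, hz1, -⟩ := L.exists_four B.w'w' hw10
  obtain ⟨z2, -, hz2, -⟩ := L.exists_four B.f'f' hf10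
  obtain ⟨y0, hy0, b0⟩ := L.exists_pair hD2 hx (hermForm 4 F 2 (β p) f)
  obtain ⟨y1, hy1, b1⟩ := L.exists_pair hD2 (hz1 0) (hermForm 4 F 2 (β p) f1)
  obtain ⟨y2, hy2, b2⟩ := L.exists_pair hD2 (hz2 0) (hermForm 4 F 2 (β p) w1)
  have r0 := (L.same_fiber hD2 hx hy0).2.1
  have r1 := (L.same_fiber hD2 (hz1 0) hy1).2.1
  have r2 := (L.same_fiber hD2 (hz2 0) hy2).2.1
  have hrq : ρ (x * y0 * (z1 0 * y1) * (z2 0 * y2)) = 1 := by
    rw [map_mul, map_mul, r0, r1, r2, one_mul, one_mul]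
  have hbq : β p = β (x * y0 * (z1 0 * y1) * (z2 0 * y2)) := by
    rw [L.add _ _ (by rw [map_mul, r0, r1, one_mul]) r2, L.add _ _ r0 r1, b0, b1, b2]
    exact e
  have hww : hermForm 4 F 2 w w = 0 := hw
  have hw1w := herm_eq_zero_swap hF B.ww'
  have hf1w := herm_eq_zero_swap hF B.wf'
  have cq : Commute (x * y0 * (z1 0 * y1) * (z2 0 * y2)) x := by
    refine ((((Commute.refl x).mul_left ?_).mul_left ?_).mul_left ?_)
    · exact L.comm_perp hD2 hDc hy0 hx hw
    · exact (L.comm_perp hD2 hDc (hz1 0) hx hw1w).mul_left (L.comm_perp hD2 hDc hy1 hx hw1w)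
    · exact (L.comm_perp hD2 hDc (hz2 0) hx hf1w).mul_left (L.comm_perp hD2 hDc hy2 hx hf1w)
  have cu : Commute (uu u) x := uu_comm x
  rcases L.eq_or_of_beta hp hrq hbq with h1 | h1
  · rw [eq_inv_of_mul_eq_one_left h1]
    exact cq.inv_left
  · have h2 : p = uu u * (x * y0 * (z1 0 * y1) * (z2 0 * y2))⁻¹ := by rw [← h1]; group
    rw [h2]
    exact cu.mul_left cq.inv_left

/-- Involutions of the kernel. -/
theorem inv_P (hp : ρ p = 1) (hpp : p * p = 1) (h1 : p ≠ 1) (hu : p ≠ uu u) :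
    ∃ x y, Ov hF D ρ x (β p) ∧ Ov hF D ρ y (β p) ∧ x ≠ y ∧ p = x * y := by
  have hw : hermForm 4 F 2 (β p) (β p) = 0 := (L.psq p hp).1 hpp
  have hw0 : β p ≠ 0 := by
    intro h
    rcases (L.beta_zero hp).1 h with h2 | h2
    · exact h1 h2
    · exact hu h2
  obtain ⟨z, -, hz, -⟩ := L.exists_four hw hw0
  obtain ⟨y, hy, hb⟩ := L.exists_pair hD2 (hz 0) 1
  rw [one_smul] at hb
  have hne : z 0 ≠ y := by
    intro h
    rw [h, ov_sq hD2 hy, L.beta_one] at hb
    exact hw0 hb.symm
  obtain ⟨hc, hr, -⟩ := L.same_fiber hD2 (hz 0) hy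
  have hinv : (z 0 * y)⁻¹ = z 0 * y := by
    rw [mul_inv_rev, ov_inv hD2 hy, ov_inv hD2 (hz 0), hc]
  rcases L.eq_or_of_beta hp hr hb.symm with h2 | h2
  · refine ⟨z 0, y, hz 0, hy, hne, ?_⟩
    rw [eq_inv_of_mul_eq_one_left h2, hinv]
  · obtain ⟨x', y', hx', hy', hne', e⟩ := L.uu_pair hD2 (hz 0) hy hne
    refine ⟨x', y', hx', hy', hne', ?_⟩
    have h5 : z 0 * y * (z 0 * y) = 1 := by
      nth_rw 1 [← hinv]
      exact inv_mul_cancel _
    rw [← e, ← h2, mul_assoc p, h5, mul_one]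

/-- Classification of the involutions of the centraliser of `u`. -/
theorem inv_cases {t : Subgroup.centralizer ({u} : Set Y)} (ht : t * t = 1) (ht1 : t ≠ 1) :
    (t : Y) ∈ D ∨
    (∃ a b : Subgroup.centralizer ({u} : Set Y), (a : Y) ∈ D ∧ (b : Y) ∈ D ∧ a ≠ b ∧
      a * b = b * a ∧ t = a * b) ∨
    (∃ x y y' w w', Ov hF D ρ x w ∧ Ov hF D ρ y w' ∧ Ov hF D ρ y' w' ∧ y ≠ y' ∧
      hermForm 4 F 2 w w' = 0 ∧ (¬ ∃ k : F, w' = k • w) ∧ t = x * (y * y')) ∨
    (∃ x y w w', Ov hF D ρ x w ∧ Ov hF D ρ y w' ∧ hermForm 4 F 2 w w' = 0 ∧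
      (¬ ∃ k : F, w' = k • w) ∧ t = uu u * (x * y)) := by
  have hrt : ρ t * ρ t = 1 := by rw [← map_mul, ht, map_one]
  rcases inv_form hF hrt with h1 | ⟨w, hw, hw0, h1⟩ | ⟨w, w', hw, hw', hw0, hw0', hww, hn, hn', h1⟩
  · by_cases hu : t = uu u
    · left
      rw [hu]
      exact L.mem
    · right; left
      obtain ⟨x, y, hx, hy, hne, e⟩ := L.inv_P hD2 hDc h1 ht ht1 hu
      exact ⟨x, y, hx.1, hy.1, hne, (L.same_fiber hD2 hx hy).1, e⟩
  · -- over a transvection
    obtain ⟨z, -, hz, -⟩ := L.exists_four hw hw0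
    obtain ⟨x, hx⟩ : ∃ x, Ov hF D ρ x w := ⟨z 0, hz 0⟩
    have hxx := ov_sq hD2 hx
    obtain ⟨p, hpdef⟩ : ∃ p, p = t * x := ⟨_, rfl⟩
    have htp : t = p * x := by rw [hpdef, mul_assoc, hxx, mul_one]
    have hrp : ρ p = 1 := by
      obtain ⟨-, -, hw2, hr⟩ := hx
      rw [hpdef, map_mul, h1, hr, T_mul_self]
    have hpx : x * p * x⁻¹ = p⁻¹ := by
      rw [ov_inv hD2 hx]
      apply eq_inv_of_mul_eq_one_left
      have h2 : p * x * (p * x) = 1 := by rw [← htp, ht]
      calc x * p * x * p = p⁻¹ * (p * x * (p * x)) * p := by group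
        _ = 1 := by rw [h2]; group
    have hb : hermForm 4 F 2 (β p) w = 0 := by
      have h2 := L.conj x p hrp
      have h3 : β p⁻¹ = β p := by
        have h4 := L.add p p⁻¹ hrp (by rw [map_inv, hrp, inv_one])
        rw [mul_inv_cancel, L.beta_one] at h4
        have h5 : β p + β p⁻¹ + β p = β p := by rw [← h4, zero_add]
        rw [add_right_comm, vadd_self hF, zero_add] at h5
        exact h5
      obtain ⟨-, -, hw2, hr⟩ := hx
      rw [hpx, h3, hr, act_T] at h2
      have h4 := left_eq_add.1 h2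
      exact (smul_eq_zero.1 h4).resolve_right hw0
    have hc : Commute p x := L.comm_P hD2 hDc hrp hx hb
    have hpp : p * p = 1 := by
      have h2 : p * x * (p * x) = 1 := by rw [← htp, ht]
      calc p * p = p * (x * x) * p := by rw [hxx, mul_one]
        _ = p * x * (x * p) := by group
        _ = p * x * (p * x) := by rw [hc.eq]
        _ = 1 := h2
    by_cases hk : ∃ k : F, β p = k • w
    · obtain ⟨k, hk⟩ := hk
      obtain ⟨y, hy, hby⟩ := L.exists_pair hD2 hx k
      obtain ⟨hcxy, hr2, -⟩ := L.same_fiber hD2 hx hy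
      have h3 : p * (x * y) = t * y := by rw [htp]; group
      rcases L.eq_or_of_beta hrp hr2 (by rw [hk, hby]) with h4 | h4
      · left
        rw [h3] at h4
        rw [eq_inv_of_mul_eq_one_left h4, ov_inv hD2 hy]
        exact hy.1
      · right; left
        rw [h3] at h4
        refine ⟨uu u, y, L.mem, hy.1, ?_, uu_comm y, ?_⟩
        · intro h5
          apply L.not_ov_uu w
          rw [h5]
          exact hy
        · rw [← h4, mul_assoc, ov_sq hD2 hy, mul_one]
    · right; right; left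
      have hp1 : p ≠ 1 := by
        rintro rfl
        exact hk ⟨0, by rw [L.beta_one, zero_smul]⟩
      have hpu : p ≠ uu u := by
        rintro rfl
        exact hk ⟨0, by rw [L.beta_uu, zero_smul]⟩
      obtain ⟨y, y', hy, hy', hne, e⟩ := L.inv_P hD2 hDc hrp hpp hp1 hpu
      refine ⟨x, y, y', w, β p, hx, hy, hy', hne, herm_eq_zero_swap hF hb, hk, ?_⟩
      rw [← e, htp, hc.eq]
  · -- over a product of two transvections
    obtain ⟨z, -, hz, -⟩ := L.exists_four hw hw0
    obtain ⟨x, hx⟩ : ∃ x, Ov hF D ρ x w := ⟨z 0, hz 0⟩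
    obtain ⟨z', -, hz', -⟩ := L.exists_four hw' hw0'
    obtain ⟨y, hy⟩ : ∃ y, Ov hF D ρ y w' := ⟨z' 0, hz' 0⟩
    have hxx := ov_sq hD2 hx
    have hyy := ov_sq hD2 hy
    have hww' := herm_eq_zero_swap hF hww
    have hcxy : Commute x y := L.comm_perp hD2 hDc hx hy hww
    have hxyxy : x * y * (x * y) = 1 := by
      calc x * y * (x * y) = x * (y * x) * y := by group
        _ = x * (x * y) * y := by rw [hcxy.eq]
        _ = (x * x) * (y * y) := by group
        _ = 1 := by rw [hxx, hyy, one_mul]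
    have hxyi : (x * y)⁻¹ = x * y := inv_eq_of_mul_eq_one_left hxyxy
    obtain ⟨p, hpdef⟩ : ∃ p, p = t * (x * y) := ⟨_, rfl⟩
    have htp : t = p * (x * y) := by rw [hpdef, mul_assoc, hxyxy, mul_one]
    have hrxy : ρ (x * y) = T hF w hw * T hF w' hw' := by
      obtain ⟨-, -, hw2, hr⟩ := hx
      obtain ⟨-, -, hw2', hr'⟩ := hy
      rw [map_mul, hr, hr']
    have hrp : ρ p = 1 := by
      rw [hpdef, map_mul, h1, ← hrxy, ← map_mul, hxyxy, map_one]
    have hpx : (x * y) * p * (x * y)⁻¹ = p⁻¹ := by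
      rw [hxyi]
      apply eq_inv_of_mul_eq_one_left
      have h2 : p * (x * y) * (p * (x * y)) = 1 := by rw [← htp, ht]
      calc x * y * p * (x * y) * p = p⁻¹ * (p * (x * y) * (p * (x * y))) * p := by group
        _ = 1 := by rw [h2]; group
    have hb : hermForm 4 F 2 (β p) w • w + hermForm 4 F 2 (β p) w' • w' = 0 := by
      have h2 := L.conj (x * y) p hrp
      have h3 : β p⁻¹ = β p := by
        have h4 := L.add p p⁻¹ hrp (by rw [map_inv, hrp, inv_one])
        rw [mul_inv_cancel, L.beta_one] at h4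
        have h5 : β p + β p⁻¹ + β p = β p := by rw [← h4, zero_add]
        rw [add_right_comm, vadd_self hF, zero_add] at h5
        exact h5
      rw [hpx, h3, hrxy, act_mul, act_T, act_T, herm_add_left, herm_smul_left, hww', mul_zero,
        add_zero, add_assoc] at h2
      have h4 := left_eq_add.1 h2
      rw [add_comm] at h4
      exact h4
    have hbw : hermForm 4 F 2 (β p) w = 0 := by
      by_contra hne
      apply hn
      refine ⟨(hermForm 4 F 2 (β p) w)⁻¹ * -hermForm 4 F 2 (β p) w', ?_⟩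
      have h2 : hermForm 4 F 2 (β p) w • w = (-hermForm 4 F 2 (β p) w') • w' := by
        rw [neg_smul]
        exact eq_neg_of_add_eq_zero_left hb
      rw [← smul_smul, ← h2, smul_smul, inv_mul_cancel₀ hne, one_smul]
    have hbw' : hermForm 4 F 2 (β p) w' = 0 := by
      rw [hbw, zero_smul, zero_add] at hb
      exact (smul_eq_zero.1 hb).resolve_right hw0'
    obtain ⟨a, b, hab⟩ := mem_span_of_perp hF hw hw0 hw' hww hn' hbw hbw'
    obtain ⟨x', hx', hbx⟩ := L.exists_pair hD2 hx a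
    obtain ⟨y', hy', hby⟩ := L.exists_pair hD2 hy b
    obtain ⟨hcx, hrx, -⟩ := L.same_fiber hD2 hx hx'
    obtain ⟨hcy, hry, -⟩ := L.same_fiber hD2 hy hy'
    have hcx' : Commute x' y := L.comm_perp hD2 hDc hx' hy hww
    have hcx'y' : Commute x' y' := L.comm_perp hD2 hDc hx' hy' hww
    have hcyx : Commute y x := hcxy.symm
    have h3 : p * (x * x' * (y * y')) = t * (x' * y') := by
      rw [htp]
      have : x * x' * (y * y') = x * y * (x' * y') := by
        calc x * x' * (y * y') = x * (x' * y) * y' := by group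
          _ = x * (y * x') * y' := by rw [hcx'.eq]
          _ = x * y * (x' * y') := by group
      rw [this]; group
    have hbb : β p = β (x * x' * (y * y')) := by
      rw [L.add _ _ hrx hry, hbx, hby, hab]
    have hxy'2 : x' * y' * (x' * y') = 1 := by
      calc x' * y' * (x' * y') = x' * (y' * x') * y' := by group
        _ = x' * (x' * y') * y' := by rw [hcx'y'.eq]
        _ = (x' * x') * (y' * y') := by group
        _ = 1 := by rw [ov_sq hD2 hx', ov_sq hD2 hy', one_mul]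
    rcases L.eq_or_of_beta hrp (by rw [map_mul, hrx, hry, one_mul]) hbb with h4 | h4
    · right; left
      rw [h3] at h4
      refine ⟨x', y', hx'.1, hy'.1, ?_, hcx'y', ?_⟩
      · rintro rfl
        obtain ⟨c, hc, e⟩ := ov_unique hx' hy'
        exact hn ⟨c, e⟩
      · rw [eq_inv_of_mul_eq_one_left h4]
        exact inv_eq_of_mul_eq_one_left hxy'2
    · right; right; right
      rw [h3] at h4
      refine ⟨x', y', w, w', hx', hy', hww, hn', ?_⟩
      rw [← h4, mul_assoc, hxy'2, mul_one]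

end Loc

/-! ### No transitivity -/

/-- `C(t)` is not transitive on the members of `D` connected to `d` and commuting with `t`. -/
def NT (D : Set Y) (d t : Y) : Prop :=
  ∃ x ∈ D, ∃ y ∈ D, Conn D d x ∧ Conn D d y ∧ t * x = x * t ∧ t * y = y * t ∧
    ∀ k, k * t = t * k → k * x * k⁻¹ ≠ y

namespace Glob

open Loc

variable (G : Glob hF D)
include G

theorem exists_nbr {d : Y} (hd : d ∈ D) : ∃ e ∈ D, e ≠ d ∧ e * d = d * e := by
  obtain ⟨ρ, β, L⟩ := G.loc d hd
  obtain ⟨ω, hω⟩ := exists_omega hF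
  have S := std_HB hF hω
  have h0 : (![1, 1, 0, 0] : Fin 4 → F) ≠ 0 := by
    intro h
    have := congrFun h 0
    simp at this
  obtain ⟨y, hy⟩ := L.exists_over S.ww h0
  exact ⟨y, hy.mem, L.ab_ne hy, hy.comm⟩

theorem nt_one {d t : Y} (ht : t ∈ D) (hdt : Conn D d t) : NT D d t := by
  obtain ⟨e, he, hne, hc⟩ := G.exists_nbr ht
  refine ⟨t, ht, e, he, hdt, hdt.trans (Conn.of_comm ht he hc.symm), rfl, hc.symm, ?_⟩
  intro k hk h
  rw [hk, mul_inv_cancel_right] at h
  exact hne h.symm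

theorem nt_two {d a b : Y} (ha : a ∈ D) (hb : b ∈ D) (hne : a ≠ b) (hab : a * b = b * a)
    (hda : Conn D d a) : NT D d (a * b) := by
  obtain ⟨ρ, β, L⟩ := G.loc a ha
  obtain ⟨w, hw⟩ := L.exists_ab hb hab.symm hne.symm
  obtain ⟨c, hc, hcb⟩ := L.exists_other hw
  have hca : c ≠ a := L.ab_ne hc
  have hbc : b * c = c * b := (L.ab_iff G.sq G.conj hw hc).2 hw.iso
  have haa := G.sq a ha
  refine ⟨a, ha, c, hc.mem, hda, hda.trans (Conn.of_comm ha hc.mem hc.comm.symm), ?_, ?_, ?_⟩
  · rw [mul_assoc, ← hab]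
  · have c1 : Commute a c := hc.comm.symm
    have c2 : Commute b c := hbc
    exact c1.mul_left c2
  · intro k hk h
    have h1 : k * (a * b) * k⁻¹ = a * b := by rw [hk, mul_inv_cancel_right]
    have h2 : c * (k * b * k⁻¹) = a * b := by
      rw [← h1, ← h]
      group
    have hcc := G.sq c hc.mem
    have h3 : k * b * k⁻¹ = c * a * b := by
      calc k * b * k⁻¹ = (c * c) * (k * b * k⁻¹) := by rw [hcc, one_mul]
        _ = c * (c * (k * b * k⁻¹)) := by group
        _ = c * (a * b) := by rw [h2]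
        _ = c * a * b := by group
    have h4 : c * a * b ∈ D := by rw [← h3]; exact G.conj k b hb
    exact G.prod hc.mem ha hb hca hcb hne hc.comm hbc.symm hab h4

/-- Third type. -/
theorem nt_three {d v : Y} {ρ : Subgroup.centralizer ({v} : Set Y) →* SU 4 F 2}
    {β : Subgroup.centralizer ({v} : Set Y) → (Fin 4 → F)} (L : Loc hF D v ρ β)
    {a y y' : Subgroup.centralizer ({v} : Set Y)} {w w' : Fin 4 → F} (ha : Ov hF D ρ a w)
    (hy : Ov hF D ρ y w') (hy' : Ov hF D ρ y' w') (hww : hermForm 4 F 2 w w' = 0)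
    (hn : ¬ ∃ k : F, w' = k • w) (hdv : Conn D d v) : NT D d ((a * (y * y') :
      Subgroup.centralizer ({v} : Set Y)) : Y) := by
  have cay : Commute a y := L.comm_perp G.sq G.conj ha hy hww
  have cay' : Commute a y' := L.comm_perp G.sq G.conj ha hy' hww
  have haa := ov_sq G.sq ha
  have hav : (a : Y) * v = v * a := mem_cent.1 a.2
  have hay : a ≠ y := by
    rintro rfl
    obtain ⟨c, hc, e⟩ := ov_unique hy ha
    exact hn ⟨c, e⟩
  have hay' : a ≠ y' := by
    rintro rfl
    obtain ⟨c, hc, e⟩ := ov_unique hy' ha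
    exact hn ⟨c, e⟩
  have hta : a * (y * y') * a = a * (a * (y * y')) := by
    have : Commute (a * (y * y')) a :=
      ((Commute.refl a).mul_left (cay.symm.mul_left cay'.symm))
    exact this
  refine ⟨a, ha.1, v, L.mem, hdv.trans (Conn.of_comm L.mem ha.1 hav.symm), hdv,
    congrArg Subtype.val hta, mem_cent.1 (a * (y * y')).2, ?_⟩
  intro k hk h
  -- the images of `y` and `y'`
  have hzc : ∀ b : Subgroup.centralizer ({v} : Set Y), a * b = b * a →
      k * (b : Y) * k⁻¹ * v = v * (k * (b : Y) * k⁻¹) := by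
    intro b hb
    have hb' : (a : Y) * b = b * a := congrArg Subtype.val hb
    have h5 : k * (b : Y) * k⁻¹ * (k * a * k⁻¹) = k * a * k⁻¹ * (k * (b : Y) * k⁻¹) := by
      calc k * (b : Y) * k⁻¹ * (k * a * k⁻¹) = k * ((b : Y) * a) * k⁻¹ := by group
        _ = k * ((a : Y) * b) * k⁻¹ := by rw [hb']
        _ = k * a * k⁻¹ * (k * (b : Y) * k⁻¹) := by group
    exact (congrArg (fun c => k * (b : Y) * k⁻¹ * c = c * (k * (b : Y) * k⁻¹)) h).mp h5
  have hzne : ∀ b : Subgroup.centralizer ({v} : Set Y), a ≠ b → k * (b : Y) * k⁻¹ ≠ v := by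
    intro b hb h1
    apply hb
    apply Subtype.ext
    have h2 : k * (b : Y) * k⁻¹ = k * a * k⁻¹ := by rw [h1, h]
    exact (mul_left_cancel (mul_right_cancel h2)).symm
  obtain ⟨p, hp⟩ := L.exists_ab (G.conj k _ hy.1) (hzc y cay) (hzne y hay)
  obtain ⟨p', hp'⟩ := L.exists_ab (G.conj k _ hy'.1) (hzc y' cay') (hzne y' hay')
  -- they commute
  obtain ⟨hcyy, hryy, -⟩ := L.same_fiber G.sq hy hy'
  have hczz : k * (y : Y) * k⁻¹ * (k * (y' : Y) * k⁻¹) =
      k * (y' : Y) * k⁻¹ * (k * (y : Y) * k⁻¹) := by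
    have hb' : (y : Y) * y' = y' * y := congrArg Subtype.val hcyy
    calc k * (y : Y) * k⁻¹ * (k * (y' : Y) * k⁻¹) = k * ((y : Y) * y') * k⁻¹ := by group
      _ = k * ((y' : Y) * y) * k⁻¹ := by rw [hb']
      _ = k * (y' : Y) * k⁻¹ * (k * (y : Y) * k⁻¹) := by group
  have hpp := (L.ab_iff G.sq G.conj hp hp').1 hczz
  obtain ⟨m1, o1⟩ := hp
  obtain ⟨m2, o2⟩ := hp'
  -- the key relation
  have e1 : (a * (y * y')) * uu v = (⟨k * (y : Y) * k⁻¹, m1⟩ : Subgroup.centralizer ({v} : Set Y)) *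
      ⟨k * (y' : Y) * k⁻¹, m2⟩ := by
    apply Subtype.ext
    change (a : Y) * (y * y') * v = k * (y : Y) * k⁻¹ * (k * (y' : Y) * k⁻¹)
    have h1 : k * ((a : Y) * (y * y')) * k⁻¹ = (a : Y) * (y * y') := by
      have hk' : k * ((a : Y) * (y * y')) = (a : Y) * (y * y') * k := hk
      rw [hk', mul_inv_cancel_right]
    have h2 : (a : Y) * (y * y') * a = y * y' := by
      have h3 : a * (y * y') * a = y * y' := by
        rw [hta, ← mul_assoc, haa, one_mul]
      exact congrArg Subtype.val h3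
    calc (a : Y) * (y * y') * v = k * ((a : Y) * (y * y')) * k⁻¹ * (k * a * k⁻¹) := by rw [h1, h]
      _ = k * ((a : Y) * (y * y') * a) * k⁻¹ := by group
      _ = k * ((y : Y) * y') * k⁻¹ := by rw [h2]
      _ = k * (y : Y) * k⁻¹ * (k * (y' : Y) * k⁻¹) := by group
  have e2 := congrArg ρ e1
  obtain ⟨-, hp0, hpi, hr1⟩ := id o1
  obtain ⟨-, hp0', hpi', hr2⟩ := id o2
  obtain ⟨-, hw0, hw, hra⟩ := id ha
  rw [map_mul, map_mul ρ a, map_mul ρ (⟨k * (y : Y) * k⁻¹, m1⟩ :
    Subgroup.centralizer ({v} : Set Y)), L.rho_u, mul_one, hryy, mul_one, hr1, hr2, hra] at e2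
  by_cases hq : ∃ c : F, p = c • p'
  · obtain ⟨c, hc⟩ := hq
    have hc0 : c ≠ 0 := by
      rintro rfl
      rw [zero_smul] at hc
      exact hp0 hc
    have h2 : T hF p hpi = T hF p' hpi' := by
      subst hc
      exact T_smul hF c hc0 p' hpi' _
    rw [h2, T_mul_self] at e2
    exact T_ne_one hF hw hw0 e2
  · exact TT_ne hF hpi hpi' hp0' hq hpp hw e2.symm

/-- No involution commuting with `d ∈ D` has a centraliser transitive on the members of `D`
connected to `d` and commuting with the involution. -/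
theorem ntrans {d t : Y} (hd : d ∈ D) (htt : t * t = 1) (ht1 : t ≠ 1) (htd : t * d = d * t) :
    NT D d t := by
  obtain ⟨ρ, β, L⟩ := G.loc d hd
  obtain ⟨s, hs⟩ : ∃ s : Subgroup.centralizer ({d} : Set Y), (s : Y) = t :=
    ⟨⟨t, mem_cent.2 htd⟩, rfl⟩
  have hss : s * s = 1 := Subtype.ext (by rw [Subgroup.coe_mul, hs]; exact htt)
  have hs1 : s ≠ 1 := by
    rintro rfl
    exact ht1 hs.symm
  have hcd : ∀ c : Subgroup.centralizer ({d} : Set Y), (c : Y) ∈ D → Conn D d c := fun c hc =>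
    Conn.of_comm hd hc (mem_cent.1 c.2).symm
  rw [← hs]
  rcases L.inv_cases G.sq G.conj hss hs1 with h | ⟨a, b, ha, hb, hne, hab, rfl⟩ |
    ⟨x, y, y', w, w', hx, hy, hy', hyy, hww, hn, rfl⟩ | ⟨x, y, w, w', hx, hy, hww, hn, rfl⟩
  · exact G.nt_one h (hcd s h)
  · exact G.nt_two ha hb (fun h => hne (Subtype.ext h)) (congrArg Subtype.val hab) (hcd a ha)
  · exact G.nt_three L hx hy hy' hww hn (Conn.refl D d)
  · -- change the base point
    have hABx : Ab hF D ρ (x : Y) w := ⟨x.2, hx⟩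
    obtain ⟨v, hv, hvx⟩ := L.exists_other hABx
    have hvd : v ≠ d := L.ab_ne hv
    have hxd : (x : Y) ≠ d := L.ab_ne hABx
    have hABy : Ab hF D ρ (y : Y) w' := ⟨y.2, hy⟩
    have hyv : (y : Y) * v = v * y :=
      (L.ab_iff G.sq G.conj hABy hv).2 (herm_eq_zero_swap hF hww)
    have hxv : (x : Y) * v = v * x := (L.ab_iff G.sq G.conj hABx hv).2 hv.iso
    have hyv' : (y : Y) ≠ v := by
      rintro h
      rw [← h] at hv
      obtain ⟨c, hc, e⟩ := hABy.unique hv
      exact hn ⟨c, e⟩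
    obtain ⟨ρ', β', L'⟩ := G.loc v hv.mem
    obtain ⟨w2, hd2⟩ := L'.exists_ab hd hv.comm.symm hvd.symm
    obtain ⟨wa, hya⟩ := L'.exists_ab hy.1 hyv hyv'
    -- `x` is on the line through `v` and `d`
    have hline : Line D v d x := ((L.line_iff G.sq G.conj hv).2 (Or.inr hABx)).symm
    have hx2 : Ab hF D ρ' (x : Y) w2 :=
      ((L'.line_iff G.sq G.conj hd2).1 hline).resolve_left hvx.symm
    have hyd : (y : Y) * d = d * y := mem_cent.1 y.2
    have hp : hermForm 4 F 2 wa w2 = 0 := (L'.ab_iff G.sq G.conj hya hd2).1 hyd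
    -- `y` is not on the line
    have hny : ¬ ∃ k : F, w2 = k • wa := by
      rintro ⟨k, hk⟩
      have hk0 : k ≠ 0 := by
        rintro rfl
        rw [zero_smul] at hk
        exact hd2.ne_zero hk
      have h1 : Ab hF D ρ' (y : Y) w2 := by
        rw [hk]
        exact hya.smul hk0
      have h2 : Line D v d y := (L'.line_iff G.sq G.conj hd2).2 (Or.inr h1)
      have h3 := ((L.line_iff G.sq G.conj hv).1 h2.symm).resolve_left (L.ab_ne hABy)
      obtain ⟨c, hc, e⟩ := hABy.unique h3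
      exact hn ⟨c, e⟩
    obtain ⟨my, oy⟩ := hya
    obtain ⟨md, od⟩ := hd2
    obtain ⟨mx, ox⟩ := hx2
    have h1 := G.nt_three L' oy od ox hp hny (d := d)
      (Conn.of_comm hd hv.mem hv.comm.symm)
    have e1 : ((⟨(y : Y), my⟩ * (⟨d, md⟩ * ⟨(x : Y), mx⟩) :
        Subgroup.centralizer ({v} : Set Y)) : Y) =
        ((uu d * (x * y) : Subgroup.centralizer ({d} : Set Y)) : Y) := by
      change (y : Y) * (d * x) = d * (x * y)
      have c1 : Commute (y : Y) (x : Y) :=
        congrArg Subtype.val (L.comm_perp G.sq G.conj hx hy hww).symm.eq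
      have c2 : Commute (y : Y) d := hyd
      have := (c2.mul_right c1).eq
      rw [this]
      group
    rw [e1] at h1
    exact h1

end Glob

end Cfsg.Agent.R08.USix
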