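import Cfsg.Agent.R08.USixDef
import Cfsg.Agent.R08.Herm4

/-!
Consequences of the local structure `Loc`: commutation in the set `D` near `u`.
-/

set_option autoImplicit false
set_option linter.unusedSectionVars false

namespace Cfsg.Agent.R08.USix

open Cfsg Cfsg.Agent.LieClassical.HermBasic Cfsg.Agent.ClassicalGeometry.UnitTransv
open Cfsg.Agent.SporadicStructure.UnitTwo Cfsg.Agent.R01.PSUSix Cfsg.Agent.R08.Herm4

universe u

section Comm

variable {C : Type u} [Group C]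

theorem comm_lift (P : Set C) (hP : ∀ x ∈ P, ∀ y ∈ P, x * y = y * x) :
    ∃ (K : Type u) (_ : CommGroup K) (ι : K →* C), Function.Injective ι ∧
      ∀ x ∈ P, ∃ k, ι k = x :=
  ⟨Subgroup.closure P,
    { (inferInstance : Group (Subgroup.closure P)) with
      mul_comm := fun a b =>
        (Subgroup.isMulCommutative_closure hP).is_comm.comm a b },
    (Subgroup.closure P).subtype,
    Subtype.val_injective, fun x hx => ⟨⟨x, Subgroup.subset_closure hx⟩, rfl⟩⟩

/-- Reordering a product of four commuting elements. -/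
theorem four_split (x : Fin 4 → C) (hc : ∀ i j, x i * x j = x j * x i) (i j : Fin 4)
    (hij : i ≠ j) : ∃ k l : Fin 4, k ≠ l ∧ k ≠ i ∧ k ≠ j ∧ l ≠ i ∧ l ≠ j ∧
      x i * x j * (x k * x l) = x 0 * x 1 * x 2 * x 3 := by
  obtain ⟨K, _, ι, hι, hk⟩ := comm_lift (Set.range x) (by
    rintro _ ⟨i, rfl⟩ _ ⟨j, rfl⟩
    exact hc i j)
  choose y hy using fun i => hk (x i) ⟨i, rfl⟩
  have key : ∃ k l : Fin 4, k ≠ l ∧ k ≠ i ∧ k ≠ j ∧ l ≠ i ∧ l ≠ j ∧
      y i * y j * (y k * y l) = y 0 * y 1 * y 2 * y 3 := by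
    have e1 : ∀ i j : Fin 4, i ≠ j → ∃ k l : Fin 4, k ≠ l ∧ k ≠ i ∧ k ≠ j ∧ l ≠ i ∧ l ≠ j ∧
        ({i, j, k, l} : Finset (Fin 4)) = Finset.univ := by decide
    obtain ⟨k, l, h1, h2, h3, h4, h5, h6⟩ := e1 i j hij
    refine ⟨k, l, h1, h2, h3, h4, h5, ?_⟩
    have h7 : ∏ m ∈ ({i, j, k, l} : Finset (Fin 4)), y m = y i * (y j * (y k * y l)) := by
      rw [Finset.prod_insert, Finset.prod_insert, Finset.prod_insert, Finset.prod_singleton]
      · simpa using h1
      · simp only [Finset.mem_insert, Finset.mem_singleton, not_or]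
        exact ⟨fun h => h3 h.symm, fun h => h5 h.symm⟩
      · simp only [Finset.mem_insert, Finset.mem_singleton, not_or]
        exact ⟨hij, fun h => h2 h.symm, fun h => h4 h.symm⟩
    rw [mul_assoc, ← h7, h6, Fin.prod_univ_four]
  obtain ⟨k, l, h1, h2, h3, h4, h5, h6⟩ := key
  refine ⟨k, l, h1, h2, h3, h4, h5, ?_⟩
  have := congrArg ι h6
  simpa only [map_mul, hy] using this

end Comm

variable {Y : Type*} [Group Y] {F : Type*} [Field F] [Fintype F]
variable {hF : Fintype.card F = 2 ^ 2} {D : Set Y} {u : Y}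
variable {ρ : Subgroup.centralizer ({u} : Set Y) →* SU 4 F 2}
variable {β : Subgroup.centralizer ({u} : Set Y) → (Fin 4 → F)}

theorem mem_cent {x : Y} : x ∈ Subgroup.centralizer ({u} : Set Y) ↔ Commute x u := by
  rw [Subgroup.mem_centralizer_singleton_iff]
  rfl

/-- The element `y` of `D` centralising `u` lies over the point `w`. -/
def Ov (hF : Fintype.card F = 2 ^ 2) (D : Set Y)
    (ρ : Subgroup.centralizer ({u} : Set Y) →* SU 4 F 2)
    (y : Subgroup.centralizer ({u} : Set Y)) (w : Fin 4 → F) : Prop :=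
  (y : Y) ∈ D ∧ w ≠ 0 ∧ ∃ hw : hermForm 4 F 2 w w = 0, ρ y = T hF w hw

namespace Loc

variable (L : Loc hF D u ρ β)

/-- `u` as an element of its centraliser. -/
def uu (u : Y) : Subgroup.centralizer ({u} : Set Y) := ⟨u, mem_cent.2 (Commute.refl u)⟩

theorem coe_uu : ((uu u : Subgroup.centralizer ({u} : Set Y)) : Y) = u := rfl

theorem uu_comm (c : Subgroup.centralizer ({u} : Set Y)) : uu u * c = c * uu u :=
  Subtype.ext (mem_cent.1 c.2).symm.eq

theorem ov_smul {y : Subgroup.centralizer ({u} : Set Y)} {w : Fin 4 → F} (h : Ov hF D ρ y w)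
    {c : F} (hc : c ≠ 0) : Ov hF D ρ y (c • w) := by
  obtain ⟨h1, h2, hw, h3⟩ := h
  refine ⟨h1, smul_ne_zero hc h2, herm_smul_self hF hw c, ?_⟩
  rw [h3, T_smul hF c hc w hw]

theorem ov_unique {y : Subgroup.centralizer ({u} : Set Y)} {w w' : Fin 4 → F}
    (h : Ov hF D ρ y w) (h' : Ov hF D ρ y w') : ∃ c : F, c ≠ 0 ∧ w = c • w' := by
  obtain ⟨h1, h2, hw, h3⟩ := h
  obtain ⟨h1', h2', hw', h3'⟩ := h'
  exact T_eq hF hw hw' h2 (h3.symm.trans h3')

include L

theorem rho_u : ρ (uu u) = 1 := by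
  obtain ⟨ω, hω⟩ := exists_omega hF
  have S := std_HB hF hω
  have h0 : (![1, 1, 0, 0] : Fin 4 → F) ≠ 0 := by
    intro h
    have := congrFun h 0
    simp at this
  obtain ⟨x, -, hx, -, -, hprod, -⟩ := L.four _ S.ww h0
  have h1 : uu u = x 0 * x 1 * x 2 * x 3 := Subtype.ext hprod.symm
  rw [h1, map_mul, map_mul, map_mul, (hx 0).2, (hx 1).2, (hx 2).2, (hx 3).2, T_mul_self, one_mul,
    T_mul_self]

theorem uu_sq : uu u * uu u = 1 := Subtype.ext L.sq

theorem uu_ne : uu u ≠ 1 := fun h => L.ne (congrArg Subtype.val h)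

theorem beta_zero {p : Subgroup.centralizer ({u} : Set Y)} (hp : ρ p = 1) :
    β p = 0 ↔ p = 1 ∨ p = uu u := by
  rw [L.ker p hp]
  constructor
  · rintro (h | h)
    · left; exact Subtype.ext h
    · right; exact Subtype.ext h
  · rintro (h | h)
    · left; rw [h]; rfl
    · right; rw [h]; rfl

theorem beta_one : β 1 = 0 := (L.beta_zero (map_one ρ)).2 (Or.inl rfl)

theorem beta_uu : β (uu u) = 0 := (L.beta_zero L.rho_u).2 (Or.inr rfl)

theorem exists_ov {y : Subgroup.centralizer ({u} : Set Y)} (hy : (y : Y) ∈ D) (hyu : y ≠ uu u) :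
    ∃ w, Ov hF D ρ y w := by
  rcases L.only y hy with h | ⟨w, hw, hw0, h⟩
  · exact absurd (Subtype.ext h) hyu
  · exact ⟨w, hy, hw0, hw, h⟩

/-- The members of `D` over a point. -/
theorem exists_four {w : Fin 4 → F} (hw : hermForm 4 F 2 w w = 0) (hw0 : w ≠ 0) :
    ∃ x : Fin 4 → Subgroup.centralizer ({u} : Set Y), Function.Injective x ∧
      (∀ i, Ov hF D ρ (x i) w) ∧ (∀ y, Ov hF D ρ y w → ∃ i, y = x i) ∧
      (∀ i j, x i * x j = x j * x i) ∧ x 0 * x 1 * x 2 * x 3 = uu u ∧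
      ∀ i j, ∃ k : F, β (x i * x j) = k • w := by
  obtain ⟨x, h1, h2, h3, h4, h5, h6⟩ := L.four w hw hw0
  refine ⟨x, h1, fun i => ⟨(h2 i).1, hw0, hw, (h2 i).2⟩, ?_, h4, Subtype.ext h5, h6⟩
  rintro y ⟨hy1, -, hy2, hy3⟩
  exact h3 y hy1 hy3

theorem not_ov_uu (w : Fin 4 → F) : ¬ Ov hF D ρ (uu u) w := by
  rintro ⟨-, h0, hw, h⟩
  rw [L.rho_u] at h
  exact T_ne_one hF hw h0 h.symm

section Sq

variable (hD2 : ∀ d ∈ D, d * d = 1) (hDc : ∀ g : Y, ∀ d ∈ D, g * d * g⁻¹ ∈ D)
include hD2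

omit L in
theorem ov_sq {y : Subgroup.centralizer ({u} : Set Y)} {w : Fin 4 → F} (h : Ov hF D ρ y w) :
    y * y = 1 := Subtype.ext (hD2 _ h.1)

omit L in
theorem ov_inv {y : Subgroup.centralizer ({u} : Set Y)} {w : Fin 4 → F} (h : Ov hF D ρ y w) :
    y⁻¹ = y := inv_eq_of_mul_eq_one_left (ov_sq hD2 h)

/-- Two members over the same point. -/
theorem same_fiber {y y' : Subgroup.centralizer ({u} : Set Y)} {w : Fin 4 → F}
    (h : Ov hF D ρ y w) (h' : Ov hF D ρ y' w) :
    y * y' = y' * y ∧ ρ (y * y') = 1 ∧ (y ≠ y' → y * y' ≠ uu u ∧ ∃ k : F, k ≠ 0 ∧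
      β (y * y') = k • w) := by
  obtain ⟨hy, hw0, hw, hρ⟩ := h
  obtain ⟨hy', -, hw', hρ'⟩ := h'
  obtain ⟨x, hinj, hx, hall, hcomm, hprod, hβ⟩ := L.exists_four hw hw0
  obtain ⟨i, rfl⟩ := hall y ⟨hy, hw0, hw, hρ⟩
  obtain ⟨j, rfl⟩ := hall y' ⟨hy', hw0, hw, hρ'⟩
  have hr : ρ (x i * x j) = 1 := by rw [map_mul, hρ, hρ', T_mul_self]
  refine ⟨hcomm i j, hr, fun hne => ?_⟩
  have hij : i ≠ j := fun h => hne (by rw [h])
  have h1 : x i * x j ≠ uu u := by
    intro h
    obtain ⟨k, l, hkl, -, -, -, -, h2⟩ := four_split x hcomm i j hij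
    rw [hprod, h] at h2
    have h3 : x k * x l = 1 := by
      have := congrArg (uu u * ·) h2
      simpa only [← mul_assoc, L.uu_sq, one_mul] using this
    apply hkl
    apply hinj
    rw [eq_inv_of_mul_eq_one_left h3, ov_inv hD2 (hx l)]
  refine ⟨h1, ?_⟩
  obtain ⟨k, hk⟩ := hβ i j
  refine ⟨k, ?_, hk⟩
  rintro rfl
  rw [zero_smul, L.beta_zero hr] at hk
  rcases hk with h | h
  · exact hne (by rw [eq_inv_of_mul_eq_one_left h, ov_inv hD2 (hx j)])
  · exact h1 h

include hDc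

omit L hD2 in
theorem ov_conj (c : Subgroup.centralizer ({u} : Set Y)) {y : Subgroup.centralizer ({u} : Set Y)}
    {w : Fin 4 → F} (h : Ov hF D ρ y w) : Ov hF D ρ (c * y * c⁻¹) (act (ρ c) w) := by
  obtain ⟨hy, hw0, hw, hρ⟩ := h
  have hz : hermForm 4 F 2 (act (ρ c) w) (act (ρ c) w) = 0 := by rw [herm_act, hw]
  refine ⟨hDc _ _ hy, ?_, hz, ?_⟩
  · intro h0
    apply hw0
    apply act_injective (ρ c)
    rw [h0, act_zero]
  · rw [map_mul, map_mul, map_inv, hρ, conj_T hF _ w hw hz]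

/-- Commutation of members of `D ∩ C(u)`. -/
theorem comm_iff {y y' : Subgroup.centralizer ({u} : Set Y)} {w w' : Fin 4 → F}
    (h : Ov hF D ρ y w) (h' : Ov hF D ρ y' w') :
    y * y' = y' * y ↔ hermForm 4 F 2 w w' = 0 := by
  obtain ⟨hy, hw0, hw, hρ⟩ := id h
  obtain ⟨hy', hw0', hw', hρ'⟩ := id h'
  constructor
  · intro hc
    apply perp_of_T_comm hF hw hw' hw0 hw0'
    rw [← hρ, ← hρ', ← map_mul, ← map_mul, hc]
  · intro hww
    have hww' := herm_eq_zero_swap hF hww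
    by_cases hp : ∃ c : F, w' = c • w
    · obtain ⟨c, rfl⟩ := hp
      have hc : c ≠ 0 := by
        rintro rfl
        exact hw0' (zero_smul _ _)
      exact (L.same_fiber hD2 (ov_smul h hc) h').1
    · by_contra hne
      have h1 := ov_conj hDc y h'
      have h2 := ov_conj hDc y' h
      rw [hρ, act_T, hww', zero_smul, add_zero, ov_inv hD2 h] at h1
      rw [hρ', act_T, hww, zero_smul, add_zero, ov_inv hD2 h'] at h2
      obtain ⟨-, -, h3⟩ := L.same_fiber hD2 h1 h'
      obtain ⟨-, -, h4⟩ := L.same_fiber hD2 h h2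
      have n1 : y * y' * y ≠ y' := by
        intro h5
        apply hne
        have := congrArg (· * y) h5
        simpa only [mul_assoc, ov_sq hD2 h, mul_one] using this
      have n2 : y ≠ y' * y * y' := by
        intro h5
        apply hne
        have := congrArg (· * y') h5
        simpa only [mul_assoc, ov_sq hD2 h', mul_one] using this
      obtain ⟨-, k, hk, h5⟩ := h3 n1
      obtain ⟨-, k', hk', h6⟩ := h4 n2
      have h7 : y * y' * y * y' = y * (y' * y * y') := by group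
      rw [h7, h6] at h5
      apply hp
      exact ⟨k⁻¹ * k', by rw [← smul_smul, h5, smul_smul, inv_mul_cancel₀ hk, one_smul]⟩

theorem cube {y y' : Subgroup.centralizer ({u} : Set Y)} {w w' : Fin 4 → F}
    (h : Ov hF D ρ y w) (h' : Ov hF D ρ y' w') (hne : hermForm 4 F 2 w w' ≠ 0) :
    (y * y') ^ 3 = 1 := by
  obtain ⟨hy, hw0, hw, hρ⟩ := id h
  obtain ⟨hy', hw0', hw', hρ'⟩ := id h'
  have hs3 := pow_three hF hne
  have hyy := ov_sq hD2 h
  have hyy' := ov_sq hD2 h'
  have h1 := ov_conj hDc y h'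
  have h2 := ov_conj hDc y' h
  rw [hρ, act_T, ov_inv hD2 h] at h1
  rw [hρ', act_T, ov_inv hD2 h'] at h2
  have h2' : Ov hF D ρ (y' * y * y') (w' + hermForm 4 F 2 w' w • w) := by
    have := ov_smul h2 (pow_ne_zero 2 hne)
    have e : hermForm 4 F 2 w w' ^ 2 • (w + hermForm 4 F 2 w w' • w') =
        w' + hermForm 4 F 2 w' w • w := by
      rw [smul_add, smul_smul, ← pow_succ, hs3, one_smul, herm_swap hF w w', add_comm]
    rwa [e] at this
  have e3 : (y * y') ^ 3 = y * y' * y * (y' * y * y') := by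
    rw [pow_succ, pow_two]; group
  by_cases hq : y * y' * y = y' * y * y'
  · rw [e3, hq]
    calc y' * y * y' * (y' * y * y') = y' * y * (y' * y') * y * y' := by group
      _ = y' * (y * y) * y' := by rw [hyy']; group
      _ = 1 := by rw [hyy, mul_one, hyy']
  · exfalso
    obtain ⟨hc, hr, h3⟩ := L.same_fiber hD2 h1 h2'
    obtain ⟨-, k, hk, h4⟩ := h3 hq
    -- `y` commutes with the product
    have h5 : y * (y * y' * y * (y' * y * y')) * y⁻¹ = y * y' * y * (y' * y * y') := by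
      rw [ov_inv hD2 h, hc]
      calc y * (y' * y * y' * (y * y' * y)) * y = y * y' * y * y' * y * y' * (y * y) := by group
        _ = y * y' * y * (y' * y * y') := by rw [hyy, mul_one]; group
        _ = y' * y * y' * (y * y' * y) := hc
    have h6 := L.conj y _ hr
    rw [h5, h4, hρ, act_T, herm_smul_left, herm_add_left, herm_smul_left, hw, mul_zero,
      add_zero] at h6
    have h7 : (k * hermForm 4 F 2 w' w) • w = 0 := left_eq_add.1 h6
    rcases smul_eq_zero.1 h7 with h8 | h8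
    · rcases mul_eq_zero.1 h8 with h9 | h9
      · exact hk h9
      · exact hne (herm_eq_zero_swap hF h9)
    · exact hw0 h8

end Sq

end Loc

end Cfsg.Agent.R08.USix
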