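import Cfsg.Agent.R08.USixInv
import Cfsg.Agent.R08.NClosing
import Cfsg.Agent.S0215
import Cfsg.Agent.Lib.Cores
import Cfsg.Agent.Lib.SolvableNormalP

/-!
Structure of a group `Y` with the local structure `Loc` at an involution: the class is a class of
3-transpositions, `Y` is perfect and has no solvable normal subgroup.
-/

set_option autoImplicit false
set_option linter.unusedSectionVars false

namespace Cfsg.Agent.R08.USix

open Cfsg Cfsg.Agent.LieClassical.HermBasic Cfsg.Agent.ClassicalGeometry.UnitTransv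
open Cfsg.Agent.SporadicStructure.UnitTwo Cfsg.Agent.R01.PSUSix Cfsg.Agent.R08.Herm4
open Cfsg.Agent.R01.Closing

variable {Y : Type*} [Group Y] {F : Type*} [Field F] [Fintype F]
variable {hF : Fintype.card F = 2 ^ 2} {D : Set Y} {u : Y}
variable {ρ : Subgroup.centralizer ({u} : Set Y) →* SU 4 F 2}
variable {β : Subgroup.centralizer ({u} : Set Y) → (Fin 4 → F)}

theorem zstar.{v} : ZStar.{v} := by
  intro K _ _ P x hx hxP hiso
  exact Cfsg.Agent.S0215.result P x hx hxP hiso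

namespace Glob

variable (G : Glob hF D)
include G

theorem hyp [Finite Y] : NClosing.Hyp D where
  sq := G.sq
  ne := fun _ h => G.ne_one h
  conj := G.conj
  two := fun _ ha _ hb hne hab => G.two ha hb hne hab
  prod := fun _ ha _ hb _ hc h1 h2 h3 h4 h5 h6 => G.prod ha hb hc h1 h2 h3 h4 h5 h6
  odd := fun _ ha _ hb hne hab => G.odd ha hb hne hab
  three := fun _ ha _ _ hab => G.three ha hab
  fixM := fun _ ha _ ht htM => G.fixM ha ht htM
  ntrans := fun _ hd _ ht ht1 htd => G.ntrans hd ht ht1 htd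

/-- The commuting graph on `D` is connected. -/
theorem conn [Finite Y] {a b : Y} (ha : a ∈ D) (hb : b ∈ D) : Conn D a b := by
  obtain ⟨e, he, hne, hc⟩ := G.exists_nbr ha
  exact G.hyp.conn zstar ⟨a, ha, e, he, hne.symm, hc.symm⟩ ha hb

theorem three' [Finite Y] {a b : Y} (ha : a ∈ D) (hb : b ∈ D) :
    a * b = b * a ∨ (a * b) ^ 3 = 1 := G.three ha (G.conn ha hb)

theorem exists_common [Finite Y] {a b : Y} (ha : a ∈ D) (hb : b ∈ D) :
    ∃ g ∈ D, g * a = a * g ∧ g * b = b * g := G.diam ha (G.conn ha hb)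

/-- Two commuting members are conjugate under the subgroup generated by `D`. -/
theorem conj_of_comm {b c : Y} (hb : b ∈ D) (hc : c ∈ D) (hbc : b * c = c * b) :
    ∃ n ∈ Subgroup.closure D, n * b * n⁻¹ = c := by
  by_cases hne : b = c
  · exact ⟨1, one_mem _, by rw [hne]; group⟩
  obtain ⟨ρ, β, L⟩ := G.loc b hb
  obtain ⟨w, hw⟩ := L.exists_ab hc hbc.symm (fun h => hne h.symm)
  obtain ⟨m, hm, hmc⟩ := L.exists_other hw
  have hmb : m ≠ b := L.ab_ne hm
  have hline : Line D m b c :=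
    (G.exch hb hc hne hbc ((L.line_iff G.sq G.conj hw).2 (Or.inr hm)) hmb).symm
  obtain ⟨ρ', β', L'⟩ := G.loc m hm.mem
  obtain ⟨w1, hb1⟩ := L'.exists_ab hb hm.comm.symm hmb.symm
  have hc1 := ((L'.line_iff G.sq G.conj hb1).1 hline).resolve_left hmc.symm
  obtain ⟨s, hs, hws, hs0⟩ := exists_iso_ne hF hb1.iso hb1.ne_zero
  obtain ⟨g, hg⟩ := L'.exists_over hs hs0
  have h1 : (b * g) ^ 3 = 1 := L'.ab_cube G.sq G.conj hb1 hg hws
  have h2 : (g * c) ^ 3 = 1 := L'.ab_cube G.sq G.conj hg hc1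
    (fun h => hws (herm_eq_zero_swap hF h))
  have e1 := Cfsg.Agent.R01.Closing2.conj_of_braid (G.sq b hb) (G.sq g hg.mem) h1
  have e2 := Cfsg.Agent.R01.Closing2.conj_of_braid (G.sq g hg.mem) (G.sq c hc) h2
  have mb : b ∈ Subgroup.closure D := Subgroup.subset_closure hb
  have mc : c ∈ Subgroup.closure D := Subgroup.subset_closure hc
  have mg : g ∈ Subgroup.closure D := Subgroup.subset_closure hg.mem
  refine ⟨(g * c) * (b * g), mul_mem (mul_mem mg mc) (mul_mem mb mg), ?_⟩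
  calc g * c * (b * g) * b * (g * c * (b * g))⁻¹ =
      (g * c) * ((b * g) * b * (b * g)⁻¹) * (g * c)⁻¹ := by group
    _ = (g * c) * g * (g * c)⁻¹ := by rw [e1]
    _ = c := e2

theorem conj_of_conn {b c : Y} (h : Conn D b c) :
    ∃ n ∈ Subgroup.closure D, n * b * n⁻¹ = c := by
  induction h with
  | refl => exact ⟨1, one_mem _, by group⟩
  | tail _ hbc ih =>
    obtain ⟨n, hn, h1⟩ := ih
    obtain ⟨m, hm, h2⟩ := G.conj_of_comm hbc.1 hbc.2.1 hbc.2.2
    refine ⟨m * n, mul_mem hm hn, ?_⟩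
    rw [← h2, ← h1]
    group

/-- `D` is not in the centre. -/
theorem exists_ne {d : Y} (hd : d ∈ D) : ∃ e ∈ D, e * d ≠ d * e := by
  obtain ⟨e, he, hne, hc⟩ := G.exists_nbr hd
  obtain ⟨ρ, β, L⟩ := G.loc e he
  obtain ⟨w, hw⟩ := L.exists_ab hd hc.symm hne.symm
  obtain ⟨s, hs, hws, hs0⟩ := exists_iso_ne hF hw.iso hw.ne_zero
  obtain ⟨g, hg⟩ := L.exists_over hs hs0
  refine ⟨g, hg.mem, fun h => hws ?_⟩
  exact herm_eq_zero_swap hF ((L.ab_iff G.sq G.conj hg hw).1 h)

end Glob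

/-! ### The centraliser -/

namespace Loc

variable (L : Loc hF D u ρ β)
variable (hD2 : ∀ d ∈ D, d * d = 1) (hDc : ∀ g : Y, ∀ d ∈ D, g * d * g⁻¹ ∈ D)
include L hD2

/-- A subgroup containing all the members of `D` different from `u` is everything. -/
theorem eq_top {E : Subgroup (Subgroup.centralizer ({u} : Set Y))}
    (hE : ∀ x w, Ov hF D ρ x w → x ∈ E) : E = ⊤ := by
  obtain ⟨ω, hω⟩ := exists_omega hF
  have S := std_HB hF hω
  have huE : uu u ∈ E := by
    have h0 : (![1, 1, 0, 0] : Fin 4 → F) ≠ 0 := by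
      intro h
      have := congrFun h 0
      simp at this
    obtain ⟨x, -, hx, -, -, hprod, -⟩ := L.exists_four S.ww h0
    rw [← hprod]
    exact mul_mem (mul_mem (mul_mem (hE _ _ (hx 0)) (hE _ _ (hx 1))) (hE _ _ (hx 2)))
      (hE _ _ (hx 3))
  -- the kernel
  have hval : ∀ (w : Fin 4 → F) (hw : hermForm 4 F 2 w w = 0) (k : F),
      ∃ q ∈ E, ρ q = 1 ∧ β q = k • w := by
    intro w hw k
    by_cases hw0 : w = 0
    · exact ⟨1, one_mem _, map_one ρ, by rw [hw0, smul_zero, L.beta_one]⟩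
    obtain ⟨x, -, hx, -⟩ := L.exists_four hw hw0
    obtain ⟨y, hy, hb⟩ := L.exists_pair hD2 (hx 0) k
    exact ⟨x 0 * y, mul_mem (hE _ _ (hx 0)) (hE _ _ hy), (L.same_fiber hD2 (hx 0) hy).2.1, hb⟩
  have hker : ∀ p, ρ p = 1 → p ∈ E := by
    intro p hp
    obtain ⟨q1, m1, r1, b1⟩ := hval _ S.ww (hermForm 4 F 2 (β p) ![ω, ω ^ 2, 0, 0])
    obtain ⟨q2, m2, r2, b2⟩ := hval _ S.w'w' (hermForm 4 F 2 (β p) ![0, 0, ω, ω ^ 2])
    obtain ⟨q3, m3, r3, b3⟩ := hval _ S.ff (hermForm 4 F 2 (β p) ![1, 1, 0, 0])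
    obtain ⟨q4, m4, r4, b4⟩ := hval _ S.f'f' (hermForm 4 F 2 (β p) ![0, 0, 1, 1])
    have r12 : ρ (q1 * q2) = 1 := by rw [map_mul, r1, r2, one_mul]
    have r123 : ρ (q1 * q2 * q3) = 1 := by rw [map_mul, r12, r3, one_mul]
    have r1234 : ρ (q1 * q2 * q3 * q4) = 1 := by rw [map_mul, r123, r4, one_mul]
    have hb : β p = β (q1 * q2 * q3 * q4) := by
      rw [L.add _ _ r123 r4, L.add _ _ r12 r3, L.add _ _ r1 r2, b1, b2, b3, b4]
      exact S.exp (β p)
    have hq : q1 * q2 * q3 * q4 ∈ E := mul_mem (mul_mem (mul_mem m1 m2) m3) m4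
    rcases L.eq_or_of_beta hp r1234 hb with h | h
    · rw [eq_inv_of_mul_eq_one_left h]
      exact inv_mem hq
    · have h2 : p = uu u * (q1 * q2 * q3 * q4)⁻¹ := by rw [← h]; group
      rw [h2]
      exact mul_mem huE (inv_mem hq)
  -- the image
  have hmap : E.map ρ = ⊤ := by
    rw [eq_top_iff, ← R_eq_top hF (n := 4) (le_refl 4), R, Subgroup.closure_le]
    rintro g ⟨v, hv, hv0, rfl⟩
    obtain ⟨x, -, hx, -⟩ := L.exists_four hv hv0
    obtain ⟨-, -, hv', hr⟩ := hx 0
    exact ⟨x 0, hE _ _ (hx 0), hr⟩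
  rw [eq_top_iff]
  intro c _
  have h1 : ρ c ∈ E.map ρ := by rw [hmap]; exact Subgroup.mem_top _
  obtain ⟨e, he, hec⟩ := h1
  have h2 : ρ (e⁻¹ * c) = 1 := by rw [map_mul, map_inv, hec, inv_mul_cancel]
  have h3 := mul_mem he (hker _ h2)
  rwa [mul_inv_cancel_left] at h3

theorem centralizer_le {E : Subgroup Y} (hE : ∀ x ∈ D, x * u = u * x → x ≠ u → x ∈ E) :
    Subgroup.centralizer ({u} : Set Y) ≤ E := by
  intro c hc
  have h1 : E.subgroupOf (Subgroup.centralizer ({u} : Set Y)) = ⊤ := by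
    refine L.eq_top hD2 ?_
    intro x w hx
    exact Subgroup.mem_subgroupOf.2
      (hE _ hx.1 (mem_cent.1 x.2) (L.ab_ne (⟨x.2, hx⟩ : Ab hF D ρ (x : Y) w)))
  have h2 : (⟨c, hc⟩ : Subgroup.centralizer ({u} : Set Y)) ∈
      E.subgroupOf (Subgroup.centralizer ({u} : Set Y)) := by
    rw [h1]; exact Subgroup.mem_top _
  exact Subgroup.mem_subgroupOf.1 h2

end Loc

namespace Glob

variable (G : Glob hF D)
include G

theorem closure_eq_top [Finite Y] (htr : ∀ a ∈ D, ∀ g : Y, g * a * g⁻¹ ∈ D)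
    (hne : D.Nonempty) : Subgroup.closure D = ⊤ := by
  obtain ⟨u, hu⟩ := hne
  obtain ⟨ρ, β, L⟩ := G.loc u hu
  have hc : Subgroup.centralizer ({u} : Set Y) ≤ Subgroup.closure D :=
    L.centralizer_le G.sq (fun x hx _ _ => Subgroup.subset_closure hx)
  rw [eq_top_iff]
  intro g _
  obtain ⟨n, hn, h1⟩ := G.conj_of_conn (G.conn hu (htr u hu g))
  have h2 : n⁻¹ * g ∈ Subgroup.centralizer ({u} : Set Y) := by
    refine mem_cent.2 ?_
    change n⁻¹ * g * u = u * (n⁻¹ * g)
    have h3 : g * u = n * u * n⁻¹ * g := by rw [h1]; group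
    calc n⁻¹ * g * u = n⁻¹ * (g * u) := by group
      _ = n⁻¹ * (n * u * n⁻¹ * g) := by rw [h3]
      _ = u * (n⁻¹ * g) := by group
  have h3 := mul_mem hn (hc h2)
  rwa [mul_inv_cancel_left] at h3

/-- A product of two commuting members is not in an abelian normal subgroup. -/
theorem no_pair {A : Subgroup Y} (hAn : A.Normal) (hA : ∀ a ∈ A, ∀ b ∈ A, a * b = b * a)
    {d e : Y} (hd : d ∈ D) (he : e ∈ D) (hne : d ≠ e) (hde : d * e = e * d) : d * e ∉ A := by
  intro hm
  obtain ⟨ρ, β, L⟩ := G.loc d hd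
  obtain ⟨w, hw⟩ := L.exists_ab he hde.symm hne.symm
  obtain ⟨s, hs, hws, hs0⟩ := exists_iso_ne hF hw.iso hw.ne_zero
  obtain ⟨c, hc⟩ := L.exists_over hs hs0
  have h3 : (e * c) ^ 3 = 1 := L.ab_cube G.sq G.conj hw hc hws
  have hdd := G.sq d hd
  have hee := G.sq e he
  have hcc := G.sq c hc.mem
  have hci : c⁻¹ = c := inv_eq_of_mul_eq_one_left hcc
  have hdc : d * c = c * d := hc.comm.symm
  have hr : c * (d * e) * c⁻¹ ∈ A := hAn.conj_mem _ hm c
  have e1 : d * e * (c * (d * e) * c⁻¹) = (e * c) ^ 2 := by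
    rw [hci]
    calc d * e * (c * (d * e) * c) = d * e * (c * d) * e * c := by group
      _ = d * e * (d * c) * e * c := by rw [hdc]
      _ = d * (e * d) * c * e * c := by group
      _ = d * (d * e) * c * e * c := by rw [hde]
      _ = (d * d) * (e * c * (e * c)) := by group
      _ = (e * c) ^ 2 := by rw [hdd, one_mul, pow_two]
  have e2 := hA _ hm _ hr
  have sq1 : d * e * (d * e) = 1 := by
    calc d * e * (d * e) = d * (e * d) * e := by group
      _ = d * (d * e) * e := by rw [hde]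
      _ = (d * d) * (e * e) := by group
      _ = 1 := by rw [hdd, hee, one_mul]
  have sq2 : c * (d * e) * c⁻¹ * (c * (d * e) * c⁻¹) = 1 := by
    calc c * (d * e) * c⁻¹ * (c * (d * e) * c⁻¹) = c * (d * e * (d * e)) * c⁻¹ := by group
      _ = 1 := by rw [sq1]; group
  have e3 : (e * c) ^ 4 = 1 := by
    have : (e * c) ^ 4 = (e * c) ^ 2 * (e * c) ^ 2 := by rw [← pow_add]
    rw [this, ← e1]
    calc d * e * (c * (d * e) * c⁻¹) * (d * e * (c * (d * e) * c⁻¹)) =
        d * e * (c * (d * e) * c⁻¹ * (d * e)) * (c * (d * e) * c⁻¹) := by group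
      _ = d * e * (d * e * (c * (d * e) * c⁻¹)) * (c * (d * e) * c⁻¹) := by rw [e2]
      _ = (d * e * (d * e)) * (c * (d * e) * c⁻¹ * (c * (d * e) * c⁻¹)) := by group
      _ = 1 := by rw [sq1, sq2, one_mul]
  have e4 : e * c = 1 := by
    rw [pow_succ, h3, one_mul] at e3
    exact e3
  have e5 : e = c := by
    rw [eq_inv_of_mul_eq_one_left e4, hci]
  apply hws
  rw [e5] at hw
  exact (L.ab_iff G.sq G.conj hw hc).1 rfl

/-- An abelian normal subgroup centralises `D`. -/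
theorem comm_of_normal [Finite Y] {A : Subgroup Y} (hAn : A.Normal)
    (hA : ∀ a ∈ A, ∀ b ∈ A, a * b = b * a) {a d : Y} (ha : a ∈ A) (hd : d ∈ D) :
    a * d = d * a := by
  by_contra hne
  obtain ⟨d', hd'⟩ : ∃ d', d' = a * d * a⁻¹ := ⟨_, rfl⟩
  have hd'D : d' ∈ D := by rw [hd']; exact G.conj a d hd
  have hdd := G.sq d hd
  have hdd' := G.sq d' hd'D
  have hdi : d⁻¹ = d := inv_eq_of_mul_eq_one_left hdd
  have hdi' : d'⁻¹ = d' := inv_eq_of_mul_eq_one_left hdd'
  have hne' : d ≠ d' := by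
    intro h
    apply hne
    rw [h] at hd'
    have : d' * a = a * d' := by
      conv_lhs => rw [hd']
      rw [inv_mul_cancel_right]
    rw [h, this]
  have hr : d * d' ∈ A := by
    have h1 : d * a * d⁻¹ ∈ A := hAn.conj_mem a ha d
    have h2 : d * d' = d * a * d⁻¹ * a⁻¹ := by rw [hd', hdi]; group
    rw [h2]
    exact mul_mem h1 (inv_mem ha)
  rcases G.three' hd hd'D with hc | h3
  · exact G.no_pair hAn hA hd hd'D hne' hc hr
  by_cases hc : d * d' = d' * d
  · exact G.no_pair hAn hA hd hd'D hne' hc hr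
  obtain ⟨g, hg, hgd, hgd'⟩ := G.exists_common hd hd'D
  have hgne : g ≠ d := by
    rintro rfl
    exact hc hgd'
  have hgne' : g ≠ d' := by
    rintro rfl
    exact hc hgd.symm
  obtain ⟨ρ, β, L⟩ := G.loc g hg
  obtain ⟨w, hw⟩ := L.exists_ab hd hgd.symm hgne.symm
  obtain ⟨w', hw'⟩ := L.exists_ab hd'D hgd'.symm hgne'.symm
  have hww : hermForm 4 F 2 w w' ≠ 0 := fun h => hc ((L.ab_iff G.sq G.conj hw hw').2 h)
  obtain ⟨c, hcw, hcd⟩ := L.exists_other hw
  have hcc := G.sq c hcw.mem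
  have hci : c⁻¹ = c := inv_eq_of_mul_eq_one_left hcc
  have hcd' : d * c = c * d := (L.ab_iff G.sq G.conj hw hcw).2 hw.iso
  have hc3 : (c * d') ^ 3 = 1 := L.ab_cube G.sq G.conj hcw hw' hww
  have hc2 : c * d' * (c * d') = d' * c := by
    have h1 : c * d' * (c * d') * (c * d') = 1 := by
      rw [← hc3, pow_succ, pow_two]
    rw [eq_inv_of_mul_eq_one_left h1, mul_inv_rev, hdi', hci]
  have hr2 : c * (d * d') * c⁻¹ ∈ A := hAn.conj_mem _ hr c
  have hr3 : d' * d ∈ A := by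
    have : (d * d')⁻¹ ∈ A := inv_mem hr
    rwa [mul_inv_rev, hdi', hdi] at this
  have h5 : d' * d * (c * (d * d') * c⁻¹ * (d' * d)) = d * c := by
    rw [hci]
    calc d' * d * (c * (d * d') * c * (d' * d)) = d' * d * ((c * d) * d' * c * (d' * d)) := by
          group
      _ = d' * d * ((d * c) * d' * c * (d' * d)) := by rw [hcd']
      _ = d' * (d * d) * (c * d' * (c * d')) * d := by group
      _ = d' * (d' * c) * d := by rw [hdd, hc2, mul_one]
      _ = (d' * d') * (c * d) := by group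
      _ = d * c := by rw [hdd', one_mul, hcd']
  have h6 : d * c ∈ A := by
    rw [← h5]
    exact mul_mem hr3 (mul_mem hr2 hr3)
  exact G.no_pair hAn hA hd hcw.mem hcd.symm hcd' h6

/-- Elements centralising `D` are trivial. -/
theorem eq_one_of_central (hne : D.Nonempty) {z : Y} (hz : ∀ y : Y, z * y = y * z) : z = 1 := by
  obtain ⟨u, hu⟩ := hne
  obtain ⟨ρ, β, L⟩ := G.loc u hu
  obtain ⟨zz, hzz⟩ : ∃ zz : Subgroup.centralizer ({u} : Set Y), (zz : Y) = z :=
    ⟨⟨z, mem_cent.2 (hz u)⟩, rfl⟩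
  have hzc : ∀ c : Subgroup.centralizer ({u} : Set Y), zz * c = c * zz := by
    intro c
    apply Subtype.ext
    rw [Subgroup.coe_mul, Subgroup.coe_mul, hzz]
    exact hz c
  have hr : ρ zz = 1 := by
    apply ext_act
    intro v
    obtain ⟨p, hp, rfl⟩ := L.bsurj v
    rw [act_one, ← L.conj zz p hp, hzc, mul_inv_cancel_right]
  have hb : β zz = 0 := by
    have h1 : ∀ w : Fin 4 → F, hermForm 4 F 2 w w = 0 → w ≠ 0 → hermForm 4 F 2 (β zz) w = 0 := by
      intro w hw hw0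
      obtain ⟨c, hc⟩ := L.surj (T hF w hw)
      have h2 := L.conj c zz hr
      rw [← hzc, mul_inv_cancel_right, hc, act_T] at h2
      exact (smul_eq_zero.1 (left_eq_add.1 h2)).resolve_right hw0
    obtain ⟨ω, hω⟩ := exists_omega hF
    have S := std_HB hF hω
    have hω0 : ω ≠ 0 := by
      rintro rfl
      norm_num at hω
    have n1 : (![1, 1, 0, 0] : Fin 4 → F) ≠ 0 := fun h => by
      have := congrFun h 0
      simp at this
    have n2 : (![0, 0, 1, 1] : Fin 4 → F) ≠ 0 := fun h => by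
      have := congrFun h 2
      simp at this
    have n3 : (![ω, ω ^ 2, 0, 0] : Fin 4 → F) ≠ 0 := fun h => by
      have := congrFun h 0
      simp at this
      exact hω0 this
    have n4 : (![0, 0, ω, ω ^ 2] : Fin 4 → F) ≠ 0 := fun h => by
      have := congrFun h 2
      simp at this
      exact hω0 this
    have e := S.exp (β zz)
    rw [h1 _ S.ww n1, h1 _ S.w'w' n2, h1 _ S.ff n3, h1 _ S.f'f' n4] at e
    rw [e]
    simp
  rcases (L.beta_zero hr).1 hb with h | h
  · rw [← hzz, h]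
    rfl
  · exfalso
    obtain ⟨e, he, hne⟩ := G.exists_ne hu
    apply hne
    have h1 : z = u := by rw [← hzz, h]; rfl
    rw [← h1]
    exact (hz e).symm

/-- No solvable normal subgroup. -/
theorem eq_bot_of_solvable [Finite Y] (hne : D.Nonempty) (N : Subgroup Y) (hN : N.Normal)
    (hs : Group.IsSolvable N) : N = ⊥ := by
  by_contra hbot
  haveI : Nontrivial N := (Subgroup.nontrivial_iff_ne_bot N).2 hbot
  haveI := hs
  obtain ⟨A, hAc, hAm, hA⟩ := Cfsg.Agent.Lib.SolvableNormalP.exists_comm_characteristic N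
  have hAn : (A.map N.subtype).Normal := inferInstance
  have hAA : ∀ a ∈ A.map N.subtype, ∀ b ∈ A.map N.subtype, a * b = b * a := by
    rintro _ ⟨a, ha, rfl⟩ _ ⟨b, hb, rfl⟩
    exact congrArg (fun x : A => ((x : N) : Y)) (hAm.is_comm.comm ⟨a, ha⟩ ⟨b, hb⟩)
  have hcl := G.closure_eq_top (fun a ha g => G.conj g a ha) hne
  apply hA
  rw [eq_bot_iff]
  intro a ha
  have h1 : ∀ y : Y, (a : Y) * y = y * a := by
    intro y
    have hy : y ∈ Subgroup.closure D := by rw [hcl]; exact Subgroup.mem_top _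
    have hle : Subgroup.closure D ≤ Subgroup.centralizer ({(a : Y)} : Set Y) := by
      rw [Subgroup.closure_le]
      intro d hd
      exact mem_cent.2 (G.comm_of_normal hAn hAA ⟨a, ha, rfl⟩ hd).symm
    exact (mem_cent.1 (hle hy)).symm
  have h2 := G.eq_one_of_central hne h1
  exact Subgroup.mem_bot.2 (Subtype.ext h2)

theorem perfect [Finite Y] (hne : D.Nonempty) (htr : ∀ a ∈ D, ∀ b ∈ D, ∃ g : Y, g * a * g⁻¹ = b) :
    commutator Y = ⊤ := by
  have hcl := G.closure_eq_top (fun a ha g => G.conj g a ha) hne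
  obtain ⟨u, hu⟩ := hne
  obtain ⟨ρ, β, L⟩ := G.loc u hu
  obtain ⟨ω, hω⟩ := exists_omega hF
  have S := std_HB hF hω
  have n1 : (![1, 1, 0, 0] : Fin 4 → F) ≠ 0 := fun h => by
    have := congrFun h 0
    simp at this
  obtain ⟨x, -, hx, -, hprod⟩ := L.ab_four S.ww n1
  have key : ∀ d ∈ D, Abelianization.of d = Abelianization.of u := by
    intro d hd
    obtain ⟨g, rfl⟩ := htr u hu d hd
    rw [map_mul, map_mul, mul_comm (Abelianization.of g), mul_assoc, ← map_mul, mul_inv_cancel,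
      map_one, mul_one]
  have h1 : Abelianization.of u * Abelianization.of u = 1 := by
    rw [← map_mul, G.sq u hu, map_one]
  have h2 : Abelianization.of u = 1 := by
    have h3 := congrArg Abelianization.of hprod
    rw [map_mul, map_mul, map_mul, key _ (hx 0).mem, key _ (hx 1).mem, key _ (hx 2).mem,
      key _ (hx 3).mem, h1, one_mul, h1] at h3
    exact h3.symm
  rw [eq_top_iff, ← hcl, Subgroup.closure_le]
  intro d hd
  have h3 : Abelianization.of d = 1 := by rw [key d hd, h2]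
  rw [← Abelianization.ker_of]
  exact MonoidHom.mem_ker.2 h3

end Glob

end Cfsg.Agent.R08.USix
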