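import Cfsg.Agent.R08.X0Core
import Cfsg.Agent.R08.Assembly15

/-!
Theorem X in the form used for S1715.
-/

set_option autoImplicit false

namespace Cfsg.Agent.R08.X0

universe w

/-- **Theorem X**, coherence given. -/
theorem x0 : Assembly15.X0.{w} := by
  intro G _ _ u hu L hidx hperf φ hsurj hker hcent r hr n hn1 hn2 hcoh
  exact X0Core.x0 u hu L hidx hperf φ hsurj hker hcent r hr n hn1 hn2 hcoh

end Cfsg.Agent.R08.X0
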