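import Cfsg.Agent.R08.X4Pres

/-!
The outer element `τ` of the centraliser of `u = θ z0` acting on `θ K = 2·Fi22` as the standard outer automorphism.
-/

set_option autoImplicit false
set_option linter.constructorNameAsVariable false
set_option maxRecDepth 100000

namespace Cfsg.Agent.R08.X4Tau

open Cfsg Cfsg.Spor Cfsg.Agent.Fischer.Fi23Class Cfsg.Agent.Fischer.Fi23Cover
  Cfsg.Agent.Fischer.Fi23Z Cfsg.Agent.Fischer.Fi23Orb Cfsg.Agent.Fischer.Fi23Hom
  Cfsg.Agent.R08.X4Rel Cfsg.Agent.R08.X4Pres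

universe u

/-! ### The element `Y` of `K` -/

theorem ev_mem_K {w : List Lt} (h : ∀ x ∈ w, x ≠ Lt.j) : ev w ∈ K := by
  induction w with
  | nil => exact K.one_mem
  | cons x w ih =>
    rw [ev_cons]
    refine K.mul_mem ?_ (ih fun x hx => h x (List.mem_cons_of_mem _ hx))
    have hx := h x List.mem_cons_self
    cases x
    all_goals first
      | exact absurd rfl hx
      | exact z0_mem
      | exact gen_mem_K _ (by decide)

theorem y_mem : ev y ∈ K := ev_mem_K (by decide)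

/-- The second vertex of type `h` as an element of `K`. -/
noncomputable def Y : K := ⟨ev y, y_mem⟩

/-- The properties of the outer automorphism. -/
structure Gam (γ : K ≃* K) : Prop where
  gen : ∀ s : Fi22.Gen, s ≠ .h → γ (kgen s) = zK * kgen s
  h : γ (kgen .h) = zK * Y
  z : γ zK = zK
  inv : ∀ k, γ (γ k) = k

/-- Lemma V. -/
def LemV : Prop := ∀ α : K ≃* K, IsConj (kgen .a) (α (kgen .a)) → ∃ k : K, ∀ x, α x = k * x * k⁻¹

/-- The class of `a` is mapped to itself or to its twist. -/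
def Char : Prop := ∀ α : K ≃* K, IsConj (kgen .a) (α (kgen .a)) ∨ IsConj (kgen .a) (zK * α (kgen .a))

/-- The centraliser of the diagram. -/
def Cent : Prop := ∀ k : K, (∀ s : Fi22.Gen, s ≠ .f → k * kgen s = kgen s * k) →
  k = 1 ∨ k = zK ∨ k = kgen .g ∨ k = zK * kgen .g

variable {G : Type u} [Group G] {θ : Fi23 →* G} {u : G}

/-- The embedding of `Fi23`. -/
structure Emb (θ : Fi23 →* G) (u : G) : Prop where
  inj : Function.Injective θ
  z : θ z0 = u
  norm : ∀ c : G, c * u = u * c → ∀ k : K, ∃ k' : K, c * θ k * c⁻¹ = θ k'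
  out : ∃ c : G, c * u = u * c ∧ ∀ k : K, θ k ≠ c
  cent : ∀ c : G, (∀ k : K, c * θ k = θ k * c) → c = 1 ∨ c = u

theorem Emb.comm (E : Emb θ u) (k : K) : θ k * u = u * θ k := by
  rw [← E.z, ← map_mul, ← map_mul, comm_z0 card_le _ k.2]

theorem Emb.sq (E : Emb θ u) : u * u = 1 := by
  rw [← E.z, ← map_mul, z0_sq card_le, map_one]

theorem Emb.inv_u (E : Emb θ u) : u⁻¹ = u := inv_eq_of_mul_eq_one_left E.sq

theorem Emb.ne (E : Emb θ u) : u ≠ 1 := by
  rw [← E.z]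
  intro h
  rw [← map_one θ] at h
  exact zK_ne (Subtype.ext (E.inj h))

theorem Emb.coe_inj (E : Emb θ u) {k k' : K} (h : θ k = θ k') : k = k' := Subtype.ext (E.inj h)

theorem Emb.exists_aut (E : Emb θ u) {c : G} (hc : c * u = u * c) :
    ∃ α : K ≃* K, ∀ k : K, c * θ k * c⁻¹ = θ (α k) := by
  choose f hf using E.norm c hc
  have hm : ∀ k k', f (k * k') = f k * f k' := by
    intro k k'
    apply E.coe_inj
    rw [← hf, Subgroup.coe_mul, Subgroup.coe_mul, map_mul, map_mul, ← hf, ← hf]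
    group
  have hi : Function.Injective f := by
    intro k k' h
    apply E.coe_inj
    have h1 := hf k
    rw [h, ← hf k'] at h1
    exact mul_left_cancel (mul_right_cancel h1)
  have hb : Function.Bijective f := (Finite.injective_iff_bijective).1 hi
  exact ⟨MulEquiv.ofBijective (MonoidHom.mk' f hm) hb, hf⟩

theorem Emb.mem_of_isConj (hV : LemV) (E : Emb θ u) {c : G} {α : K ≃* K}
    (hα : ∀ k : K, c * θ k * c⁻¹ = θ (α k)) (h : IsConj (kgen .a) (α (kgen .a))) :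
    ∃ k : K, θ k = c := by
  obtain ⟨k, hk⟩ := hV α h
  have h1 : ∀ x : K, (θ k)⁻¹ * c * θ x = θ x * ((θ k)⁻¹ * c) := by
    intro x
    have h2 := hα x
    rw [hk x, Subgroup.coe_mul, Subgroup.coe_mul, Subgroup.coe_inv, map_mul, map_mul, map_inv] at h2
    calc (θ k)⁻¹ * c * θ x = (θ k)⁻¹ * (c * θ x * c⁻¹) * c := by group
      _ = (θ k)⁻¹ * (θ k * θ x * (θ k)⁻¹) * c := by rw [h2]
      _ = θ x * ((θ k)⁻¹ * c) := by group
  rcases E.cent _ h1 with h2 | h2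
  · exact ⟨k, inv_mul_eq_one.1 h2⟩
  · refine ⟨k * zK, ?_⟩
    rw [Subgroup.coe_mul, map_mul]
    show θ k * θ z0 = c
    rw [E.z, ← h2]
    group

theorem Emb.exists_tau (hV : LemV) (hC : Char) {γ : K ≃* K} (hγ : Gam γ) (E : Emb θ u) :
    ∃ τ : G, τ * u = u * τ ∧ (∀ k : K, θ k ≠ τ) ∧ (∀ k : K, τ * θ k * τ⁻¹ = θ (γ k)) := by
  obtain ⟨c, hc, hcn⟩ := E.out
  obtain ⟨α, hα⟩ := E.exists_aut hc
  rcases hC α with h | h
  · obtain ⟨k, hk⟩ := E.mem_of_isConj hV hα h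
    exact absurd hk (hcn k)
  · obtain ⟨k, hk⟩ := isConj_iff.1 h
    have h1 : IsConj (kgen .a) ((α.trans γ) (kgen .a)) := by
      refine isConj_iff.2 ⟨γ k, ?_⟩
      show γ k * kgen .a * (γ k)⁻¹ = γ (α (kgen .a))
      have h2 : α (kgen .a) = zK * (k * kgen .a * k⁻¹) := by
        rw [hk, ← mul_assoc, zK_sq, one_mul]
      rw [h2, map_mul, hγ.z, map_mul, map_mul, map_inv, hγ.gen _ (by decide)]
      calc γ k * kgen .a * (γ k)⁻¹ = (zK * zK) * γ k * kgen .a * (γ k)⁻¹ := by rw [zK_sq, one_mul]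
        _ = zK * (zK * γ k) * kgen .a * (γ k)⁻¹ := by simp only [mul_assoc]
        _ = zK * (γ k * zK) * kgen .a * (γ k)⁻¹ := by rw [zK_comm]
        _ = zK * (γ k * (zK * kgen .a) * (γ k)⁻¹) := by simp only [mul_assoc]
    obtain ⟨k', hk'⟩ := hV _ h1
    have h3 : ∀ x : K, α x = γ k' * γ x * (γ k')⁻¹ := by
      intro x
      rw [← hγ.inv (α x)]
      have h4 : γ (α x) = k' * x * k'⁻¹ := hk' x
      rw [h4, map_mul, map_mul, map_inv]
    refine ⟨(θ (γ k'))⁻¹ * c, ?_, ?_, ?_⟩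
    · have h5 := E.comm (γ k')
      have h6 : (θ (γ k'))⁻¹ * u = u * (θ (γ k'))⁻¹ := by
        rw [inv_mul_eq_iff_eq_mul, ← mul_assoc, h5, mul_assoc, mul_inv_cancel, mul_one]
      rw [mul_assoc, hc, ← mul_assoc, h6, mul_assoc]
    · intro k hk
      apply hcn (γ k' * k)
      rw [Subgroup.coe_mul, map_mul, hk, mul_inv_cancel_left]
    · intro x
      have h5 := hα x
      rw [h3 x, Subgroup.coe_mul, Subgroup.coe_mul, Subgroup.coe_inv, map_mul, map_mul, map_inv] at h5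
      calc (θ (γ k'))⁻¹ * c * θ x * ((θ (γ k'))⁻¹ * c)⁻¹ =
          (θ (γ k'))⁻¹ * (c * θ x * c⁻¹) * θ (γ k') := by group
        _ = θ (γ x) := by rw [h5]; group

section Tau

variable {τ : G} {γ : K ≃* K}

theorem Emb.tau_sq (hγ : Gam γ) (E : Emb θ u) (hτ : ∀ k : K, τ * θ k * τ⁻¹ = θ (γ k)) :
    τ * τ = 1 ∨ τ * τ = u := by
  apply E.cent
  intro k
  have h1 : τ * τ * θ k * (τ * τ)⁻¹ = θ k := by
    calc τ * τ * θ k * (τ * τ)⁻¹ = τ * (τ * θ k * τ⁻¹) * τ⁻¹ := by group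
      _ = θ k := by rw [hτ, hτ, hγ.inv]
  calc τ * τ * θ k = τ * τ * θ k * (τ * τ)⁻¹ * (τ * τ) := by group
    _ = θ k * (τ * τ) := by rw [h1]

theorem kgen_z : (zK : Fi23) = z0 := rfl

theorem Emb.tau_gen (hγ : Gam γ) (E : Emb θ u) (hτ : ∀ k : K, τ * θ k * τ⁻¹ = θ (γ k))
    (s : Fi22.Gen) (hs : s ≠ .h) : τ * θ (gen (emb s)) * τ⁻¹ = u * θ (gen (emb s)) := by
  have h := hτ (kgen s)
  rw [hγ.gen s hs, Subgroup.coe_mul, map_mul, kgen_z, E.z] at h
  exact h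

theorem Emb.tau_h (hγ : Gam γ) (E : Emb θ u) (hτ : ∀ k : K, τ * θ k * τ⁻¹ = θ (γ k)) :
    τ * θ (gen .h) * τ⁻¹ = u * θ (ev y) := by
  have h := hτ (kgen .h)
  rw [hγ.h, Subgroup.coe_mul, map_mul, kgen_z, E.z] at h
  exact h

theorem Emb.tau_y (hγ : Gam γ) (E : Emb θ u) (hτ : ∀ k : K, τ * θ k * τ⁻¹ = θ (γ k)) :
    τ * θ (ev y) * τ⁻¹ = u * θ (gen .h) := by
  have h := hτ Y
  have h1 : γ Y = zK * kgen .h := by
    have h2 := congrArg γ hγ.h
    rw [hγ.inv, map_mul, hγ.z] at h2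
    rw [h2, ← mul_assoc, zK_sq, one_mul]
  rw [h1, Subgroup.coe_mul, map_mul, kgen_z, E.z] at h
  exact h

end Tau

end Cfsg.Agent.R08.X4Tau
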