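import Cfsg.Agent.R08.XTheta
import Cfsg.Agent.R08.LemmaVInst
import Cfsg.Agent.R08.X4Tau

/-!
The inputs `LemV`, `Char`, `Emb` of the construction of the outer element, from Lemma V and the embedding of `Fi23`.
-/

set_option autoImplicit false

namespace Cfsg.Agent.R08.XBridge

open Cfsg Cfsg.Spor Cfsg.Agent.Fischer Cfsg.Agent.R01.Lifts
open Cfsg.Agent.R08.AutT (T)
open Cfsg.Agent.R08.LiftCls
open Cfsg.Agent.R01.AlphaFi23 (t)
open Cfsg.Agent.Fischer.Fi23Class (K)
open Cfsg.Agent.Fischer.Fi23Cover (kgen zK)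
open Cfsg.Agent.Fischer.Fi23Z (z0)

universe w

theorem kgen_a : kgen .a = t .a := rfl

theorem zK_eq : (zK : K) = FiTwentyThree.zK := rfl

theorem mem_S (x : K) : x ∈ FiTwentyThree.S ↔ IsConj (kgen .a) x := by
  rw [FiTwentyThree.mem_S_iff, isConj_iff]
  rfl

/-- Lemma V in the form used for the outer element. -/
theorem lemV : X4Tau.LemV := fun α h => LemmaVInst.inner_of_isConj α h

/-- An automorphism of `K` fixes or interchanges the two classes of lifts. -/
theorem char : X4Tau.Char := by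
  intro α
  have h := LemmaVInst.clsK
  have ha : kgen .a ∈ FiTwentyThree.S := (mem_S _).2 (IsConj.refl _)
  rcases h.aut_cases α (aut_z h.ext α) with h1 | h1
  · left
    exact (mem_S _).1 (h1 _ ha)
  · right
    have h2 := (mem_S _).1 (h1 _ ha)
    rw [← FiTwentyThree.central] at h2
    exact h2

variable {G : Type w} [Group G] {u : G} {L' : Subgroup G} {u' : L'} {π : L' →* Spor.Fi22}
  {D : Set L'} {ε : L' ≃* K} {θ : Fi23 →* G}

theorem mem_L (h : XTheta.Out u u' π D ε θ) (k : K) : θ k ∈ L' := by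
  rw [← h.map_K]
  exact ⟨k, k.2, rfl⟩

theorem exists_of_mem (h : XTheta.Out u u' π D ε θ) {g : G} (hg : g ∈ L') : ∃ k : K, θ k = g :=
  ⟨ε ⟨g, hg⟩, h.θe ⟨g, hg⟩⟩

/-- The embedding. -/
theorem emb (h : XTheta.Out u u' π D ε θ) : X4Tau.Emb θ u where
  inj := h.inj
  z := h.θz
  norm := by
    intro c hc k
    obtain ⟨k', hk'⟩ := exists_of_mem h (h.hyp.norm c hc _ (mem_L h k))
    exact ⟨k', hk'.symm⟩
  out := by
    obtain ⟨b, hb, hbL⟩ := h.hyp.out
    exact ⟨b, hb, fun k hk => hbL (hk ▸ mem_L h k)⟩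
  cent := by
    intro c hc
    apply h.hyp.cent
    · have h1 := hc zK
      have h2 : θ ((zK : K) : Fi23) = u := h.θz
      rw [h2] at h1
      exact h1
    · intro l hl
      obtain ⟨k, rfl⟩ := exists_of_mem h hl
      exact hc k

/-- The centraliser of `u` lies in every subgroup containing `θ K` and an element of `C(u)` outside of `L'`. -/
theorem centralizer_le (h : XTheta.Out u u' π D ε θ) {H : Subgroup G} (hH : ∀ k : K, θ k ∈ H)
    {τ : G} (hτ : τ ∈ H) (hτu : τ * u = u * τ) (hτn : ∀ k : K, θ k ≠ τ) :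
    Subgroup.centralizer ({u} : Set G) ≤ H := by
  intro g hg
  have hgu : g * u = u * g := Subgroup.mem_centralizer_singleton_iff.1 hg
  have hL : ∀ x ∈ L', x ∈ H := by
    intro x hx
    obtain ⟨k, rfl⟩ := exists_of_mem h hx
    exact hH k
  by_cases hgL : g ∈ L'
  · exact hL g hgL
  · have h1 : g * τ ∈ L' := h.hyp.mul g τ hgu hτu hgL (by
      intro hτL
      obtain ⟨k, hk⟩ := exists_of_mem h hτL
      exact hτn k hk)
    have h2 := H.mul_mem (hL _ h1) (H.inv_mem hτ)
    rwa [mul_inv_cancel_right] at h2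

end Cfsg.Agent.R08.XBridge
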