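import Cfsg.Agent.R08.X5Main
import Cfsg.Agent.R08.XBridge
import Cfsg.Agent.R08.TLabel3
import Cfsg.Agent.R08.FiTwentyThree
import Cfsg.Agent.R08.FiTwentyFour

/-!
Theorem X: the end. From the embedding `θ` of `Fi23` and the elements `τ`, `w` to `Fi24'`.
-/

set_option autoImplicit false
set_option linter.constructorNameAsVariable false

namespace Cfsg.Agent.R08.X0Fin

open Cfsg Cfsg.Spor Cfsg.Agent.Fischer Cfsg.Agent.R01.Lifts
open Cfsg.Agent.R08.LiftCls
open Cfsg.Agent.R08.XTheta (Out)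
open Cfsg.Agent.R08.X4Tau (Emb)
open Cfsg.Agent.R08.X5Main (Tau)
open Cfsg.Agent.R08.XBridge (mem_L exists_of_mem)
open Cfsg.Agent.R01.AlphaFi23 (t)
open Cfsg.Agent.Fischer.Fi23Hom (gen)
open Cfsg.Agent.Fischer.Fi23Class (K)
open Cfsg.Agent.Fischer.Fi23Z (z0)
open Cfsg.Agent.Fischer.Fi23Cover (kgen)

universe v

/-! ### The embedding -/

variable {G : Type v} [Group G] {u : G} {L' : Subgroup G} {u' : L'} {π : L' →* Spor.Fi22}
  {D : Set L'} {ε : L' ≃* K} {θ : Fi23 →* G}

/-- The spider relation. -/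
theorem spider (θ : Fi23 →* G) : (θ (gen .d) * θ (gen .c) * θ (gen .b) * θ (gen .d) * θ (gen .e) *
    θ (gen .f) * θ (gen .d) * θ (gen .h) * θ (gen .i)) ^ 10 = 1 := by
  have h1 : ((t .d * t .c * t .b * t .d * t .e * t .f * t .d * t .h * t .i) ^ 10 : K) = 1 :=
    FiTwentyThree.hyp.spider
  have h2 := congrArg (fun k : K => θ (k : Fi23)) h1
  simp only [Subgroup.coe_pow, Subgroup.coe_mul, map_pow, map_mul, Subgroup.coe_one, map_one] at h2
  exact h2

/-- The central involution as a word. -/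
theorem θ_z0 (θ : Fi23 →* G) : (θ (gen .b) * θ (gen .c) * θ (gen .d) * θ (gen .e) * θ (gen .f) *
    θ (gen .g) * θ (gen .h)) ^ 9 = θ z0 := by
  have h1 : ((t .b * t .c * t .d * t .e * t .f * t .g * t .h) ^ 9 : K) = FiTwentyThree.zK :=
    R01.AlphaFi23.zrels.e7b
  have h2 := congrArg (fun k : K => θ (k : Fi23)) h1
  simp only [Subgroup.coe_pow, Subgroup.coe_mul, map_pow, map_mul] at h2
  exact h2

/-- Inverting elements. -/
theorem inv_odd {w a b c : G} (ha : a * w * a⁻¹ = w⁻¹) (hb : b * w * b⁻¹ = w⁻¹)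
    (hc : c * w * c⁻¹ = w⁻¹) : a * b * c * w * (a * b * c)⁻¹ = w⁻¹ := by
  have hb' : b * w⁻¹ * b⁻¹ = w := by
    have := congrArg (·⁻¹) hb
    simpa [mul_assoc] using this
  calc a * b * c * w * (a * b * c)⁻¹ = a * (b * (c * w * c⁻¹) * b⁻¹) * a⁻¹ := by group
    _ = w⁻¹ := by rw [hc, hb', ha]

theorem rel_ne {x : Fi23.Gen → G} {w : G} (h : Even.Rel x w) (ha : x .a ≠ 1) (hw : w * w = 1) :
    False := by
  have h3 := h.w3
  have h1 : w = 1 := by
    rw [pow_succ, pow_two, hw, one_mul] at h3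
    exact h3
  have h2 := h.wa
  rw [h1, mul_one, pow_succ, pow_two, h.sq, one_mul] at h2
  exact ha h2

theorem u_inv {u w : G} (hrel : Even.Rel (fun s => θ (gen s)) w) (hu : θ z0 = u) :
    u * w * u⁻¹ = w⁻¹ := by
  have h1 : ∀ s : Fi23.Gen, s ≠ .a → θ (gen s) * w * (θ (gen s))⁻¹ = w⁻¹ := by
    intro s hs
    have h2 := hrel.inv s hs
    have h3 := hrel.inv_x s
    rw [h3]
    rw [pow_two] at h2
    have h4 : (θ (gen s) * w * θ (gen s)) * w = 1 := by
      rw [← h2]; group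
    exact eq_inv_of_mul_eq_one_left h4
  have hb := h1 .b (by decide)
  have hc := h1 .c (by decide)
  have hd := h1 .d (by decide)
  have he := h1 .e (by decide)
  have hf := h1 .f (by decide)
  have hg := h1 .g (by decide)
  have hh := h1 .h (by decide)
  have h7 := inv_odd (inv_odd (inv_odd hb hc hd) he hf) hg hh
  rw [← hu, ← θ_z0 θ]
  set p := θ (gen .b) * θ (gen .c) * θ (gen .d) * θ (gen .e) * θ (gen .f) * θ (gen .g) *
    θ (gen .h) with hp
  have h9 := inv_odd (inv_odd (inv_odd (inv_odd h7 h7 h7) h7 h7) h7 h7) h7 h7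
  have e9 : p ^ 9 = p * p * p * p * p * p * p * p * p := by
    simp only [pow_succ, pow_zero, one_mul]
  rw [e9]
  exact h9

/-- **The end of Theorem X.** -/
theorem finish (h : Out u u' π D ε θ) {τ w : G} (hτ : Tau θ u τ w) :
    ∃ H : Subgroup G, Subgroup.centralizer ({u} : Set G) ≤ H ∧ Spor.IsoFi24' H ∧
      ∀ l : L', π l ∈ AutT.T → ∃ g ∈ H, g * u * g⁻¹ = l := by
  have E := XBridge.emb h
  have hxH : ∀ s, θ (gen s) ∈ Subgroup.closure (Set.range (fun s => θ (gen s)) ∪ {w}) :=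
    fun s => Subgroup.subset_closure (Or.inl ⟨s, rfl⟩)
  have hθ : ∀ y : Fi23, θ y ∈ Subgroup.closure (Set.range (fun s => θ (gen s)) ∪ {w}) := by
    have h1 : (⊤ : Subgroup Fi23) ≤
        (Subgroup.closure (Set.range (fun s => θ (gen s)) ∪ {w})).comap θ := by
      rw [← show Subgroup.closure (Set.range (fun s => (gen s : Fi23))) = ⊤ from
        PresentedGroup.closure_range_of _, Subgroup.closure_le]
      rintro _ ⟨s, rfl⟩
      exact hxH s
    intro y
    exact h1 (Subgroup.mem_top y)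
  have hC : Subgroup.centralizer ({u} : Set G) ≤
      Subgroup.closure (Set.range (fun s => θ (gen s)) ∪ {w}) :=
    XBridge.centralizer_le h (fun k => hθ k) hτ.mem hτ.comm hτ.out
  have ha1 : θ (gen .a) ≠ 1 := by
    intro h1
    exact FiTwentyThree.ne_one_D (FiTwentyThree.gen_mem_D .a) (h.inj (by rw [h1, map_one]))
  have h17 := TThree.w17_three TLabel3.label3 hτ.rel (spider θ) (by
    intro p hp hpw
    have h1 : ∀ y : Fi23, p * θ y = θ y * p := by
      have h2 : (⊤ : Subgroup Fi23) ≤ (Subgroup.centralizer ({p} : Set G)).comap θ := by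
        rw [← show Subgroup.closure (Set.range (fun s => (gen s : Fi23))) = ⊤ from
          PresentedGroup.closure_range_of _, Subgroup.closure_le]
        rintro _ ⟨s, rfl⟩
        exact Subgroup.mem_centralizer_singleton_iff.2 (hp s).symm.eq
      intro y
      exact (Subgroup.mem_centralizer_singleton_iff.1 (h2 (Subgroup.mem_top y))).symm
    rcases E.cent p (fun k => h1 k) with h2 | h2
    · exact h2
    · exfalso
      have h3 := u_inv hτ.rel h.θz
      rw [h2] at hpw
      have h4 : u * w * u⁻¹ = w := by rw [hpw.eq, mul_inv_cancel_right]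
      rw [h4] at h3
      exact rel_ne hτ.rel ha1 (by nth_rewrite 1 [h3]; exact inv_mul_cancel w))
  obtain ⟨f⟩ := TMain.nonempty_equiv FiTwentyFour.isFi24' hτ.rel h17 ha1
  refine ⟨_, hC, ⟨f.symm⟩, ?_⟩
  -- the conjugates of `u`
  have hconj : ∀ d ∈ D, ∃ g ∈ Subgroup.closure (Set.range (fun s => θ (gen s)) ∪ {w}),
      g * u * g⁻¹ = (d : G) := by
    intro d hd
    have h1 : IsConj z0 ((ε d : K) : Fi23) := by
      have h2 : IsConj (gen .a) ((ε d : K) : Fi23) := by
        obtain ⟨c, hc⟩ := isConj_iff.1 ((h.eD d).1 hd)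
        exact isConj_iff.2 ⟨c, congrArg Subtype.val hc⟩
      exact (FiTwentyThree.gen_mem_D .a).trans h2
    obtain ⟨y, hy⟩ := isConj_iff.1 h1
    refine ⟨θ y, hθ y, ?_⟩
    rw [← h.θz, ← map_inv, ← map_mul, ← map_mul, hy, h.θe]
  intro l hl
  rcases h.cls.cover l hl with h1 | h1
  · exact hconj l h1
  · obtain ⟨b, hb, hsw⟩ := h.ctx.swap
    obtain ⟨d', hd', hbd⟩ := hsw _ h1
    obtain ⟨g, hg, hgd⟩ := hconj d' hd'
    rw [h.coe_u] at hb hbd
    have hbl : b * l * b⁻¹ = d' := by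
      have h2 : ((l * u' : L') : G) = u * l := by
        rw [Subgroup.coe_mul, h.coe_u]
        exact h.hyp.le l l.2
      rw [h2] at hbd
      have h3 : u * (b * l * b⁻¹) = u * d' := by
        rw [← hbd]
        calc u * (b * l * b⁻¹) = (u * b) * l * b⁻¹ := by group
          _ = (b * u) * l * b⁻¹ := by rw [hb]
          _ = b * (u * l) * b⁻¹ := by group
      exact mul_left_cancel h3
    refine ⟨b⁻¹ * g, Subgroup.mul_mem _ (Subgroup.inv_mem _ (hC (Subgroup.mem_centralizer_singleton_iff.2 hb))) hg, ?_⟩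
    calc b⁻¹ * g * u * (b⁻¹ * g)⁻¹ = b⁻¹ * (g * u * g⁻¹) * b := by group
      _ = b⁻¹ * (b * l * b⁻¹) * b := by rw [hgd, hbl]
      _ = l := by group

end Cfsg.Agent.R08.X0Fin
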