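import Cfsg.Agent.R08.FiTwentyThree
import Cfsg.Agent.Fischer.Fi23Cover

/-!
The centraliser of `⟨a, b, c, d, e, h, i, g⟩` (all generators except `f`) in `Fi22` is `⟨g⟩`, in the double cover
`K = C(z0)` it is `⟨z0, g⟩`.
-/

set_option autoImplicit false
set_option linter.constructorNameAsVariable false
set_option maxRecDepth 100000

namespace Cfsg.Agent.R08.X4Cent

open Cfsg Cfsg.Spor Cfsg.Agent.Fischer Cfsg.Agent.Fischer.Abstract
open Cfsg.Agent.Fischer.Group22 Cfsg.Agent.Fischer.Rank22
open Cfsg.Agent.Fischer.Fi22PtsRep (gen gen_sq)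
open Cfsg.Agent.SporRec.Fi22Iso (cv)
open Cfsg.Agent.Fischer.Fi23Class (K)
open Cfsg.Agent.Fischer.Fi23Cover (kgen zK)

/-- If the point `p` is fixed by `a, b, c, d, h, i` and not by `g`, it is `2854` or `2882`. -/
noncomputable def chk (p : ℕ) : Bool :=
  Cert.bite (Nat.beq (Data22.nx .a p) p)
    (Cert.bite (Nat.beq (Data22.nx .b p) p)
      (Cert.bite (Nat.beq (Data22.nx .c p) p)
        (Cert.bite (Nat.beq (Data22.nx .d p) p)
          (Cert.bite (Nat.beq (Data22.nx .h p) p)
            (Cert.bite (Nat.beq (Data22.nx .i p) p)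
              (Cert.bite (Nat.beq (Data22.nx .g p) p) true
                (Cert.bite (Nat.beq p 2854) true (Nat.beq p 2882))) true) true) true) true) true) true

theorem ck : Cert.allGrid (nat_lit 54) (nat_lit 65) chk = true := by decide +kernel

theorem ckf : Nat.beq (pg .f : X) 2854 = true := by decide +kernel

theorem ckg : Nat.beq (Data22.nx .g 2854) 2882 = true := by decide +kernel

theorem bite_eq {c a b : Bool} : Cert.bite c a b = true ↔ (c = true → a = true) ∧ (c = false → b = true) := by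
  cases c <;> simp [Cert.bite]

theorem point {p : ℕ} (hp : p < 3510) (ha : Data22.nx .a p = p) (hb : Data22.nx .b p = p)
    (hc : Data22.nx .c p = p) (hd : Data22.nx .d p = p) (hh : Data22.nx .h p = p) (hi : Data22.nx .i p = p)
    (hg : Data22.nx .g p ≠ p) : p = 2854 ∨ p = 2882 := by
  have h := Cert.allGrid_spec ck p hp
  unfold chk at h
  have e : ∀ q : ℕ, q = p → Nat.beq q p = true := fun q hq => by rw [hq]; exact Nat.beq_refl p
  have h1 := (bite_eq.1 h).1 (e _ ha)
  have h2 := (bite_eq.1 h1).1 (e _ hb)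
  have h3 := (bite_eq.1 h2).1 (e _ hc)
  have h4 := (bite_eq.1 h3).1 (e _ hd)
  have h5 := (bite_eq.1 h4).1 (e _ hh)
  have h6 := (bite_eq.1 h5).1 (e _ hi)
  have hg' : Nat.beq (Data22.nx .g p) p = false := by
    rcases Bool.eq_false_or_eq_true (Nat.beq (Data22.nx .g p) p) with h7 | h7
    · exact absurd (Nat.eq_of_beq_eq_true h7) hg
    · exact h7
  have h7 := (bite_eq.1 h6).2 hg'
  rcases Bool.eq_false_or_eq_true (Nat.beq p 2854) with h8 | h8
  · exact Or.inl (Nat.eq_of_beq_eq_true h8)
  · exact Or.inr (Nat.eq_of_beq_eq_true ((bite_eq.1 h7).2 h8))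

/-- An element of `Fi22` commuting with all generators is trivial. -/
theorem eq_one_of_comm {k : Spor.Fi22} (h : ∀ s, k * gen s = gen s * k) : k = 1 := by
  have hs := Cfsg.Agent.R01.Fi22Facts.isSimple
  have hk : k ∈ Subgroup.center Spor.Fi22 := by
    rw [Subgroup.mem_center_iff]
    intro x
    have hx : x ∈ Subgroup.closure (Set.range gen) := by rw [Fi22PtsRep.closure_gen]; trivial
    have h1 : Subgroup.closure (Set.range gen) ≤ Subgroup.centralizer {k} := by
      rw [Subgroup.closure_le]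
      rintro _ ⟨s, rfl⟩
      rw [SetLike.mem_coe, Subgroup.mem_centralizer_singleton_iff]
      exact (h s).symm
    exact Subgroup.mem_centralizer_singleton_iff.1 (h1 hx)
  rcases hs.eq_bot_or_eq_top_of_normal (Subgroup.center Spor.Fi22) inferInstance with h1 | h1
  · rw [h1] at hk
    exact Subgroup.mem_bot.1 hk
  · exfalso
    have h2 : R.t R.x0 * R.t R.b = R.t R.b * R.t R.x0 := by
      apply Cfsg.Agent.R01.Fi22Facts.E.injective
      rw [map_mul, map_mul]
      have h3 : Cfsg.Agent.R01.Fi22Facts.E (R.t R.b) ∈ Subgroup.center Spor.Fi22 := by rw [h1]; trivial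
      exact Subgroup.mem_center_iff.1 h3 _
    exact R.ncomm_b h2

/-- **The centraliser in `Fi22` of all generators except `f`.** -/
theorem cent22 {k : Spor.Fi22} (h : ∀ s, s ≠ .f → k * gen s = gen s * k) : k = 1 ∨ k = gen .g := by
  obtain ⟨x, rfl⟩ := Cfsg.Agent.R01.Fi22Facts.E.surjective k
  have hx : ∀ s, s ≠ Spor.Fi22.Gen.f → x * g (cv s) = g (cv s) * x := by
    intro s hs
    apply Cfsg.Agent.R01.Fi22Facts.E.injective
    rw [map_mul, map_mul, Cfsg.Agent.R01.Fi22Facts.E_g]
    exact h s hs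
  have hfix : ∀ s, s ≠ Spor.Fi22.Gen.f → g (cv s) • (pg .f : X) = pg .f →
      g (cv s) • (x • (pg .f : X)) = x • (pg .f : X) := by
    intro s hs h1
    rw [← mul_smul, ← hx s hs, mul_smul, h1]
  have hcom : ∀ s, coxLabel Spor.Fi22.edges s .f = 2 → g (cv s) • (pg .f : X) = pg .f := by
    intro s hs
    have h1 : R.t (pg .f) = g .f := t_pg .f
    rw [R.smul_eq_iff_comm, h1]
    apply Cfsg.Agent.R01.Fi22Facts.E.injective
    have h2 : Cfsg.Agent.R01.Fi22Facts.E (g .f) = gen .f := Cfsg.Agent.R01.Fi22Facts.E_g .f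
    rw [map_mul, map_mul, Cfsg.Agent.R01.Fi22Facts.E_g, h2]
    exact Fi22PtsRep.gen_comm hs
  have hgf : ((g .g • (pg .f : X) : X) : ℕ) = 2882 := by
    rw [g_smul]
    have h1 : ((pg .f : X) : ℕ) = 2854 := Nat.eq_of_beq_eq_true ckf
    rw [h1]
    exact Nat.eq_of_beq_eq_true ckg
  have hf : ((pg .f : X) : ℕ) = 2854 := Nat.eq_of_beq_eq_true ckf
  have hne : g .g • (x • (pg .f : X)) ≠ x • (pg .f : X) := by
    intro h1
    have h2 : g .g * x = x * g .g := (hx .g (by decide)).symm
    rw [← mul_smul, h2, mul_smul] at h1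
    have h3 := congrArg (fun p : X => (p : ℕ)) ((MulAction.injective x) h1)
    have h4 : ((g .g • (pg .f : X) : X) : ℕ) = ((pg .f : X) : ℕ) := h3
    rw [hgf, hf] at h4
    exact absurd h4 (by decide)
  have hval : ∀ s, s ≠ Spor.Fi22.Gen.f → coxLabel Spor.Fi22.edges s .f = 2 →
      Data22.nx (cv s) (x • (pg .f : X) : X) = ((x • (pg .f : X) : X) : ℕ) := by
    intro s hs hl
    rw [← g_smul, hfix s hs (hcom s hl)]
  have hq : ((x • (pg .f : X) : X) : ℕ) = 2854 ∨ ((x • (pg .f : X) : X) : ℕ) = 2882 := by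
    refine point (Fin.is_lt _) (hval .a (by decide) (by decide)) (hval .b (by decide) (by decide))
      (hval .c (by decide) (by decide)) (hval .d (by decide) (by decide)) (hval .h (by decide) (by decide))
      (hval .i (by decide) (by decide)) ?_
    rw [← g_smul]
    intro h1
    exact hne (Fin.ext h1)
  have hgen : ∀ s, cv s = Data22.Gen.f → s = Spor.Fi22.Gen.f := by
    intro s hs
    cases s <;> first | rfl | exact absurd hs (by decide)
  -- an element commuting with all generators except `f` and fixing the point of `f` is trivial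
  have triv : ∀ y : G, (∀ s, s ≠ Spor.Fi22.Gen.f → y * g (cv s) = g (cv s) * y) →
      y • (pg .f : X) = pg .f → Cfsg.Agent.R01.Fi22Facts.E y = 1 := by
    intro y hy hyf
    apply eq_one_of_comm
    intro s
    by_cases hs : s = .f
    · subst hs
      have h1 : R.t (pg .f) = g .f := t_pg .f
      rw [R.smul_eq_iff_comm, h1] at hyf
      rw [← Cfsg.Agent.R01.Fi22Facts.E_g .f, ← map_mul, ← map_mul]
      exact congrArg _ hyf
    · rw [← Cfsg.Agent.R01.Fi22Facts.E_g s, ← map_mul, ← map_mul, hy s hs]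
  rcases hq with h1 | h1
  · left
    exact triv x hx (Fin.ext (h1.trans hf.symm))
  · right
    have h2 : x • (pg .f : X) = g .g • (pg .f : X) := Fin.ext (h1.trans hgf.symm)
    have h3 : Cfsg.Agent.R01.Fi22Facts.E (g .g * x) = 1 := by
      apply triv
      · intro s hs
        have h4 : g .g * g (cv s) = g (cv s) * g .g := by
          by_cases hs' : s = .g
          · subst hs'; rfl
          · apply Cfsg.Agent.R01.Fi22Facts.E.injective
            have h5 : Cfsg.Agent.R01.Fi22Facts.E (g .g) = gen .g := Cfsg.Agent.R01.Fi22Facts.E_g .g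
            rw [map_mul, map_mul, Cfsg.Agent.R01.Fi22Facts.E_g, h5]
            have hl : ∀ s : Spor.Fi22.Gen, s ≠ .f → s ≠ .g → coxLabel Spor.Fi22.edges .g s = 2 := by
              intro s
              cases s <;> decide
            exact Fi22PtsRep.gen_comm (hl s hs hs')
        rw [mul_assoc, hx s hs, ← mul_assoc, h4, mul_assoc]
      · rw [mul_smul, h2, ← mul_smul, g_sq, one_smul]
    rw [map_mul] at h3
    have h4 : Cfsg.Agent.R01.Fi22Facts.E (g .g) = gen .g := Cfsg.Agent.R01.Fi22Facts.E_g .g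
    rw [h4] at h3
    have h5 := inv_eq_of_mul_eq_one_right h3
    rw [← h5]
    exact inv_eq_of_mul_eq_one_left (gen_sq .g)

/-- **The centraliser in `K`.** -/
theorem main {k : K} (h : ∀ s : Fi22.Gen, s ≠ .f → k * kgen s = kgen s * k) :
    k = 1 ∨ k = zK ∨ k = kgen .g ∨ k = zK * kgen .g := by
  have hk : ∀ s, kgen s = Cfsg.Agent.R01.AlphaFi23.t s := fun s => by
    apply Subtype.ext
    cases s <;> rfl
  have h1 : ∀ s, s ≠ .f → FiTwentyThree.pi k * gen s = gen s * FiTwentyThree.pi k := by
    intro s hs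
    rw [← FiTwentyThree.pi_t, ← map_mul, ← map_mul, ← hk, h s hs]
  have hz : FiTwentyThree.zK = zK := Subtype.ext rfl
  rcases cent22 h1 with h2 | h2
  · rcases (FiTwentyThree.pi_ker k).1 h2 with h3 | h3
    · exact Or.inl h3
    · exact Or.inr (Or.inl (by rw [h3, hz]))
  · rw [← FiTwentyThree.pi_t, ← hk] at h2
    rcases FiTwentyThree.ext.map_eq.1 h2 with h3 | h3
    · exact Or.inr (Or.inr (Or.inl h3))
    · exact Or.inr (Or.inr (Or.inr (by rw [h3, FiTwentyThree.ext.comm, hz])))

end Cfsg.Agent.R08.X4Cent
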