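import Cfsg.Agent.R08.X4Pres

/-!
The automorphism `γ` of `K = 2.Fi22` which sends the generators `s ≠ h` to `z s` and `h` to `z y`.
-/

set_option autoImplicit false
set_option linter.constructorNameAsVariable false
set_option maxRecDepth 100000

namespace Cfsg.Agent.R08.X4Gamma

open Cfsg Cfsg.Spor Cfsg.Agent.Fischer.Fi23Class Cfsg.Agent.Fischer.Fi23Cover
  Cfsg.Agent.R08.X4Pres
open Cfsg.Agent.R08.X4Rel (Lt ev ev_eq' chk ev_pw pw)
open Cfsg.Agent.Fischer.Fi23Z (z0)

/-- The letter of a generator. -/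
def lt : Fi22.Gen → Lt
  | .a => .a | .b => .b | .c => .c | .d => .d | .e => .e | .f => .f | .g => .g | .h => .h | .i => .i

theorem coe_kgen' (s : Fi22.Gen) : ((kgen s : K) : Fi23) = (lt s).el := by
  cases s <;> rfl

/-- The element of `K` of a word. -/
noncomputable def kw (w : List Fi22.Gen) : K := (w.map kgen).prod

theorem kw_nil : kw [] = 1 := rfl

theorem kw_cons (s : Fi22.Gen) (w : List Fi22.Gen) : kw (s :: w) = kgen s * kw w := by
  unfold kw; rw [List.map_cons, List.prod_cons]

theorem kw_append (v w : List Fi22.Gen) : kw (v ++ w) = kw v * kw w := by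
  unfold kw; rw [List.map_append, List.prod_append]

theorem coe_kw (w : List Fi22.Gen) : ((kw w : K) : Fi23) = ev (w.map lt) := by
  induction w with
  | nil => rfl
  | cons s w ih =>
    rw [kw_cons, Subgroup.coe_mul, ih, coe_kgen', List.map_cons, X4Rel.ev_cons]

theorem kw_reverse (w : List Fi22.Gen) : kw w.reverse = (kw w)⁻¹ := by
  apply Subtype.ext
  rw [coe_kw, List.map_reverse, X4Rel.ev_reverse, Subgroup.coe_inv, coe_kw]

/-- The word `q`. -/
def qG : List Fi22.Gen := [.d, .c, .b, .a, .e, .d, .c, .b, .f, .e, .d, .c, .g, .f, .e, .d]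

/-- The word `y`. -/
def yG : List Fi22.Gen := qG ++ (.h :: qG.reverse)

theorem map_yG : yG.map lt = X4Rel.y := rfl

/-- The words of the images of the generators up to `z`. -/
def base : Fi22.Gen → List Fi22.Gen
  | .h => yG
  | s => [s]

/-- The images of the generators. -/
noncomputable def img (s : Fi22.Gen) : K := zK * kw (base s)

theorem zpow_comm (n : ℕ) (k : K) : k * zK ^ n = zK ^ n * k :=
  ((show Commute k zK from zK_comm k).pow_right n).eq

theorem img_word (w : List Fi22.Gen) : (w.map img).prod = zK ^ w.length * kw (w.flatMap base) := by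
  induction w with
  | nil => simp [kw_nil]
  | cons s w ih =>
    rw [List.map_cons, List.prod_cons, ih, List.flatMap_cons, kw_append, List.length_cons, pow_succ]
    show zK * kw (base s) * (zK ^ w.length * kw (w.flatMap base)) = _
    calc zK * kw (base s) * (zK ^ w.length * kw (w.flatMap base)) =
        zK * (kw (base s) * zK ^ w.length) * kw (w.flatMap base) := by group
      _ = zK * (zK ^ w.length * kw (base s)) * kw (w.flatMap base) := by rw [zpow_comm]
      _ = (zK * zK ^ w.length) * (kw (base s) * kw (w.flatMap base)) := by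
        simp only [mul_assoc]
      _ = zK ^ w.length * zK * (kw (base s) * kw (w.flatMap base)) := by
        rw [← pow_succ', pow_succ]

theorem mul_pow_z (n m : ℕ) (k : K) : (zK ^ n * k) ^ m = zK ^ (n * m) * k ^ m := by
  have h : Commute (zK ^ n) k := (zpow_comm n k).symm
  rw [h.mul_pow, pow_mul]

theorem z_even {n : ℕ} (hn : Even n) : zK ^ n = 1 := by
  obtain ⟨m, rfl⟩ := hn
  rw [← two_mul, pow_mul, pow_two, zK_sq, one_pow]

theorem z_odd {n : ℕ} (hn : Odd n) : zK ^ n = zK := by
  obtain ⟨m, rfl⟩ := hn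
  rw [pow_succ, pow_mul, pow_two, zK_sq, one_pow, one_mul]

theorem kw_pow_eq {w : List Fi22.Gen} {n : ℕ} {v : List Lt}
    (h : ev (pw n (w.map lt)) = ev v) : ((kw w ^ n : K) : Fi23) = ev v := by
  rw [Subgroup.coe_pow, coe_kw, ← ev_pw, h]

theorem kw_pow_one {w : List Fi22.Gen} {n : ℕ}
    (h : chk (pw n (w.map lt)) [] = true) : kw w ^ n = 1 := by
  apply Subtype.ext
  exact kw_pow_eq (ev_eq' h)

theorem comm_y {s : Fi22.Gen} (h : chk (X4Rel.y ++ [lt s]) (lt s :: X4Rel.y) = true) :
    kw yG * kgen s = kgen s * kw yG := by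
  apply Subtype.ext
  have h1 := ev_eq' h
  rw [X4Rel.ev_append, X4Rel.ev_cons, X4Rel.ev_nil, mul_one, X4Rel.ev_cons, ← map_yG] at h1
  rw [Subgroup.coe_mul, Subgroup.coe_mul, coe_kw, coe_kgen']
  exact h1

theorem y_sq : kw yG * kw yG = 1 := by
  rw [yG, kw_append, kw_cons, kw_reverse]
  calc kw qG * (kgen .h * (kw qG)⁻¹) * (kw qG * (kgen .h * (kw qG)⁻¹)) =
      kw qG * (kgen .h * kgen .h) * (kw qG)⁻¹ := by group
    _ = 1 := by rw [kgen_sq]; group

theorem q_sq : kw qG * kw qG = 1 := by
  apply Subtype.ext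
  have h1 := ev_eq' X4Rel.ck_q
  rw [X4Rel.ev_append, X4Rel.ev_nil] at h1
  rw [Subgroup.coe_mul, coe_kw]
  exact h1

theorem y_comm_sq {s : Fi22.Gen} (h : kw yG * kgen s = kgen s * kw yG) :
    (kw yG * kgen s) ^ 2 = 1 := by
  have hc : Commute (kw yG) (kgen s) := h
  rw [hc.mul_pow, pow_two, y_sq, pow_two, kgen_sq, one_mul]

theorem y_comm_sq' {s : Fi22.Gen} (h : kw yG * kgen s = kgen s * kw yG) :
    (kgen s * kw yG) ^ 2 = 1 := by
  rw [← h]; exact y_comm_sq h

theorem yi3 : (kw yG * kgen .i) ^ 3 = 1 := by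
  have : kw yG * kgen .i = kw (yG ++ [.i]) := by rw [kw_append, kw_cons, kw_nil, mul_one]
  rw [this]
  exact kw_pow_one X4Rel.ck_yi

theorem dy3 : (kgen .d * kw yG) ^ 3 = 1 := by
  rw [← kw_cons]
  exact kw_pow_one X4Rel.ck_yd

theorem swap3 {Γ : Type*} [Group Γ] {x y : Γ} (hx : x * x = 1) (h : (x * y) ^ 3 = 1) :
    (y * x) ^ 3 = 1 := by
  have : y * x = x * (x * y) * x⁻¹ := by
    rw [← mul_assoc, hx, one_mul, inv_eq_of_mul_eq_one_left hx]
  rw [this, conj_pow, h, mul_one, mul_inv_cancel]

theorem yd3 : (kw yG * kgen .d) ^ 3 = 1 := swap3 (kgen_sq _) dy3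

theorem iy3 : (kgen .i * kw yG) ^ 3 = 1 := swap3 y_sq yi3

theorem cox_aux (p q : Fi22.Gen) :
    (kw (base p) * kw (base q)) ^ coxLabel Fi22.edges p q = 1 := by
  have e : ∀ s : Fi22.Gen, kw [s] = kgen s := fun s => by rw [kw_cons, kw_nil, mul_one]
  have gen : ∀ p q : Fi22.Gen, p ≠ .h → q ≠ .h →
      (kw (base p) * kw (base q)) ^ coxLabel Fi22.edges p q = 1 := by
    intro p q hp hq
    have hbp : kw (base p) = kgen p := by
      cases p
      all_goals first
        | exact absurd rfl hp
        | exact e _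
    have hbq : kw (base q) = kgen q := by
      cases q
      all_goals first
        | exact absurd rfl hq
        | exact e _
    rw [hbp, hbq]
    exact kgen_rel p q
  have ca := comm_y (s := .a) X4Rel.ck_ya
  have cb := comm_y (s := .b) X4Rel.ck_yb
  have cc := comm_y (s := .c) X4Rel.ck_yc
  have ce := comm_y (s := .e) X4Rel.ck_ye
  have cf := comm_y (s := .f) X4Rel.ck_yf
  have cg := comm_y (s := .g) X4Rel.ck_yg
  by_cases hp : p = .h
  · subst hp
    show (kw yG * kw (base q)) ^ coxLabel Fi22.edges .h q = 1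
    cases q
    · show (kw yG * kw [.a]) ^ 2 = 1
      rw [e]; exact y_comm_sq ca
    · show (kw yG * kw [.b]) ^ 2 = 1
      rw [e]; exact y_comm_sq cb
    · show (kw yG * kw [.c]) ^ 2 = 1
      rw [e]; exact y_comm_sq cc
    · show (kw yG * kw [.d]) ^ 3 = 1
      rw [e]; exact yd3
    · show (kw yG * kw [.e]) ^ 2 = 1
      rw [e]; exact y_comm_sq ce
    · show (kw yG * kw [.f]) ^ 2 = 1
      rw [e]; exact y_comm_sq cf
    · show (kw yG * kw [.g]) ^ 2 = 1
      rw [e]; exact y_comm_sq cg
    · show (kw yG * kw yG) ^ 1 = 1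
      rw [pow_one]; exact y_sq
    · show (kw yG * kw [.i]) ^ 3 = 1
      rw [e]; exact yi3
  · by_cases hq : q = .h
    · subst hq
      show (kw (base p) * kw yG) ^ coxLabel Fi22.edges p .h = 1
      cases p
      · show (kw [.a] * kw yG) ^ 2 = 1
        rw [e]; exact y_comm_sq' ca
      · show (kw [.b] * kw yG) ^ 2 = 1
        rw [e]; exact y_comm_sq' cb
      · show (kw [.c] * kw yG) ^ 2 = 1
        rw [e]; exact y_comm_sq' cc
      · show (kw [.d] * kw yG) ^ 3 = 1
        rw [e]; exact dy3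
      · show (kw [.e] * kw yG) ^ 2 = 1
        rw [e]; exact y_comm_sq' ce
      · show (kw [.f] * kw yG) ^ 2 = 1
        rw [e]; exact y_comm_sq' cf
      · show (kw [.g] * kw yG) ^ 2 = 1
        rw [e]; exact y_comm_sq' cg
      · exact absurd rfl hp
      · show (kw [.i] * kw yG) ^ 3 = 1
        rw [e]; exact iy3
    · exact gen p q hp hq

theorem rel22 : Rel22 img where
  cox := by
    intro p q
    have h1 : img p * img q = zK ^ 2 * (kw (base p) * kw (base q)) := by
      have := img_word [p, q]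
      simp only [List.map_cons, List.map_nil, List.prod_cons, List.prod_nil, mul_one,
        List.length_cons, List.length_nil, List.flatMap_cons, List.flatMap_nil, List.append_nil,
        kw_append] at this
      exact this
    rw [h1, z_even (by decide), one_mul]
    exact cox_aux p q
  spider := by
    have h1 := img_word [.d, .c, .b, .d, .e, .f, .d, .h, .i]
    have h2 : img .d * img .c * img .b * img .d * img .e * img .f * img .d * img .h * img .i =
        ([.d, .c, .b, .d, .e, .f, .d, .h, .i].map img).prod := by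
      simp only [List.map_cons, List.map_nil, List.prod_cons, List.prod_nil, mul_one, mul_assoc]
    rw [h2, h1, mul_pow_z, z_even (by decide), one_mul]
    exact kw_pow_one X4Rel.ck_sp
  e7 := by
    have h1 := img_word [.a, .b, .c, .d, .e, .f, .h]
    have h2 : img .a * img .b * img .c * img .d * img .e * img .f * img .h =
        ([.a, .b, .c, .d, .e, .f, .h].map img).prod := by
      simp only [List.map_cons, List.map_nil, List.prod_cons, List.prod_nil, mul_one, mul_assoc]
    have h3 : kw ([.a, .b, .c, .d, .e, .f, .h].flatMap base) ^ 9 = zK := by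
      have h4 : chk (pw 9 (([.a, .b, .c, .d, .e, .f, .h].flatMap base).map lt)) [.z] = true :=
        X4Rel.ck_e7
      have h5 : ev [.z] = ((zK : K) : Fi23) := by
        rw [X4Rel.ev_cons, X4Rel.ev_nil, mul_one]; rfl
      exact Subtype.ext ((kw_pow_eq (ev_eq' h4)).trans h5)
    rw [h2, h1, mul_pow_z, h3, z_odd (by decide), zK_sq]

/-- **The automorphism `γ`.** -/
theorem exists_gamma : ∃ γ : K ≃* K, (∀ s : Fi22.Gen, s ≠ .h → γ (kgen s) = zK * kgen s) ∧
    γ (kgen .h) = zK * kw yG ∧ γ zK = zK ∧ ∀ k, γ (γ k) = k := by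
  obtain ⟨φ, hφ⟩ := exists_hom rel22
  have hw : ∀ w : List Fi22.Gen, φ (kw w) = zK ^ w.length * kw (w.flatMap base) := by
    intro w
    rw [← img_word, kw, map_list_prod, List.map_map]
    congr 1
    apply List.map_congr_left
    intro s _
    exact hφ s
  have hs : ∀ s : Fi22.Gen, s ≠ .h → φ (kgen s) = zK * kgen s := by
    intro s hs
    rw [hφ, img]
    cases s
    all_goals first
      | exact absurd rfl hs
      | (show zK * kw [_] = _; rw [kw_cons, kw_nil, mul_one])
  have hh : φ (kgen .h) = zK * kw yG := hφ .h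
  have hz : φ zK = zK := by
    have h1 : zK = kw [.b, .c, .d, .e, .f, .g, .h] ^ 9 := by
      rw [← zK_eq]
      simp only [kw_cons, kw_nil, mul_one, mul_assoc]
    have h2 : kw ([.b, .c, .d, .e, .f, .g, .h].flatMap base) ^ 9 = 1 := kw_pow_one X4Rel.ck_z
    conv_lhs => rw [h1]
    rw [map_pow, hw, mul_pow_z, h2, mul_one]
    exact z_odd (by decide)
  have hyb : kw (yG.flatMap base) = kgen .h := by
    have h1 : yG.flatMap base = qG ++ (yG ++ qG.reverse) := rfl
    rw [h1, kw_append, kw_append, yG, kw_append, kw_cons, kw_reverse]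
    have h2 : (kw qG)⁻¹ = kw qG := inv_eq_of_mul_eq_one_left q_sq
    rw [h2]
    calc kw qG * (kw qG * (kgen .h * kw qG) * kw qG) =
        (kw qG * kw qG) * kgen .h * (kw qG * kw qG) := by group
      _ = kgen .h := by rw [q_sq, one_mul, mul_one]
  have hφφ : φ.comp φ = MonoidHom.id K := by
    apply hom_ext
    intro s
    rw [MonoidHom.comp_apply, MonoidHom.id_apply]
    by_cases h : s = .h
    · subst h
      rw [hh, map_mul, hz, hw, hyb, z_odd (by decide), ← mul_assoc, zK_sq, one_mul]
    · rw [hs s h, map_mul, hz, hs s h, ← mul_assoc, zK_sq, one_mul]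
  have hφφ' : ∀ k, φ (φ k) = k := fun k => DFunLike.congr_fun hφφ k
  exact ⟨MonoidHom.toMulEquiv φ φ hφφ hφφ, hs, hh, hz, hφφ'⟩

/-- **The automorphism `γ`** in the form of piece A. -/
theorem exists_gamma' : ∃ (γ : K ≃* K) (Y : K), (Y : Fi23) = ev X4Rel.y ∧
    (∀ s : Fi22.Gen, s ≠ .h → γ (kgen s) = zK * kgen s) ∧ γ (kgen .h) = zK * Y ∧ γ zK = zK ∧
    ∀ k, γ (γ k) = k := by
  obtain ⟨γ, h1, h2, h3, h4⟩ := exists_gamma
  exact ⟨γ, kw yG, by rw [coe_kw, map_yG], h1, h2, h3, h4⟩

end Cfsg.Agent.R08.X4Gamma
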