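import Cfsg.Agent.R08.X4Tau

/-!
The braid relation between `τ` and `t'`.
-/

set_option autoImplicit false
set_option linter.constructorNameAsVariable false
set_option maxRecDepth 100000

namespace Cfsg.Agent.R08.X4Kappa

open Cfsg Cfsg.Spor Cfsg.Agent.Fischer.Fi23Class Cfsg.Agent.Fischer.Fi23Cover
  Cfsg.Agent.Fischer.Fi23Z Cfsg.Agent.Fischer.Fi23Orb Cfsg.Agent.Fischer.Fi23Hom
  Cfsg.Agent.Fischer.Fi23Final
  Cfsg.Agent.R08.X4Rel Cfsg.Agent.R08.X4Pres Cfsg.Agent.R08.X4Tau

universe u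

variable {G : Type u} [Group G] {θ : Fi23 →* G} {u : G} {τ : G} {γ : K ≃* K}

/-- Letters different from `h`, `j`, `z`. -/
def good : Lt → Bool
  | .h => false | .j => false | .z => false | _ => true

theorem conj_mul {τ x y : G} : τ * (x * y) * τ⁻¹ = (τ * x * τ⁻¹) * (τ * y * τ⁻¹) := by group

theorem u_comm_ev (E : Emb θ u) {w : List Lt} (h : ∀ x ∈ w, x ≠ Lt.j) : θ (ev w) * u = u * θ (ev w) :=
  E.comm ⟨ev w, ev_mem_K h⟩

theorem tau_letter (E : Emb θ u)
    (hτs : ∀ s : Fi22.Gen, s ≠ .h → τ * θ (gen (emb s)) * τ⁻¹ = u * θ (gen (emb s)))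
    (x : Lt) (hx : good x = true) : τ * θ x.el * τ⁻¹ = u * θ x.el := by
  cases x
  · exact hτs .a (by decide)
  · exact hτs .b (by decide)
  · exact hτs .c (by decide)
  · exact hτs .d (by decide)
  · exact hτs .e (by decide)
  · exact hτs .f (by decide)
  · exact hτs .g (by decide)
  · exact absurd hx (by decide)
  · exact absurd hx (by decide)
  · exact hτs .i (by decide)
  · exact absurd hx (by decide)

theorem tau_word (E : Emb θ u)
    (hτs : ∀ s : Fi22.Gen, s ≠ .h → τ * θ (gen (emb s)) * τ⁻¹ = u * θ (gen (emb s)))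
    (w : List Lt) (hw : ∀ x ∈ w, good x = true) :
    τ * θ (ev w) * τ⁻¹ = u ^ w.length * θ (ev w) := by
  induction w with
  | nil => simp
  | cons x w ih =>
    have hx := hw x List.mem_cons_self
    have hw' : ∀ x ∈ w, good x = true := fun z hz => hw z (List.mem_cons_of_mem _ hz)
    have hxj : x ≠ Lt.j := by rintro rfl; exact absurd hx (by decide)
    have hc : θ x.el * u = u * θ x.el := by
      have := u_comm_ev E (w := [x]) (by simpa using hxj)
      rwa [ev_cons, ev_nil, mul_one] at this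
    rw [ev_cons, map_mul, conj_mul, tau_letter E hτs x hx, ih hw', List.length_cons, pow_succ']
    have hc' : θ x.el * u ^ w.length = u ^ w.length * θ x.el := (Commute.pow_right (hc : Commute _ _) _).eq
    calc u * θ x.el * (u ^ w.length * θ (ev w)) = u * (θ x.el * u ^ w.length) * θ (ev w) := by
          simp only [mul_assoc]
      _ = u * u ^ w.length * (θ x.el * θ (ev w)) := by rw [hc']; simp only [mul_assoc]

/-- The images of `t'`. -/
theorem t'_sq : ev t' * ev t' = 1 := by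
  have hg : gen .g * z0 = z0 * gen .g := comm_z0 card_le _ (gen_mem_K .g (by decide))
  have h1 : ev t' = gen .j * (gen .g * z0) * gen .j := by
    unfold t'
    simp only [ev_cons, ev_nil, mul_one, Lt.el, mul_assoc]
  have hj := gen_sq .j
  have hg2 := gen_sq .g
  have hz := z0_sq card_le
  rw [h1]
  calc gen .j * (gen .g * z0) * gen .j * (gen .j * (gen .g * z0) * gen .j)
      = gen .j * (gen .g * z0) * (gen .j * gen .j) * (gen .g * z0) * gen .j := by simp only [mul_assoc]
    _ = gen .j * (gen .g * (z0 * gen .g) * z0) * gen .j := by rw [hj, mul_one]; simp only [mul_assoc]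
    _ = gen .j * ((gen .g * gen .g) * (z0 * z0)) * gen .j := by rw [← hg]; simp only [mul_assoc]
    _ = 1 := by rw [hg2, hz, mul_one, mul_one, hj]

theorem t'_comm (s : Fi22.Gen) (hs : s ≠ .f) (hs' : s ≠ .g) :
    ev t' * gen (emb s) = gen (emb s) * ev t' := by
  have hj : gen .j * gen (emb s) = gen (emb s) * gen .j := by
    apply gen_comm
    cases s <;> first | decide | exact absurd rfl hs | exact absurd rfl hs'
  have hg : gen .g * gen (emb s) = gen (emb s) * gen .g := by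
    apply gen_comm
    cases s <;> first | decide | exact absurd rfl hs | exact absurd rfl hs'
  have hz : z0 * gen (emb s) = gen (emb s) * z0 :=
    (comm_z0 card_le _ (gen_mem_K _ (emb_ne_j s))).symm
  have h1 : ev t' = gen .j * gen .g * z0 * gen .j := by
    unfold t'
    simp only [ev_cons, ev_nil, mul_one, Lt.el, mul_assoc]
  rw [h1]
  have c1 : Commute (gen .j) (gen (emb s)) := hj
  have c2 : Commute (gen .g) (gen (emb s)) := hg
  have c3 : Commute z0 (gen (emb s)) := hz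
  exact (((c1.mul_left c2).mul_left c3).mul_left c1).eq

theorem t'_z : ev t' * z0 * ev t' = gen .g := by
  have h := ev_eq' ck_tz
  rw [ev_append, ev_cons, ev_cons, ev_nil, mul_one, ← mul_assoc] at h
  exact h

theorem t'_g : ev t' * gen .g * ev t' = z0 := by
  rw [← t'_z]
  calc ev t' * (ev t' * z0 * ev t') * ev t' = (ev t' * ev t') * z0 * (ev t' * ev t') := by
        simp only [mul_assoc]
    _ = z0 := by rw [t'_sq, one_mul, mul_one]

/-- `Y₁ = t' y t'` in two forms. -/
theorem Y1_eq : ev t' * ev y * ev t' = (ev w1)⁻¹ * gen .h * ev w1 := by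
  have h := ev_eq' ck_w1
  rw [ev_append, ev_append, ev_append, ev_cons, ev_reverse] at h
  rw [mul_assoc, mul_assoc]
  exact h.symm

theorem Y1_eq' : ev t' * ev y * ev t' = (ev w2)⁻¹ * ev y * ev w2 := by
  have h := ev_eq' ck_w2
  rw [ev_append, ev_append, ev_append, ev_append, ev_reverse] at h
  rw [mul_assoc, mul_assoc]
  exact h.symm

/-- The first part of `w1`. -/
def w0 : List Lt := [.d, .c, .b, .a, .e, .d, .c, .b, .f, .e, .d, .c, .g, .f]

theorem w1_eq : ev X4Rel.w1 = ev w0 * gen .h * gen .d := by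
  have : X4Rel.w1 = w0 ++ [.h, .d] := rfl
  rw [this, ev_append, ev_cons, ev_cons, ev_nil, mul_one, mul_assoc]
  rfl

theorem w2_eq : ev X4Rel.w2 = ev w0 * ev y * gen .d := by
  have : X4Rel.w2 = w0 ++ (y ++ [.d]) := rfl
  rw [this, ev_append, ev_append, ev_cons, ev_nil, mul_one, mul_assoc]
  rfl

theorem u_even (E : Emb θ u) (n : ℕ) : u ^ (2 * n) = 1 := by
  rw [pow_mul, pow_two, E.sq, one_pow]

section

variable (E : Emb θ u) (hτu : τ * u = u * τ)
  (hτs : ∀ s : Fi22.Gen, s ≠ .h → τ * θ (gen (emb s)) * τ⁻¹ = u * θ (gen (emb s)))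
  (hτh : τ * θ (gen .h) * τ⁻¹ = u * θ (ev y))
  (hτy : τ * θ (ev y) * τ⁻¹ = u * θ (gen .h))

include E hτu hτs hτh in
theorem tau_w1 : τ * θ (ev w1) * τ⁻¹ = θ (ev w2) := by
  have h0 := tau_word E hτs w0 (by decide)
  have hl : w0.length = 2 * 7 := rfl
  rw [hl, u_even E, one_mul] at h0
  have hd := hτs .d (by decide)
  have hcy := u_comm_ev E (w := y) (by decide)
  rw [w1_eq, w2_eq, map_mul, map_mul, conj_mul, conj_mul, h0, hτh, map_mul, map_mul]
  have hd' : τ * θ (gen .d) * τ⁻¹ = u * θ (gen .d) := hd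
  rw [hd']
  calc θ (ev w0) * (u * θ (ev y)) * (u * θ (gen .d))
      = θ (ev w0) * (u * (θ (ev y) * u) * θ (gen .d)) := by simp only [mul_assoc]
    _ = θ (ev w0) * ((u * u) * θ (ev y) * θ (gen .d)) := by rw [hcy]; simp only [mul_assoc]
    _ = θ (ev w0) * θ (ev y) * θ (gen .d) := by rw [E.sq, one_mul]; simp only [mul_assoc]

include E hτu hτs hτh in
theorem tau_Y1 : τ * θ (ev t' * ev y * ev t') * τ⁻¹ = u * θ (ev t' * ev y * ev t') := by
  have h1 := tau_w1 E hτu hτs hτh
  have h1' : τ * (θ (ev w1))⁻¹ * τ⁻¹ = (θ (ev w2))⁻¹ := by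
    rw [← h1]; group
  have hc : (θ (ev w2))⁻¹ * u = u * (θ (ev w2))⁻¹ := by
    have h2 := u_comm_ev E (w := w2) (by decide)
    rw [inv_mul_eq_iff_eq_mul, ← mul_assoc, h2, mul_assoc, mul_inv_cancel, mul_one]
  have e1 : θ (ev t' * ev y * ev t') = (θ (ev w2))⁻¹ * θ (ev y) * θ (ev w2) := by
    rw [Y1_eq', map_mul, map_mul, map_inv]
  have e2 : θ (ev t' * ev y * ev t') = (θ (ev w1))⁻¹ * θ (gen .h) * θ (ev w1) := by
    rw [Y1_eq, map_mul, map_mul, map_inv]
  conv_rhs => rw [e1]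
  rw [e2, conj_mul, conj_mul, h1', hτh, h1]
  calc (θ (ev w2))⁻¹ * (u * θ (ev y)) * θ (ev w2) = ((θ (ev w2))⁻¹ * u) * θ (ev y) * θ (ev w2) := by
        simp only [mul_assoc]
    _ = u * ((θ (ev w2))⁻¹ * θ (ev y) * θ (ev w2)) := by rw [hc]; simp only [mul_assoc]

/-- The action of `P = τ t'`. -/
theorem P_conj (x : Fi23) : τ * θ (ev t') * θ x * (τ * θ (ev t'))⁻¹ = τ * θ (ev t' * x * ev t') * τ⁻¹ := by
  have h : (θ (ev t'))⁻¹ = θ (ev t') := by
    rw [inv_eq_iff_mul_eq_one, ← map_mul, t'_sq, map_one]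
  rw [mul_inv_rev, h, map_mul, map_mul]
  simp only [mul_assoc]

include E hτu hτs in
theorem P_u : τ * θ (ev t') * u * (τ * θ (ev t'))⁻¹ = u * θ (gen .g) := by
  conv_lhs => rw [← E.z]
  rw [P_conj, t'_z]
  exact hτs .g (by decide)

include E hτu in
theorem P_g : τ * θ (ev t') * θ (gen .g) * (τ * θ (ev t'))⁻¹ = u := by
  rw [P_conj, t'_g, E.z, hτu, mul_assoc, mul_inv_cancel, mul_one]

include E hτs in
theorem P_s (s : Fi22.Gen) (hf : s ≠ .f) (hg : s ≠ .g) (hh : s ≠ .h) :
    τ * θ (ev t') * θ (gen (emb s)) * (τ * θ (ev t'))⁻¹ = u * θ (gen (emb s)) := by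
  rw [P_conj, t'_comm s hf hg, mul_assoc (gen (emb s)), t'_sq, mul_one]
  exact hτs s hh

include hτh in
theorem P_h : τ * θ (ev t') * θ (gen .h) * (τ * θ (ev t'))⁻¹ = u * θ (ev y) := by
  have h := t'_comm .h (by decide) (by decide)
  have h' : ev t' * gen .h = gen .h * ev t' := h
  rw [P_conj, h', mul_assoc (gen .h), t'_sq, mul_one]
  exact hτh

include E hτu hτs hτh in
theorem P_y : τ * θ (ev t') * θ (ev y) * (τ * θ (ev t'))⁻¹ = u * θ (ev t' * ev y * ev t') := by
  rw [P_conj]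
  exact tau_Y1 E hτu hτs hτh

include hτy in
theorem P_Y1 : τ * θ (ev t') * θ (ev t' * ev y * ev t') * (τ * θ (ev t'))⁻¹ = u * θ (gen .h) := by
  rw [P_conj]
  have : ev t' * (ev t' * ev y * ev t') * ev t' = ev y := by
    calc ev t' * (ev t' * ev y * ev t') * ev t' = (ev t' * ev t') * ev y * (ev t' * ev t') := by
          simp only [mul_assoc]
      _ = ev y := by rw [t'_sq, one_mul, mul_one]
  rw [this]
  exact hτy

theorem ug_comm (E : Emb θ u) : θ (gen .g) * u = u * θ (gen .g) := by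
  have := u_comm_ev E (w := [.g]) (by decide)
  rwa [ev_cons, ev_nil, mul_one] at this

theorem cube_conj (P x : G) : P ^ 3 * x * (P ^ 3)⁻¹ = P * (P * (P * x * P⁻¹) * P⁻¹) * P⁻¹ := by
  simp only [pow_succ, pow_zero, one_mul, mul_inv_rev, mul_assoc]

theorem cube_of {P u g x x1 x2 x3 : G} (e1 : P * u * P⁻¹ = u * g) (e2 : P * g * P⁻¹ = u)
    (hu : u * u = 1) (c : g * u = u * g) (h1 : P * x * P⁻¹ = u * x1) (h2 : P * x1 * P⁻¹ = u * x2)
    (h3 : P * x2 * P⁻¹ = u * x3) : P ^ 3 * x * (P ^ 3)⁻¹ = x3 := by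
  rw [cube_conj, h1, conj_mul (τ := P) (x := u), e1, h2]
  have h4 : u * g * (u * x2) = g * x2 := by
    calc u * g * (u * x2) = u * (g * u) * x2 := by simp only [mul_assoc]
      _ = (u * u) * g * x2 := by rw [c]; simp only [mul_assoc]
      _ = _ := by rw [hu, one_mul]
  rw [h4, conj_mul (τ := P) (x := g), e2, h3, ← mul_assoc, hu, one_mul]

theorem cube_u' {P u g : G} (e1 : P * u * P⁻¹ = u * g) (e2 : P * g * P⁻¹ = u)
    (hu : u * u = 1) (c : g * u = u * g) : P ^ 3 * u * (P ^ 3)⁻¹ = u := by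
  rw [cube_conj, e1, conj_mul (τ := P) (x := u), e1, e2, mul_assoc u g u, c, ← mul_assoc u u g, hu,
    one_mul, e2]

theorem cube_g' {P u g : G} (e1 : P * u * P⁻¹ = u * g) (e2 : P * g * P⁻¹ = u)
    (hu : u * u = 1) (c : g * u = u * g) : P ^ 3 * g * (P ^ 3)⁻¹ = g := by
  rw [cube_conj, e2, e1, conj_mul (τ := P) (x := u), e1, e2, mul_assoc u g u, c, ← mul_assoc u u g, hu,
    one_mul]

include E hτu hτs in
theorem cube_s (s : Fi22.Gen) (hf : s ≠ .f) (hg : s ≠ .g) (hh : s ≠ .h) :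
    (τ * θ (ev t')) ^ 3 * θ (gen (emb s)) * ((τ * θ (ev t')) ^ 3)⁻¹ = θ (gen (emb s)) := by
  have e3 := P_s E hτs s hf hg hh
  exact cube_of (P_u E hτu hτs) (P_g E hτu) E.sq (ug_comm E) e3 e3 e3

include E hτu hτs hτh hτy in
theorem cube_h :
    (τ * θ (ev t')) ^ 3 * θ (gen .h) * ((τ * θ (ev t')) ^ 3)⁻¹ = θ (gen .h) :=
  cube_of (P_u E hτu hτs) (P_g E hτu) E.sq (ug_comm E) (P_h hτh) (P_y E hτu hτs hτh) (P_Y1 hτy)

include E hτu hτs in
theorem cube_u : (τ * θ (ev t')) ^ 3 * u * ((τ * θ (ev t')) ^ 3)⁻¹ = u :=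
  cube_u' (P_u E hτu hτs) (P_g E hτu) E.sq (ug_comm E)

include E hτu hτs in
theorem cube_g : (τ * θ (ev t')) ^ 3 * θ (gen .g) * ((τ * θ (ev t')) ^ 3)⁻¹ = θ (gen .g) :=
  cube_g' (P_u E hτu hτs) (P_g E hτu) E.sq (ug_comm E)

theorem comm_of_conj {a b : G} (h : a * b * a⁻¹ = b) : a * b = b * a := by
  rw [mul_inv_eq_iff_eq_mul] at h; exact h

theorem isConj_gen_K (s : Fi22.Gen) : IsConj (kgen .a) (kgen s) := by
  have step : ∀ x y : Fi22.Gen, coxLabel Fi22.edges x y = 3 → IsConj (kgen .a) (kgen x) →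
      IsConj (kgen .a) (kgen y) := by
    intro x y hl hx
    have h := kgen_rel x y
    rw [hl] at h
    exact hx.trans (isConj_iff.2 ⟨kgen x * kgen y, (conj_of_edge (kgen_sq x) (kgen_sq y) h).symm⟩)
  have ha : IsConj (kgen .a) (kgen .a) := IsConj.refl _
  have hb := step .a .b (by decide) ha
  have hc := step .b .c (by decide) hb
  have hd := step .c .d (by decide) hc
  have he := step .d .e (by decide) hd
  have hf := step .e .f (by decide) he
  have hg := step .f .g (by decide) hf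
  have hh := step .d .h (by decide) hd
  have hi := step .h .i (by decide) hh
  cases s <;> assumption

include E hτu hτs hτh hτy in
/-- **The braid relation.** -/
theorem cube_eq_one (hV : LemV) (hC : Cent) : (τ * θ (ev t')) ^ 3 = 1 := by
  set P := τ * θ (ev t') with hP
  set κ := P ^ 3 with hκ
  have hu : κ * u = u * κ := comm_of_conj (cube_u E hτu hτs)
  have hg : κ * θ (gen .g) = θ (gen .g) * κ := comm_of_conj (cube_g E hτu hτs)
  obtain ⟨α, hα⟩ := E.exists_aut hu
  have h1 : α (kgen .g) = kgen .g := by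
    apply E.coe_inj
    rw [← hα]
    show κ * θ (gen .g) * κ⁻¹ = θ (gen .g)
    rw [hg, mul_assoc, mul_inv_cancel, mul_one]
  have h2 : IsConj (kgen .a) (α (kgen .a)) := by
    obtain ⟨k, hk⟩ := isConj_iff.1 (isConj_gen_K .g)
    have h3 : IsConj (α (kgen .a)) (kgen .g) := by
      refine isConj_iff.2 ⟨α k, ?_⟩
      rw [← map_inv, ← map_mul, ← map_mul, hk, h1]
    exact (isConj_gen_K .g).trans h3.symm
  obtain ⟨k, hk⟩ := E.mem_of_isConj hV hα h2
  have h3 : ∀ s : Fi22.Gen, s ≠ .f → k * kgen s = kgen s * k := by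
    intro s hs
    apply E.coe_inj
    rw [Subgroup.coe_mul, Subgroup.coe_mul, map_mul, map_mul, hk]
    show κ * θ (gen (emb s)) = θ (gen (emb s)) * κ
    by_cases h4 : s = .g
    · subst h4; exact hg
    · by_cases h5 : s = .h
      · subst h5; exact comm_of_conj (cube_h E hτu hτs hτh hτy)
      · exact comm_of_conj (cube_s E hτu hτs s hs h4 h5)
  have hPκ : P * κ * P⁻¹ = κ := by
    rw [hκ]
    group
  have e1 := P_u E hτu hτs
  have e2 := P_g E hτu
  have hune := E.ne
  have hgz : θ (gen .g) ≠ u := by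
    intro h4
    rw [← E.z] at h4
    have h5 := E.inj h4
    -- `gen g = z0` commutes with `f`
    have h6 : (gen .g : Fi23) * gen .f = gen .f * gen .g := by
      rw [h5]
      exact (comm_z0 card_le _ (gen_mem_K .f (by decide))).symm
    have h7 : ((gen .g : Fi23) * gen .f) ^ 3 = 1 := gen_rel .g .f
    have h8 : ((gen .g : Fi23) * gen .f) ^ 2 = 1 := by
      rw [pow_two]
      calc gen .g * gen .f * (gen .g * gen .f) = gen .g * (gen .f * gen .g) * gen .f := by
            simp only [mul_assoc]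
        _ = (gen .g * gen .g) * (gen .f * gen .f) := by rw [← h6]; simp only [mul_assoc]
        _ = 1 := by rw [gen_sq, gen_sq, one_mul]
    have h9 : (gen .g : Fi23) * gen .f = 1 := by
      rw [pow_succ, h8, one_mul] at h7
      exact h7
    have h10 : (gen .f : Fi23) = z0 := by
      rw [← h5, ← mul_one (gen .g), ← h9, ← mul_assoc, gen_sq, one_mul]
    apply z0_ncomm
    rw [← h10]
    exact gen_comm _ _ (by decide)
  have hg1 : θ (gen .g) ≠ 1 := by
    intro h4
    rw [h4, mul_one, mul_inv_cancel] at e2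
    exact hune e2.symm
  rcases hC k h3 with h4 | h4 | h4 | h4
  · rw [← hk, h4]; exact map_one θ
  · exfalso
    have h5 : κ = u := by rw [← hk, h4]; exact E.z
    rw [h5] at hPκ
    rw [e1] at hPκ
    exact hg1 (mul_eq_left.1 hPκ)
  · exfalso
    have h5 : κ = θ (gen .g) := by rw [← hk, h4]; rfl
    rw [h5, e2] at hPκ
    exact hgz hPκ.symm
  · exfalso
    have h5 : κ = u * θ (gen .g) := by
      rw [← hk, h4, Subgroup.coe_mul, map_mul, kgen_z, E.z]; rfl
    rw [h5, conj_mul, e1, e2] at hPκ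
    have h6 := ug_comm E
    rw [mul_assoc, h6, ← mul_assoc, E.sq, one_mul] at hPκ
    exact hune (mul_eq_right.1 hPκ.symm)

end

end Cfsg.Agent.R08.X4Kappa
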