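import Cfsg.Agent.R08.X4Main
import Cfsg.Agent.R08.FiTwentyThree
import Cfsg.Agent.R08.X1

/-!
The hypotheses `LemV` and `Char` from Lemma V.
-/

set_option autoImplicit false
set_option linter.constructorNameAsVariable false
set_option maxRecDepth 100000

namespace Cfsg.Agent.R08.X4LemV

open Cfsg Cfsg.Spor Cfsg.Agent.Fischer.Fi23Class Cfsg.Agent.Fischer.Fi23Cover
  Cfsg.Agent.Fischer.Fi23Z Cfsg.Agent.Fischer.Fi23Orb Cfsg.Agent.Fischer.Fi23Hom
  Cfsg.Agent.R08.X4Rel Cfsg.Agent.R08.X4Pres Cfsg.Agent.R08.X4Tau Cfsg.Agent.R08.X4Kappa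
  Cfsg.Agent.R08.LiftCls

theorem ext : R01.Lifts.Ext FiTwentyThree.pi zK := FiTwentyThree.ext

theorem pi_kgen (s : Fi22.Gen) : FiTwentyThree.pi (kgen s) = Cfsg.Agent.Fischer.Fi22PtsRep.gen s := by
  have h : kgen s = R01.AlphaFi23.t s := by
    apply Subtype.ext
    cases s <;> rfl
  rw [h]
  exact FiTwentyThree.pi_t s

theorem exists_cls_a : ∃ D : Set K, Cls FiTwentyThree.pi zK D ∧ kgen .a ∈ D := by
  apply exists_cls_mem ext commutator_K
  rw [pi_kgen]
  exact R01.Fi22Facts.gen_mem .a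

theorem mem_iff {D : Set K} (hD : Cls FiTwentyThree.pi zK D) (ha : kgen .a ∈ D) (x : K) :
    x ∈ D ↔ IsConj (kgen .a) x := by
  constructor
  · intro hx
    obtain ⟨c, hc⟩ := hD.trans ha hx
    exact isConj_iff.2 ⟨c, hc⟩
  · intro hx
    obtain ⟨c, rfl⟩ := isConj_iff.1 hx
    exact hD.conj c ha

theorem char : X4Tau.Char := by
  obtain ⟨D, hD, ha⟩ := exists_cls_a
  intro α
  have hz := aut_z hD.ext α
  rcases hD.aut_cases α hz with h | h
  · left
    exact (mem_iff hD ha _).1 (h _ ha)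
  · right
    have := (mem_iff hD ha _).1 (h _ ha)
    rwa [zK_comm] at this

theorem lemV (hV : X1.LemmaV.{0}) : X4Tau.LemV := by
  obtain ⟨D, hD, ha⟩ := exists_cls_a
  intro α hα
  refine hV K FiTwentyThree.pi zK D hD.lifted commutator_K α fun d hd => ?_
  obtain ⟨c, rfl⟩ := hD.trans ha hd
  have h1 : α (kgen .a) ∈ D := (mem_iff hD ha _).2 hα
  rw [map_mul, map_mul, map_inv]
  exact hD.conj _ h1

end Cfsg.Agent.R08.X4LemV
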