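import Cfsg.Agent.R08.X4Kappa

/-!
The outer element `τ` with all its relations.
-/

set_option autoImplicit false
set_option linter.constructorNameAsVariable false
set_option maxRecDepth 100000

namespace Cfsg.Agent.R08.X4Main

open Cfsg Cfsg.Spor Cfsg.Agent.Fischer.Fi23Class Cfsg.Agent.Fischer.Fi23Cover
  Cfsg.Agent.Fischer.Fi23Z Cfsg.Agent.Fischer.Fi23Orb Cfsg.Agent.Fischer.Fi23Hom
  Cfsg.Agent.R08.X4Rel Cfsg.Agent.R08.X4Pres Cfsg.Agent.R08.X4Tau Cfsg.Agent.R08.X4Kappa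

universe u

variable {G : Type u} [Group G]

/-- The relations of the outer element. -/
structure Outer (θ : Fi23 →* G) (u τ : G) : Prop where
  comm : τ * u = u * τ
  hs : ∀ s : Fi22.Gen, s ≠ .h → τ * θ (gen (emb s)) * τ⁻¹ = u * θ (gen (emb s))
  hh : τ * θ (gen .h) * τ⁻¹ = u * θ (ev y)
  sq : τ * τ = 1 ∨ τ * τ = u
  braid : (τ * θ (ev t')) ^ 3 = 1

/-- **The outer element.** -/
theorem exists_outer (hV : LemV) (hC : X4Tau.Char) (hZ : Cent) {γ : K ≃* K} (hγ : Gam γ)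
    {θ : Fi23 →* G} {u : G} (E : Emb θ u) :
    ∃ τ : G, Outer θ u τ ∧ (∀ k : K, θ k ≠ τ) ∧ (∀ k : K, τ * θ k * τ⁻¹ = θ (γ k)) ∧
      ∀ k : K, IsConj (kgen .a) k → ∃ k' : K, IsConj (kgen .a) k' ∧ τ * θ k' * τ⁻¹ = u * θ k := by
  obtain ⟨τ, h1, h2, h3⟩ := E.exists_tau hV hC hγ
  have hs := E.tau_gen hγ h3
  have hh := E.tau_h hγ h3
  have hy := E.tau_y hγ h3
  refine ⟨τ, ⟨h1, hs, hh, E.tau_sq hγ h3, cube_eq_one E h1 hs hh hy hV hZ⟩, h2, h3, ?_⟩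
  intro k hk
  obtain ⟨c, rfl⟩ := isConj_iff.1 hk
  refine ⟨γ c * kgen .a * (γ c)⁻¹, isConj_iff.2 ⟨γ c, rfl⟩, ?_⟩
  have h4 : γ (γ c * kgen .a * (γ c)⁻¹) = zK * (c * kgen .a * c⁻¹) := by
    rw [map_mul, map_mul, map_inv, hγ.inv, hγ.gen _ (by decide), ← mul_assoc c, zK_comm c]
    simp only [mul_assoc]
  rw [h3, h4, Subgroup.coe_mul, map_mul, kgen_z, E.z]

end Cfsg.Agent.R08.X4Main
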