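import Cfsg.Agent.R08.X4Rel
import Cfsg.Agent.Fischer.DoubleFi22
import Cfsg.Agent.Fischer.Fi22Order

/-!
The subgroup `K = ⟨a, …, i⟩` of `Fi23` is presented by the relations of `Y₃₃₂`, the spider relation and
`(abcdefh)^9 = 1`: homomorphisms from `K` to a group containing elements with these relations.
-/

set_option autoImplicit false
set_option linter.constructorNameAsVariable false
set_option maxRecDepth 100000

namespace Cfsg.Agent.R08.X4Pres

open Cfsg Cfsg.Spor Cfsg.Agent.Fischer.Fi23Class Cfsg.Agent.Fischer.Fi23Cover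
  Cfsg.Agent.Fischer.DoubleFi22

universe u

/-- The relations. -/
structure Rel22 {Q : Type u} [Group Q] (y : Fi22.Gen → Q) : Prop where
  cox : ∀ p q : Fi22.Gen, (y p * y q) ^ coxLabel Fi22.edges p q = 1
  spider : (y .d * y .c * y .b * y .d * y .e * y .f * y .d * y .h * y .i) ^ 10 = 1
  e7 : (y .a * y .b * y .c * y .d * y .e * y .f * y .h) ^ 9 = 1

theorem simple22 : IsSimpleGroup Fi22 := Cfsg.Agent.Fischer.Fi22Order.isSimple

theorem card22 : Nat.card Fi22 = 64561751654400 := Cfsg.Agent.Fischer.Fi22Order.card_fi22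

instance finite22 : Finite Fi22 := Nat.finite_of_card_ne_zero (by rw [card22]; norm_num)

theorem zK_ne : zK ≠ 1 := by
  intro h
  apply z0_ncomm
  have : Cfsg.Agent.Fischer.Fi23Z.z0 = 1 := congrArg Subtype.val h
  rw [this, one_mul, mul_one]

theorem zK_sq : zK * zK = 1 := Subtype.ext (z0_sq X4Rel.card_le)

theorem zK_comm (k : K) : k * zK = zK * k := Subtype.ext (comm_z0 X4Rel.card_le _ k.2)

theorem hypK : Hyp kgen where
  gen := closure_kgen
  cox := kgen_rel
  spider := kspider
  e7 := ke7
  ne := by rw [zK_eq]; exact zK_ne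

/-- The order of a group with the hypotheses. -/
theorem card_of_hyp {Γ : Type u} [Group Γ] {x : Fi22.Gen → Γ} (h : Hyp x) :
    Nat.card Γ = Nat.card Fi22 * 2 := by
  rw [Subgroup.card_eq_card_quotient_mul_card_subgroup (Subgroup.center Γ), card_center h simple22,
    Nat.card_congr (thetaEquiv (Subgroup.center Γ) h (z_mem_center h) simple22 (center_ne_top h)).toEquiv]

/-- **Homomorphisms out of `K`.** -/
theorem exists_hom {Q : Type u} [Group Q] {y : Fi22.Gen → Q} (h : Rel22 y) :
    ∃ φ : K →* Q, ∀ s, φ (kgen s) = y s := by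
  set x : Fi22.Gen → K × Q := fun s => (kgen s, y s) with hx
  set Γ : Subgroup (K × Q) := Subgroup.closure (Set.range x) with hΓ
  have hmem : ∀ s, x s ∈ Γ := fun s => Subgroup.subset_closure ⟨s, rfl⟩
  set g : Fi22.Gen → Γ := fun s => ⟨x s, hmem s⟩ with hg
  have hyp : Hyp g := by
    refine ⟨?_, ?_, ?_, ?_, ?_⟩
    · apply Subgroup.map_injective Γ.subtype_injective
      rw [MonoidHom.map_closure, ← MonoidHom.range_eq_map, Γ.range_subtype]
      have hr : (Γ.subtype : Γ → K × Q) '' Set.range g = Set.range x := by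
        ext z
        constructor
        · rintro ⟨_, ⟨s, rfl⟩, rfl⟩
          exact ⟨s, rfl⟩
        · rintro ⟨s, rfl⟩
          exact ⟨g s, ⟨s, rfl⟩, rfl⟩
      rw [hr]
    · intro p q
      exact Subtype.ext (Prod.ext (kgen_rel p q) (h.cox p q))
    · exact Subtype.ext (Prod.ext kspider h.spider)
    · exact Subtype.ext (Prod.ext ke7 h.e7)
    · intro h1
      have h2 : ((((g .b * g .c * g .d * g .e * g .f * g .g * g .h) ^ 9 : Γ) : K × Q)).1 = 1 := by
        rw [h1]; rfl
      exact hypK.ne h2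
  set π : Γ →* K := (MonoidHom.fst K Q).comp Γ.subtype with hπ
  have hπg : ∀ s, π (g s) = kgen s := fun s => rfl
  have hsurj : Function.Surjective π := by
    rw [← MonoidHom.range_eq_top, eq_top_iff, ← closure_kgen, Subgroup.closure_le]
    rintro _ ⟨s, rfl⟩
    exact ⟨g s, hπg s⟩
  have hcΓ := card_of_hyp hyp
  have hcK := card_of_hyp hypK
  have : Finite Γ := Nat.finite_of_card_ne_zero (by rw [hcΓ, card22]; norm_num)
  have hbij : Function.Bijective π := by
    rw [Nat.bijective_iff_surjective_and_card]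
    exact ⟨hsurj, by rw [hcΓ, hcK]⟩
  refine ⟨((MonoidHom.snd K Q).comp Γ.subtype).comp (MulEquiv.ofBijective π hbij).symm.toMonoidHom, fun s => ?_⟩
  have h1 : (MulEquiv.ofBijective π hbij).symm (kgen s) = g s := by
    rw [MulEquiv.symm_apply_eq]
    rfl
  show ((MulEquiv.ofBijective π hbij).symm (kgen s) : K × Q).2 = y s
  rw [h1]

/-- Two homomorphisms on `K` which agree on the generators are equal. -/
theorem hom_ext {Q : Type u} [Group Q] {φ ψ : K →* Q} (h : ∀ s, φ (kgen s) = ψ (kgen s)) : φ = ψ := by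
  apply MonoidHom.eq_of_eqOn_dense closure_kgen
  rintro _ ⟨s, rfl⟩
  exact h s

end Cfsg.Agent.R08.X4Pres
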