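import Cfsg.Agent.R08.X4Rel
import Cfsg.Agent.R08.Even

/-!
The hand algebra of the extension of `Fi23` by an element `τ` normalising `K` with the relations T1-T5:
`τ` is an involution, the elements `θ (gen s)` and `w = τ (u X) τ⁻¹` satisfy the relations `Even.Rel`, and
`τ` is in the group they generate.
-/

set_option autoImplicit false
set_option linter.constructorNameAsVariable false
set_option maxRecDepth 100000
set_option linter.unusedSectionVars false

namespace Cfsg.Agent.R08.X5Hand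

open Cfsg.Spor Cfsg.Agent.R08.X4Rel
open Cfsg.Agent.Fischer.Fi23Hom (gen)
open Cfsg.Agent.Fischer.Fi23Z (z0)

universe u

variable {G : Type u} [Group G]

/-- The hypotheses on `τ`. -/
structure Hyp (θ : Fi23 →* G) (τ : G) : Prop where
  inj : Function.Injective θ
  t1 : ∀ s : Fi23.Gen, s ≠ .j → s ≠ .h → τ * θ (gen s) * τ⁻¹ = θ z0 * θ (gen s)
  t2 : τ * θ (gen .h) * τ⁻¹ = θ z0 * θ (ev y)
  t3 : τ * θ z0 = θ z0 * τ
  t4 : (τ * θ (ev t')) ^ 3 = 1
  t5 : τ * τ = 1 ∨ τ * τ = θ z0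

/-- The element `w`. -/
noncomputable def wEl (θ : Fi23 →* G) (τ : G) : G := τ * (θ z0 * θ (ev X)) * τ⁻¹

variable {θ : Fi23 →* G} {τ : G}

/-! ### Words -/

theorem ev_one (x : Lt) : ev [x] = x.el := by rw [ev_cons, ev_nil, mul_one]

/-- Letters other than `j`. -/
def inK : Lt → Bool
  | .j => false
  | _ => true

theorem comm_letter (x : Lt) (h : inK x = true) : x.el * z0 = z0 * x.el := by
  cases x
  · exact (Cfsg.Agent.Fischer.Fi23Class.comm_z0 card_le _
      (Cfsg.Agent.Fischer.Fi23Class.gen_mem_K .a (by decide)))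
  · exact (Cfsg.Agent.Fischer.Fi23Class.comm_z0 card_le _
      (Cfsg.Agent.Fischer.Fi23Class.gen_mem_K .b (by decide)))
  · exact (Cfsg.Agent.Fischer.Fi23Class.comm_z0 card_le _
      (Cfsg.Agent.Fischer.Fi23Class.gen_mem_K .c (by decide)))
  · exact (Cfsg.Agent.Fischer.Fi23Class.comm_z0 card_le _
      (Cfsg.Agent.Fischer.Fi23Class.gen_mem_K .d (by decide)))
  · exact (Cfsg.Agent.Fischer.Fi23Class.comm_z0 card_le _
      (Cfsg.Agent.Fischer.Fi23Class.gen_mem_K .e (by decide)))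
  · exact (Cfsg.Agent.Fischer.Fi23Class.comm_z0 card_le _
      (Cfsg.Agent.Fischer.Fi23Class.gen_mem_K .f (by decide)))
  · exact (Cfsg.Agent.Fischer.Fi23Class.comm_z0 card_le _
      (Cfsg.Agent.Fischer.Fi23Class.gen_mem_K .g (by decide)))
  · exact absurd h (by decide)
  · exact (Cfsg.Agent.Fischer.Fi23Class.comm_z0 card_le _
      (Cfsg.Agent.Fischer.Fi23Class.gen_mem_K .h (by decide)))
  · exact (Cfsg.Agent.Fischer.Fi23Class.comm_z0 card_le _
      (Cfsg.Agent.Fischer.Fi23Class.gen_mem_K .i (by decide)))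
  · rfl

theorem comm_word (w : List Lt) (h : w.all inK = true) : ev w * z0 = z0 * ev w := by
  induction w with
  | nil => rw [ev_nil, one_mul, mul_one]
  | cons x w ih =>
    rw [List.all_cons, Bool.and_eq_true] at h
    rw [ev_cons, mul_assoc, ih h.2, ← mul_assoc, comm_letter x h.1, mul_assoc]

theorem y_all : y.all inK = true := by decide

theorem y_sq : ev y * ev y = 1 := by
  unfold y
  rw [ev_append, ev_cons, ev_reverse]
  have h := el_sq .h
  calc ev q * (Lt.h.el * (ev q)⁻¹) * (ev q * (Lt.h.el * (ev q)⁻¹)) = ev q * (Lt.h.el * Lt.h.el) * (ev q)⁻¹ := by group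
    _ = 1 := by rw [h, mul_one, mul_inv_cancel]

theorem X_sq : ev X * ev X = 1 := by
  have hm : ev m * ev m = 1 := by
    have h1 : m = m.reverse := by decide
    have h2 : ev m = (ev m)⁻¹ := by
      conv_lhs => rw [h1]
      rw [ev_reverse]
    nth_rw 1 [h2]
    rw [inv_mul_cancel]
  have h := el_sq .z
  unfold X
  rw [ev_append, ev_cons]
  calc ev m * (Lt.z.el * ev m) * (ev m * (Lt.z.el * ev m)) = ev m * (Lt.z.el * (ev m * ev m) * Lt.z.el) * ev m := by group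
    _ = 1 := by rw [hm, mul_one, h, mul_one, hm]

theorem tt : ev t' * ev t' = 1 := by
  have h1 : Lt.g.el * Lt.z.el = Lt.z.el * Lt.g.el := comm_letter .g rfl
  have hj := el_sq .j
  have hz := el_sq .z
  have hg := el_sq .g
  unfold t'
  rw [ev_cons, ev_cons, ev_cons, ev_one]
  calc Lt.j.el * (Lt.g.el * (Lt.z.el * Lt.j.el)) * (Lt.j.el * (Lt.g.el * (Lt.z.el * Lt.j.el)))
      = Lt.j.el * (Lt.g.el * Lt.z.el) * (Lt.j.el * Lt.j.el) * (Lt.g.el * Lt.z.el) * Lt.j.el := by group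
    _ = Lt.j.el * (Lt.g.el * Lt.z.el) * (Lt.z.el * Lt.g.el) * Lt.j.el := by rw [hj, mul_one, ← h1]
    _ = Lt.j.el * Lt.g.el * (Lt.z.el * Lt.z.el) * Lt.g.el * Lt.j.el := by group
    _ = Lt.j.el * (Lt.g.el * Lt.g.el) * Lt.j.el := by rw [hz]; group
    _ = 1 := by rw [hg, mul_one, hj]

/-- `z0 X ≠ 1`. -/
theorem zX_ne : z0 * ev X ≠ 1 := by
  intro h
  have hz : z0 * z0 = 1 := el_sq .z
  have hX : ev X = z0 := by
    calc ev X = z0 * z0 * ev X := by rw [hz, one_mul]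
      _ = z0 * (z0 * ev X) := by group
      _ = z0 := by rw [h, mul_one]
  have h3 : (gen .a * z0) ^ 3 = 1 := by
    have h1 := ev_eq' ck_aX
    rw [ev_pw, ev_cons, hX, ev_nil] at h1
    exact h1
  have hc : gen .a * z0 = z0 * gen .a := comm_letter .a rfl
  have ha : gen .a * gen .a = 1 := el_sq .a
  have h4 : gen .a * z0 = 1 := by
    calc gen .a * z0 = gen .a * z0 * ((gen .a * gen .a) * (z0 * z0)) := by rw [ha, hz]; group
      _ = gen .a * z0 * (gen .a * (gen .a * z0) * z0) := by group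
      _ = gen .a * z0 * (gen .a * (z0 * gen .a) * z0) := by rw [hc]
      _ = (gen .a * z0) ^ 3 := by
        rw [pow_succ, pow_succ, pow_one]
        simp only [mul_assoc]
      _ = 1 := h3
  have h5 : gen .a = z0 := by
    calc gen .a = gen .a * (z0 * z0) := by rw [hz, mul_one]
      _ = gen .a * z0 * z0 := by group
      _ = z0 := by rw [h4, one_mul]
  apply Cfsg.Agent.Fischer.Fi23Class.z0_ncomm
  rw [← h5]
  exact Cfsg.Agent.Fischer.Fi23Class.gen_comm .a .j (by decide)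

/-! ### The relations in `G` -/

/-- Letters with `τ x τ⁻¹ = u x`. -/
def good : Lt → Bool
  | .j => false
  | .h => false
  | .z => false
  | _ => true

theorem good_inK (x : Lt) (h : good x = true) : inK x = true := by
  cases x <;> first | rfl | exact absurd h (by decide)

section

variable (H : Hyp θ τ)
include H

theorem uu : θ z0 * θ z0 = 1 := by
  rw [← map_mul, show z0 * z0 = 1 from el_sq .z, map_one]

theorem sq (x : Lt) : θ x.el * θ x.el = 1 := by rw [← map_mul, el_sq, map_one]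

theorem comm_u (x : Lt) (h : inK x = true) : θ x.el * θ z0 = θ z0 * θ x.el := by
  rw [← map_mul, comm_letter x h, map_mul]

theorem conj_letter (x : Lt) (h : good x = true) : τ * θ x.el * τ⁻¹ = θ z0 * θ x.el := by
  cases x
  · exact H.t1 .a (by decide) (by decide)
  · exact H.t1 .b (by decide) (by decide)
  · exact H.t1 .c (by decide) (by decide)
  · exact H.t1 .d (by decide) (by decide)
  · exact H.t1 .e (by decide) (by decide)
  · exact H.t1 .f (by decide) (by decide)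
  · exact H.t1 .g (by decide) (by decide)
  · exact absurd h (by decide)
  · exact absurd h (by decide)
  · exact H.t1 .i (by decide) (by decide)
  · exact absurd h (by decide)

theorem conj_word (w : List Lt) (h : w.all good = true) :
    τ * θ (ev w) * τ⁻¹ = θ z0 ^ w.length * θ (ev w) := by
  induction w with
  | nil => rw [ev_nil, map_one, mul_one, mul_inv_cancel, List.length_nil, pow_zero, mul_one]
  | cons x w ih =>
    rw [List.all_cons, Bool.and_eq_true] at h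
    have hx := conj_letter H x h.1
    have hc : θ x.el * θ z0 ^ w.length = θ z0 ^ w.length * θ x.el :=
      Commute.pow_right (comm_u H x (good_inK x h.1)) w.length
    rw [ev_cons, map_mul, List.length_cons, pow_succ']
    calc τ * (θ x.el * θ (ev w)) * τ⁻¹ = (τ * θ x.el * τ⁻¹) * (τ * θ (ev w) * τ⁻¹) := by group
      _ = θ z0 * (θ x.el * θ z0 ^ w.length) * θ (ev w) := by rw [hx, ih h.2]; group
      _ = θ z0 * θ z0 ^ w.length * (θ x.el * θ (ev w)) := by rw [hc]; group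

theorem u_even (n : ℕ) : θ z0 ^ (2 * n) = 1 := by
  rw [pow_mul, pow_two, uu H, one_pow]

/-- `A = g X'` commutes with `τ`. -/
theorem A_comm : τ * θ (ev (.g :: X')) * τ⁻¹ = θ (ev (.g :: X')) := by
  rw [conj_word H (.g :: X') (by decide), show (Lt.g :: X').length = 2 * 7 from rfl, u_even H, one_mul]

/-- `e0` commutes with `τ`. -/
theorem e0_comm : τ * θ (ev e0) * τ⁻¹ = θ (ev e0) := by
  rw [conj_word H e0 (by decide), show e0.length = 2 * 6 from rfl, u_even H, one_mul]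

theorem uX_eq : θ z0 * θ (ev X) = θ (ev t') * θ (ev (.g :: X')) * θ (ev t') := by
  have h := ev_eq' ck_zX'
  rw [show (Lt.g :: (X' ++ t')) = (Lt.g :: X') ++ t' from rfl, ev_append, ev_append, ev_cons .z X] at h
  have h2 := congrArg θ h
  rw [map_mul, map_mul, map_mul, ← mul_assoc] at h2
  exact h2.symm

theorem tt' : θ (ev t') * θ (ev t') = 1 := by rw [← map_mul, tt, map_one]

theorem XX : θ (ev X) * θ (ev X) = 1 := by rw [← map_mul, X_sq, map_one]

/-- The inverse of `w`. -/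
theorem w_inv : (wEl θ τ)⁻¹ = τ * (θ (ev X) * θ z0) * τ⁻¹ := by
  unfold wEl
  rw [mul_inv_rev, mul_inv_rev, inv_inv, mul_inv_rev, inv_eq_of_mul_eq_one_left (XX H),
    inv_eq_of_mul_eq_one_left (uu H)]
  group

theorem uτ : θ z0 * τ⁻¹ = τ⁻¹ * θ z0 := by
  have h := H.t3
  calc θ z0 * τ⁻¹ = τ⁻¹ * (τ * θ z0) * τ⁻¹ := by group
    _ = τ⁻¹ * (θ z0 * τ) * τ⁻¹ := by rw [h]
    _ = τ⁻¹ * θ z0 := by group

/-- If `v τ = τ v'`, `v'` commutes with `u X` up to inversion: the abstract step. -/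
theorem inverts_of {v v' : G} (hv : v * v = 1) (hv' : v' * v' = 1) (h1 : v * τ = τ * v')
    (h2 : v' * (θ z0 * θ (ev X)) * v' = θ (ev X) * θ z0) : v * wEl θ τ * v = (wEl θ τ)⁻¹ := by
  have h3 : τ⁻¹ * v = v' * τ⁻¹ := by
    have h4 : (v * τ)⁻¹ = (τ * v')⁻¹ := by rw [h1]
    rw [mul_inv_rev, mul_inv_rev, inv_eq_of_mul_eq_one_left hv, inv_eq_of_mul_eq_one_left hv'] at h4
    exact h4
  rw [w_inv H]
  unfold wEl
  calc v * (τ * (θ z0 * θ (ev X)) * τ⁻¹) * v = (v * τ) * (θ z0 * θ (ev X)) * (τ⁻¹ * v) := by group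
    _ = τ * (v' * (θ z0 * θ (ev X)) * v') * τ⁻¹ := by rw [h1, h3]; group
    _ = τ * (θ (ev X) * θ z0) * τ⁻¹ := by rw [h2]

/-- `x τ = τ u x`. -/
theorem swap_letter (x : Lt) (h : good x = true) : θ x.el * τ = τ * (θ z0 * θ x.el) := by
  have h1 := conj_letter H x h
  calc θ x.el * τ = θ z0 * θ z0 * θ x.el * τ := by rw [uu H, one_mul]
    _ = θ z0 * (θ z0 * θ x.el) * τ := by group
    _ = θ z0 * (τ * θ x.el * τ⁻¹) * τ := by rw [h1]
    _ = (θ z0 * τ) * θ x.el := by group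
    _ = (τ * θ z0) * θ x.el := by rw [H.t3]
    _ = τ * (θ z0 * θ x.el) := by group

theorem inv_letter (x : Lt) (h : good x = true) (hX : chk (X ++ [x]) (x :: X) = true) :
    θ x.el * wEl θ τ * θ x.el = (wEl θ τ)⁻¹ := by
  have hu := comm_u H x (good_inK x h)
  have hx := sq H x
  have h0 := uu H
  have hc : θ (ev X) * θ x.el = θ x.el * θ (ev X) := by
    have h1 := ev_eq' hX
    rw [ev_append, ev_one, ev_cons] at h1
    rw [← map_mul, h1, map_mul]
  refine inverts_of H hx ?_ (swap_letter H x h) ?_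
  · calc θ z0 * θ x.el * (θ z0 * θ x.el) = θ z0 * (θ x.el * θ z0) * θ x.el := by group
      _ = (θ z0 * θ z0) * (θ x.el * θ x.el) := by rw [hu]; group
      _ = 1 := by rw [h0, hx, mul_one]
  · calc θ z0 * θ x.el * (θ z0 * θ (ev X)) * (θ z0 * θ x.el)
        = θ z0 * (θ x.el * θ z0) * θ (ev X) * (θ z0 * θ x.el) := by group
      _ = θ z0 * (θ z0 * θ x.el) * θ (ev X) * (θ x.el * θ z0) := by rw [hu]
      _ = (θ z0 * θ z0) * θ x.el * (θ (ev X) * θ x.el) * θ z0 := by group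
      _ = (θ x.el * θ x.el) * θ (ev X) * θ z0 := by rw [hc, h0]; group
      _ = θ (ev X) * θ z0 := by rw [hx, one_mul]

theorem tau_sq_comm : τ * τ * θ (gen .h) = θ (gen .h) * (τ * τ) := by
  rcases H.t5 with h | h
  · rw [h, one_mul, mul_one]
  · rw [h]
    exact (comm_u H .h rfl).symm

/-- `h τ = τ u y`. -/
theorem swap_h : θ (gen .h) * τ = τ * (θ z0 * θ (ev y)) := by
  have h1 := tau_sq_comm H
  rw [← H.t2]
  calc θ (gen .h) * τ = θ (gen .h) * (τ * τ) * τ⁻¹ := by group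
    _ = τ * τ * θ (gen .h) * τ⁻¹ := by rw [h1]
    _ = τ * (τ * θ (gen .h) * τ⁻¹) := by group

theorem inv_h : θ (gen .h) * wEl θ τ * θ (gen .h) = (wEl θ τ)⁻¹ := by
  have hu : θ (ev y) * θ z0 = θ z0 * θ (ev y) := by rw [← map_mul, comm_word y y_all, map_mul]
  have hx : θ (ev y) * θ (ev y) = 1 := by rw [← map_mul, y_sq, map_one]
  have h0 := uu H
  have hc : θ (ev X) * θ (ev y) = θ (ev y) * θ (ev X) := by
    have h1 := ev_eq' ck_Xy
    rw [ev_append, ev_append] at h1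
    rw [← map_mul, h1, map_mul]
  refine inverts_of H (sq H .h) ?_ (swap_h H) ?_
  · calc θ z0 * θ (ev y) * (θ z0 * θ (ev y)) = θ z0 * (θ (ev y) * θ z0) * θ (ev y) := by group
      _ = (θ z0 * θ z0) * (θ (ev y) * θ (ev y)) := by rw [hu]; group
      _ = 1 := by rw [h0, hx, mul_one]
  · calc θ z0 * θ (ev y) * (θ z0 * θ (ev X)) * (θ z0 * θ (ev y))
        = θ z0 * (θ (ev y) * θ z0) * θ (ev X) * (θ z0 * θ (ev y)) := by group
      _ = θ z0 * (θ z0 * θ (ev y)) * θ (ev X) * (θ (ev y) * θ z0) := by rw [hu]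
      _ = (θ z0 * θ z0) * θ (ev y) * (θ (ev X) * θ (ev y)) * θ z0 := by group
      _ = (θ (ev y) * θ (ev y)) * θ (ev X) * θ z0 := by rw [hc, h0]; group
      _ = θ (ev X) * θ z0 := by rw [hx, one_mul]

theorem inv_u : θ z0 * wEl θ τ * θ z0 = (wEl θ τ)⁻¹ := by
  refine inverts_of H (uu H) (uu H) H.t3.symm ?_
  calc θ z0 * (θ z0 * θ (ev X)) * θ z0 = (θ z0 * θ z0) * θ (ev X) * θ z0 := by group
    _ = θ (ev X) * θ z0 := by rw [uu H, one_mul]

theorem w3 : wEl θ τ ^ 3 = 1 := by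
  have h1 : (θ z0 * θ (ev X)) ^ 3 = 1 := by
    have h := ev_eq' ck_zX
    rw [ev_pw, ev_cons, ev_nil] at h
    have h2 := congrArg θ h
    rw [map_pow, map_mul, map_one] at h2
    exact h2
  unfold wEl
  rw [conj_pow, h1, mul_one, mul_inv_cancel]

theorem aX : (θ (gen .a) * θ (ev X)) ^ 3 = 1 := by
  have h := ev_eq' ck_aX
  rw [ev_pw, ev_cons, ev_nil] at h
  have h2 := congrArg θ h
  rw [map_pow, map_mul, map_one] at h2
  exact h2

theorem wa : (θ (gen .a) * wEl θ τ) ^ 3 = 1 := by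
  have h1 : θ (gen .a) * wEl θ τ = τ * (θ (gen .a) * θ (ev X)) * τ⁻¹ := by
    have hs := swap_letter H .a rfl
    have hu := comm_u H .a rfl
    change θ (gen .a) * τ = τ * (θ z0 * θ (gen .a)) at hs
    change θ (gen .a) * θ z0 = θ z0 * θ (gen .a) at hu
    unfold wEl
    calc θ (gen .a) * (τ * (θ z0 * θ (ev X)) * τ⁻¹) = (θ (gen .a) * τ) * (θ z0 * θ (ev X)) * τ⁻¹ := by group
      _ = τ * (θ z0 * (θ (gen .a) * θ z0) * θ (ev X)) * τ⁻¹ := by rw [hs]; group
      _ = τ * ((θ z0 * θ z0) * θ (gen .a) * θ (ev X)) * τ⁻¹ := by rw [hu]; group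
      _ = τ * (θ (gen .a) * θ (ev X)) * τ⁻¹ := by rw [uu H, one_mul]
  rw [h1, conj_pow, aX H, mul_one, mul_inv_cancel]

theorem wa' : (θ (gen .a) * (wEl θ τ)⁻¹) ^ 3 = 1 := by
  have h1 : θ (gen .a) * (wEl θ τ)⁻¹ = (τ * θ z0) * (θ (gen .a) * θ (ev X)) * (τ * θ z0)⁻¹ := by
    have hs := swap_letter H .a rfl
    change θ (gen .a) * τ = τ * (θ z0 * θ (gen .a)) at hs
    rw [w_inv H, mul_inv_rev, inv_eq_of_mul_eq_one_left (uu H)]
    calc θ (gen .a) * (τ * (θ (ev X) * θ z0) * τ⁻¹) = (θ (gen .a) * τ) * (θ (ev X) * θ z0) * τ⁻¹ := by group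
      _ = τ * θ z0 * (θ (gen .a) * θ (ev X)) * (θ z0 * τ⁻¹) := by rw [hs]; group
  rw [h1, conj_pow, aX H, mul_one, mul_inv_cancel]

/-- Conjugation of `w` by `t'`. -/
theorem t_w : (τ * τ = 1 ∧ θ (ev t') * wEl θ τ * θ (ev t') = wEl θ τ) ∨
    (τ * τ = θ z0 ∧ θ (ev t') * wEl θ τ * θ (ev t') = (wEl θ τ)⁻¹) := by
  set t := θ (ev t') with ht
  set A := θ (ev (.g :: X')) with hA
  have htt : t * t = 1 := tt' H
  have hAc : τ * A * τ⁻¹ = A := A_comm H
  have huX : θ z0 * θ (ev X) = t * A * t := uX_eq H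
  have h4 : τ * t * τ * t * τ * t = 1 := by
    have h := H.t4
    rw [pow_succ, pow_succ, pow_one] at h
    rw [← h]
    simp only [mul_assoc]
    rfl
  have hti : t⁻¹ = t := inv_eq_of_mul_eq_one_left htt
  -- `τ t τ = t τ⁻¹ t`
  have h5 : τ * t * τ = t * τ⁻¹ * t := by
    calc τ * t * τ = (τ * t * τ * t * τ * t) * (t⁻¹ * τ⁻¹ * t⁻¹) := by group
      _ = t * τ⁻¹ * t := by rw [h4, one_mul, hti]
  have h6 : τ⁻¹ * t * τ⁻¹ = t * τ * t := by
    have : (τ * t * τ)⁻¹ = (t * τ⁻¹ * t)⁻¹ := by rw [h5]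
    rw [mul_inv_rev, mul_inv_rev, mul_inv_rev, mul_inv_rev, inv_inv, hti] at this
    rw [mul_assoc, this, mul_assoc]
  -- `w = t τ⁻¹ (u X) τ t`
  have h7 : wEl θ τ = t * (τ⁻¹ * (θ z0 * θ (ev X)) * τ) * t := by
    unfold wEl
    rw [huX]
    calc τ * (t * A * t) * τ⁻¹ = τ * t * A * t * τ⁻¹ := by group
      _ = τ * t * (τ * A * τ⁻¹) * t * τ⁻¹ := by rw [hAc]
      _ = (τ * t * τ) * A * (τ⁻¹ * t * τ⁻¹) := by group
      _ = t * (τ⁻¹ * (t * A * t) * τ) * t := by rw [h5, h6]; group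
  have h8 : t * wEl θ τ * t = τ⁻¹ * (θ z0 * θ (ev X)) * τ := by
    rw [h7]
    calc t * (t * (τ⁻¹ * (θ z0 * θ (ev X)) * τ) * t) * t
        = (t * t) * (τ⁻¹ * (θ z0 * θ (ev X)) * τ) * (t * t) := by group
      _ = _ := by rw [htt, one_mul, mul_one]
  rcases H.t5 with h | h
  · left
    refine ⟨h, ?_⟩
    rw [h8]
    unfold wEl
    rw [inv_eq_of_mul_eq_one_left h]
  · right
    refine ⟨h, ?_⟩
    rw [h8, w_inv H]
    have h9 : τ⁻¹ = τ * θ z0 := by
      calc τ⁻¹ = τ⁻¹ * (θ z0 * θ z0) := by rw [uu H, mul_one]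
        _ = τ⁻¹ * ((τ * τ) * θ z0) := by rw [h]
        _ = τ * θ z0 := by group
    have h10 : τ = θ z0 * τ⁻¹ := by
      rw [← h]; group
    calc τ⁻¹ * (θ z0 * θ (ev X)) * τ = (τ * θ z0) * (θ z0 * θ (ev X)) * (θ z0 * τ⁻¹) := by
          rw [← h9, ← h10]
      _ = τ * ((θ z0 * θ z0) * θ (ev X) * θ z0) * τ⁻¹ := by group
      _ = τ * (θ (ev X) * θ z0) * τ⁻¹ := by rw [uu H, one_mul]

end

/-! ### Elements inverting `w` -/

theorem conj_inv' {x w : G} (hx : x * x = 1) (h : x * w * x = w⁻¹) : x * w⁻¹ * x = w := by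
  have h1 : (x * w * x)⁻¹ = (w⁻¹)⁻¹ := by rw [h]
  rw [mul_inv_rev, mul_inv_rev, inv_inv, inv_eq_of_mul_eq_one_left hx, ← mul_assoc] at h1
  exact h1

section

variable (H : Hyp θ τ)
include H

theorem inv_f' : (θ (ev t') * θ (gen .f) * θ (ev t')) * wEl θ τ * (θ (ev t') * θ (gen .f) * θ (ev t')) =
    (wEl θ τ)⁻¹ := by
  set t := θ (ev t') with ht
  set w := wEl θ τ with hw
  have htt : t * t = 1 := tt' H
  have hf : θ (gen .f) * w * θ (gen .f) = w⁻¹ := inv_letter H .f rfl ck_Xf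
  have hff : θ (gen .f) * θ (gen .f) = 1 := sq H .f
  have hf' := conj_inv' hff hf
  rcases t_w H with ⟨-, h⟩ | ⟨-, h⟩
  · have h' : t * w⁻¹ * t = w⁻¹ := by
      have h1 : (t * w * t)⁻¹ = w⁻¹ := by rw [h]
      rw [mul_inv_rev, mul_inv_rev, inv_eq_of_mul_eq_one_left htt, ← mul_assoc] at h1
      exact h1
    calc (t * θ (gen .f) * t) * w * (t * θ (gen .f) * t) = t * (θ (gen .f) * (t * w * t) * θ (gen .f)) * t := by group
      _ = w⁻¹ := by rw [h, hf, h']
  · calc (t * θ (gen .f) * t) * w * (t * θ (gen .f) * t) = t * (θ (gen .f) * (t * w * t) * θ (gen .f)) * t := by group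
      _ = w⁻¹ := by rw [h, hf', h]

theorem inv_j : θ (gen .j) * wEl θ τ * θ (gen .j) = (wEl θ τ)⁻¹ := by
  set t := θ (ev t') with ht
  set w := wEl θ τ with hw
  have hf : θ (gen .f) * w * θ (gen .f) = w⁻¹ := inv_letter H .f rfl ck_Xf
  have hg : θ (gen .g) * w * θ (gen .g) = w⁻¹ := inv_letter H .g rfl ck_Xg
  have hff : θ (gen .f) * θ (gen .f) = 1 := sq H .f
  have hgg : θ (gen .g) * θ (gen .g) = 1 := sq H .g
  have hf' := conj_inv' hff hf
  have hg' := conj_inv' hgg hg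
  have hr : θ (ev r0) * w * θ (ev r0) = w⁻¹ := by
    unfold r0
    rw [ev_cons, ev_cons, ev_one, map_mul, map_mul]
    change θ (gen .f) * (θ (gen .g) * θ (gen .f)) * w * (θ (gen .f) * (θ (gen .g) * θ (gen .f))) = _
    calc θ (gen .f) * (θ (gen .g) * θ (gen .f)) * w * (θ (gen .f) * (θ (gen .g) * θ (gen .f)))
        = θ (gen .f) * (θ (gen .g) * (θ (gen .f) * w * θ (gen .f)) * θ (gen .g)) * θ (gen .f) := by group
      _ = w⁻¹ := by rw [hf, hg', hf]
  have hrr : θ (ev r0) * θ (ev r0) = 1 := by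
    unfold r0
    rw [ev_cons, ev_cons, ev_one, map_mul, map_mul]
    change θ (gen .f) * (θ (gen .g) * θ (gen .f)) * (θ (gen .f) * (θ (gen .g) * θ (gen .f))) = _
    calc θ (gen .f) * (θ (gen .g) * θ (gen .f)) * (θ (gen .f) * (θ (gen .g) * θ (gen .f)))
        = θ (gen .f) * (θ (gen .g) * (θ (gen .f) * θ (gen .f)) * θ (gen .g)) * θ (gen .f) := by group
      _ = 1 := by rw [hff, mul_one, hgg, mul_one, hff]
  have hr' := conj_inv' hrr hr
  have hjeq : θ (gen .j) = θ (ev r0) * (t * θ (gen .f) * t) * θ (ev r0) := by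
    have h := ev_eq' ck_j
    rw [ev_append, ev_append, ev_cons, ev_append, ev_one] at h
    have h2 := congrArg θ h
    rw [map_mul, map_mul, map_mul, map_mul] at h2
    change _ = θ (gen .j) at h2
    rw [← h2]
    change θ (ev r0) * (t * (θ (gen .f) * (t * θ (ev r0)))) = _
    group
  have hf2 := inv_f' H
  have hs : (t * θ (gen .f) * t) * (t * θ (gen .f) * t) = 1 := by
    calc (t * θ (gen .f) * t) * (t * θ (gen .f) * t) = t * (θ (gen .f) * (t * t) * θ (gen .f)) * t := by group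
      _ = 1 := by rw [tt' H, mul_one, hff, mul_one, tt' H]
  have hf3 := conj_inv' hs hf2
  rw [hjeq]
  calc θ (ev r0) * (t * θ (gen .f) * t) * θ (ev r0) * w * (θ (ev r0) * (t * θ (gen .f) * t) * θ (ev r0))
      = θ (ev r0) * ((t * θ (gen .f) * t) * (θ (ev r0) * w * θ (ev r0)) * (t * θ (gen .f) * t)) * θ (ev r0) := by group
    _ = w⁻¹ := by rw [hr, hf3, hr]

/-- `t'` centralises `w`. -/
theorem t_cent : θ (ev t') * wEl θ τ * θ (ev t') = wEl θ τ := by
  set w := wEl θ τ with hw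
  have hj := inv_j H
  have hjj : θ (gen .j) * θ (gen .j) = 1 := sq H .j
  have hj' := conj_inv' hjj hj
  have hg : θ (gen .g) * w * θ (gen .g) = w⁻¹ := inv_letter H .g rfl ck_Xg
  have hgg : θ (gen .g) * θ (gen .g) = 1 := sq H .g
  have hg' := conj_inv' hgg hg
  have hu := inv_u H
  have hu' := conj_inv' (uu H) hu
  have ht : θ (ev t') = θ (gen .j) * (θ (gen .g) * (θ z0 * θ (gen .j))) := by
    unfold t'
    rw [ev_cons, ev_cons, ev_cons, ev_one, map_mul, map_mul, map_mul]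
    rfl
  have ht' : θ (ev t') = θ (gen .j) * (θ z0 * (θ (gen .g) * θ (gen .j))) := by
    rw [ht]
    have hc : θ (gen .g) * θ z0 = θ z0 * θ (gen .g) := comm_u H .g rfl
    calc θ (gen .j) * (θ (gen .g) * (θ z0 * θ (gen .j))) = θ (gen .j) * (θ (gen .g) * θ z0) * θ (gen .j) := by group
      _ = _ := by rw [hc]; group
  nth_rw 1 [ht]
  rw [ht']
  calc θ (gen .j) * (θ (gen .g) * (θ z0 * θ (gen .j))) * w * (θ (gen .j) * (θ z0 * (θ (gen .g) * θ (gen .j))))
      = θ (gen .j) * (θ (gen .g) * (θ z0 * (θ (gen .j) * w * θ (gen .j)) * θ z0) * θ (gen .g)) * θ (gen .j) := by group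
    _ = w := by rw [hj, hu', hg, hj']

/-- `τ` is an involution. -/
theorem tau_sq : τ * τ = 1 := by
  rcases t_w H with ⟨h, -⟩ | ⟨-, h⟩
  · exact h
  · exfalso
    rw [t_cent H] at h
    have h2 : wEl θ τ * wEl θ τ = 1 := by
      nth_rw 1 [h]
      rw [inv_mul_cancel]
    have h3 := w3 H
    rw [pow_succ, pow_two, h2, one_mul] at h3
    unfold wEl at h3
    have h4 : θ z0 * θ (ev X) = 1 := by
      calc θ z0 * θ (ev X) = τ⁻¹ * (τ * (θ z0 * θ (ev X)) * τ⁻¹) * τ := by group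
        _ = 1 := by rw [h3]; group
    rw [← map_mul] at h4
    exact zX_ne (H.inj (by rw [h4, map_one]))

theorem inv_gen (s : Fi23.Gen) (hs : s ≠ .a) : θ (gen s) * wEl θ τ * θ (gen s) = (wEl θ τ)⁻¹ := by
  cases s
  · exact absurd rfl hs
  · exact inv_letter H .b rfl ck_Xb
  · exact inv_letter H .c rfl ck_Xc
  · exact inv_letter H .d rfl ck_Xd
  · exact inv_letter H .e rfl ck_Xe
  · exact inv_letter H .f rfl ck_Xf
  · exact inv_letter H .g rfl ck_Xg
  · exact inv_j H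
  · exact inv_h H
  · exact inv_letter H .i rfl ck_Xi

/-- **The relations of the even part.** -/
theorem rel : Even.Rel (fun s => θ (gen s)) (wEl θ τ) where
  cox := by
    intro s t
    show (θ (gen s) * θ (gen t)) ^ _ = 1
    rw [← map_mul, ← map_pow]
    have h : (gen s * gen t) ^ coxLabel Fi23.edges s t = 1 := Cfsg.Agent.Fischer.Fi23Final.gen_rel s t
    rw [h, map_one]
  seven := by
    show (θ (gen .a) * θ (gen .b) * θ (gen .c) * θ (gen .d) * θ (gen .e) * θ (gen .f) * θ (gen .h)) ^ 9 = 1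
    rw [← map_mul, ← map_mul, ← map_mul, ← map_mul, ← map_mul, ← map_mul, ← map_pow,
      Cfsg.Agent.Fischer.Fi23Cover.e7, map_one]
  w3 := w3 H
  inv := by
    intro s hs
    show (θ (gen s) * wEl θ τ) ^ 2 = 1
    have h := inv_gen H s hs
    rw [pow_two]
    calc θ (gen s) * wEl θ τ * (θ (gen s) * wEl θ τ) = (θ (gen s) * wEl θ τ * θ (gen s)) * wEl θ τ := by group
      _ = 1 := by rw [h, inv_mul_cancel]
  wa := wa H
  wa' := wa' H

omit H in
theorem range_le : θ.range ≤ Subgroup.closure (Set.range fun s : Fi23.Gen => θ (gen s)) := by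
  rw [MonoidHom.range_eq_map, ← PresentedGroup.closure_range_of, MonoidHom.map_closure, Subgroup.closure_le]
  rintro _ ⟨_, ⟨s, rfl⟩, rfl⟩
  exact Subgroup.subset_closure ⟨s, rfl⟩

/-- `w⁻¹ a w = τ p τ`. -/
theorem w_a_w : (wEl θ τ)⁻¹ * θ (gen .a) * wEl θ τ = τ * θ (ev p) * τ := by
  have hs := swap_letter H .a rfl
  change θ (gen .a) * τ = τ * (θ z0 * θ (gen .a)) at hs
  have hti : τ⁻¹ = τ := inv_eq_of_mul_eq_one_left (tau_sq H)
  have hp : θ (ev p) = θ (ev X) * (θ (gen .a) * (θ z0 * θ (ev X))) := by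
    unfold p
    rw [ev_append, ev_cons, ev_cons, map_mul, map_mul, map_mul]
    rfl
  rw [w_inv H, hp]
  unfold wEl
  calc τ * (θ (ev X) * θ z0) * τ⁻¹ * θ (gen .a) * (τ * (θ z0 * θ (ev X)) * τ⁻¹)
      = τ * (θ (ev X) * θ z0) * τ⁻¹ * (θ (gen .a) * τ) * (θ z0 * θ (ev X)) * τ⁻¹ := by group
    _ = τ * θ (ev X) * (θ z0 * θ z0) * θ (gen .a) * (θ z0 * θ (ev X)) * τ⁻¹ := by rw [hs]; group
    _ = τ * (θ (ev X) * (θ (gen .a) * (θ z0 * θ (ev X)))) * τ := by rw [uu H, hti]; group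

/-- `p τ p = τ p τ`. -/
theorem p_braid : θ (ev p) * τ * θ (ev p) = τ * θ (ev p) * τ := by
  set t := θ (ev t') with ht
  have hti : τ⁻¹ = τ := inv_eq_of_mul_eq_one_left (tau_sq H)
  have htt : t * t = 1 := tt' H
  have he := e0_comm H
  set e := θ (ev e0) with hee
  have he1 : τ * e = e * τ := by
    calc τ * e = (τ * e * τ⁻¹) * τ := by group
      _ = e * τ := by rw [he]
  have he2 : e⁻¹ * τ = τ * e⁻¹ := by
    calc e⁻¹ * τ = e⁻¹ * (τ * e) * e⁻¹ := by group
      _ = τ * e⁻¹ := by rw [he1]; group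
  have hp : θ (ev p) = e * t * e⁻¹ := by
    have h := ev_eq' ck_p
    rw [ev_append, ev_append, ev_reverse] at h
    rw [← h, map_mul, map_mul, map_inv, ← mul_assoc]
  have h4 : t * τ * t = τ * t * τ := by
    have h := H.t4
    rw [pow_succ, pow_succ, pow_one] at h
    have h5 : τ * t * τ * t * τ * t = 1 := by
      rw [← h]
      simp only [mul_assoc]
      rfl
    calc t * τ * t = (τ * t * τ)⁻¹⁻¹ * (τ * t * τ)⁻¹ * (t * τ * t) := by group
      _ = (τ * t * τ) * (τ⁻¹ * t⁻¹ * τ⁻¹) * (t * τ * t) := by group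
      _ = (τ * t * τ) * (τ * t * τ) * (t * τ * t) := by rw [hti, inv_eq_of_mul_eq_one_left htt]
      _ = (τ * t * τ) * (τ * t * τ * t * τ * t) := by group
      _ = τ * t * τ := by rw [h5, mul_one]
  rw [hp]
  calc e * t * e⁻¹ * τ * (e * t * e⁻¹) = e * t * (e⁻¹ * τ) * e * t * e⁻¹ := by group
    _ = e * (t * τ * t) * e⁻¹ := by rw [he2]; group
    _ = (e * τ) * t * (τ * e⁻¹) := by rw [h4]; group
    _ = τ * (e * t * e⁻¹) * τ := by rw [← he1, ← he2]; group

/-- **`τ` is in the group generated by the images.** -/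
theorem tau_mem : τ ∈ Subgroup.closure (Set.range (fun s : Fi23.Gen => θ (gen s)) ∪ {wEl θ τ}) := by
  set C := Subgroup.closure (Set.range (fun s : Fi23.Gen => θ (gen s)) ∪ {wEl θ τ}) with hC
  have hle : θ.range ≤ C := range_le.trans (Subgroup.closure_mono Set.subset_union_left)
  have hp : θ (ev p) ∈ C := hle ⟨_, rfl⟩
  have ha : θ (gen .a) ∈ C := hle ⟨_, rfl⟩
  have hw : wEl θ τ ∈ C := Subgroup.subset_closure (Or.inr rfl)
  have hpp : θ (ev p) * θ (ev p) = 1 := by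
    have h := ev_eq' ck_p
    rw [ev_append, ev_append, ev_reverse] at h
    rw [← map_mul, ← h]
    have h2 : ev e0 * (ev t' * (ev e0)⁻¹) * (ev e0 * (ev t' * (ev e0)⁻¹)) = ev e0 * (ev t' * ev t') * (ev e0)⁻¹ := by
      group
    rw [h2, tt, mul_one, mul_inv_cancel, map_one]
  have key : τ = θ (ev p) * ((wEl θ τ)⁻¹ * θ (gen .a) * wEl θ τ) * θ (ev p) := by
    rw [w_a_w H, ← p_braid H]
    calc τ = (θ (ev p) * θ (ev p)) * τ * (θ (ev p) * θ (ev p)) := by rw [hpp, one_mul, mul_one]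
      _ = _ := by group
  rw [key]
  exact C.mul_mem (C.mul_mem hp (C.mul_mem (C.mul_mem (C.inv_mem hw) ha) hw)) hp

/-- **The results for the extension.** -/
theorem main : τ * τ = 1 ∧ Even.Rel (fun s => θ (gen s)) (τ * (θ z0 * θ (ev X)) * τ⁻¹) ∧
    τ ∈ Subgroup.closure (Set.range (fun s : Fi23.Gen => θ (gen s)) ∪ {τ * (θ z0 * θ (ev X)) * τ⁻¹}) :=
  ⟨tau_sq H, rel H, tau_mem H⟩

end

end Cfsg.Agent.R08.X5Hand
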