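import Cfsg.Agent.R08.X4LemV
import Cfsg.Agent.R08.X4Cent
import Cfsg.Agent.R08.X4Gamma
import Cfsg.Agent.R08.X5Hand
import Cfsg.Agent.R08.LemmaVInst

/-!
From an embedding of `Fi23` to the relations of the even part of `Fi24`.
-/

set_option autoImplicit false
set_option linter.constructorNameAsVariable false
set_option maxRecDepth 100000

namespace Cfsg.Agent.R08.X5Main

open Cfsg Cfsg.Spor Cfsg.Agent.Fischer.Fi23Class Cfsg.Agent.Fischer.Fi23Cover
  Cfsg.Agent.Fischer.Fi23Z Cfsg.Agent.Fischer.Fi23Orb Cfsg.Agent.Fischer.Fi23Hom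
  Cfsg.Agent.R08.X4Rel Cfsg.Agent.R08.X4Pres Cfsg.Agent.R08.X4Tau Cfsg.Agent.R08.X4Kappa
  Cfsg.Agent.R08.X4Main

universe u

variable {G : Type u} [Group G] {θ : Fi23 →* G} {u : G}

/-- The output of X4 and X5. -/
structure Tau (θ : Fi23 →* G) (u τ w : G) : Prop where
  comm : τ * u = u * τ
  sq : τ * τ = 1
  out : ∀ k : K, θ k ≠ τ
  rel : Even.Rel (fun s => θ (gen s)) w
  mem : τ ∈ Subgroup.closure (Set.range (fun s => θ (gen s)) ∪ {w})
  swap : ∀ k : K, IsConj (kgen .a) k → ∃ k' : K, IsConj (kgen .a) k' ∧ τ * θ k' * τ⁻¹ = u * θ k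

theorem hyp_of (E : Emb θ u) {τ : G} (h : Outer θ u τ) : X5Hand.Hyp θ τ where
  inj := E.inj
  t1 := by
    rw [E.z]
    intro s hs hs'
    cases s
    · exact h.hs .a (by decide)
    · exact h.hs .b (by decide)
    · exact h.hs .c (by decide)
    · exact h.hs .d (by decide)
    · exact h.hs .e (by decide)
    · exact h.hs .f (by decide)
    · exact h.hs .g (by decide)
    · exact absurd rfl hs
    · exact absurd rfl hs'
    · exact h.hs .i (by decide)
  t2 := by rw [E.z]; exact h.hh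
  t3 := by rw [E.z]; exact h.comm
  t4 := h.braid
  t5 := by rw [E.z]; exact h.sq

theorem exists_tau {γ : K ≃* K} (hγ : Gam γ) (E : Emb θ u) : ∃ τ w : G, Tau θ u τ w := by
  obtain ⟨τ, h1, h2, _, h4⟩ := exists_outer (X4LemV.lemV LemmaVInst.lemmaV) X4LemV.char
    (fun k hk => X4Cent.main hk) hγ E
  obtain ⟨h5, h6, h7⟩ := X5Hand.main (hyp_of E h1)
  exact ⟨τ, _, h1.comm, h5, h2, h6, h7, h4⟩

theorem exists_gam : ∃ γ : K ≃* K, Gam γ := by
  obtain ⟨γ, Y', hY, h1, h2, h3, h4⟩ := X4Gamma.exists_gamma'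
  have hYY : Y' = Y := Subtype.ext hY
  subst hYY
  exact ⟨γ, h1, h2, h3, h4⟩

/-- **X4 and X5.** -/
theorem main (E : Emb θ u) : ∃ τ w : G, Tau θ u τ w := by
  obtain ⟨γ, hγ⟩ := exists_gam
  exact exists_tau hγ E

end Cfsg.Agent.R08.X5Main
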