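import Cfsg.Agent.R08.X1
import Cfsg.Agent.R08.CohMain
import Cfsg.Agent.R08.FlagTheta
import Cfsg.Agent.R08.FlagData

/-!
Theorem X, parts 1-3 together: from the hypotheses of Theorem X (with or without coherence) to the embedding of `Fi23`.
-/

set_option autoImplicit false

namespace Cfsg.Agent.R08.XTheta

open Cfsg Cfsg.Spor Cfsg.Agent.Fischer Cfsg.Agent.R01.Lifts Cfsg.Agent.R08.FlagMain
open Cfsg.Agent.R08.AutT (T)
open Cfsg.Agent.R08.LiftCls
open Cfsg.Agent.R01.AlphaFi23 (t)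
open Cfsg.Agent.Fischer.Fi23Class (K)
open Cfsg.Agent.Fischer.Fi23Z (z0)

universe w

variable {G : Type w} [Group G]

/-- The output of the first three parts of Theorem X. -/
structure Out (u : G) {L' : Subgroup G} (u' : L') (π : L' →* Spor.Fi22) (D : Set L')
    (ε : L' ≃* K) (θ : Fi23 →* G) : Prop where
  coe_u : (u' : G) = u
  hyp : X1.Hyp u L' π
  cls : Cls π u' D
  ctx : CohRank.Ctx L' π u' T D
  eu : (ε u' : Fi23) = z0
  eD : ∀ x : L', x ∈ D ↔ IsConj (t .a) (ε x)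
  inj : Function.Injective θ
  θz : θ z0 = u
  θe : ∀ x : L', θ (ε x : Fi23) = x

/-- The embedding of `Fi23`, coherence given. -/
theorem theta_of_coherent [Finite G] {u : G} {L' : Subgroup G} {u' : L'}
    {π : L' →* Spor.Fi22} {D : Set L'} (hu : (u' : G) = u) (H : X1.Hyp u L' π) (hC : Cls π u' D)
    (hctx : CohRank.Ctx L' π u' T D) {r : L'} (hr : r ∈ D) {n : G} (hn1 : n * u * n⁻¹ = r)
    (hn2 : n * r * n⁻¹ = u)
    (hcoh : ∀ x ∈ D, x ≠ r → x * r = r * x → ∃ y ∈ D, (y : G) = n * x * n⁻¹) :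
    ∃ (ε : L' ≃* K) (θ : Fi23 →* G), Out u u' π D ε θ := by
  obtain ⟨F, _, _, hF, hd⟩ := FlagData.hdata
  obtain ⟨ε, θ, h1, h2, h3, h4, h5⟩ := FlagTheta.exists_theta hF hd (L := L') (u := u') (φ := π)
    hC.ext hC.perf (by rw [hu]; exact fun g hg x hx => H.norm g hg x hx) hC.cls hC.bij hC.hns
    hctx.cent hr (by rw [hu]; exact hn1) (by rw [hu]; exact hn2) hcoh
  exact ⟨ε, θ, hu, H, hC, hctx, h1, h2, h3, by rw [h4, hu], h5⟩

/-- Every isomorphism of `L'` with `K` respecting the class extends. -/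
theorem extend [Finite G] {u : G} {L' : Subgroup G} {u' : L'}
    {π : L' →* Spor.Fi22} {D : Set L'} (hu : (u' : G) = u) (H : X1.Hyp u L' π) (hC : Cls π u' D)
    (hctx : CohRank.Ctx L' π u' T D) {r : L'} (hr : r ∈ D) {n : G} (hn1 : n * u * n⁻¹ = r)
    (hn2 : n * r * n⁻¹ = u)
    (hcoh : ∀ x ∈ D, x ≠ r → x * r = r * x → ∃ y ∈ D, (y : G) = n * x * n⁻¹)
    (ε : L' ≃* K) (h1 : (ε u' : Fi23) = z0) (h2 : ∀ x : L', x ∈ D ↔ IsConj (t .a) (ε x)) :
    ∃ θ : Fi23 →* G, Out u u' π D ε θ := by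
  obtain ⟨F, _, _, hF, hd⟩ := FlagData.hdata
  obtain ⟨θ, h3, h4, h5⟩ := FlagTheta.extend hF hd (L := L') (u := u') (fun x => hC.ext.comm x)
    (by rw [hu]; exact fun g hg x hx => H.norm g hg x hx) ε h1 h2
    hctx.cent hr (by rw [hu]; exact hn1) (by rw [hu]; exact hn2) hcoh
  exact ⟨θ, hu, H, hC, hctx, h1, h2, h3, by rw [h4, hu], h5⟩

variable {u : G} {L' : Subgroup G} {u' : L'} {π : L' →* Spor.Fi22} {D : Set L'} {ε : L' ≃* K}
  {θ : Fi23 →* G}

/-- The image of `K` is `L'`. -/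
theorem Out.map_K (h : Out u u' π D ε θ) : Subgroup.map θ K = L' := FlagTheta.image_K ε h.θe

/-- The centraliser of `u` in the image is `L'`. -/
theorem Out.mem_iff (h : Out u u' π D ε θ) (g : G) : (∃ y, θ y = g) ∧ g * u = u * g ↔ g ∈ L' := by
  obtain ⟨F, _, _, hF, hd⟩ := FlagData.hdata
  have h1 := FlagTheta.range_inf hd (u := u') ε h.inj (by rw [h.θz, h.coe_u]) h.θe g
  rwa [h.coe_u] at h1

/-- The class `D` is the image of the transpositions of `K` other than `z0`. -/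
theorem Out.mem_D (h : Out u u' π D ε θ) (k : K) :
    (ε.symm k ∈ D ↔ IsConj (t .a) k) ∧ ((ε.symm k : L') : G) = θ k := by
  refine ⟨?_, ?_⟩
  · rw [h.eD, MulEquiv.apply_symm_apply]
  · have h1 := h.θe (ε.symm k)
    rw [MulEquiv.apply_symm_apply] at h1
    exact h1.symm

/-- Theorem X, parts 1-3, coherence given (the form of X0). -/
theorem exists_out [Finite G] (hV : X1.LemmaV.{w}) {u : G} (hu : orderOf u = 2)
    (L : Subgroup (Subgroup.centralizer ({u} : Set G)))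
    (hidx : L.index = 2) (hperf : commutator L = ⊤) (φ : L →* Spor.Fi22)
    (hsurj : Function.Surjective φ)
    (hker : ∀ l : L, φ l = 1 ↔ l = 1 ∨ ((l : Subgroup.centralizer ({u} : Set G)) : G) = u)
    (hcent : ∀ c : Subgroup.centralizer ({u} : Set G), (∀ l ∈ L, c * l = l * c) →
      c = 1 ∨ (c : G) = u)
    (r : L) (hr : φ r ∈ T) (n : G)
    (hn1 : n * u * n⁻¹ = ((r : Subgroup.centralizer ({u} : Set G)) : G))
    (hn2 : n * ((r : Subgroup.centralizer ({u} : Set G)) : G) * n⁻¹ = u)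
    (hcoh : ∀ x : L, IsConj r x → x ≠ r → Commute x r → ∃ y : L, IsConj r y ∧
      ((y : Subgroup.centralizer ({u} : Set G)) : G) =
        n * ((x : Subgroup.centralizer ({u} : Set G)) : G) * n⁻¹) :
    ∃ (L' : Subgroup G) (e : L ≃* L') (u' : L') (D : Set L') (ε : L' ≃* K) (θ : Fi23 →* G),
      (∀ l : L, ((e l : L') : G) = ((l : Subgroup.centralizer ({u} : Set G)) : G)) ∧
      e r ∈ D ∧ Out u u' (φ.comp e.symm.toMonoidHom) D ε θ := by
  obtain ⟨L', e, u', D, he, hu', H, hC, hrD, hctx⟩ :=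
    X1.x1 hV hu L hidx hperf φ hsurj hker hcent r hr ⟨n, hn1⟩
  have hDr : ∀ x : L, IsConj r x ↔ e x ∈ D := by
    intro x
    constructor
    · intro h
      obtain ⟨c, hc⟩ := isConj_iff.1 h
      rw [← hc, map_mul, map_mul, map_inv]
      exact hC.conj _ hrD
    · intro h
      obtain ⟨c, hc⟩ := hC.trans hrD h
      refine isConj_iff.2 ⟨e.symm c, ?_⟩
      apply e.injective
      rw [map_mul, map_mul, map_inv, MulEquiv.apply_symm_apply, hc]
  obtain ⟨ε, θ, h⟩ := theta_of_coherent hu' H hC hctx hrD (n := n) (by rw [he]; exact hn1)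
    (by rw [he]; exact hn2) (by
      intro x hx hne hcx
      obtain ⟨x, rfl⟩ := e.surjective x
      obtain ⟨y, hy, hyx⟩ := hcoh x ((hDr x).2 hx) (fun h => hne (by rw [h])) (by
        apply e.injective
        rw [map_mul, map_mul]
        exact hcx)
      exact ⟨e y, (hDr y).1 hy, by rw [he, he, hyx]⟩)
  exact ⟨L', e, u', D, ε, θ, he, hrD, h⟩

/-- Theorem X, parts 1-3, from the conjugacy of `u` and `r` only. -/
theorem exists_out' [Finite G] (hV : X1.LemmaV.{w}) {u : G} (hu : orderOf u = 2)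
    (L : Subgroup (Subgroup.centralizer ({u} : Set G)))
    (hidx : L.index = 2) (hperf : commutator L = ⊤) (φ : L →* Spor.Fi22)
    (hsurj : Function.Surjective φ)
    (hker : ∀ l : L, φ l = 1 ↔ l = 1 ∨ ((l : Subgroup.centralizer ({u} : Set G)) : G) = u)
    (hcent : ∀ c : Subgroup.centralizer ({u} : Set G), (∀ l ∈ L, c * l = l * c) →
      c = 1 ∨ (c : G) = u)
    (r : L) (hr : φ r ∈ T)
    (hru : ∃ g : G, g * u * g⁻¹ = ((r : Subgroup.centralizer ({u} : Set G)) : G)) :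
    ∃ (L' : Subgroup G) (e : L ≃* L') (u' : L') (D : Set L') (ε : L' ≃* K) (θ : Fi23 →* G),
      (∀ l : L, ((e l : L') : G) = ((l : Subgroup.centralizer ({u} : Set G)) : G)) ∧
      e r ∈ D ∧ Out u u' (φ.comp e.symm.toMonoidHom) D ε θ := by
  obtain ⟨L', e, u', D, he, hu', H, hC, hrD, hctx⟩ :=
    X1.x1 hV hu L hidx hperf φ hsurj hker hcent r hr hru
  obtain ⟨g, hg⟩ := hru
  obtain ⟨n, hn1, hn2, hcoh⟩ := CohMain.exists_coherent hctx R01.Fi22Facts.loc hrD (g := g)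
    (by rw [hu', he]; exact hg)
  rw [hu'] at hn1 hn2
  obtain ⟨ε, θ, h⟩ := theta_of_coherent hu' H hC hctx hrD (n := n) hn1 hn2 (by
      intro x hx hne hcx
      obtain ⟨y, hy, -, -, hyx⟩ := hcoh x hx hne hcx
      exact ⟨y, hy, hyx⟩)
  exact ⟨L', e, u', D, ε, θ, he, hrD, h⟩

end Cfsg.Agent.R08.XTheta
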